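import Cfsg.Agent.SporadicStructure.Co0Base

set_option autoImplicit false
open scoped Pointwise
open Cfsg

/-!
The elements of `Co0` mapping the standard cross to itself are exactly the monomial ones.
-/

namespace Cfsg.Agent.SporadicStructure.StdCross

open Cfsg.Agent.SporadicStructure.LeechBase
open Cfsg.Agent.SporadicStructure.GolayEven
open Cfsg.Agent.SporadicStructure.Co0Base

/-- `g` maps the vectors of the standard cross to vectors of the standard cross. -/
def PreservesCross (g : Co0) : Prop :=
  ∀ v : leechLattice, (v : GolayPt → ℤ) ∈ stdCross → ((g • v : leechLattice) : GolayPt → ℤ) ∈ stdCross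

theorem e8_mem_stdCross (i : GolayPt) : ((e8 i : leechLattice) : GolayPt → ℤ) ∈ stdCross :=
  ⟨i, 8, Or.inl rfl, rfl⟩

theorem mem_supports_filter {x : GolayPt → ℤ} (hx : x ∈ leechLattice) (k : ℤ) :
    (Finset.univ.filter fun i => x i ≡ k [ZMOD 4]) ∈
      supports (golayCode : Set (GolayPt → ZMod 2)) := by
  rw [mem_leechLattice_iff_mem_leechSet] at hx
  obtain ⟨m, _, _, h⟩ := hx
  exact h k

/-- A lattice automorphism preserving the standard cross is a signed permutation. -/
theorem exists_signedPerm (g : Co0) (hg : PreservesCross g) :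
    ∃ σ ∈ M24, ∃ c ∈ supports (golayCode : Set (GolayPt → ZMod 2)),
      ∀ v : leechLattice, ((g • v : leechLattice) : GolayPt → ℤ) = signedPerm σ c v := by
  have h1 : ∀ i, ∃ (j : GolayPt) (s : ℤ), (s = 8 ∨ s = -8) ∧
      ((g • e8 i : leechLattice) : GolayPt → ℤ) = Pi.single j s := fun i =>
    hg _ (e8_mem_stdCross i)
  choose τ s hs hτ using h1
  have hinj : Function.Injective τ := by
    intro i j hij
    by_contra hne
    have hd := co0_dotInt g (e8 i) (e8 j)
    rw [hτ, hτ, hij, e8_coe, e8_coe] at hd
    have h2 : dotInt (Pi.single i 8 : GolayPt → ℤ) (Pi.single j 8) = 0 := by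
      rw [dotInt]
      apply Finset.sum_eq_zero
      intro k _
      rw [Pi.single_apply, Pi.single_apply]
      by_cases hk : k = i
      · have : k ≠ j := fun h => hne (hk.symm.trans h)
        simp [this]
      · simp [hk]
    have h3 : dotInt (Pi.single (τ j) (s i) : GolayPt → ℤ) (Pi.single (τ j) (s j)) = s i * s j := by
      rw [dotInt, Finset.sum_eq_single (τ j)]
      · simp
      · intro k _ hk; simp [hk]
      · intro h; exact absurd (Finset.mem_univ _) h
    rw [h2, h3] at hd
    rcases hs i with h | h <;> rcases hs j with h' | h' <;> rw [h, h'] at hd <;> norm_num at hd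
  obtain ⟨σ, hσ⟩ : ∃ σ : Equiv.Perm GolayPt, ∀ i, σ i = τ i :=
    ⟨Equiv.ofBijective τ (Finite.injective_iff_bijective.1 hinj), fun i => rfl⟩
  obtain ⟨c, hc⟩ : ∃ c : Finset GolayPt, ∀ j, j ∈ c ↔ s (σ.symm j) = -8 :=
    ⟨Finset.univ.filter fun j => s (σ.symm j) = -8, fun j => by simp⟩
  have hform : ∀ v : leechLattice, ((g • v : leechLattice) : GolayPt → ℤ) = signedPerm σ c v := by
    intro v
    funext j
    have h4 := eight_mul_co0 g v j
    have h5 : ∀ i, (v : GolayPt → ℤ) i * ((g • e8 i : leechLattice) : GolayPt → ℤ) j =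
        if i = σ.symm j then (v : GolayPt → ℤ) i * s i else 0 := by
      intro i
      rw [hτ, Pi.single_apply]
      by_cases hi : i = σ.symm j
      · have : j = τ i := by rw [← hσ, hi]; simp
        rw [if_pos this, if_pos hi]
      · have : ¬ j = τ i := by
          intro h; apply hi; rw [h, ← hσ]; simp
        rw [if_neg this, if_neg hi, mul_zero]
    simp only [h5, Finset.sum_ite_eq', Finset.mem_univ, if_true] at h4
    rw [signedPerm_apply]
    by_cases hj : j ∈ c
    · rw [if_pos hj]
      rw [(hc j).1 hj] at h4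
      linarith
    · rw [if_neg hj]
      have : s (σ.symm j) = 8 := by
        rcases hs (σ.symm j) with h | h
        · exact h
        · exact absurd ((hc j).2 h) hj
      rw [this] at h4
      linarith
  refine ⟨σ, ?_, c, ?_, hform⟩
  · rw [mem_M24_iff_subset]
    intro t ht
    have h6 := mem_supports_filter (g • (⟨_, two_on_mem ht⟩ : leechLattice)).2 2
    convert h6 using 1
    ext j
    rw [Finset.mem_filter, hform, signedPerm_apply]
    have h7 : j ∈ σ • t ↔ σ.symm j ∈ t := by
      rw [Finset.mem_smul_finset]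
      constructor
      · rintro ⟨k, hk, rfl⟩
        simpa using hk
      · intro h
        exact ⟨σ.symm j, h, by simp⟩
    rw [h7]
    simp only [Finset.mem_univ, true_and]
    by_cases hj : j ∈ c <;> by_cases ht' : σ.symm j ∈ t <;> simp only [hj, ht', if_true, if_false] <;>
      decide
  · have h6 := mem_supports_filter (g • (⟨_, minus3_mem none⟩ : leechLattice)).2 3
    convert h6 using 1
    ext j
    rw [Finset.mem_filter, hform, signedPerm_apply]
    simp only [Finset.mem_univ, true_and]
    by_cases hj : j ∈ c <;> by_cases ht' : σ.symm j = none <;>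
      simp only [hj, ht', if_true, if_false] <;> decide

theorem monomial_preservesCross (σ : Equiv.Perm GolayPt) (hσ : σ ∈ M24) (c : Finset GolayPt)
    (hc : c ∈ supports (golayCode : Set (GolayPt → ZMod 2))) :
    PreservesCross (monomial σ hσ c hc) := by
  rintro v ⟨i, s, hs, hv⟩
  rw [monomial_smul, hv]
  refine ⟨σ i, if σ i ∈ c then -s else s, ?_, ?_⟩
  · by_cases h : σ i ∈ c
    · rw [if_pos h]; rcases hs with rfl | rfl
      · right; rfl
      · left; norm_num
    · rw [if_neg h]; exact hs
  · funext j
    rw [signedPerm_apply, Pi.single_apply, Pi.single_apply]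
    by_cases hj : j = σ i
    · subst hj
      by_cases h : σ i ∈ c <;> simp [h]
    · have h' : ¬ σ.symm j = i := by
        intro h; apply hj; rw [← h]; simp
      simp [hj, h']

theorem monomial_injective {σ σ' : Equiv.Perm GolayPt} {hσ : σ ∈ M24} {hσ' : σ' ∈ M24}
    {c c' : Finset GolayPt} {hc : c ∈ supports (golayCode : Set (GolayPt → ZMod 2))}
    {hc' : c' ∈ supports (golayCode : Set (GolayPt → ZMod 2))}
    (h : monomial σ hσ c hc = monomial σ' hσ' c' hc') : σ = σ' ∧ c = c' := by
  have h1 : ∀ v : leechLattice, signedPerm σ c v = signedPerm σ' c' v := by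
    intro v
    rw [← monomial_smul σ hσ c hc, ← monomial_smul σ' hσ' c' hc', h]
  have h2 : σ.symm = σ'.symm := by
    ext1 j
    have h3 := congrFun (h1 (e8 (σ.symm j))) j
    rw [signedPerm_apply, signedPerm_apply, e8_coe, Pi.single_eq_same, Pi.single_apply] at h3
    by_contra hne
    have hne' : ¬ (σ'.symm j = σ.symm j) := fun h => hne h.symm
    rw [if_neg hne'] at h3
    by_cases hj : j ∈ c <;> by_cases hj' : j ∈ c' <;>
      simp only [hj, hj', if_true, if_false] at h3 <;> omega
  have h4 : σ = σ' := by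
    rw [← Equiv.symm_symm σ, h2, Equiv.symm_symm]
  refine ⟨h4, ?_⟩
  subst h4
  ext j
  have h3 := congrFun (h1 (e8 (σ.symm j))) j
  rw [signedPerm_apply, signedPerm_apply, e8_coe, Pi.single_eq_same] at h3
  by_cases hj : j ∈ c <;> by_cases hj' : j ∈ c' <;>
      simp only [hj, hj', if_true, if_false] at h3 ⊢ <;> omega

/-- The stabiliser of the standard cross is in bijection with pairs (element of `M24`, code word). -/
noncomputable def crossStabEquiv :
    (M24 × supports (golayCode : Set (GolayPt → ZMod 2))) ≃ {g : Co0 // PreservesCross g} :=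
  Equiv.ofBijective (fun p => ⟨monomial p.1 p.1.2 p.2 p.2.2, monomial_preservesCross _ _ _ _⟩) (by
    constructor
    · rintro ⟨⟨σ, hσ⟩, ⟨c, hc⟩⟩ ⟨⟨σ', hσ'⟩, ⟨c', hc'⟩⟩ h
      have h1 := congrArg Subtype.val h
      obtain ⟨h2, h3⟩ := monomial_injective (σ := σ) (σ' := σ') (hσ := hσ) (hσ' := hσ') (hc := hc)
        (hc' := hc') h1
      subst h2
      subst h3
      rfl
    · rintro ⟨g, hg⟩
      obtain ⟨σ, hσ, c, hc, h⟩ := exists_signedPerm g hg
      refine ⟨⟨⟨σ, hσ⟩, ⟨c, hc⟩⟩, Subtype.ext ?_⟩
      apply co0_ext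
      intro v
      apply Subtype.ext
      rw [h v]
      rfl)

theorem card_supports (h : Nat.card golayCode = 4096) :
    Nat.card (supports (golayCode : Set (GolayPt → ZMod 2))) = 4096 := by
  rw [← h]
  symm
  apply Nat.card_congr
  refine Equiv.ofBijective (fun w => ⟨support₂ w.1, w.1, w.2, rfl⟩) ⟨?_, ?_⟩
  · intro v w hvw
    exact Subtype.ext (support₂_inj (congrArg Subtype.val hvw))
  · rintro ⟨_, w, hw, rfl⟩
    exact ⟨⟨w, hw⟩, rfl⟩

end Cfsg.Agent.SporadicStructure.StdCross
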