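import Cfsg.Agent.SporadicA.GolayBase
import Cfsg.Agent.SporadicA.Co0Basic
import Cfsg.Agent.SporadicA.LeechSet
import Cfsg.Agent.SporadicA.M24Gens
import Cfsg.Agent.SporadicStructure.GolayInterp
import Cfsg.Agent.Leech.Xi

/-!
Pairs of orthogonal minimal vectors of the rank-24 lattice: every such pair `(v, w)` can be moved by `Co0` so that
`v + w = 8 e_∞` and `v - w = 8 e_0`.  The file depends on the existence of the maps `ξ` only through the hypothesis
`HasXi` (for every tetrad).
-/

set_option autoImplicit false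

namespace Cfsg.Agent.SporadicStructure.OrthPairs

open Cfsg Cfsg.Agent.SporadicA Cfsg.Agent.SporadicA.Co0Basic

/-- For every 4-set `t` there is an element of `Co0` which acts on the coordinates in `t` by
`x_i ↦ ±(x_i - (1/2) ∑_{j ∈ t} x_j)`. -/
def HasXi : Prop := ∀ t : Finset GolayPt, t.card = 4 → ∃ g : Co0, ∃ s : ℤ, (s = 1 ∨ s = -1) ∧
  ∀ x : leechLattice, ∀ i ∈ t, 2 * ((g.1 x : leechLattice) : GolayPt → ℤ) i =
    s * (2 * (x : GolayPt → ℤ) i - ∑ j ∈ t, (x : GolayPt → ℤ) j)

/-- Conjugate to one of the vectors `8 e_i`. -/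
def Good (x : leechLattice) : Prop := ∃ g : Co0, ∃ i, g.1 x = e8 i

theorem Good.of_map {x : leechLattice} (h : Co0) (hg : Good (h.1 x)) : Good x := by
  obtain ⟨g, i, hi⟩ := hg
  exact ⟨g * h, i, hi⟩

theorem sq_sum_le (x : GolayPt → ℤ) (t : Finset GolayPt) : ∑ i ∈ t, x i ^ 2 ≤ sqNorm x :=
  Finset.sum_le_sum_of_subset_of_nonneg (Finset.subset_univ t) fun i _ _ => sq_nonneg (x i)

theorem sq_split (x : GolayPt → ℤ) (t : Finset GolayPt) :
    ∑ i ∈ t, x i ^ 2 + ∑ i ∈ tᶜ, x i ^ 2 = sqNorm x :=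
  Finset.sum_add_sum_compl t fun i => x i ^ 2

/-- parity dichotomy -/
theorem parity (x : leechLattice) : (∀ i, (x : GolayPt → ℤ) i % 2 = 0) ∨
    (∀ i, (x : GolayPt → ℤ) i % 2 = 1) := by
  obtain ⟨m, hm, -, -⟩ := (LeechSet.mem_leechLattice_iff _).mp x.2
  rcases Int.emod_two_eq_zero_or_one m with h | h
  · left; intro i
    have : (x : GolayPt → ℤ) i % 2 = m % 2 := hm i
    omega
  · right; intro i
    have : (x : GolayPt → ℤ) i % 2 = m % 2 := hm i
    omega

/-- residue classes modulo 4 have 0 or at least 8 members -/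
theorem res_card (x : leechLattice) (k : ℤ) (p : GolayPt) (hp : (x : GolayPt → ℤ) p ≡ k [ZMOD 4]) :
    8 ≤ (Finset.univ.filter fun i => (x : GolayPt → ℤ) i ≡ k [ZMOD 4]).card := by
  obtain ⟨m, -, -, h⟩ := (LeechSet.mem_leechLattice_iff _).mp x.2
  have h1 := GolayBase.card_of_mem_supports (h k)
  have h2 : 0 < (Finset.univ.filter fun i => (x : GolayPt → ℤ) i ≡ k [ZMOD 4]).card :=
    Finset.card_pos.mpr ⟨p, by simpa using hp⟩
  omega

/-- All coordinates of an even vector of norm less than `32 + N` with coordinates divisible by 4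
using up norm `N` are divisible by 4. -/
theorem all_four_dvd (x : leechLattice) (t : Finset GolayPt)
    (ht : ∀ i ∈ t, (x : GolayPt → ℤ) i % 4 = 0) (p : GolayPt) (hp : (x : GolayPt → ℤ) p % 2 = 0)
    (hn : sqNorm (x : GolayPt → ℤ) < 32 + ∑ i ∈ t, (x : GolayPt → ℤ) i ^ 2) (i : GolayPt) :
    (x : GolayPt → ℤ) i % 4 = 0 := by
  by_contra hi
  have hev : ∀ i, (x : GolayPt → ℤ) i % 2 = 0 := by
    rcases parity x with h | h
    · exact h
    · have := h p; omega
  have hi2 : (x : GolayPt → ℤ) i ≡ 2 [ZMOD 4] := by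
    have := hev i
    show (x : GolayPt → ℤ) i % 4 = 2 % 4
    omega
  set S := Finset.univ.filter fun i => (x : GolayPt → ℤ) i ≡ 2 [ZMOD 4] with hS
  have h8 : 8 ≤ S.card := res_card x 2 i hi2
  have hdisj : Disjoint t S := by
    rw [Finset.disjoint_left]
    intro j hj hjS
    have h1 := ht j hj
    have h2 : (x : GolayPt → ℤ) j ≡ 2 [ZMOD 4] := by simpa [hS] using hjS
    have h3 : (x : GolayPt → ℤ) j % 4 = 2 % 4 := h2
    omega
  have h4 : ∀ j ∈ S, (4 : ℤ) ≤ (x : GolayPt → ℤ) j ^ 2 := by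
    intro j hj
    have h2 : (x : GolayPt → ℤ) j ≡ 2 [ZMOD 4] := by simpa [hS] using hj
    have h3 : (x : GolayPt → ℤ) j % 4 = 2 % 4 := h2
    have h5 : (x : GolayPt → ℤ) j ≤ -2 ∨ 2 ≤ (x : GolayPt → ℤ) j := by omega
    rcases h5 with h5 | h5 <;> nlinarith
  have h5 : (8 : ℤ) * 4 ≤ ∑ j ∈ S, (x : GolayPt → ℤ) j ^ 2 := by
    calc (8 : ℤ) * 4 ≤ S.card * 4 := by
          have : (8 : ℤ) ≤ S.card := by exact_mod_cast h8
          linarith
      _ = ∑ j ∈ S, 4 := by rw [Finset.sum_const, nsmul_eq_mul]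
      _ ≤ _ := Finset.sum_le_sum h4
  have h6 := sq_sum_le (x : GolayPt → ℤ) (t ∪ S)
  rw [Finset.sum_union hdisj] at h6
  linarith

/-- Change signs at will on at most 7 coordinates. -/
theorem exists_signs (x : leechLattice) (t : Finset GolayPt) (ht : t.card ≤ 7) (y : GolayPt → ℤ)
    (hy : ∀ i ∈ t, (x : GolayPt → ℤ) i = y i ∨ (x : GolayPt → ℤ) i = - y i) :
    ∃ g : Co0, ∀ i ∈ t, ((g.1 x : leechLattice) : GolayPt → ℤ) i = y i := by
  obtain ⟨w, hw, hwt⟩ := GolayInterp.exists_word_interp t ht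
    (fun i => if (x : GolayPt → ℤ) i = y i then 0 else 1)
  refine ⟨signCo0 w hw, fun i hi => ?_⟩
  rw [signCo0_apply, hwt i hi]
  by_cases h : (x : GolayPt → ℤ) i = y i
  · simp [h]
  · have h' := (hy i hi).resolve_left h
    simp only [h, if_false, one_ne_zero]
    rw [h']; ring

theorem good_of_eight {x : leechLattice} (hn : sqNorm (x : GolayPt → ℤ) = 64) {i : GolayPt}
    (hi : (x : GolayPt → ℤ) i = 8 ∨ (x : GolayPt → ℤ) i = -8) : Good x := by
  have hz : ∀ j, j ≠ i → (x : GolayPt → ℤ) j = 0 := by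
    intro j hj
    have h1 := sq_sum_le (x : GolayPt → ℤ) {i, j}
    rw [Finset.sum_pair (Ne.symm hj), hn] at h1
    have h2 : (x : GolayPt → ℤ) i ^ 2 = 64 := by rcases hi with h | h <;> rw [h] <;> norm_num
    rw [h2] at h1
    have h3 : (x : GolayPt → ℤ) j ^ 2 = 0 := le_antisymm (by linarith) (sq_nonneg _)
    exact pow_eq_zero_iff (two_ne_zero) |>.mp h3
  rcases hi with h | h
  · refine ⟨1, i, Subtype.ext (funext fun j => ?_)⟩
    rw [e8_apply]
    show (x : GolayPt → ℤ) j = _
    by_cases hj : j = i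
    · rw [if_pos hj, hj, h]
    · rw [if_neg hj, hz j hj]
  · refine ⟨negCo0, i, Subtype.ext (funext fun j => ?_)⟩
    rw [e8_apply, negCo0_apply]
    show -(x : GolayPt → ℤ) j = _
    by_cases hj : j = i
    · rw [if_pos hj, hj, h]; norm_num
    · rw [if_neg hj, hz j hj]; norm_num

theorem norm_map (g : Co0) {x : leechLattice} {n : ℤ} (hn : sqNorm (x : GolayPt → ℤ) = n) :
    sqNorm ((g.1 x : leechLattice) : GolayPt → ℤ) = n := (map_sqNorm g x).trans hn

/-- four coordinates ±4 -/
theorem good_of_four (hxi : HasXi) {x : leechLattice} (hn : sqNorm (x : GolayPt → ℤ) = 64)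
    {t : Finset GolayPt} (ht : t.card = 4)
    (h4 : ∀ i ∈ t, (x : GolayPt → ℤ) i = 4 ∨ (x : GolayPt → ℤ) i = -4) : Good x := by
  obtain ⟨d, hd⟩ : t.Nonempty := by rw [← Finset.card_pos, ht]; norm_num
  obtain ⟨h, hh⟩ := exists_signs x t (by omega) (fun i => if i = d then -4 else 4) (by
    intro i hi
    show _ = (if i = d then (-4 : ℤ) else 4) ∨ _ = -(if i = d then (-4 : ℤ) else 4)
    split_ifs
    · rcases h4 i hi with h | h
      · right; rw [h]; norm_num
      · left; exact h
    · exact h4 i hi)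
  obtain ⟨g, s, hs, hg⟩ := hxi t ht
  refine Good.of_map h (Good.of_map g (good_of_eight (i := d) (norm_map g (norm_map h hn)) ?_))
  have h1 := hg (h.1 x) d hd
  have h2 : ∑ j ∈ t, ((h.1 x : leechLattice) : GolayPt → ℤ) j = 8 := by
    rw [Finset.sum_congr rfl hh, ← Finset.add_sum_erase t _ hd]
    rw [Finset.sum_congr rfl (g := fun _ => (4 : ℤ))]
    · rw [Finset.sum_const, Finset.card_erase_of_mem hd, ht]
      simp
    · intro j hj
      simp [Finset.ne_of_mem_erase hj]
  rw [h2, hh d hd] at h1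
  simp only [if_true] at h1
  rcases hs with rfl | rfl
  · right; linarith
  · left; linarith

theorem int_sq_le_cases {a : ℤ} (h : a ^ 2 ≤ 3) : a = 0 ∨ a = 1 ∨ a = -1 := by
  have h1 : a ≤ 1 := by nlinarith
  have h2 : -1 ≤ a := by nlinarith
  omega

/-- all coordinates divisible by 4, at least three of them ±4 -/
theorem good_of_three (hxi : HasXi) {x : leechLattice} (hn : sqNorm (x : GolayPt → ℤ) = 64)
    (hdvd : ∀ i, (x : GolayPt → ℤ) i % 4 = 0) {t : Finset GolayPt} (ht : t.card = 3)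
    (h4 : ∀ i ∈ t, (x : GolayPt → ℤ) i = 4 ∨ (x : GolayPt → ℤ) i = -4) : Good x := by
  have hsum : ∑ i ∈ t, (x : GolayPt → ℤ) i ^ 2 = 48 := by
    rw [Finset.sum_congr rfl (g := fun _ => (16 : ℤ))]
    · rw [Finset.sum_const, ht]; norm_num
    · intro i hi
      rcases h4 i hi with h | h <;> rw [h] <;> norm_num
  have h1 := sq_split (x : GolayPt → ℤ) t
  rw [hsum, hn] at h1
  obtain ⟨j, hj, hj0⟩ : ∃ j ∈ tᶜ, (x : GolayPt → ℤ) j ^ 2 ≠ 0 := by
    by_contra hcon
    have hcon' : ∀ j ∈ tᶜ, (x : GolayPt → ℤ) j ^ 2 = 0 := fun j hj => by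
      by_contra h
      exact hcon ⟨j, hj, h⟩
    rw [Finset.sum_eq_zero hcon'] at h1
    norm_num at h1
  have h2 : (x : GolayPt → ℤ) j ^ 2 ≤ 16 := by
    have h3 := Finset.single_le_sum (f := fun i => (x : GolayPt → ℤ) i ^ 2) (s := tᶜ)
      (fun i _ => sq_nonneg _) hj
    linarith
  have h5 : (x : GolayPt → ℤ) j = 4 ∨ (x : GolayPt → ℤ) j = -4 := by
    obtain ⟨y, hy⟩ : ∃ y, (x : GolayPt → ℤ) j = 4 * y := ⟨(x : GolayPt → ℤ) j / 4, by
      have := hdvd j; omega⟩
    rw [hy] at h2 hj0 ⊢
    have h6 : y ^ 2 ≤ 3 := by nlinarith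
    rcases int_sq_le_cases h6 with h | h | h
    · rw [h] at hj0; norm_num at hj0
    · left; rw [h]; norm_num
    · right; rw [h]; norm_num
  have hjt : j ∉ t := Finset.mem_compl.mp hj
  refine good_of_four hxi hn (t := insert j t) ?_ ?_
  · rw [Finset.card_insert_of_notMem hjt, ht]
  · intro i hi
    rcases Finset.mem_insert.mp hi with rfl | hi
    · exact h5
    · exact h4 i hi

/-- a coordinate ±6 -/
theorem good_of_six (hxi : HasXi) {x : leechLattice} (hn : sqNorm (x : GolayPt → ℤ) = 64)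
    {p : GolayPt} (hp : (x : GolayPt → ℤ) p = 6 ∨ (x : GolayPt → ℤ) p = -6) : Good x := by
  have hp2 : (x : GolayPt → ℤ) p ≡ 2 [ZMOD 4] := by
    rcases hp with h | h <;> rw [h] <;> decide
  have h8 := res_card x 2 p hp2
  set S := Finset.univ.filter fun i => (x : GolayPt → ℤ) i ≡ 2 [ZMOD 4] with hS
  have hpS : p ∈ S := by simpa [hS] using hp2
  have hmemS : ∀ j, j ∈ S → (x : GolayPt → ℤ) j % 4 = 2 := by
    intro j hj
    have h2 : (x : GolayPt → ℤ) j ≡ 2 [ZMOD 4] := by simpa [hS] using hj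
    exact h2
  have hsq : ∀ j ∈ S, (4 : ℤ) ≤ (x : GolayPt → ℤ) j ^ 2 := by
    intro j hj
    have h3 := hmemS j hj
    have h5 : (x : GolayPt → ℤ) j ≤ -2 ∨ 2 ≤ (x : GolayPt → ℤ) j := by omega
    rcases h5 with h5 | h5 <;> nlinarith
  -- all members of `S` other than `p` are ±2
  have htwo : ∀ j ∈ S, j ≠ p → (x : GolayPt → ℤ) j = 2 ∨ (x : GolayPt → ℤ) j = -2 := by
    intro j hj hjp
    have h1 := sq_sum_le (x : GolayPt → ℤ) S
    rw [hn, ← Finset.add_sum_erase S _ hpS,
      ← Finset.add_sum_erase (S.erase p) _ (Finset.mem_erase.mpr ⟨hjp, hj⟩)] at h1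
    have h2 : ((S.erase p).erase j).card • (4 : ℤ) ≤
        ∑ i ∈ (S.erase p).erase j, (x : GolayPt → ℤ) i ^ 2 :=
      Finset.card_nsmul_le_sum _ _ _ fun i hi =>
        hsq i (Finset.mem_of_mem_erase (Finset.mem_of_mem_erase hi))
    rw [Finset.card_erase_of_mem (Finset.mem_erase.mpr ⟨hjp, hj⟩), Finset.card_erase_of_mem hpS,
      nsmul_eq_mul] at h2
    have h3 : (6 : ℤ) ≤ ((S.card - 1 - 1 : ℕ) : ℤ) := by exact_mod_cast (by omega)
    have h36 : (x : GolayPt → ℤ) p ^ 2 = 36 := by rcases hp with h | h <;> rw [h] <;> norm_num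
    rw [h36] at h1
    have h4 : (x : GolayPt → ℤ) j ^ 2 ≤ 4 := by nlinarith
    have h5 := hmemS j hj
    have h6 : (x : GolayPt → ℤ) j ≤ 2 := by nlinarith
    have h7 : -2 ≤ (x : GolayPt → ℤ) j := by nlinarith
    omega
  obtain ⟨u, huS, hu⟩ := Finset.exists_subset_card_eq
    (show 3 ≤ (S.erase p).card by rw [Finset.card_erase_of_mem hpS]; omega)
  have hpu : p ∉ u := fun h => Finset.notMem_erase p S (huS h)
  have ht : (insert p u).card = 4 := by rw [Finset.card_insert_of_notMem hpu, hu]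
  obtain ⟨h, hh⟩ := exists_signs x (insert p u) (by omega) (fun i => if i = p then 6 else 2) (by
    intro i hi
    rcases Finset.mem_insert.mp hi with rfl | hi
    · simpa using hp
    · have hip : i ≠ p := fun h => hpu (h ▸ hi)
      have := htwo i (Finset.mem_of_mem_erase (huS hi)) hip
      simpa [hip] using this)
  obtain ⟨g, s, hs, hg⟩ := hxi _ ht
  have hsum : ∑ j ∈ insert p u, ((h.1 x : leechLattice) : GolayPt → ℤ) j = 12 := by
    rw [Finset.sum_congr rfl hh, Finset.sum_insert hpu,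
      Finset.sum_congr rfl (g := fun _ => (2 : ℤ))]
    · rw [Finset.sum_const, hu]; simp
    · intro j hj
      have hjp : j ≠ p := fun h => hpu (h ▸ hj)
      simp [hjp]
  have hgp : ((g.1 (h.1 x) : leechLattice) : GolayPt → ℤ) p = 0 := by
    have h1 := hg (h.1 x) p (Finset.mem_insert_self _ _)
    rw [hsum, hh p (Finset.mem_insert_self _ _)] at h1
    simp only [if_true] at h1
    rcases hs with rfl | rfl <;> linarith
  have hgu : ∀ i ∈ u, ((g.1 (h.1 x) : leechLattice) : GolayPt → ℤ) i = 4 ∨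
      ((g.1 (h.1 x) : leechLattice) : GolayPt → ℤ) i = -4 := by
    intro i hi
    have hip : i ≠ p := fun h => hpu (h ▸ hi)
    have h1 := hg (h.1 x) i (Finset.mem_insert_of_mem hi)
    rw [hsum, hh i (Finset.mem_insert_of_mem hi)] at h1
    simp only [hip, if_false] at h1
    rcases hs with rfl | rfl
    · right; linarith
    · left; linarith
  have hnn := norm_map g (norm_map h hn)
  refine Good.of_map h (Good.of_map g (good_of_three hxi hnn ?_ hu hgu))
  apply all_four_dvd _ u (fun i hi => ?_) p (by rw [hgp]; norm_num)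
  · have : ∑ i ∈ u, ((g.1 (h.1 x) : leechLattice) : GolayPt → ℤ) i ^ 2 = 48 := by
      rw [Finset.sum_congr rfl (g := fun _ => (16 : ℤ))]
      · rw [Finset.sum_const, hu]; norm_num
      · intro i hi
        rcases hgu i hi with h | h <;> rw [h] <;> norm_num
    rw [hnn, this]; norm_num
  · rcases hgu i hi with h | h <;> rw [h] <;> norm_num

/-- The main reduction: for `w` minimal, orthogonal to `(4, 4, 0, …)`, the sum is conjugate to `8 e_i`. -/
theorem good_main (hxi : HasXi) {x w : leechLattice} (hn : sqNorm (x : GolayPt → ℤ) = 64)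
    (hw : sqNorm (w : GolayPt → ℤ) = 32) (hx1 : (x : GolayPt → ℤ) none = 4 + (w : GolayPt → ℤ) none)
    (hx2 : (x : GolayPt → ℤ) (some 0) = 4 - (w : GolayPt → ℤ) none)
    (hx3 : ∀ i, i ≠ none → i ≠ some 0 → (x : GolayPt → ℤ) i = (w : GolayPt → ℤ) i)
    (hw0 : (w : GolayPt → ℤ) (some 0) = - (w : GolayPt → ℤ) none) : Good x := by
  have hne : (none : GolayPt) ≠ some 0 := by simp
  rcases parity w with hpar | hpar
  · -- even coordinates
    by_cases hS : ∃ p, (w : GolayPt → ℤ) p % 4 = 2
    · obtain ⟨p, hp⟩ := hS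
      have h8 := res_card w 2 p hp
      set S := Finset.univ.filter fun i => (w : GolayPt → ℤ) i ≡ 2 [ZMOD 4] with hSdef
      have hmemS : ∀ j, j ∈ S ↔ (w : GolayPt → ℤ) j % 4 = 2 := by
        intro j
        have h2 : j ∈ S ↔ (w : GolayPt → ℤ) j ≡ 2 [ZMOD 4] := by simp [hSdef]
        exact h2
      have hsq : ∀ j ∈ S, (4 : ℤ) ≤ (w : GolayPt → ℤ) j ^ 2 := by
        intro j hj
        have h3 := (hmemS j).mp hj
        have h5 : (w : GolayPt → ℤ) j ≤ -2 ∨ 2 ≤ (w : GolayPt → ℤ) j := by omega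
        rcases h5 with h5 | h5 <;> nlinarith
      have hc8 : (8 : ℤ) ≤ (S.card : ℤ) := by exact_mod_cast h8
      have hSsum : S.card • (4 : ℤ) ≤ ∑ i ∈ S, (w : GolayPt → ℤ) i ^ 2 :=
        Finset.card_nsmul_le_sum _ _ _ hsq
      rw [nsmul_eq_mul] at hSsum
      have hsplit := sq_split (w : GolayPt → ℤ) S
      have hout0 : 0 ≤ ∑ i ∈ Sᶜ, (w : GolayPt → ℤ) i ^ 2 := Finset.sum_nonneg fun i _ => sq_nonneg _
      -- members of `S` are ±2
      have htwo : ∀ j ∈ S, (w : GolayPt → ℤ) j = 2 ∨ (w : GolayPt → ℤ) j = -2 := by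
        intro j hj
        have h1 := sq_sum_le (w : GolayPt → ℤ) S
        rw [hw, ← Finset.add_sum_erase S _ hj] at h1
        have h2 : (S.erase j).card • (4 : ℤ) ≤ ∑ i ∈ S.erase j, (w : GolayPt → ℤ) i ^ 2 :=
          Finset.card_nsmul_le_sum _ _ _ fun i hi => hsq i (Finset.mem_of_mem_erase hi)
        rw [Finset.card_erase_of_mem hj, nsmul_eq_mul] at h2
        have h3 : (7 : ℤ) ≤ ((S.card - 1 : ℕ) : ℤ) := by exact_mod_cast (by omega)
        have h4 : (w : GolayPt → ℤ) j ^ 2 ≤ 4 := by nlinarith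
        have h5 := (hmemS j).mp hj
        have h6 : (w : GolayPt → ℤ) j ≤ 2 := by nlinarith
        have h7 : -2 ≤ (w : GolayPt → ℤ) j := by nlinarith
        omega
      -- non-members are 0
      have hzero : ∀ j, j ∉ S → (w : GolayPt → ℤ) j = 0 := by
        intro j hj
        have h1 : ∑ i ∈ Sᶜ, (w : GolayPt → ℤ) i ^ 2 ≤ 0 := by rw [hw] at hsplit; linarith
        have h2 := Finset.single_le_sum (f := fun i => (w : GolayPt → ℤ) i ^ 2) (s := Sᶜ)
          (fun i _ => sq_nonneg _) (Finset.mem_compl.mpr hj)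
        have h3 : (w : GolayPt → ℤ) j ^ 2 ≤ 0 := by linarith
        exact (pow_eq_zero_iff two_ne_zero).mp (le_antisymm h3 (sq_nonneg _))
      by_cases hinf : (none : GolayPt) ∈ S
      · rcases htwo _ hinf with h | h
        · exact good_of_six hxi hn (p := none) (by left; rw [hx1, h]; norm_num)
        · exact good_of_six hxi hn (p := some 0) (by left; rw [hx2, h]; norm_num)
      · have ha := hzero _ hinf
        have hzS : (some 0 : GolayPt) ∉ S := by
          intro h
          have := (hmemS _).mp h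
          rw [hw0, ha] at this
          norm_num at this
        obtain ⟨u, huS, hu⟩ := Finset.exists_subset_card_eq (show 2 ≤ S.card by omega)
        obtain ⟨c, d, hcd, rfl⟩ := Finset.card_eq_two.mp hu
        have hcS : c ∈ S := huS (by simp)
        have hdS : d ∈ S := huS (by simp)
        have hc1 : c ≠ none := fun h => hinf (h ▸ hcS)
        have hc2 : c ≠ some 0 := fun h => hzS (h ▸ hcS)
        have hd1 : d ≠ none := fun h => hinf (h ▸ hdS)
        have hd2 : d ≠ some 0 := fun h => hzS (h ▸ hdS)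
        have ht : ({none, some 0, c, d} : Finset GolayPt).card = 4 := by
          rw [Finset.card_insert_of_notMem, Finset.card_insert_of_notMem, Finset.card_pair hcd]
          · simp [Ne.symm hc2, Ne.symm hd2]
          · simp [Ne.symm hc1, Ne.symm hd1]
        obtain ⟨h, hh⟩ := exists_signs x {none, some 0, c, d} (by omega)
          (fun i => if i = c then 2 else if i = d then -2 else 4) (by
            intro i hi
            simp only [Finset.mem_insert, Finset.mem_singleton] at hi
            rcases hi with rfl | rfl | rfl | rfl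
            · rw [if_neg (Ne.symm hc1), if_neg (Ne.symm hd1), hx1, ha]; left; norm_num
            · rw [if_neg (Ne.symm hc2), if_neg (Ne.symm hd2), hx2, ha]; left; norm_num
            · rw [if_pos rfl, hx3 _ hc1 hc2]; exact htwo _ hcS
            · rw [if_neg (Ne.symm hcd), if_pos rfl, hx3 _ hd1 hd2]
              rcases htwo _ hdS with h | h
              · right; rw [h]; norm_num
              · left; exact h)
        obtain ⟨g, s, hs, hg⟩ := hxi _ ht
        refine Good.of_map h (Good.of_map g (good_of_six hxi (norm_map g (norm_map h hn)) (p := d) ?_))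
        have h1 := hg (h.1 x) d (by simp)
        have hsum : ∑ j ∈ ({none, some 0, c, d} : Finset GolayPt),
            ((h.1 x : leechLattice) : GolayPt → ℤ) j = 8 := by
          rw [Finset.sum_congr rfl hh, Finset.sum_insert, Finset.sum_insert, Finset.sum_pair hcd]
          · simp [Ne.symm hc1, Ne.symm hd1, Ne.symm hc2, Ne.symm hd2, Ne.symm hcd]
          · simp [Ne.symm hc2, Ne.symm hd2]
          · simp [Ne.symm hc1, Ne.symm hd1]
        rw [hsum, hh d (by simp), if_neg (Ne.symm hcd), if_pos rfl] at h1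
        rcases hs with rfl | rfl
        · right; linarith
        · left; linarith
    · -- all coordinates of `w` divisible by 4
      have hdvd : ∀ i, (w : GolayPt → ℤ) i % 4 = 0 := by
        intro i
        have h1 := hpar i
        have h2 : ¬ (w : GolayPt → ℤ) i % 4 = 2 := fun h => hS ⟨i, h⟩
        omega
      have hval : ∀ i, (w : GolayPt → ℤ) i ≠ 0 →
          (w : GolayPt → ℤ) i = 4 ∨ (w : GolayPt → ℤ) i = -4 := by
        intro i hi
        have h1 := sq_sum_le (w : GolayPt → ℤ) {i}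
        rw [Finset.sum_singleton, hw] at h1
        obtain ⟨y, hy⟩ : ∃ y, (w : GolayPt → ℤ) i = 4 * y := ⟨(w : GolayPt → ℤ) i / 4, by
          have := hdvd i; omega⟩
        rw [hy] at h1 hi ⊢
        have h6 : y ^ 2 ≤ 3 := by nlinarith
        rcases int_sq_le_cases h6 with h | h | h
        · rw [h] at hi; norm_num at hi
        · left; rw [h]; norm_num
        · right; rw [h]; norm_num
      by_cases ha : (w : GolayPt → ℤ) none = 0
      · have hb : (w : GolayPt → ℤ) (some 0) = 0 := by rw [hw0, ha]; norm_num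
        -- two nonzero coordinates
        obtain ⟨c, hc⟩ : ∃ c, (w : GolayPt → ℤ) c ≠ 0 := by
          by_contra hcon
          have hcon' : ∀ i, (w : GolayPt → ℤ) i = 0 := fun i => by
            by_contra h; exact hcon ⟨i, h⟩
          have : sqNorm (w : GolayPt → ℤ) = 0 := by
            unfold sqNorm
            exact Finset.sum_eq_zero fun i _ => by rw [hcon' i]; norm_num
          rw [hw] at this; norm_num at this
        have hc16 : (w : GolayPt → ℤ) c ^ 2 = 16 := by
          rcases hval c hc with h | h <;> rw [h] <;> norm_num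
        obtain ⟨d, hdc, hd⟩ : ∃ d, d ≠ c ∧ (w : GolayPt → ℤ) d ≠ 0 := by
          by_contra hcon
          have hcon' : ∀ i, i ≠ c → (w : GolayPt → ℤ) i = 0 := fun i hi => by
            by_contra h; exact hcon ⟨i, hi, h⟩
          have : sqNorm (w : GolayPt → ℤ) = 16 := by
            unfold sqNorm
            rw [Finset.sum_eq_single c (fun i _ hi => by rw [hcon' i hi]; norm_num)
              (fun h => absurd (Finset.mem_univ c) h), hc16]
          rw [hw] at this; norm_num at this
        have hc1 : c ≠ none := fun h => hc (h ▸ ha)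
        have hc2 : c ≠ some 0 := fun h => hc (h ▸ hb)
        have hd1 : d ≠ none := fun h => hd (h ▸ ha)
        have hd2 : d ≠ some 0 := fun h => hd (h ▸ hb)
        refine good_of_four hxi hn (t := {none, some 0, c, d}) ?_ ?_
        · rw [Finset.card_insert_of_notMem, Finset.card_insert_of_notMem,
            Finset.card_pair (Ne.symm hdc)]
          · simp [Ne.symm hc2, Ne.symm hd2]
          · simp [Ne.symm hc1, Ne.symm hd1]
        · intro i hi
          simp only [Finset.mem_insert, Finset.mem_singleton] at hi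
          rcases hi with rfl | rfl | rfl | rfl
          · left; rw [hx1, ha]; norm_num
          · left; rw [hx2, ha]; norm_num
          · rw [hx3 _ hc1 hc2]; exact hval _ hc
          · rw [hx3 _ hd1 hd2]; exact hval _ hd
      · rcases hval _ ha with h | h
        · exact good_of_eight hn (i := none) (by left; rw [hx1, h]; norm_num)
        · exact good_of_eight hn (i := some 0) (by left; rw [hx2, h]; norm_num)
  · -- odd coordinates
    have hsq1 : ∀ i, (1 : ℤ) ≤ (w : GolayPt → ℤ) i ^ 2 := by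
      intro i
      have h1 := hpar i
      have h2 : (w : GolayPt → ℤ) i ≤ -1 ∨ 1 ≤ (w : GolayPt → ℤ) i := by omega
      rcases h2 with h2 | h2 <;> nlinarith
    -- for two different points the squares sum to at most 10
    have hpair : ∀ i j, i ≠ j → (w : GolayPt → ℤ) i ^ 2 + (w : GolayPt → ℤ) j ^ 2 ≤ 10 := by
      intro i j hij
      have h1 := sq_split (w : GolayPt → ℤ) {i, j}
      rw [Finset.sum_pair hij, hw] at h1
      have h2 : (({i, j} : Finset GolayPt)ᶜ).card • (1 : ℤ) ≤
          ∑ k ∈ ({i, j} : Finset GolayPt)ᶜ, (w : GolayPt → ℤ) k ^ 2 :=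
        Finset.card_nsmul_le_sum _ _ _ fun k _ => hsq1 k
      have h3 : (({i, j} : Finset GolayPt)ᶜ).card = 22 := by
        rw [Finset.card_compl, Finset.card_pair hij]; rfl
      rw [h3] at h2
      simp only [nsmul_eq_mul, mul_one, Nat.cast_ofNat] at h2
      linarith
    have hone_three : ∀ i, (w : GolayPt → ℤ) i = 1 ∨ (w : GolayPt → ℤ) i = -1 ∨
        (w : GolayPt → ℤ) i = 3 ∨ (w : GolayPt → ℤ) i = -3 := by
      intro i
      obtain ⟨j, hj⟩ : ∃ j : GolayPt, i ≠ j := by
        by_cases h : i = none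
        · exact ⟨some 0, by rw [h]; exact hne⟩
        · exact ⟨none, h⟩
      have h1 := hpair i j hj
      have h2 := hsq1 j
      have h3 : (w : GolayPt → ℤ) i ≤ 3 := by nlinarith
      have h4 : -3 ≤ (w : GolayPt → ℤ) i := by nlinarith
      have h5 := hpar i
      omega
    have ha : (w : GolayPt → ℤ) none = 1 ∨ (w : GolayPt → ℤ) none = -1 := by
      have h1 := hpair none (some 0) hne
      rw [hw0] at h1
      rcases hone_three none with h | h | h | h
      · left; exact h
      · right; exact h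
      · rw [h] at h1; norm_num at h1
      · rw [h] at h1; norm_num at h1
    obtain ⟨p, hp⟩ : ∃ p, (w : GolayPt → ℤ) p = 3 ∨ (w : GolayPt → ℤ) p = -3 := by
      by_contra hcon
      have h1 : sqNorm (w : GolayPt → ℤ) = 24 := by
        unfold sqNorm
        rw [Finset.sum_congr rfl (g := fun _ => (1 : ℤ))]
        · rw [Finset.sum_const]; rfl
        · intro i _
          rcases hone_three i with h | h | h | h
          · rw [h]; norm_num
          · rw [h]; norm_num
          · exact absurd ⟨i, Or.inl h⟩ hcon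
          · exact absurd ⟨i, Or.inr h⟩ hcon
      rw [hw] at h1; norm_num at h1
    have hp1 : p ≠ none := by
      rintro rfl
      rcases ha with h | h <;> rcases hp with h' | h' <;> rw [h] at h' <;> norm_num at h'
    have hp2 : p ≠ some 0 := by
      rintro rfl
      rw [hw0] at hp
      rcases ha with h | h <;> rcases hp with h' | h' <;> rw [h] at h' <;> norm_num at h'
    have hother : ∀ i, i ≠ p → (w : GolayPt → ℤ) i = 1 ∨ (w : GolayPt → ℤ) i = -1 := by
      intro i hi
      have h1 := hpair i p hi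
      rcases hone_three i with h | h | h | h
      · left; exact h
      · right; exact h
      · rw [h] at h1; rcases hp with h' | h' <;> rw [h'] at h1 <;> norm_num at h1
      · rw [h] at h1; rcases hp with h' | h' <;> rw [h'] at h1 <;> norm_num at h1
    -- a second point with the same residue modulo 4
    obtain ⟨q, hq1, hq2, hqp, hq⟩ : ∃ q : GolayPt, q ≠ none ∧ q ≠ some 0 ∧ q ≠ p ∧
        (w : GolayPt → ℤ) q ≡ (w : GolayPt → ℤ) p [ZMOD 4] := by
      have h8 := res_card w ((w : GolayPt → ℤ) p) p rfl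
      set S := Finset.univ.filter fun i => (w : GolayPt → ℤ) i ≡ (w : GolayPt → ℤ) p [ZMOD 4]
        with hSdef
      have hcard : (S \ {none, some 0, p}).card > 0 := by
        have h1 := Finset.le_card_sdiff ({none, some 0, p} : Finset GolayPt) S
        have h2 : ({none, some 0, p} : Finset GolayPt).card ≤ 3 := Finset.card_le_three
        omega
      obtain ⟨q, hq⟩ := Finset.card_pos.mp hcard
      rw [Finset.mem_sdiff] at hq
      simp only [Finset.mem_insert, Finset.mem_singleton, not_or] at hq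
      refine ⟨q, hq.2.1, hq.2.2.1, hq.2.2.2, ?_⟩
      have := hq.1
      simpa [hSdef] using this
    have hqq := hother q hqp
    have hmod : (w : GolayPt → ℤ) q % 4 = (w : GolayPt → ℤ) p % 4 := hq
    have ht : ({none, some 0, p, q} : Finset GolayPt).card = 4 := by
      rw [Finset.card_insert_of_notMem, Finset.card_insert_of_notMem,
        Finset.card_pair (Ne.symm hqp)]
      · simp [Ne.symm hp2, Ne.symm hq2]
      · simp [Ne.symm hp1, Ne.symm hq1]
    obtain ⟨g, s, hs, hg⟩ := hxi _ ht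
    have hsum : ∑ j ∈ ({none, some 0, p, q} : Finset GolayPt), (x : GolayPt → ℤ) j =
        8 + (w : GolayPt → ℤ) p + (w : GolayPt → ℤ) q := by
      rw [Finset.sum_insert, Finset.sum_insert, Finset.sum_pair (Ne.symm hqp), hx1, hx2,
        hx3 _ hp1 hp2, hx3 _ hq1 hq2]
      · ring
      · simp [Ne.symm hp2, Ne.symm hq2]
      · simp [Ne.symm hp1, Ne.symm hq1]
    rcases hp with hp | hp
    · -- `w p = 3`, `w q = -1`
      have hq' : (w : GolayPt → ℤ) q = -1 := by
        rcases hqq with h | h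
        · rw [h, hp] at hmod; norm_num at hmod
        · exact h
      have h1 := hg x q (by simp)
      rw [hsum, hx3 _ hq1 hq2, hp, hq'] at h1
      refine Good.of_map g (good_of_six hxi (norm_map g hn) (p := q) ?_)
      rcases hs with rfl | rfl
      · right; linarith
      · left; linarith
    · have hq' : (w : GolayPt → ℤ) q = 1 := by
        rcases hqq with h | h
        · exact h
        · rw [h, hp] at hmod; norm_num at hmod
      have h1 := hg x p (by simp)
      rw [hsum, hx3 _ hp1 hp2, hp, hq'] at h1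
      refine Good.of_map g (good_of_six hxi (norm_map g hn) (p := p) ?_)
      rcases hs with rfl | rfl
      · right; linarith
      · left; linarith

/-- A norm-64 vector congruent to `8 e_i` modulo twice the lattice is one of the `±8 e_j`. -/
theorem frame_std (y z : leechLattice) (i : GolayPt) (hn : sqNorm (y : GolayPt → ℤ) = 64)
    (hz : ∀ j, (y : GolayPt → ℤ) j = (if j = i then 8 else 0) - 2 * (z : GolayPt → ℤ) j) :
    ∃ j, y = e8 j ∨ y = - e8 j := by
  have hone : ∀ j, (y : GolayPt → ℤ) j ^ 2 ≤ 64 := by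
    intro j
    have h1 := sq_sum_le (y : GolayPt → ℤ) {j}
    rwa [Finset.sum_singleton, hn] at h1
  have hd8 : ∀ j, (y : GolayPt → ℤ) j % 8 = 0 := by
    rcases parity z with hpar | hpar
    · by_contra hcon
      have hex : ∃ j, (z : GolayPt → ℤ) j % 4 = 2 := by
        by_contra hcon2
        apply hcon
        intro j
        have h1 := hpar j
        have h2 : ¬ (z : GolayPt → ℤ) j % 4 = 2 := fun h => hcon2 ⟨j, h⟩
        have h3 := hz j
        split_ifs at h3 <;> omega
      obtain ⟨p, hp⟩ := hex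
      have h8 := res_card z 2 p hp
      set S := Finset.univ.filter fun i => (z : GolayPt → ℤ) i ≡ 2 [ZMOD 4] with hSdef
      have hsq : ∀ j ∈ S, (16 : ℤ) ≤ (y : GolayPt → ℤ) j ^ 2 := by
        intro j hj
        have h2 : (z : GolayPt → ℤ) j ≡ 2 [ZMOD 4] := by simpa [hSdef] using hj
        have h2' : (z : GolayPt → ℤ) j % 4 = 2 := h2
        have h3 := hz j
        have h5 : (y : GolayPt → ℤ) j ≤ -4 ∨ 4 ≤ (y : GolayPt → ℤ) j := by
          split_ifs at h3 <;> omega
        rcases h5 with h5 | h5 <;> nlinarith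
      have h6 : S.card • (16 : ℤ) ≤ ∑ i ∈ S, (y : GolayPt → ℤ) i ^ 2 :=
        Finset.card_nsmul_le_sum _ _ _ hsq
      have h7 := sq_sum_le (y : GolayPt → ℤ) S
      rw [hn] at h7
      rw [nsmul_eq_mul] at h6
      have hc8 : (8 : ℤ) ≤ (S.card : ℤ) := by exact_mod_cast h8
      linarith
    · exfalso
      have hsq : ∀ j ∈ (Finset.univ : Finset GolayPt), (4 : ℤ) ≤ (y : GolayPt → ℤ) j ^ 2 := by
        intro j _
        have h1 := hpar j
        have h3 := hz j
        have h5 : (y : GolayPt → ℤ) j ≤ -2 ∨ 2 ≤ (y : GolayPt → ℤ) j := by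
          split_ifs at h3 <;> omega
        rcases h5 with h5 | h5 <;> nlinarith
      have h6 : (Finset.univ : Finset GolayPt).card • (4 : ℤ) ≤ ∑ i, (y : GolayPt → ℤ) i ^ 2 :=
        Finset.card_nsmul_le_sum _ _ _ hsq
      have h7 : (Finset.univ : Finset GolayPt).card = 24 := rfl
      rw [h7] at h6
      simp only [nsmul_eq_mul, Nat.cast_ofNat] at h6
      have h8 : ∑ i, (y : GolayPt → ℤ) i ^ 2 = 64 := hn
      linarith
  obtain ⟨j, hj⟩ : ∃ j, (y : GolayPt → ℤ) j ≠ 0 := by
    by_contra hcon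
    have hcon' : ∀ i, (y : GolayPt → ℤ) i = 0 := fun i => by
      by_contra h; exact hcon ⟨i, h⟩
    have : sqNorm (y : GolayPt → ℤ) = 0 := by
      unfold sqNorm
      exact Finset.sum_eq_zero fun i _ => by rw [hcon' i]; norm_num
    rw [hn] at this; norm_num at this
  have h1 := hone j
  have h2 := hd8 j
  have h3 : (y : GolayPt → ℤ) j ≤ 8 := by nlinarith
  have h4 : -8 ≤ (y : GolayPt → ℤ) j := by nlinarith
  have h5 : (y : GolayPt → ℤ) j = 8 ∨ (y : GolayPt → ℤ) j = -8 := by omega
  have hzero : ∀ k, k ≠ j → (y : GolayPt → ℤ) k = 0 := by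
    intro k hk
    have h1 := sq_sum_le (y : GolayPt → ℤ) {j, k}
    rw [Finset.sum_pair (Ne.symm hk), hn] at h1
    have h2 : (y : GolayPt → ℤ) j ^ 2 = 64 := by rcases h5 with h | h <;> rw [h] <;> norm_num
    rw [h2] at h1
    have h3 : (y : GolayPt → ℤ) k ^ 2 = 0 := le_antisymm (by linarith) (sq_nonneg _)
    exact (pow_eq_zero_iff two_ne_zero).mp h3
  refine ⟨j, ?_⟩
  rcases h5 with h | h
  · left
    refine Subtype.ext (funext fun k => ?_)
    rw [e8_apply]
    by_cases hk : k = j
    · rw [if_pos hk, hk, h]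
    · rw [if_neg hk, hzero k hk]
  · right
    refine Subtype.ext (funext fun k => ?_)
    show _ = -((e8 j : leechLattice) : GolayPt → ℤ) k
    rw [e8_apply]
    by_cases hk : k = j
    · rw [if_pos hk, hk, h]
    · rw [if_neg hk, hzero k hk]; norm_num

/-- `M24` is transitive on ordered pairs of distinct points (only the translation and `x ↦ -1/x` are used). -/
theorem exists_perm_pair (i j : GolayPt) (hij : i ≠ j) :
    ∃ σ ∈ M24, σ i = none ∧ σ j = some 0 := by
  have hT : ∀ a : ZMod 23, ∃ σ ∈ M24, σ none = none ∧ ∀ x : ZMod 23, σ (some x) = some (x + a) := by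
    intro a
    have hpow : ∀ n : ℕ, ∃ σ ∈ M24, σ none = none ∧
        ∀ x : ZMod 23, σ (some x) = some (x + (n : ZMod 23)) := by
      intro n
      induction n with
      | zero => exact ⟨1, one_mem _, rfl, fun x => by simp⟩
      | succ n ih =>
        obtain ⟨σ, hσ, h1, h2⟩ := ih
        refine ⟨Equiv.optionCongr (Equiv.addRight (1 : ZMod 23)) * σ,
          mul_mem M24Gens.shift_mem hσ, ?_, fun x => ?_⟩
        · rw [Equiv.Perm.mul_apply, h1]; rfl
        · rw [Equiv.Perm.mul_apply, h2]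
          show some (x + (n : ZMod 23) + 1) = _
          push_cast
          rw [add_assoc]
    obtain ⟨σ, hσ, h1, h2⟩ := hpow a.val
    refine ⟨σ, hσ, h1, fun x => ?_⟩
    rw [h2, ZMod.natCast_zmod_val]
  obtain ⟨σ₁, hσ₁, h₁⟩ : ∃ σ ∈ M24, σ i = none := by
    cases i with
    | none => exact ⟨1, one_mem _, rfl⟩
    | some x =>
      obtain ⟨σ, hσ, -, h2⟩ := hT (-x)
      refine ⟨projInv * σ, mul_mem M24Gens.projInv_mem hσ, ?_⟩
      rw [Equiv.Perm.mul_apply, h2, add_neg_cancel]
      rfl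
  have hj : σ₁ j ≠ none := by
    intro h
    exact hij (σ₁.injective (h₁.trans h.symm))
  obtain ⟨y, hy⟩ := Option.ne_none_iff_exists'.mp hj
  obtain ⟨σ₂, hσ₂, h3, h4⟩ := hT (-y)
  refine ⟨σ₂ * σ₁, mul_mem hσ₂ hσ₁, ?_, ?_⟩
  · rw [Equiv.Perm.mul_apply, h₁, h3]
  · rw [Equiv.Perm.mul_apply, hy, h4, add_neg_cancel]

/-- The standard pair: if `v` is `(4, 4, 0, …)` and `w` is minimal and orthogonal to `v`, then some element of `Co0`
maps `v + w` to `8 e_∞` and `v - w` to `8 e_0`. -/
theorem pair_to_std (hxi : HasXi) (v w : leechLattice)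
    (hv : ∀ i, (v : GolayPt → ℤ) i = if i = none ∨ i = some 0 then 4 else 0)
    (hw : sqNorm (w : GolayPt → ℤ) = 32)
    (hd : dotInt (v : GolayPt → ℤ) (w : GolayPt → ℤ) = 0) :
    ∃ g : Co0, g.1 (v + w) = e8 none ∧ g.1 (v - w) = e8 (some 0) := by
  have hne : (none : GolayPt) ≠ some 0 := by simp
  have hvn : sqNorm (v : GolayPt → ℤ) = 32 := by
    unfold sqNorm
    simp only [hv]
    decide +kernel
  have hdot : dotInt (v : GolayPt → ℤ) (w : GolayPt → ℤ) =
      4 * ((w : GolayPt → ℤ) none + (w : GolayPt → ℤ) (some 0)) := by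
    unfold dotInt
    rw [← Finset.sum_subset (Finset.subset_univ ({none, some 0} : Finset GolayPt)),
      Finset.sum_pair hne]
    · simp only [hv, true_or, or_true, if_true]; ring
    · intro i _ hi
      simp only [Finset.mem_insert, Finset.mem_singleton, not_or] at hi
      rw [hv, if_neg (by rintro (h | h); exacts [hi.1 h, hi.2 h]), zero_mul]
  have hw0 : (w : GolayPt → ℤ) (some 0) = - (w : GolayPt → ℤ) none := by
    rw [hd] at hdot; linarith
  have hn1 : sqNorm ((v + w : leechLattice) : GolayPt → ℤ) = 64 := by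
    show sqNorm ((v : GolayPt → ℤ) + (w : GolayPt → ℤ)) = 64
    rw [sqNorm_add, hvn, hw, hd]; norm_num
  have hn2 : sqNorm ((v - w : leechLattice) : GolayPt → ℤ) = 64 := by
    show sqNorm ((v : GolayPt → ℤ) - (w : GolayPt → ℤ)) = 64
    have h1 : sqNorm ((v : GolayPt → ℤ) + (w : GolayPt → ℤ)) +
        sqNorm ((v : GolayPt → ℤ) - (w : GolayPt → ℤ)) =
        2 * sqNorm (v : GolayPt → ℤ) + 2 * sqNorm (w : GolayPt → ℤ) := by
      unfold sqNorm
      rw [← Finset.sum_add_distrib, Finset.mul_sum, Finset.mul_sum, ← Finset.sum_add_distrib]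
      refine Finset.sum_congr rfl fun i _ => ?_
      simp only [Pi.add_apply, Pi.sub_apply]; ring
    have h2 : sqNorm ((v : GolayPt → ℤ) + (w : GolayPt → ℤ)) = 64 := hn1
    rw [h2, hvn, hw] at h1
    linarith
  obtain ⟨g, i, hgi⟩ : Good (v + w) := by
    refine good_main hxi hn1 hw ?_ ?_ ?_ hw0
    · show (v : GolayPt → ℤ) none + (w : GolayPt → ℤ) none = _
      rw [hv]; simp
    · show (v : GolayPt → ℤ) (some 0) + (w : GolayPt → ℤ) (some 0) = _
      rw [hv, hw0]; simp; ring
    · intro i h1 h2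
      show (v : GolayPt → ℤ) i + (w : GolayPt → ℤ) i = _
      rw [hv, if_neg (by rintro (h | h); exacts [h1 h, h2 h]), zero_add]
  -- the image of `v - w`
  have hsub : g.1 (v - w) = g.1 (v + w) - (2 : ℤ) • g.1 w := by
    have h1 : v - w = (v + w) + (-(2 : ℤ)) • w := by
      rw [neg_smul, two_zsmul]; abel
    rw [h1, map_add, map_zsmul, neg_smul, sub_eq_add_neg]
  obtain ⟨j, hj⟩ := frame_std (g.1 (v - w)) (g.1 w) i (norm_map g hn2) (by
    intro j
    rw [hsub, hgi]
    show ((e8 i : leechLattice) : GolayPt → ℤ) j - ((2 : ℤ) • g.1 w : leechLattice).1 j = _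
    rw [e8_apply]
    rfl)
  have hdot2 : dotInt ((g.1 (v + w) : leechLattice) : GolayPt → ℤ)
      ((g.1 (v - w) : leechLattice) : GolayPt → ℤ) = 0 := by
    rw [map_dot]
    have h1 : dotInt ((v + w : leechLattice) : GolayPt → ℤ) ((v - w : leechLattice) : GolayPt → ℤ) =
        sqNorm (v : GolayPt → ℤ) - sqNorm (w : GolayPt → ℤ) := by
      unfold dotInt sqNorm
      rw [← Finset.sum_sub_distrib]
      refine Finset.sum_congr rfl fun i _ => ?_
      show ((v : GolayPt → ℤ) i + (w : GolayPt → ℤ) i) * ((v : GolayPt → ℤ) i - (w : GolayPt → ℤ) i) = _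
      ring
    rw [h1, hvn, hw, sub_self]
  have hij : i ≠ j := by
    rintro rfl
    have h1 : dotInt ((e8 i : leechLattice) : GolayPt → ℤ) ((e8 i : leechLattice) : GolayPt → ℤ) = 64 := by
      unfold dotInt
      rw [Finset.sum_eq_single i]
      · rw [e8_apply, if_pos rfl]; norm_num
      · intro b _ hb
        rw [e8_apply, if_neg hb, zero_mul]
      · intro h; exact absurd (Finset.mem_univ i) h
    rw [hgi] at hdot2
    rcases hj with hj | hj
    · rw [hj, h1] at hdot2; norm_num at hdot2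
    · rw [hj] at hdot2
      have h2 : dotInt ((e8 i : leechLattice) : GolayPt → ℤ) ((-e8 i : leechLattice) : GolayPt → ℤ) =
          - dotInt ((e8 i : leechLattice) : GolayPt → ℤ) ((e8 i : leechLattice) : GolayPt → ℤ) := by
        unfold dotInt
        rw [← Finset.sum_neg_distrib]
        refine Finset.sum_congr rfl fun k _ => ?_
        show ((e8 i : leechLattice) : GolayPt → ℤ) k * -((e8 i : leechLattice) : GolayPt → ℤ) k = _
        ring
      rw [h2, h1] at hdot2
      norm_num at hdot2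
  obtain ⟨σ, hσ, hσi, hσj⟩ := exists_perm_pair i j hij
  -- permute
  have hP : ∀ k, (permCo0 σ hσ).1 (e8 k) = e8 (σ k) := permCo0_e8 σ hσ
  rcases hj with hj | hj
  · refine ⟨permCo0 σ hσ * g, ?_, ?_⟩
    · show (permCo0 σ hσ).1 (g.1 (v + w)) = _
      rw [hgi, hP, hσi]
    · show (permCo0 σ hσ).1 (g.1 (v - w)) = _
      rw [hj, hP, hσj]
  · obtain ⟨c, hc, hct⟩ := GolayInterp.exists_word_interp {none, some 0}
      (by rw [Finset.card_pair hne]; norm_num) (fun i => if i = none then 0 else 1)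
    have hc0 : c none = 0 := by rw [hct none (by simp)]; simp
    have hc1 : c (some 0) = 1 := by rw [hct (some 0) (by simp)]; simp
    refine ⟨signCo0 c hc * permCo0 σ hσ * g, ?_, ?_⟩
    · show (signCo0 c hc).1 ((permCo0 σ hσ).1 (g.1 (v + w))) = _
      rw [hgi, hP, hσi]
      refine Subtype.ext (funext fun k => ?_)
      rw [signCo0_apply, e8_apply]
      by_cases hk : k = none
      · rw [hk, if_pos hc0]
      · simp [hk]
    · show (signCo0 c hc).1 ((permCo0 σ hσ).1 (g.1 (v - w))) = _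
      rw [hj, map_neg, hP, hσj, map_neg]
      refine Subtype.ext (funext fun k => ?_)
      show -(((signCo0 c hc).1 (e8 (some 0)) : leechLattice) : GolayPt → ℤ) k = _
      rw [signCo0_apply, e8_apply]
      by_cases hk : k = some 0
      · rw [hk, hc1]; simp
      · simp [hk]

theorem hasXi : HasXi := by
  intro t ht
  obtain ⟨S, hS, htS⟩ := Cfsg.Agent.Leech.Code.exists_sextet t ht
  refine ⟨Cfsg.Agent.Leech.Xi.xi S t hS htS, -1, Or.inr rfl, fun x i hi => ?_⟩
  have h1 : (((Cfsg.Agent.Leech.Xi.xi S t hS htS).1 x : leechLattice) : GolayPt → ℤ) i =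
      Cfsg.Agent.Leech.Xi.xiMap S t x i := rfl
  have h2 := Cfsg.Agent.Leech.Xi.two_mul_hsum hS x.2 i
  rw [Cfsg.Agent.Leech.Xi.tet_eq hS htS hi] at h2
  rw [h1, Cfsg.Agent.Leech.Xi.xiMap_apply, if_pos hi, h2]
  ring

/-! ### Transitivity on minimal vectors -/

/-- Conjugate to `(4, 4, 0, …)`. -/
def Good4 (x : leechLattice) : Prop := ∃ g : Co0, ∀ i, ((g.1 x : leechLattice) : GolayPt → ℤ) i =
  if i = none ∨ i = some 0 then 4 else 0

theorem Good4.of_map {x : leechLattice} (h : Co0) (hg : Good4 (h.1 x)) : Good4 x := by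
  obtain ⟨g, hi⟩ := hg
  exact ⟨g * h, hi⟩

/-- a coordinate ±4 -/
theorem good4_of_four {x : leechLattice} (hn : sqNorm (x : GolayPt → ℤ) = 32) {c : GolayPt}
    (hc : (x : GolayPt → ℤ) c = 4 ∨ (x : GolayPt → ℤ) c = -4) : Good4 x := by
  have hne : (none : GolayPt) ≠ some 0 := by simp
  have hc16 : (x : GolayPt → ℤ) c ^ 2 = 16 := by rcases hc with h | h <;> rw [h] <;> norm_num
  have hdvd : ∀ i, (x : GolayPt → ℤ) i % 4 = 0 := by
    apply all_four_dvd x {c} _ c
    · rcases hc with h | h <;> rw [h] <;> norm_num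
    · rw [Finset.sum_singleton, hc16, hn]; norm_num
    · intro i hi
      rw [Finset.mem_singleton.mp hi]
      rcases hc with h | h <;> rw [h] <;> norm_num
  have h1 := sq_split (x : GolayPt → ℤ) {c}
  rw [Finset.sum_singleton, hc16, hn] at h1
  obtain ⟨d, hd, hd0⟩ : ∃ j ∈ ({c} : Finset GolayPt)ᶜ, (x : GolayPt → ℤ) j ^ 2 ≠ 0 := by
    by_contra hcon
    have hcon' : ∀ j ∈ ({c} : Finset GolayPt)ᶜ, (x : GolayPt → ℤ) j ^ 2 = 0 := fun j hj => by
      by_contra h
      exact hcon ⟨j, hj, h⟩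
    rw [Finset.sum_eq_zero hcon'] at h1
    norm_num at h1
  have hdc : d ≠ c := by simpa using hd
  have h2 : (x : GolayPt → ℤ) d ^ 2 ≤ 16 := by
    have h3 := Finset.single_le_sum (f := fun i => (x : GolayPt → ℤ) i ^ 2)
      (s := ({c} : Finset GolayPt)ᶜ) (fun i _ => sq_nonneg _) hd
    linarith
  have hd4 : (x : GolayPt → ℤ) d = 4 ∨ (x : GolayPt → ℤ) d = -4 := by
    obtain ⟨y, hy⟩ : ∃ y, (x : GolayPt → ℤ) d = 4 * y := ⟨(x : GolayPt → ℤ) d / 4, by
      have := hdvd d; omega⟩
    rw [hy] at h2 hd0 ⊢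
    have h6 : y ^ 2 ≤ 3 := by nlinarith
    rcases int_sq_le_cases h6 with h | h | h
    · rw [h] at hd0; norm_num at hd0
    · left; rw [h]; norm_num
    · right; rw [h]; norm_num
  have hd16 : (x : GolayPt → ℤ) d ^ 2 = 16 := by rcases hd4 with h | h <;> rw [h] <;> norm_num
  obtain ⟨σ, hσ, hσc, hσd⟩ := exists_perm_pair c d (Ne.symm hdc)
  have hP : ∀ k, (((permCo0 σ hσ).1 x : leechLattice) : GolayPt → ℤ) (σ k) = (x : GolayPt → ℤ) k := by
    intro k
    rw [permCo0_apply]; simp
  set y := (permCo0 σ hσ).1 x with hy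
  have hyc : (y : GolayPt → ℤ) none = (x : GolayPt → ℤ) c := by rw [← hσc, hP]
  have hyd : (y : GolayPt → ℤ) (some 0) = (x : GolayPt → ℤ) d := by rw [← hσd, hP]
  have hyn : sqNorm (y : GolayPt → ℤ) = 32 := norm_map _ hn
  obtain ⟨g, hg⟩ := exists_signs y {none, some 0} (by rw [Finset.card_pair hne]; norm_num)
    (fun _ => 4) (by
      intro i hi
      simp only [Finset.mem_insert, Finset.mem_singleton] at hi
      rcases hi with rfl | rfl
      · rw [hyc]; exact hc
      · rw [hyd]; exact hd4)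
  refine ⟨g * permCo0 σ hσ, fun i => ?_⟩
  show ((g.1 y : leechLattice) : GolayPt → ℤ) i = _
  by_cases hi : i = none ∨ i = some 0
  · rw [if_pos hi]
    exact hg i (by simpa using hi)
  · rw [if_neg hi]
    have h3 := sq_split ((g.1 y : leechLattice) : GolayPt → ℤ) {none, some 0}
    rw [norm_map g hyn, Finset.sum_pair hne, hg none (by simp), hg (some 0) (by simp)] at h3
    have h4 := Finset.single_le_sum (f := fun i => ((g.1 y : leechLattice) : GolayPt → ℤ) i ^ 2)
      (s := ({none, some 0} : Finset GolayPt)ᶜ) (fun i _ => sq_nonneg _)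
      (Finset.mem_compl.mpr (by simpa using hi))
    have h5 : ((g.1 y : leechLattice) : GolayPt → ℤ) i ^ 2 ≤ 0 := by linarith
    exact (pow_eq_zero_iff two_ne_zero).mp (le_antisymm h5 (sq_nonneg _))

/-- a coordinate ±2 -/
theorem good4_of_two {x : leechLattice} (hn : sqNorm (x : GolayPt → ℤ) = 32) {p : GolayPt}
    (hp : (x : GolayPt → ℤ) p = 2 ∨ (x : GolayPt → ℤ) p = -2) : Good4 x := by
  have hp2 : (x : GolayPt → ℤ) p ≡ 2 [ZMOD 4] := by
    rcases hp with h | h <;> rw [h] <;> decide
  have h8 := res_card x 2 p hp2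
  set S := Finset.univ.filter fun i => (x : GolayPt → ℤ) i ≡ 2 [ZMOD 4] with hSdef
  have hmemS : ∀ j, j ∈ S → (x : GolayPt → ℤ) j % 4 = 2 := by
    intro j hj
    have h2 : (x : GolayPt → ℤ) j ≡ 2 [ZMOD 4] := by simpa [hSdef] using hj
    exact h2
  have hsq : ∀ j ∈ S, (4 : ℤ) ≤ (x : GolayPt → ℤ) j ^ 2 := by
    intro j hj
    have h3 := hmemS j hj
    have h5 : (x : GolayPt → ℤ) j ≤ -2 ∨ 2 ≤ (x : GolayPt → ℤ) j := by omega
    rcases h5 with h5 | h5 <;> nlinarith
  have htwo : ∀ j ∈ S, (x : GolayPt → ℤ) j = 2 ∨ (x : GolayPt → ℤ) j = -2 := by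
    intro j hj
    have h1 := sq_sum_le (x : GolayPt → ℤ) S
    rw [hn, ← Finset.add_sum_erase S _ hj] at h1
    have h2 : (S.erase j).card • (4 : ℤ) ≤ ∑ i ∈ S.erase j, (x : GolayPt → ℤ) i ^ 2 :=
      Finset.card_nsmul_le_sum _ _ _ fun i hi => hsq i (Finset.mem_of_mem_erase hi)
    rw [Finset.card_erase_of_mem hj, nsmul_eq_mul] at h2
    have h3 : (7 : ℤ) ≤ ((S.card - 1 : ℕ) : ℤ) := by exact_mod_cast (by omega)
    have h4 : (x : GolayPt → ℤ) j ^ 2 ≤ 4 := by nlinarith
    have h5 := hmemS j hj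
    have h6 : (x : GolayPt → ℤ) j ≤ 2 := by nlinarith
    have h7 : -2 ≤ (x : GolayPt → ℤ) j := by nlinarith
    omega
  obtain ⟨t, htS, ht⟩ := Finset.exists_subset_card_eq (show 4 ≤ S.card by omega)
  obtain ⟨d, hd⟩ : t.Nonempty := by rw [← Finset.card_pos, ht]; norm_num
  obtain ⟨h, hh⟩ := exists_signs x t (by omega) (fun i => if i = d then -2 else 2) (by
    intro i hi
    show _ = (if i = d then (-2 : ℤ) else 2) ∨ _ = -(if i = d then (-2 : ℤ) else 2)
    split_ifs
    · rcases htwo i (htS hi) with h | h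
      · right; rw [h]; norm_num
      · left; exact h
    · exact htwo i (htS hi))
  obtain ⟨g, s, hs, hg⟩ := hasXi t ht
  refine Good4.of_map h (Good4.of_map g (good4_of_four (c := d) (norm_map g (norm_map h hn)) ?_))
  have h1 := hg (h.1 x) d hd
  have h2 : ∑ j ∈ t, ((h.1 x : leechLattice) : GolayPt → ℤ) j = 4 := by
    rw [Finset.sum_congr rfl hh, ← Finset.add_sum_erase t _ hd]
    rw [Finset.sum_congr rfl (g := fun _ => (2 : ℤ))]
    · rw [Finset.sum_const, Finset.card_erase_of_mem hd, ht]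
      simp
    · intro j hj
      simp [Finset.ne_of_mem_erase hj]
  rw [h2, hh d hd] at h1
  simp only [if_true] at h1
  rcases hs with rfl | rfl
  · right; linarith
  · left; linarith

/-- `Co0` is transitive on minimal vectors. -/
theorem good4_of_min {x : leechLattice} (hn : sqNorm (x : GolayPt → ℤ) = 32) : Good4 x := by
  rcases parity x with hpar | hpar
  · by_cases hS : ∃ p, (x : GolayPt → ℤ) p % 4 = 2
    · obtain ⟨p, hp⟩ := hS
      -- some coordinate is ±2
      have h8 := res_card x 2 p hp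
      set S := Finset.univ.filter fun i => (x : GolayPt → ℤ) i ≡ 2 [ZMOD 4] with hSdef
      have hmemS : ∀ j, j ∈ S → (x : GolayPt → ℤ) j % 4 = 2 := by
        intro j hj
        have h2 : (x : GolayPt → ℤ) j ≡ 2 [ZMOD 4] := by simpa [hSdef] using hj
        exact h2
      have hpS : p ∈ S := by
        have : (x : GolayPt → ℤ) p ≡ 2 [ZMOD 4] := hp
        simpa [hSdef] using this
      have hsq : ∀ j ∈ S, (4 : ℤ) ≤ (x : GolayPt → ℤ) j ^ 2 := by
        intro j hj
        have h3 := hmemS j hj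
        have h5 : (x : GolayPt → ℤ) j ≤ -2 ∨ 2 ≤ (x : GolayPt → ℤ) j := by omega
        rcases h5 with h5 | h5 <;> nlinarith
      have h1 := sq_sum_le (x : GolayPt → ℤ) S
      rw [hn, ← Finset.add_sum_erase S _ hpS] at h1
      have h2 : (S.erase p).card • (4 : ℤ) ≤ ∑ i ∈ S.erase p, (x : GolayPt → ℤ) i ^ 2 :=
        Finset.card_nsmul_le_sum _ _ _ fun i hi => hsq i (Finset.mem_of_mem_erase hi)
      rw [Finset.card_erase_of_mem hpS, nsmul_eq_mul] at h2
      have h3 : (7 : ℤ) ≤ ((S.card - 1 : ℕ) : ℤ) := by exact_mod_cast (by omega)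
      have h4 : (x : GolayPt → ℤ) p ^ 2 ≤ 4 := by nlinarith
      have h6 : (x : GolayPt → ℤ) p ≤ 2 := by nlinarith
      have h7 : -2 ≤ (x : GolayPt → ℤ) p := by nlinarith
      exact good4_of_two hn (p := p) (by omega)
    · have hdvd : ∀ i, (x : GolayPt → ℤ) i % 4 = 0 := by
        intro i
        have h1 := hpar i
        have h2 : ¬ (x : GolayPt → ℤ) i % 4 = 2 := fun h => hS ⟨i, h⟩
        omega
      obtain ⟨c, hc⟩ : ∃ c, (x : GolayPt → ℤ) c ≠ 0 := by
        by_contra hcon
        have hcon' : ∀ i, (x : GolayPt → ℤ) i = 0 := fun i => by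
          by_contra h; exact hcon ⟨i, h⟩
        have : sqNorm (x : GolayPt → ℤ) = 0 := by
          unfold sqNorm
          exact Finset.sum_eq_zero fun i _ => by rw [hcon' i]; norm_num
        rw [hn] at this; norm_num at this
      have h1 := sq_sum_le (x : GolayPt → ℤ) {c}
      rw [Finset.sum_singleton, hn] at h1
      refine good4_of_four hn (c := c) ?_
      obtain ⟨y, hy⟩ : ∃ y, (x : GolayPt → ℤ) c = 4 * y := ⟨(x : GolayPt → ℤ) c / 4, by
        have := hdvd c; omega⟩
      rw [hy] at h1 hc ⊢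
      have h6 : y ^ 2 ≤ 3 := by nlinarith
      rcases int_sq_le_cases h6 with h | h | h
      · rw [h] at hc; norm_num at hc
      · left; rw [h]; norm_num
      · right; rw [h]; norm_num
  · have hsq1 : ∀ i, (1 : ℤ) ≤ (x : GolayPt → ℤ) i ^ 2 := by
      intro i
      have h1 := hpar i
      have h2 : (x : GolayPt → ℤ) i ≤ -1 ∨ 1 ≤ (x : GolayPt → ℤ) i := by omega
      rcases h2 with h2 | h2 <;> nlinarith
    have hpair : ∀ i j, i ≠ j → (x : GolayPt → ℤ) i ^ 2 + (x : GolayPt → ℤ) j ^ 2 ≤ 10 := by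
      intro i j hij
      have h1 := sq_split (x : GolayPt → ℤ) {i, j}
      rw [Finset.sum_pair hij, hn] at h1
      have h2 : (({i, j} : Finset GolayPt)ᶜ).card • (1 : ℤ) ≤
          ∑ k ∈ ({i, j} : Finset GolayPt)ᶜ, (x : GolayPt → ℤ) k ^ 2 :=
        Finset.card_nsmul_le_sum _ _ _ fun k _ => hsq1 k
      have h3 : (({i, j} : Finset GolayPt)ᶜ).card = 22 := by
        rw [Finset.card_compl, Finset.card_pair hij]; rfl
      rw [h3] at h2
      simp only [nsmul_eq_mul, mul_one, Nat.cast_ofNat] at h2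
      linarith
    have hone_three : ∀ i, (x : GolayPt → ℤ) i = 1 ∨ (x : GolayPt → ℤ) i = -1 ∨
        (x : GolayPt → ℤ) i = 3 ∨ (x : GolayPt → ℤ) i = -3 := by
      intro i
      obtain ⟨j, hj⟩ : ∃ j : GolayPt, i ≠ j := by
        by_cases h : i = none
        · exact ⟨some 0, by rw [h]; simp⟩
        · exact ⟨none, h⟩
      have h1 := hpair i j hj
      have h2 := hsq1 j
      have h3 : (x : GolayPt → ℤ) i ≤ 3 := by nlinarith
      have h4 : -3 ≤ (x : GolayPt → ℤ) i := by nlinarith
      have h5 := hpar i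
      omega
    obtain ⟨p, hp⟩ : ∃ p, (x : GolayPt → ℤ) p = 3 ∨ (x : GolayPt → ℤ) p = -3 := by
      by_contra hcon
      have h1 : sqNorm (x : GolayPt → ℤ) = 24 := by
        unfold sqNorm
        rw [Finset.sum_congr rfl (g := fun _ => (1 : ℤ))]
        · rw [Finset.sum_const]; rfl
        · intro i _
          rcases hone_three i with h | h | h | h
          · rw [h]; norm_num
          · rw [h]; norm_num
          · exact absurd ⟨i, Or.inl h⟩ hcon
          · exact absurd ⟨i, Or.inr h⟩ hcon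
      rw [hn] at h1; norm_num at h1
    have hother : ∀ i, i ≠ p → (x : GolayPt → ℤ) i = 1 ∨ (x : GolayPt → ℤ) i = -1 := by
      intro i hi
      have h1 := hpair i p hi
      rcases hone_three i with h | h | h | h
      · left; exact h
      · right; exact h
      · rw [h] at h1; rcases hp with h' | h' <;> rw [h'] at h1 <;> norm_num at h1
      · rw [h] at h1; rcases hp with h' | h' <;> rw [h'] at h1 <;> norm_num at h1
    obtain ⟨u, huS, hu⟩ := Finset.exists_subset_card_eq
      (show 3 ≤ ((Finset.univ : Finset GolayPt).erase p).card by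
        rw [Finset.card_erase_of_mem (Finset.mem_univ p)]; decide)
    have hpu : p ∉ u := fun h => Finset.notMem_erase p Finset.univ (huS h)
    have ht : (insert p u).card = 4 := by rw [Finset.card_insert_of_notMem hpu, hu]
    obtain ⟨h, hh⟩ := exists_signs x (insert p u) (by omega) (fun i => if i = p then 3 else 1) (by
      intro i hi
      show _ = (if i = p then (3 : ℤ) else 1) ∨ _ = -(if i = p then (3 : ℤ) else 1)
      split_ifs with hip
      · rw [hip]; exact hp
      · exact hother i hip)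
    obtain ⟨g, s, hs, hg⟩ := hasXi _ ht
    have hsum : ∑ j ∈ insert p u, ((h.1 x : leechLattice) : GolayPt → ℤ) j = 6 := by
      rw [Finset.sum_congr rfl hh, Finset.sum_insert hpu,
        Finset.sum_congr rfl (g := fun _ => (1 : ℤ))]
      · rw [Finset.sum_const, hu]; simp
      · intro j hj
        have hjp : j ≠ p := fun h => hpu (h ▸ hj)
        simp [hjp]
    obtain ⟨q, hq⟩ : u.Nonempty := by rw [← Finset.card_pos, hu]; norm_num
    have hqp : q ≠ p := fun h => hpu (h ▸ hq)
    refine Good4.of_map h (Good4.of_map g (good4_of_two (p := q) (norm_map g (norm_map h hn)) ?_))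
    have h1 := hg (h.1 x) q (Finset.mem_insert_of_mem hq)
    rw [hsum, hh q (Finset.mem_insert_of_mem hq), if_neg hqp] at h1
    rcases hs with rfl | rfl
    · right; linarith
    · left; linarith

/-- Every ordered pair of orthogonal minimal vectors is conjugate to the standard one. -/
theorem co0_orth_pair_to_std (v w : leechLattice) (hv : sqNorm (v : GolayPt → ℤ) = 32)
    (hw : sqNorm (w : GolayPt → ℤ) = 32)
    (hd : dotInt (v : GolayPt → ℤ) (w : GolayPt → ℤ) = 0) :
    ∃ g : Co0, g.1 (v + w) = e8 none ∧ g.1 (v - w) = e8 (some 0) := by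
  obtain ⟨g₀, hg₀⟩ := good4_of_min hv
  obtain ⟨g₁, h1, h2⟩ := pair_to_std hasXi (g₀.1 v) (g₀.1 w) hg₀ (norm_map g₀ hw)
    (by rw [map_dot]; exact hd)
  refine ⟨g₁ * g₀, ?_, ?_⟩
  · show g₁.1 (g₀.1 (v + w)) = _
    rw [map_add, h1]
  · show g₁.1 (g₀.1 (v - w)) = _
    rw [sub_eq_add_neg, map_add, map_neg, ← sub_eq_add_neg, h2]

theorem two_smul_inj {x y : leechLattice} (h : (2 : ℤ) • x = (2 : ℤ) • y) : x = y := by
  apply Subtype.ext
  funext j
  have h3 := congrArg (fun u : leechLattice => (u : GolayPt → ℤ) j) h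
  simp only [AddSubgroup.coe_zsmul, Pi.smul_apply, smul_eq_mul] at h3
  exact mul_left_cancel₀ (by norm_num) h3

/-- `Co0` is transitive on ordered pairs of orthogonal minimal vectors. -/
theorem co0_orth_pair_trans (v w v' w' : leechLattice) (hv : sqNorm (v : GolayPt → ℤ) = 32)
    (hw : sqNorm (w : GolayPt → ℤ) = 32) (hv' : sqNorm (v' : GolayPt → ℤ) = 32)
    (hw' : sqNorm (w' : GolayPt → ℤ) = 32)
    (hd : dotInt (v : GolayPt → ℤ) (w : GolayPt → ℤ) = 0)
    (hd' : dotInt (v' : GolayPt → ℤ) (w' : GolayPt → ℤ) = 0) :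
    ∃ g : Co0, g.1 v = v' ∧ g.1 w = w' := by
  obtain ⟨g, h1, h2⟩ := co0_orth_pair_to_std v w hv hw hd
  obtain ⟨k, h3, h4⟩ := co0_orth_pair_to_std v' w' hv' hw' hd'
  have e1 : g.1 v = k.1 v' := by
    apply two_smul_inj
    rw [← Co0Basic.map_zsmul, ← Co0Basic.map_zsmul]
    have a1 : (2 : ℤ) • v = (v + w) + (v - w) := by rw [two_zsmul]; abel
    have a2 : (2 : ℤ) • v' = (v' + w') + (v' - w') := by rw [two_zsmul]; abel
    rw [a1, a2, Co0Basic.map_add g (v + w) (v - w), Co0Basic.map_add k (v' + w') (v' - w'),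
      h1, h2, h3, h4]
  have e2 : g.1 w = k.1 w' := by
    apply two_smul_inj
    rw [← Co0Basic.map_zsmul, ← Co0Basic.map_zsmul]
    have a1 : (2 : ℤ) • w = (v + w) + -(v - w) := by rw [two_zsmul]; abel
    have a2 : (2 : ℤ) • w' = (v' + w') + -(v' - w') := by rw [two_zsmul]; abel
    rw [a1, a2, Co0Basic.map_add g (v + w) (-(v - w)), Co0Basic.map_add k (v' + w') (-(v' - w')),
      Co0Basic.map_neg g, Co0Basic.map_neg k, h1, h2, h3, h4]
  refine ⟨k⁻¹ * g, ?_, ?_⟩
  · show k.1⁻¹ (g.1 v) = v'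
    rw [e1]; simp
  · show k.1⁻¹ (g.1 w) = w'
    rw [e2]; simp

end Cfsg.Agent.SporadicStructure.OrthPairs
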