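/-
Bit-mask model of the length-24 code and table-coded permutations, used for the M12 layer.
-/
import Mathlib
import Cfsg.Prelude.Def_SporadicCombinatorics

set_option autoImplicit false
open scoped Pointwise
open Cfsg

namespace Cfsg.Agent.SporadicStructure.M12Core

/-! ### points, masks -/

/-- position of a point -/
def pos : GolayPt → ℕ
  | none => 23
  | some x => ZMod.val x

/-- the point at a position -/
def ofPos (n : ℕ) : GolayPt :=
  if h : n < 23 then some (show ZMod 23 from (⟨n, h⟩ : Fin 23)) else none

theorem pos_lt (p : GolayPt) : pos p < 24 := by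
  revert p; decide +kernel

theorem ofPos_pos (p : GolayPt) : ofPos (pos p) = p := by
  revert p; decide +kernel

theorem pos_ofPos {n : ℕ} (h : n < 24) : pos (ofPos n) = n := by
  have : ∀ i : Fin 24, pos (ofPos i) = i := by decide +kernel
  exact this ⟨n, h⟩

theorem pos_injective : Function.Injective pos := fun p q h => by
  rw [← ofPos_pos p, h, ofPos_pos]

/-- OR of `2^i` over `i < n` with `f i` -/
def mk (f : ℕ → Bool) : ℕ → ℕ
  | 0 => 0
  | n + 1 => (if f n then 1 <<< n else 0) ||| mk f n

theorem testBit_mk (f : ℕ → Bool) (n i : ℕ) : (mk f n).testBit i = (decide (i < n) && f i) := by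
  induction n with
  | zero => simp [mk]
  | succ n ih =>
    rw [mk, Nat.testBit_or, ih]
    rcases lt_trichotomy i n with h | h | h
    · split_ifs <;> simp [Nat.one_shiftLeft, Nat.testBit_two_pow, h, h.ne', Nat.lt_succ_of_lt h]
    · subst h
      cases hf : f i <;> simp [Nat.one_shiftLeft, Nat.testBit_two_pow]
    · have h2 : ¬ i < n + 1 := by omega
      split_ifs <;> simp [Nat.one_shiftLeft, Nat.testBit_two_pow, h.ne, h2, not_lt.mpr h.le]

/-- the finset of points with a given mask -/
def fin (m : ℕ) : Finset GolayPt := Finset.univ.filter fun p => m.testBit (pos p) = true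

theorem mem_fin {m : ℕ} {p : GolayPt} : p ∈ fin m ↔ m.testBit (pos p) = true := by
  simp [fin]

/-- the mask of a finset -/
def mask (s : Finset GolayPt) : ℕ := mk (fun i => decide (ofPos i ∈ s)) 24

theorem testBit_mask (s : Finset GolayPt) (p : GolayPt) :
    (mask s).testBit (pos p) = decide (p ∈ s) := by
  simp [mask, testBit_mk, ofPos_pos, pos_lt]

theorem fin_mask (s : Finset GolayPt) : fin (mask s) = s := by
  ext p; simp [mem_fin, testBit_mask]

theorem mask_lt (s : Finset GolayPt) : mask s < 2 ^ 24 := by
  apply Nat.lt_pow_two_of_testBit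
  intro i hi
  rw [mask, testBit_mk]
  simp [not_lt.mpr hi]

theorem eq_of_testBit {m m' : ℕ} (h : m < 2 ^ 24) (h' : m' < 2 ^ 24)
    (hh : ∀ i < 24, m.testBit i = m'.testBit i) : m = m' := by
  apply Nat.eq_of_testBit_eq
  intro i
  by_cases hi : i < 24
  · exact hh i hi
  · rw [Nat.testBit_lt_two_pow (lt_of_lt_of_le h (Nat.pow_le_pow_right (by norm_num) (not_lt.mp hi))),
      Nat.testBit_lt_two_pow (lt_of_lt_of_le h' (Nat.pow_le_pow_right (by norm_num) (not_lt.mp hi)))]

theorem mask_fin {m : ℕ} (h : m < 2 ^ 24) : mask (fin m) = m := by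
  apply eq_of_testBit (mask_lt _) h
  intro i hi
  have := testBit_mask (fin m) (ofPos i)
  rw [pos_ofPos hi] at this
  rw [this]
  by_cases hb : m.testBit i = true <;> simp [mem_fin, pos_ofPos hi, hb]

theorem fin_injective {m m' : ℕ} (h : m < 2 ^ 24) (h' : m' < 2 ^ 24) (he : fin m = fin m') :
    m = m' := by
  rw [← mask_fin h, he, mask_fin h']

theorem fin_and (m m' : ℕ) : fin (m &&& m') = fin m ∩ fin m' := by
  ext p; simp [mem_fin]

theorem fin_or (m m' : ℕ) : fin (m ||| m') = fin m ∪ fin m' := by
  ext p; simp [mem_fin]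

/-- number of bits among the first `n` -/
def popc (m : ℕ) : ℕ → ℕ
  | 0 => 0
  | n + 1 => (m >>> n) % 2 + popc m n

theorem popc_eq (m n : ℕ) :
    popc m n = ((Finset.range n).filter fun i => m.testBit i = true).card := by
  induction n with
  | zero => simp [popc]
  | succ n ih =>
    rw [popc, ih, Finset.range_add_one, Finset.filter_insert]
    have h1 : (m >>> n) % 2 = if m.testBit n = true then 1 else 0 := by
      rw [Nat.testBit_eq_decide_div_mod_eq, Nat.shiftRight_eq_div_pow]
      have := Nat.mod_two_eq_zero_or_one (m / 2 ^ n)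
      rcases this with h | h <;> simp [h]
    rw [h1]
    split_ifs with h
    · rw [Finset.card_insert_of_notMem (by simp)]; omega
    · simp

theorem card_fin (m : ℕ) : (fin m).card = popc m 24 := by
  rw [popc_eq]
  apply Finset.card_bij (fun p _ => pos p)
  · intro p hp
    rw [mem_fin] at hp
    simp [hp, pos_lt]
  · intro p _ q _ h
    exact pos_injective h
  · intro i hi
    rw [Finset.mem_filter, Finset.mem_range] at hi
    exact ⟨ofPos i, by rw [mem_fin, pos_ofPos hi.1]; exact hi.2, pos_ofPos hi.1⟩

/-! ### words -/

/-- the word with a given mask -/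
def word (m : ℕ) : GolayPt → ZMod 2 := fun p => if m.testBit (pos p) = true then 1 else 0

theorem support_word (m : ℕ) : support₂ (word m) = fin m := by
  ext p
  simp [support₂, word, mem_fin]

theorem word_mask (w : GolayPt → ZMod 2) : word (mask (support₂ w)) = w := by
  funext p
  have h : ∀ a : ZMod 2, (if a ≠ 0 then (1 : ZMod 2) else 0) = a := by decide
  simp only [word, testBit_mask, support₂, Finset.mem_filter, Finset.mem_univ, true_and,
    decide_eq_true_eq]
  exact h _

theorem word_xor (m m' : ℕ) : word (m ^^^ m') = word m + word m' := by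
  funext p
  simp only [word, Nat.testBit_xor, Pi.add_apply]
  cases m.testBit (pos p) <;> cases m'.testBit (pos p) <;> simp <;> decide

theorem word_zero : word 0 = 0 := by
  funext p; simp [word]

/-- systematic basis of the code: `basisMask i` has exactly the bit `i` among the first 12 -/
def basisMasks : List ℕ :=
  [0xc75001, 0x49f002, 0xd4b004, 0x6e3008, 0x9b3010, 0xb66020, 0xecc040, 0x1ed080, 0x3da100,
   0x7b4200, 0xb1d400, 0xe3a800]

/-- encode the bits `i, i+1, ...` of `m` with the list of basis masks -/
def encAux (m : ℕ) : List ℕ → ℕ → ℕ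
  | [], _ => 0
  | b :: l, i => (if m.testBit i then b else 0) ^^^ encAux m l (i + 1)

/-- the code word agreeing with `m` on the first 12 positions -/
def enc (m : ℕ) : ℕ := encAux m basisMasks 0

/-- membership test for the code -/
def isCode (m : ℕ) : Bool := enc m == m

/-- the mask of `qrWord t` -/
def qmask (t : ZMod 23) : ℕ := mk (fun i => decide (qrWord t (ofPos i) = 1)) 24

theorem word_qmask (t : ZMod 23) : word (qmask t) = qrWord t := by
  funext p
  have h : ∀ t : ZMod 23, ∀ p : GolayPt, qrWord t p = 0 ∨ qrWord t p = 1 := by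
    intro t p
    rcases p with _ | x
    · left; rfl
    · simp only [qrWord]; split_ifs <;> simp
  simp only [word, qmask, testBit_mk, ofPos_pos, pos_lt, decide_true, Bool.true_and,
    decide_eq_true_eq]
  rcases h t p with h | h <;> simp [h]

/-- the mask of the support of a word -/
def wmask (w : GolayPt → ZMod 2) : ℕ := mask (support₂ w)

theorem word_wmask (w : GolayPt → ZMod 2) : word (wmask w) = w := word_mask w

theorem wmask_lt (w : GolayPt → ZMod 2) : wmask w < 2 ^ 24 := mask_lt _

theorem wmask_word {m : ℕ} (h : m < 2 ^ 24) : wmask (word m) = m := by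
  rw [wmask, support_word, mask_fin h]

theorem wmask_add (v w : GolayPt → ZMod 2) : wmask (v + w) = wmask v ^^^ wmask w := by
  conv_lhs => rw [← word_wmask v, ← word_wmask w, ← word_xor]
  exact wmask_word (Nat.xor_lt_two_pow (wmask_lt v) (wmask_lt w))

theorem encAux_xor (m m' : ℕ) (l : List ℕ) (i : ℕ) :
    encAux (m ^^^ m') l i = encAux m l i ^^^ encAux m' l i := by
  induction l generalizing i with
  | nil => simp [encAux]
  | cons b l ih =>
    have h : (if (m ^^^ m').testBit i = true then b else 0) =
        (if m.testBit i = true then b else 0) ^^^ (if m'.testBit i = true then b else 0) := by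
      rw [Nat.testBit_xor]
      cases m.testBit i <;> cases m'.testBit i <;> simp
    simp only [encAux]
    rw [ih, h]
    simp only [Nat.xor_assoc]
    congr 1
    rw [← Nat.xor_assoc, ← Nat.xor_assoc, Nat.xor_comm (encAux m l (i + 1))]

theorem isCode_xor {m m' : ℕ} (h : isCode m = true) (h' : isCode m' = true) :
    isCode (m ^^^ m') = true := by
  simp only [isCode, beq_iff_eq] at *
  rw [enc, encAux_xor]
  exact congrArg₂ _ h h'

theorem isCode_qmask : ∀ t : ZMod 23, isCode (qmask t) = true := by
  decide +kernel

theorem qmask_lt (t : ZMod 23) : qmask t < 2 ^ 24 := by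
  apply Nat.lt_pow_two_of_testBit
  intro i hi
  rw [qmask, testBit_mk]
  simp [not_lt.mpr hi]

theorem word_ones : word (2 ^ 24 - 1) = 1 := by
  funext p
  have h : ∀ p : GolayPt, (2 ^ 24 - 1).testBit (pos p) = true := by decide +kernel
  rw [word, if_pos (h p)]
  rfl

theorem isCode_of_mem {w : GolayPt → ZMod 2} (hw : w ∈ golayCode) : isCode (wmask w) = true := by
  unfold golayCode at hw
  induction hw using Submodule.span_induction with
  | mem x hx =>
    rcases hx with ⟨t, rfl⟩ | rfl
    · rw [← word_qmask t, wmask_word (qmask_lt t)]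
      exact isCode_qmask t
    · rw [← word_ones, wmask_word (by norm_num)]
      decide +kernel
  | zero =>
    rw [← word_zero, wmask_word (by norm_num)]
    decide +kernel
  | add x y _ _ hx hy =>
    rw [wmask_add]
    exact isCode_xor hx hy
  | smul a x _ hx =>
    have ha : ∀ a : ZMod 2, a = 0 ∨ a = 1 := by decide
    rcases ha a with rfl | rfl
    · rw [zero_smul, ← word_zero, wmask_word (by norm_num)]
      decide +kernel
    · rwa [one_smul]

/-- xor of a list -/
def xorList : List ℕ → ℕ
  | [] => 0
  | a :: l => a ^^^ xorList l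

theorem word_xorList_mem {l : List ℕ} (h : ∀ m ∈ l, word m ∈ golayCode) :
    word (xorList l) ∈ golayCode := by
  induction l with
  | nil => rw [xorList, word_zero]; exact zero_mem _
  | cons a l ih =>
    rw [xorList, word_xor]
    exact add_mem (h a (by simp)) (ih fun m hm => h m (by simp [hm]))

theorem qrWord_mem (t : ZMod 23) : qrWord t ∈ golayCode :=
  Submodule.subset_span (Or.inl ⟨t, rfl⟩)

theorem one_mem_golay : (1 : GolayPt → ZMod 2) ∈ golayCode :=
  Submodule.subset_span (Or.inr rfl)

theorem word_qmask_mem (t : ZMod 23) : word (qmask t) ∈ golayCode := by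
  rw [word_qmask]; exact qrWord_mem t

/-- how the basis masks are combined from the generators: the residues, and whether the all-ones
word is added -/
def basisCombos : List (List (ZMod 23) × Bool) :=
  [([0, 3, 5, 7, 9, 10], true), ([3, 4, 8], false), ([0, 3, 4, 7, 10], true),
   ([3, 4, 5, 6, 8, 10], false), ([1, 3, 4, 5, 7, 9, 10], true),
   ([0, 1, 2, 4, 7, 8, 9, 10], true), ([0, 2, 3, 6, 7, 8, 10], true), ([4, 6, 7, 8, 9, 10], false),
   ([0, 1, 6, 8, 10], false), ([0, 2, 5, 6], false), ([0, 1, 5, 6, 9, 10], true),
   ([0, 2, 5, 9, 10], true)]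

theorem basisMasks_eq : basisMasks =
    basisCombos.map fun c => (if c.2 then 2 ^ 24 - 1 else 0) ^^^ xorList (c.1.map qmask) := by
  decide +kernel

theorem word_basis_mem : ∀ b ∈ basisMasks, word b ∈ golayCode := by
  rw [basisMasks_eq]
  intro b hb
  rw [List.mem_map] at hb
  obtain ⟨c, -, rfl⟩ := hb
  rw [word_xor]
  apply add_mem
  · split_ifs
    · rw [word_ones]; exact one_mem_golay
    · rw [word_zero]; exact zero_mem _
  · apply word_xorList_mem
    intro m hm
    rw [List.mem_map] at hm
    obtain ⟨t, -, rfl⟩ := hm
    exact word_qmask_mem t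

theorem word_encAux_mem (m : ℕ) (l : List ℕ) (h : ∀ b ∈ l, word b ∈ golayCode) (i : ℕ) :
    word (encAux m l i) ∈ golayCode := by
  induction l generalizing i with
  | nil => rw [encAux, word_zero]; exact zero_mem _
  | cons b l ih =>
    rw [encAux, word_xor]
    apply add_mem
    · split_ifs
      · exact h b (by simp)
      · rw [word_zero]; exact zero_mem _
    · exact ih (fun m hm => h m (by simp [hm])) _

theorem word_mem_of_isCode {m : ℕ} (h : isCode m = true) : word m ∈ golayCode := by
  rw [isCode, beq_iff_eq] at h
  rw [← h]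
  exact word_encAux_mem _ _ word_basis_mem _

theorem mem_golayCode_iff (w : GolayPt → ZMod 2) : w ∈ golayCode ↔ isCode (wmask w) = true :=
  ⟨isCode_of_mem, fun h => by rw [← word_wmask w]; exact word_mem_of_isCode h⟩

theorem mem_supports_iff (s : Finset GolayPt) :
    s ∈ supports (golayCode : Set (GolayPt → ZMod 2)) ↔ isCode (mask s) = true := by
  constructor
  · rintro ⟨w, hw, rfl⟩
    exact isCode_of_mem hw
  · intro h
    refine ⟨word (mask s), word_mem_of_isCode h, ?_⟩
    rw [support_word, fin_mask]

theorem fin_mem_supports {m : ℕ} (h : isCode m = true) :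
    fin m ∈ supports (golayCode : Set (GolayPt → ZMod 2)) :=
  ⟨word m, word_mem_of_isCode h, support_word m⟩

/-! ### weights -/

/-- check a predicate on all code words: run over the 2^12 sums of basis masks -/
def allWords (f : ℕ → Bool) : List ℕ → ℕ → Bool
  | [], acc => f acc
  | b :: l, acc => allWords f l acc && allWords f l (b ^^^ acc)

theorem allWords_encAux {f : ℕ → Bool} (m : ℕ) (l : List ℕ) (i acc : ℕ)
    (h : allWords f l acc = true) : f (encAux m l i ^^^ acc) = true := by
  induction l generalizing i acc with
  | nil => simpa [encAux, allWords] using h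
  | cons b l ih =>
    rw [allWords, Bool.and_eq_true] at h
    rw [encAux]
    split_ifs
    · rw [Nat.xor_comm b, Nat.xor_assoc]
      exact ih _ _ h.2
    · rw [Nat.zero_xor]
      exact ih _ _ h.1

/-- a predicate that holds for all sums of basis masks holds for all masks of code words -/
theorem forall_of_allWords {f : ℕ → Bool} (h : allWords f basisMasks 0 = true) {m : ℕ}
    (hm : isCode m = true) : f m = true := by
  rw [isCode, beq_iff_eq] at hm
  have := allWords_encAux m basisMasks 0 0 h
  rw [Nat.xor_zero] at this
  rwa [← hm]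

theorem min_weight {m : ℕ} (hm : isCode m = true) : m = 0 ∨ 8 ≤ popc m 24 := by
  have h : allWords (fun m => m == 0 || Nat.ble 8 (popc m 24)) basisMasks 0 = true := by
    decide +kernel
  have := forall_of_allWords h hm
  simpa using this

/-! ### permutations coded by tables: 5 bits per point -/

/-- entry `i` of the table `t` -/
def dig (t i : ℕ) : ℕ := (t >>> (5 * i)) % 32

/-- the map of points given by a table -/
def ap (t : ℕ) (p : GolayPt) : GolayPt := ofPos (dig t (pos p))

/-- all entries below `n` -/
def allB (f : ℕ → Bool) : ℕ → Bool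
  | 0 => true
  | n + 1 => f n && allB f n

theorem allB_iff {f : ℕ → Bool} {n : ℕ} : allB f n = true ↔ ∀ i < n, f i = true := by
  induction n with
  | zero => simp [allB]
  | succ n ih =>
    rw [allB, Bool.and_eq_true, ih]
    constructor
    · rintro ⟨h1, h2⟩ i hi
      rcases Nat.lt_succ_iff_lt_or_eq.mp hi with h | rfl
      · exact h2 i h
      · exact h1
    · intro h
      exact ⟨h n (Nat.lt_succ_self n), fun i hi => h i (Nat.lt_succ_of_lt hi)⟩

/-- OR of `2 ^ dig t i` over the bits `i < n` of `m` -/
def actAux (t m : ℕ) : ℕ → ℕ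
  | 0 => 0
  | n + 1 => (if m.testBit n then 1 <<< dig t n else 0) ||| actAux t m n

/-- the image of a mask under a table -/
def act (t m : ℕ) : ℕ := actAux t m 24

theorem testBit_actAux (t m n j : ℕ) :
    (actAux t m n).testBit j = true ↔ ∃ i < n, m.testBit i = true ∧ dig t i = j := by
  induction n with
  | zero => simp [actAux]
  | succ n ih =>
    rw [actAux, Nat.testBit_or, Bool.or_eq_true, ih]
    constructor
    · rintro (h | ⟨i, hi, h⟩)
      · split_ifs at h with h1
        · rw [Nat.one_shiftLeft, Nat.testBit_two_pow] at h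
          exact ⟨n, Nat.lt_succ_self n, h1, by simpa using h⟩
        · simp at h
      · exact ⟨i, Nat.lt_succ_of_lt hi, h⟩
    · rintro ⟨i, hi, h1, h2⟩
      rcases Nat.lt_succ_iff_lt_or_eq.mp hi with h | rfl
      · exact Or.inr ⟨i, h, h1, h2⟩
      · left
        rw [if_pos h1, Nat.one_shiftLeft, Nat.testBit_two_pow]
        simpa using h2

/-- the table is a permutation -/
def valid (t : ℕ) : Bool := act t (2 ^ 24 - 1) == 2 ^ 24 - 1

theorem dig_lt_of_valid {t : ℕ} (h : valid t = true) {i : ℕ} (hi : i < 24) : dig t i < 24 := by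
  by_contra hc
  have h1 : (act t (2 ^ 24 - 1)).testBit (dig t i) = true := by
    rw [act, testBit_actAux]
    refine ⟨i, hi, ?_, rfl⟩
    rw [Nat.testBit_two_pow_sub_one]
    simpa using hi
  rw [valid, beq_iff_eq] at h
  rw [h, Nat.testBit_two_pow_sub_one] at h1
  simp at h1
  omega

theorem pos_ap {t : ℕ} (h : valid t = true) (p : GolayPt) : pos (ap t p) = dig t (pos p) := by
  rw [ap, pos_ofPos (dig_lt_of_valid h (pos_lt p))]

theorem ap_bijective {t : ℕ} (h : valid t = true) : Function.Bijective (ap t) := by
  have hs : Function.Surjective (ap t) := by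
    intro q
    have h1 : (act t (2 ^ 24 - 1)).testBit (pos q) = true := by
      have h' := h
      rw [valid, beq_iff_eq] at h'
      rw [h', Nat.testBit_two_pow_sub_one]
      simpa using pos_lt q
    rw [act, testBit_actAux] at h1
    obtain ⟨i, hi, -, h2⟩ := h1
    refine ⟨ofPos i, ?_⟩
    rw [ap, pos_ofPos hi, h2, ofPos_pos]
  exact ⟨Finite.injective_iff_surjective.mpr hs, hs⟩

open Classical in
/-- the permutation coded by a table (identity when the table is not a permutation) -/
noncomputable def perm (t : ℕ) : Equiv.Perm GolayPt :=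
  if h : Function.Bijective (ap t) then Equiv.ofBijective (ap t) h else 1

theorem perm_apply {t : ℕ} (h : valid t = true) (p : GolayPt) : perm t p = ap t p := by
  rw [perm, dif_pos (ap_bijective h)]
  rfl

theorem pos_perm {t : ℕ} (h : valid t = true) (p : GolayPt) :
    pos (perm t p) = dig t (pos p) := by
  rw [perm_apply h, pos_ap h]

theorem act_lt {t : ℕ} (h : valid t = true) (m : ℕ) : act t m < 2 ^ 24 := by
  apply Nat.lt_pow_two_of_testBit
  intro j hj
  by_contra hc
  rw [Bool.not_eq_false, act, testBit_actAux] at hc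
  obtain ⟨i, hi, -, h2⟩ := hc
  have := dig_lt_of_valid h hi
  omega

theorem smul_fin {t : ℕ} (h : valid t = true) (m : ℕ) : perm t • fin m = fin (act t m) := by
  ext q
  rw [Finset.mem_smul_finset, mem_fin, act, testBit_actAux]
  constructor
  · rintro ⟨p, hp, rfl⟩
    refine ⟨pos p, pos_lt p, mem_fin.mp hp, ?_⟩
    rw [Equiv.Perm.smul_def, pos_perm h]
  · rintro ⟨i, hi, h1, h2⟩
    refine ⟨ofPos i, mem_fin.mpr (by rwa [pos_ofPos hi]), ?_⟩
    rw [Equiv.Perm.smul_def, perm_apply h, ap, pos_ofPos hi, h2, ofPos_pos]

/-- xor-linearity of the action on masks, through words -/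
theorem word_act {t : ℕ} (h : valid t = true) (m : ℕ) (p : GolayPt) :
    word (act t m) (perm t p) = word m p := by
  have h1 : (perm t p ∈ fin (act t m)) ↔ p ∈ fin m := by
    rw [← smul_fin h, ← Equiv.Perm.smul_def, Finset.smul_mem_smul_finset_iff]
  rw [mem_fin, mem_fin] at h1
  simp only [word, h1]

/-- the table maps the basis of the code into the code -/
def presCode (t : ℕ) : Bool := basisMasks.all fun b => isCode (act t b)

/-- good table: a permutation preserving the code -/
def good (t : ℕ) : Bool := valid t && presCode t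

theorem golayCode_eq_span : golayCode = Submodule.span (ZMod 2) {w | ∃ b ∈ basisMasks, w = word b} := by
  apply le_antisymm
  · intro w hw
    have h := isCode_of_mem hw
    rw [isCode, beq_iff_eq] at h
    rw [← word_wmask w, ← h]
    have key : ∀ (m : ℕ) (l : List ℕ), (∀ b ∈ l, b ∈ basisMasks) → ∀ i,
        word (encAux m l i) ∈ Submodule.span (ZMod 2) {w | ∃ b ∈ basisMasks, w = word b} := by
      intro m l
      induction l with
      | nil => intro _ i; rw [encAux, word_zero]; exact zero_mem _
      | cons b l ih =>
        intro hl i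
        rw [encAux, word_xor]
        apply add_mem
        · split_ifs
          · exact Submodule.subset_span ⟨b, hl b (by simp), rfl⟩
          · rw [word_zero]; exact zero_mem _
        · exact ih (fun m hm => hl m (by simp [hm])) _
    exact key _ _ (fun b hb => hb) _
  · rw [Submodule.span_le]
    rintro w ⟨b, hb, rfl⟩
    exact word_basis_mem b hb

theorem comp_mem_golay {σ : Equiv.Perm GolayPt}
    (h : ∀ b ∈ basisMasks, (fun p => word b (σ.symm p)) ∈ golayCode) {w : GolayPt → ZMod 2}
    (hw : w ∈ golayCode) : (fun p => w (σ.symm p)) ∈ golayCode := by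
  rw [golayCode_eq_span] at hw
  induction hw using Submodule.span_induction with
  | mem x hx => obtain ⟨b, hb, rfl⟩ := hx; exact h b hb
  | zero => exact zero_mem _
  | add x y _ _ hx hy => exact add_mem hx hy
  | smul a x _ hx => exact Submodule.smul_mem _ a hx

theorem support_comp (σ : Equiv.Perm GolayPt) (w : GolayPt → ZMod 2) :
    support₂ (fun p => w (σ.symm p)) = σ • support₂ w := by
  ext q
  rw [Finset.mem_smul_finset]
  simp only [support₂, Finset.mem_filter, Finset.mem_univ, true_and, Equiv.Perm.smul_def]
  constructor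
  · intro h
    exact ⟨σ.symm q, h, by simp⟩
  · rintro ⟨p, hp, rfl⟩
    simpa using hp

theorem mem_M24_of_basis {σ : Equiv.Perm GolayPt}
    (h : ∀ b ∈ basisMasks, (fun p => word b (σ.symm p)) ∈ golayCode) : σ ∈ M24 := by
  have h1 : σ • supports (golayCode : Set (GolayPt → ZMod 2)) ⊆
      supports (golayCode : Set (GolayPt → ZMod 2)) := by
    rintro _ ⟨_, ⟨w, hw, rfl⟩, rfl⟩
    exact ⟨_, comp_mem_golay h hw, support_comp σ w⟩
  rw [MulAction.mem_stabilizer_iff]
  apply Set.eq_of_subset_of_ncard_le h1
  · rw [Set.ncard_smul_set]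
  
theorem perm_mem_M24 {t : ℕ} (h : good t = true) : perm t ∈ M24 := by
  rw [good, Bool.and_eq_true, presCode, List.all_eq_true] at h
  apply mem_M24_of_basis
  intro b hb
  have : (fun p => word b ((perm t).symm p)) = word (act t b) := by
    funext p
    conv_rhs => rw [← Equiv.apply_symm_apply (perm t) p]
    rw [word_act h.1]
  rw [this]
  exact word_mem_of_isCode (h.2 b hb)

end Cfsg.Agent.SporadicStructure.M12Core
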