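/-
M24 is simply transitive on pairs (dodecad, ordered 5-tuple of distinct points of it).
-/
import Cfsg.Agent.SporadicStructure.M12Core

set_option autoImplicit false
open scoped Pointwise
open Cfsg

namespace Cfsg.Agent.SporadicStructure.DodecadM12

open Cfsg.Agent.SporadicStructure.M12Core

/-! ### data -/

/-- generators at level 0 of the stabiliser chain -/
def gens0 : List ℕ := [
   0xb82d5a4e5183dcd62d4941cc520c41, 0x5883388a1c8f5140b46cd317aed7]

/-- generators at level 1 of the stabiliser chain -/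
def gens1 : List ℕ := [
   0xb82d5a4e5183dcd62d4941cc520c41]

/-- generators at level 2 of the stabiliser chain -/
def gens2 : List ℕ := [
   0xb88ce3da6a849e36949142ea162680, 0xbc5c4a42623aec9684ac90d46aa1e0]

/-- generators at level 3 of the stabiliser chain -/
def gens3 : List ℕ := [
   0xba8677593045666a3c921456c69420, 0xbc0b41d6c6625ea234f21450b9b820]

/-- generators at level 4 of the stabiliser chain -/
def gens4 : List ℕ := [
   0xbba0824e915a8663b2556d92578820, 0xbbc8c68cc944d4572e5185ab438820]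

/-- the 48 elements of the pointwise stabiliser of the first five base points -/
def ktabs : List ℕ := [
   0xbdab49ca307b9ac5a928398a418820, 0xb9e086be3593a6952d94b10a618820,
   0xb99b28523343aaa4b16f258a718820, 0xbc92655a2c3b9706cea47d0a818820,
   0xba91094e346b9e63d8955b0a918820, 0xba64d4562f83a87312d362caa18820,
   0xbb1f3a4232ab916218ed4a8ab18820, 0xbae957b6289ba44b1cd0524ac18820,
   0xbc0ea332364b892451ebaccad18820, 0xbd17661a2a23933ac1a7448af18820,
   0xbb4c93ae2453ac893e8c9d4b018820, 0xba1474922b3398d85676a3cb218820,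
   0xbd6cb22627638cfa224a834b318820, 0xbbd8459e29b39559b606920b418820,
   0xbcc8cb2a265b8f47c9096c0b518820, 0xb926faa22da3a0b6255231cb618820,
   0xbc12ba18ad946c79b11553dc418820, 0xbd58a410b37c4f66a6905c9c618820,
   0xbcd69958b5a44c4829ed621c718820, 0xbb2ad350abb464f5408999dc818820,
   0xbd087830af9c54b91aa8b35c918820, 0xbbec66acb4ac52c41e72241ca18820,
   0xbc8e49a8a884589a59af355cb18820, 0xba0d6aa4b26c56a792143cdcc18820,
   0xbd9e854ca46461534967a25cd18820, 0xba9b5b48a93468864ceb811cf18820,
   0xb92924d4b65c5b33a1867a9d018820, 0xbae703bcac245144b6caa99d218820,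
   0xb9e545b4a64c6b023d56431d318820, 0xba613220aa3c5f25d4cc6d9d418820,
   0xb990f640a75466db512492dd518820, 0xbb54c79cb044486aae534d1d618820,
   0xbb5135bdd63160aa1ea964a2418820, 0xbce8d549c7216ab45a0c4be2618820,
   0xbd5f04a1c6b166c911ab5522718820, 0xbac8a69dd2a159333d3585a2818820,
   0xbbeb23b5ca6169682d0434e2918820, 0xbd268341c9595e46b2563d62a18820,
   0xba1b4255cc516469a5e7b422b18820, 0xbca0fb4dcb49507aaa862362c18820,
   0xb9166425d0996d4554ef9322d18820, 0xba4eca91d491550b216d99a2f18820,
   0xbd987929cda948f4ccd442e3018820, 0xbb2c9819c8795753d1536923218820,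
   0xb9944a31d5694e85c2d27a63318820, 0xba8cb9d9cf4152d24990a9e3418820,
   0xb9d367add3814d263488a2a3518820, 0xbc255651c4395a979a6a5a23618820]

/-- mask of the base dodecad -/
def d0 : ℕ := 0x80d3cf

/-- mask of the octad through the first five base points -/
def o0 : ℕ := 0x82402f

/-- rigidity certificate -/
def rcert : List (ℕ × ℕ × ℕ) := [
   (0x149f, 0x800c75, 10), (0x149f, 0x8081b3, 7), (0x149f, 0x149f, 12), (0x293e, 0xa4f8, 13),
   (0x293e, 0x20ab9, 11), (0x293e, 0x293e, 8), (0x46e3, 0x8dc6, 6), (0x46e3, 0x10f13, 9),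
   (0x46e3, 0x46e3, 14), (0x8dc6, 0x8dc6, 15), (0x10f13, 0x10f13, 16), (0x20ab9, 0x20ab9, 17),
   (0x401ed, 0x401ed, 18), (0x803da, 0x803da, 19), (0x1007b4, 0x1007b4, 20), (0x200f68,
   0x200f68, 21), (0x400a4f, 0x400a4f, 22)]

/-! ### code words, octads, uniqueness -/

theorem smul_mem_supports {σ : Equiv.Perm GolayPt} (hσ : σ ∈ M24) {s : Finset GolayPt}
    (hs : s ∈ supports (golayCode : Set (GolayPt → ZMod 2))) :
    σ • s ∈ supports (golayCode : Set (GolayPt → ZMod 2)) := by
  have h := MulAction.mem_stabilizer_iff.mp hσ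
  rw [← h]
  exact Set.smul_mem_smul_set hs

theorem card_smul_fin (σ : Equiv.Perm GolayPt) (s : Finset GolayPt) : (σ • s).card = s.card :=
  Finset.card_smul_finset σ s

theorem smul_mem_dodecads {σ : Equiv.Perm GolayPt} (hσ : σ ∈ M24) {s : Finset GolayPt}
    (hs : s ∈ dodecads) : σ • s ∈ dodecads :=
  ⟨smul_mem_supports hσ hs.1, by rw [card_smul_fin]; exact hs.2⟩

theorem smul_mem_octads {σ : Equiv.Perm GolayPt} (hσ : σ ∈ M24) {s : Finset GolayPt}
    (hs : s ∈ octads) : σ • s ∈ octads :=
  ⟨smul_mem_supports hσ hs.1, by rw [card_smul_fin]; exact hs.2⟩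

theorem fin_xor (m m' : ℕ) : fin (m ^^^ m') = (fin m \ fin m') ∪ (fin m' \ fin m) := by
  ext p
  simp only [mem_fin, Nat.testBit_xor, Finset.mem_union, Finset.mem_sdiff]
  cases m.testBit (pos p) <;> cases m'.testBit (pos p) <;> simp

theorem eq_of_inter_card {A B : Finset GolayPt}
    (hA : A ∈ supports (golayCode : Set (GolayPt → ZMod 2)))
    (hB : B ∈ supports (golayCode : Set (GolayPt → ZMod 2))) (hAc : A.card = 8)
    (hBc : B.card = 8) (h : 5 ≤ (A ∩ B).card) : A = B := by
  rw [mem_supports_iff] at hA hB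
  have h1 := min_weight (isCode_xor hA hB)
  rcases h1 with h1 | h1
  · rw [← fin_mask A, ← fin_mask B, Nat.xor_eq_zero_iff.mp h1]
  · exfalso
    rw [← card_fin, fin_xor, fin_mask, fin_mask] at h1
    have h2 := Finset.card_union_le (A \ B) (B \ A)
    have h3 := Finset.card_sdiff_add_card_inter A B
    have h4 := Finset.card_sdiff_add_card_inter B A
    rw [Finset.inter_comm] at h4
    omega

/-! ### pointwise stabilisers in M24 of lists of positions -/

/-- elements of M24 fixing the points at the given positions -/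
def FixL (pts : List ℕ) : Subgroup (Equiv.Perm GolayPt) where
  carrier := {g | g ∈ M24 ∧ ∀ j ∈ pts, g (ofPos j) = ofPos j}
  one_mem' := ⟨one_mem _, fun _ _ => rfl⟩
  mul_mem' := by
    rintro g h ⟨hg, hg'⟩ ⟨hh, hh'⟩
    refine ⟨mul_mem hg hh, fun j hj => ?_⟩
    rw [Equiv.Perm.mul_apply, hh' j hj, hg' j hj]
  inv_mem' := by
    rintro g ⟨hg, hg'⟩
    refine ⟨inv_mem hg, fun j hj => ?_⟩
    rw [Equiv.Perm.inv_eq_iff_eq]
    exact (hg' j hj).symm

theorem mem_FixL {pts : List ℕ} {g : Equiv.Perm GolayPt} :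
    g ∈ FixL pts ↔ g ∈ M24 ∧ ∀ j ∈ pts, g (ofPos j) = ofPos j := Iff.rfl

/-- the table codes an element of `FixL pts` -/
def goodFix (pts : List ℕ) (t : ℕ) : Bool :=
  good t && pts.all fun j => Nat.blt j 24 && dig t j == j

theorem valid_of_good {t : ℕ} (h : good t = true) : valid t = true := by
  rw [good, Bool.and_eq_true] at h
  exact h.1

theorem perm_mem_FixL {pts : List ℕ} {t : ℕ} (h : goodFix pts t = true) :
    perm t ∈ FixL pts := by
  rw [goodFix, Bool.and_eq_true, List.all_eq_true] at h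
  refine ⟨perm_mem_M24 h.1, fun j hj => ?_⟩
  have h2 := h.2 j hj
  rw [Bool.and_eq_true, beq_iff_eq] at h2
  have h3 : j < 24 := by simpa using h2.1
  rw [perm_apply (valid_of_good h.1), ap, pos_ofPos h3, h2.2]

/-- closure of a mask under the tables, `n` rounds -/
def reach (l : List ℕ) : ℕ → ℕ → ℕ
  | 0, m => m
  | n + 1, m => reach l n (l.foldr (fun t acc => act t m ||| acc) m)

theorem reach_sound {H : Subgroup (Equiv.Perm GolayPt)} {l : List ℕ}
    (hl : ∀ t ∈ l, valid t = true ∧ perm t ∈ H) (x : GolayPt) (n m : ℕ)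
    (hm : ∀ p ∈ fin m, ∃ g ∈ H, g x = p) : ∀ p ∈ fin (reach l n m), ∃ g ∈ H, g x = p := by
  induction n generalizing m with
  | zero => exact hm
  | succ n ih =>
    rw [reach]
    apply ih
    have key : ∀ l' : List ℕ, (∀ t ∈ l', t ∈ l) →
        ∀ p ∈ fin (l'.foldr (fun t acc => act t m ||| acc) m), ∃ g ∈ H, g x = p := by
      intro l'
      induction l' with
      | nil => intro _; exact hm
      | cons t l' ih' =>
        intro hl' p hp
        rw [List.foldr_cons, fin_or, Finset.mem_union] at hp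
        rcases hp with hp | hp
        · have ht := hl t (hl' t (by simp))
          rw [← smul_fin ht.1, Finset.mem_smul_finset] at hp
          obtain ⟨q, hq, rfl⟩ := hp
          obtain ⟨g, hg, rfl⟩ := hm q hq
          exact ⟨perm t * g, mul_mem ht.2 hg, rfl⟩
        · exact ih' (fun t ht => hl' t (by simp [ht])) p hp
    exact key l (fun t ht => ht)

/-- OR of the bits of a list of positions -/
def bits : List ℕ → ℕ
  | [] => 0
  | a :: l => 1 <<< a ||| bits l

theorem mem_fin_bits {l : List ℕ} {p : GolayPt} : p ∈ fin (bits l) ↔ pos p ∈ l := by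
  induction l with
  | nil => simp [bits, mem_fin]
  | cons a l ih =>
    rw [bits, fin_or, Finset.mem_union, ih, mem_fin, Nat.one_shiftLeft, Nat.testBit_two_pow,
      List.mem_cons]
    simp [eq_comm]

/-- check: the tables fix `pts` and move position `x` to every position outside `pts` -/
def levelOK (pts : List ℕ) (x : ℕ) (l : List ℕ) (n : ℕ) : Bool :=
  Nat.blt x 24 && l.all (goodFix pts) && (bits pts ||| reach l n (1 <<< x)) == 2 ^ 24 - 1

theorem level_trans {pts : List ℕ} {x : ℕ} {l : List ℕ} {n : ℕ}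
    (h : levelOK pts x l n = true) (q : GolayPt) (hq : pos q ∉ pts) :
    ∃ g ∈ FixL pts, g (ofPos x) = q := by
  rw [levelOK, Bool.and_eq_true, Bool.and_eq_true, List.all_eq_true, beq_iff_eq] at h
  obtain ⟨⟨h0, h1⟩, h2⟩ := h
  have hx : x < 24 := by simpa using h0
  have h3 : q ∈ fin (bits pts ||| reach l n (1 <<< x)) := by
    rw [h2, mem_fin, Nat.testBit_two_pow_sub_one]
    simpa using pos_lt q
  rw [fin_or, Finset.mem_union, mem_fin_bits] at h3
  rcases h3 with h3 | h3
  · exact absurd h3 hq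
  · refine reach_sound (fun t ht => ⟨?_, perm_mem_FixL (h1 t ht)⟩) (ofPos x) n (1 <<< x) ?_ q h3
    · have := h1 t ht
      rw [goodFix, Bool.and_eq_true] at this
      exact valid_of_good this.1
    · intro p hp
      rw [mem_fin, Nat.one_shiftLeft, Nat.testBit_two_pow, decide_eq_true_eq] at hp
      exact ⟨1, one_mem _, by rw [hp, ofPos_pos]; rfl⟩

theorem level_step {pts : List ℕ} {x : ℕ} {l : List ℕ} {n : ℕ}
    (h : levelOK pts x l n = true) {g : Equiv.Perm GolayPt} (hg : g ∈ M24) (q : GolayPt)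
    (hq : ∀ j ∈ pts, g (ofPos j) ≠ q) :
    ∃ g' ∈ M24, (∀ j ∈ pts, g' (ofPos j) = g (ofPos j)) ∧ g' (ofPos x) = q := by
  obtain ⟨k, hk, hkx⟩ := level_trans h (g⁻¹ q) (fun hc => by
    apply hq _ hc
    rw [ofPos_pos]
    simp)
  refine ⟨g * k, mul_mem hg hk.1, fun j hj => ?_, ?_⟩
  · rw [Equiv.Perm.mul_apply, hk.2 j hj]
  · rw [Equiv.Perm.mul_apply, hkx]
    simp

/-- the base positions -/
def baseL : List ℕ := [23, 0, 1, 2, 3]

theorem level0 : levelOK [] 23 gens0 9 = true := by decide +kernel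
theorem level1 : levelOK [23] 0 gens1 22 = true := by decide +kernel
theorem level2 : levelOK [23, 0] 1 gens2 6 = true := by decide +kernel
theorem level3 : levelOK [23, 0, 1] 2 gens3 6 = true := by decide +kernel
theorem level4 : levelOK [23, 0, 1, 2] 3 gens4 6 = true := by decide +kernel

/-- the five base points -/
def base : Fin 5 → GolayPt := ![ofPos 23, ofPos 0, ofPos 1, ofPos 2, ofPos 3]

/-- M24 is 5-transitive: base version -/
theorem exists_map_base (a : Fin 5 → GolayPt) (ha : Function.Injective a) :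
    ∃ g ∈ M24, ∀ i, g (base i) = a i := by
  have hne : ∀ i j : Fin 5, i ≠ j → a i ≠ a j := fun i j h h' => h (ha h')
  obtain ⟨g0, hg0, -, h0⟩ := level_step level0 (one_mem M24) (a 0) (by simp)
  obtain ⟨g1, hg1, k1, h1⟩ := level_step level1 hg0 (a 1) (by
    simp only [List.mem_singleton, forall_eq, h0]; exact hne 0 1 (by decide))
  simp only [List.mem_singleton, forall_eq, h0] at k1
  obtain ⟨g2, hg2, k2, h2⟩ := level_step level2 hg1 (a 2) (by
    simp only [List.mem_cons, List.not_mem_nil, or_false, forall_eq_or_imp, forall_eq, k1, h1]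
    exact ⟨hne 0 2 (by decide), hne 1 2 (by decide)⟩)
  simp only [List.mem_cons, List.not_mem_nil, or_false, forall_eq_or_imp, forall_eq, k1, h1] at k2
  obtain ⟨g3, hg3, k3, h3⟩ := level_step level3 hg2 (a 3) (by
    simp only [List.mem_cons, List.not_mem_nil, or_false, forall_eq_or_imp, forall_eq, k2.1, k2.2,
      h2]
    exact ⟨hne 0 3 (by decide), hne 1 3 (by decide), hne 2 3 (by decide)⟩)
  simp only [List.mem_cons, List.not_mem_nil, or_false, forall_eq_or_imp, forall_eq, k2.1, k2.2,
    h2] at k3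
  obtain ⟨g4, hg4, k4, h4⟩ := level_step level4 hg3 (a 4) (by
    simp only [List.mem_cons, List.not_mem_nil, or_false, forall_eq_or_imp, forall_eq, k3.1,
      k3.2.1, k3.2.2, h3]
    exact ⟨hne 0 4 (by decide), hne 1 4 (by decide), hne 2 4 (by decide), hne 3 4 (by decide)⟩)
  simp only [List.mem_cons, List.not_mem_nil, or_false, forall_eq_or_imp, forall_eq, k3.1,
      k3.2.1, k3.2.2, h3] at k4
  refine ⟨g4, hg4, fun i => ?_⟩
  fin_cases i
  · exact k4.1
  · exact k4.2.1
  · exact k4.2.2.1
  · exact k4.2.2.2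
  · exact h4

/-! ### rigidity -/

/-- `F` is the mask of a set of fixed points; each step adds a fixed point -/
def rigidB : List (ℕ × ℕ × ℕ) → ℕ → Bool
  | [], F => F == 2 ^ 24 - 1
  | (a, b, x) :: l, F =>
    isCode a && popc a 24 == 8 && isCode b && popc b 24 == 8 && Nat.ble 5 (popc (a &&& F) 24) &&
      Nat.ble 5 (popc (b &&& F) 24) && ((a &&& b) ||| F) == ((1 <<< x) ||| F) &&
      (a &&& b).testBit x && Nat.blt x 24 && rigidB l ((1 <<< x) ||| F)

theorem smul_fin_eq_of_fix {σ : Equiv.Perm GolayPt} (hσ : σ ∈ M24) {F a : ℕ}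
    (hF : ∀ p ∈ fin F, σ p = p) (ha : isCode a = true) (hac : popc a 24 = 8)
    (h : 5 ≤ popc (a &&& F) 24) : σ • fin a = fin a := by
  rw [← card_fin] at h hac
  apply eq_of_inter_card (smul_mem_supports hσ (fin_mem_supports ha)) (fin_mem_supports ha)
    (by rw [card_smul_fin, hac]) hac
  refine h.trans (Finset.card_le_card ?_)
  rw [fin_and]
  intro p hp
  rw [Finset.mem_inter] at hp
  rw [Finset.mem_inter]
  refine ⟨?_, hp.1⟩
  rw [Finset.mem_smul_finset]
  exact ⟨p, hp.1, hF p hp.2⟩

theorem rigid_sound {σ : Equiv.Perm GolayPt} (hσ : σ ∈ M24) (l : List (ℕ × ℕ × ℕ)) (F : ℕ)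
    (h : rigidB l F = true) (hF : ∀ p ∈ fin F, σ p = p) : σ = 1 := by
  induction l generalizing F with
  | nil =>
    rw [rigidB, beq_iff_eq] at h
    ext p : 1
    apply hF
    rw [h, mem_fin, Nat.testBit_two_pow_sub_one]
    simpa using pos_lt p
  | cons c l ih =>
    obtain ⟨a, b, x⟩ := c
    simp only [rigidB, Bool.and_eq_true, beq_iff_eq] at h
    obtain ⟨⟨⟨⟨⟨⟨⟨⟨⟨h1, h2⟩, h3⟩, h4⟩, h5⟩, h6⟩, h7⟩, h8⟩, h9⟩, h10⟩ := h
    have h5' : 5 ≤ popc (a &&& F) 24 := by simpa using h5
    have h6' : 5 ≤ popc (b &&& F) 24 := by simpa using h6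
    have hx : x < 24 := by simpa using h9
    apply ih _ h10
    intro p hp
    rw [fin_or, Finset.mem_union] at hp
    rcases hp with hp | hp
    · rw [mem_fin, Nat.one_shiftLeft, Nat.testBit_two_pow, decide_eq_true_eq] at hp
      have hfa := smul_fin_eq_of_fix hσ hF h1 h2 h5'
      have hfb := smul_fin_eq_of_fix hσ hF h3 h4 h6'
      have hpab : p ∈ fin (a &&& b) := by rw [mem_fin, ← hp]; exact h8
      rw [fin_and, Finset.mem_inter] at hpab
      have h11 : σ p ∈ fin (a &&& b) := by
        rw [fin_and, Finset.mem_inter, ← hfa, ← hfb]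
        rw [← Equiv.Perm.smul_def, Finset.smul_mem_smul_finset_iff,
          Finset.smul_mem_smul_finset_iff]
        exact hpab
      have h12 : σ p ∈ fin ((a &&& b) ||| F) := by
        rw [fin_or, Finset.mem_union]; exact Or.inl h11
      rw [h7, fin_or, Finset.mem_union] at h12
      rcases h12 with h12 | h12
      · rw [mem_fin, Nat.one_shiftLeft, Nat.testBit_two_pow, decide_eq_true_eq] at h12
        exact pos_injective (h12.symm.trans hp)
      · exact σ.injective (hF _ h12)
    · exact hF p hp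

/-- an element of M24 fixing the seven base points is trivial -/
theorem eq_one_of_fix_base7 {σ : Equiv.Perm GolayPt} (hσ : σ ∈ FixL [23, 0, 1, 2, 3, 5, 4]) :
    σ = 1 := by
  refine rigid_sound hσ.1 rcert (bits [23, 0, 1, 2, 3, 5, 4]) (by decide +kernel) ?_
  intro p hp
  rw [mem_fin_bits] at hp
  have := hσ.2 _ hp
  rwa [ofPos_pos] at this

/-! ### the 48 elements fixing the five base points -/

theorem ktabs_good : ktabs.all (goodFix baseL) = true := by decide +kernel

theorem ktabs_valid {t : ℕ} (ht : t ∈ ktabs) : valid t = true := by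
  have := List.all_eq_true.mp ktabs_good t ht
  rw [goodFix, Bool.and_eq_true] at this
  exact valid_of_good this.1

theorem ktabs_mem {t : ℕ} (ht : t ∈ ktabs) : perm t ∈ FixL baseL :=
  perm_mem_FixL (List.all_eq_true.mp ktabs_good t ht)

theorem ktabs_cover : allB (fun a => allB (fun b => !(o0.testBit a) || o0.testBit b ||
    baseL.contains a || ktabs.any fun t => dig t 5 == a && dig t 4 == b) 24) 24 = true := by
  decide +kernel

theorem exists_ktab {σ : Equiv.Perm GolayPt} (hσ : σ ∈ FixL baseL) :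
    ∃ t ∈ ktabs, σ = perm t := by
  have hF : ∀ p ∈ fin (bits baseL), σ p = p := by
    intro p hp
    rw [mem_fin_bits] at hp
    have := hσ.2 _ hp
    rwa [ofPos_pos] at this
  have hO : σ • fin o0 = fin o0 :=
    smul_fin_eq_of_fix hσ.1 hF (by decide +kernel) (by decide +kernel) (by decide +kernel)
  have h5 : σ (ofPos 5) ∈ fin o0 := by
    rw [← hO, ← Equiv.Perm.smul_def, Finset.smul_mem_smul_finset_iff]
    decide +kernel
  have h4 : σ (ofPos 4) ∉ fin o0 := by
    rw [← hO, ← Equiv.Perm.smul_def, Finset.smul_mem_smul_finset_iff]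
    decide +kernel
  have h5' : pos (σ (ofPos 5)) ∉ baseL := by
    intro hc
    have h := hσ.2 _ hc
    rw [ofPos_pos] at h
    have h' := σ.injective h
    rw [h'] at hc
    revert hc
    decide +kernel
  have hc := allB_iff.mp ktabs_cover _ (pos_lt (σ (ofPos 5)))
  have hc := allB_iff.mp hc _ (pos_lt (σ (ofPos 4)))
  rw [mem_fin] at h5 h4
  simp only [h5, h4, Bool.not_true, Bool.false_or, Bool.or_eq_true, List.contains_iff_mem, h5',
    false_or, List.any_eq_true, Bool.and_eq_true, beq_iff_eq] at hc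
  obtain ⟨t, ht, ht5, ht4⟩ := hc
  refine ⟨t, ht, ?_⟩
  have hv := ktabs_valid ht
  have e5 : perm t (ofPos 5) = σ (ofPos 5) := by
    apply pos_injective
    rw [pos_perm hv, pos_ofPos (by norm_num), ht5]
  have e4 : perm t (ofPos 4) = σ (ofPos 4) := by
    apply pos_injective
    rw [pos_perm hv, pos_ofPos (by norm_num), ht4]
  have h1 : (perm t)⁻¹ * σ = 1 := by
    have hk := (FixL baseL).mul_mem ((FixL baseL).inv_mem (ktabs_mem ht)) hσ
    apply eq_one_of_fix_base7
    refine ⟨hk.1, ?_⟩
    intro j hj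
    have hb := hk.2
    simp only [baseL, List.mem_cons, List.not_mem_nil, or_false, forall_eq_or_imp, forall_eq] at hb
    simp only [List.mem_cons, List.not_mem_nil, or_false] at hj
    rcases hj with rfl | rfl | rfl | rfl | rfl | rfl | rfl
    · exact hb.1
    · exact hb.2.1
    · exact hb.2.2.1
    · exact hb.2.2.2.1
    · exact hb.2.2.2.2
    · rw [Equiv.Perm.mul_apply, Equiv.Perm.inv_eq_iff_eq, e5]
    · rw [Equiv.Perm.mul_apply, Equiv.Perm.inv_eq_iff_eq, e4]
  exact (inv_mul_eq_one.mp h1).symm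

/-! ### the 48 dodecads through the five base points -/

theorem dodecads_cover : allWords (fun m => !(m &&& bits baseL == bits baseL) ||
    !(popc m 24 == 12) || ktabs.any fun t => act t d0 == m) basisMasks 0 = true := by
  decide +kernel

/-- the base dodecad -/
def D0 : Finset GolayPt := fin d0

theorem D0_mem : D0 ∈ dodecads :=
  ⟨fin_mem_supports (by decide +kernel), by rw [D0, card_fin]; decide +kernel⟩

theorem exists_ktab_dodecad {d : Finset GolayPt} (hd : d ∈ dodecads)
    (hb : ∀ j ∈ baseL, ofPos j ∈ d) : ∃ t ∈ ktabs, perm t • D0 = d := by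
  have h1 := (mem_supports_iff d).mp hd.1
  have h2 := forall_of_allWords dodecads_cover h1
  have h3 : popc (mask d) 24 = 12 := by rw [← card_fin, fin_mask]; exact hd.2
  have h4 : mask d &&& bits baseL = bits baseL := by
    have : fin (mask d &&& bits baseL) = fin (bits baseL) := by
      rw [fin_and, fin_mask, Finset.inter_eq_right]
      intro p hp
      rw [mem_fin_bits] at hp
      have := hb _ hp
      rwa [ofPos_pos] at this
    exact fin_injective (lt_of_le_of_lt Nat.and_le_left (mask_lt d)) (by decide +kernel) this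
  simp only [h3, h4, beq_self_eq_true, Bool.not_true, Bool.false_or, List.any_eq_true,
    beq_iff_eq] at h2
  obtain ⟨t, ht, h5⟩ := h2
  refine ⟨t, ht, ?_⟩
  rw [D0, smul_fin (ktabs_valid ht), h5, fin_mask]

theorem exists_map_D0 {d : Finset GolayPt} (hd : d ∈ dodecads) (a : Fin 5 → GolayPt)
    (ha : Function.Injective a) (had : ∀ i, a i ∈ d) :
    ∃ g ∈ M24, g • D0 = d ∧ ∀ i, g (base i) = a i := by
  obtain ⟨g, hg, hga⟩ := exists_map_base a ha
  have h1 : g⁻¹ • d ∈ dodecads := smul_mem_dodecads (inv_mem hg) hd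
  have h2 : ∀ i : Fin 5, base i ∈ g⁻¹ • d := by
    intro i
    rw [Finset.mem_inv_smul_finset_iff, Equiv.Perm.smul_def, hga]
    exact had i
  obtain ⟨t, ht, h3⟩ := exists_ktab_dodecad h1 (by
    intro j hj
    simp only [baseL, List.mem_cons, List.not_mem_nil, or_false] at hj
    rcases hj with rfl | rfl | rfl | rfl | rfl
    · exact h2 0
    · exact h2 1
    · exact h2 2
    · exact h2 3
    · exact h2 4)
  have hk := ktabs_mem ht
  refine ⟨g * perm t, mul_mem hg hk.1, ?_, fun i => ?_⟩
  · rw [mul_smul, h3, smul_inv_smul]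
  · have : perm t (base i) = base i := by
      have hb := hk.2
      simp only [baseL, List.mem_cons, List.not_mem_nil, or_false, forall_eq_or_imp,
        forall_eq] at hb
      fin_cases i
      · exact hb.1
      · exact hb.2.1
      · exact hb.2.2.1
      · exact hb.2.2.2.1
      · exact hb.2.2.2.2
    rw [Equiv.Perm.mul_apply, this, hga]

theorem ktabs_unique : ktabs.all (fun t => !(act t d0 == d0) || allB (fun i => dig t i == i) 24)
    = true := by decide +kernel

theorem eq_one_of_fix_D0 {σ : Equiv.Perm GolayPt} (hσ : σ ∈ M24) (hd : σ • D0 = D0)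
    (hb : ∀ i, σ (base i) = base i) : σ = 1 := by
  obtain ⟨t, ht, rfl⟩ := exists_ktab (σ := σ) ⟨hσ, by
    intro j hj
    simp only [baseL, List.mem_cons, List.not_mem_nil, or_false] at hj
    rcases hj with rfl | rfl | rfl | rfl | rfl
    · exact hb 0
    · exact hb 1
    · exact hb 2
    · exact hb 3
    · exact hb 4⟩
  have hv := ktabs_valid ht
  have h1 := List.all_eq_true.mp ktabs_unique t ht
  rw [D0, smul_fin hv] at hd
  have h2 := fin_injective (act_lt hv d0) (by decide +kernel) hd
  simp only [h2, beq_self_eq_true, Bool.not_true, Bool.false_or] at h1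
  rw [allB_iff] at h1
  ext p : 1
  apply pos_injective
  rw [pos_perm hv]
  simpa using h1 _ (pos_lt p)

/-- M24 is simply transitive on the pairs (dodecad, ordered 5-tuple of distinct points of it) -/
theorem exists_unique_dodecad_map (d e : Finset GolayPt) (hd : d ∈ dodecads) (he : e ∈ dodecads)
    (a b : Fin 5 → GolayPt) (ha : Function.Injective a) (hb : Function.Injective b)
    (had : ∀ i, a i ∈ d) (hbe : ∀ i, b i ∈ e) :
    ∃! g : Equiv.Perm GolayPt, g ∈ M24 ∧ g • d = e ∧ ∀ i, g (a i) = b i := by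
  obtain ⟨g, hg, hgd, hga⟩ := exists_map_D0 hd a ha had
  obtain ⟨h, hh, hhe, hhb⟩ := exists_map_D0 he b hb hbe
  refine ⟨h * g⁻¹, ⟨mul_mem hh (inv_mem hg), ?_, fun i => ?_⟩, ?_⟩
  · rw [mul_smul, ← hgd, inv_smul_smul, hhe]
  · have h1 : g⁻¹ (a i) = base i := by rw [Equiv.Perm.inv_eq_iff_eq, hga]
    rw [Equiv.Perm.mul_apply, h1, hhb]
  · rintro k ⟨hk, hkd, hka⟩
    have h1 : h⁻¹ * k * g = 1 := by
      apply eq_one_of_fix_D0 (mul_mem (mul_mem (inv_mem hh) hk) hg)
      · rw [mul_smul, mul_smul, hgd, hkd, ← hhe, inv_smul_smul]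
      · intro i
        rw [Equiv.Perm.mul_apply, Equiv.Perm.mul_apply, hga, hka, Equiv.Perm.inv_eq_iff_eq, hhb]
    have h2 : k = h * (h⁻¹ * k * g) * g⁻¹ := by group
    rw [h2, h1, mul_one]

end Cfsg.Agent.SporadicStructure.DodecadM12
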