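import Mathlib
import Cfsg.Prelude.Def_Sporadic_a

/-!
Three explicit permutations of the 24 points lying in `M24`, preserving the dodecad of squares and
fixing the point `0`; they generate the centraliser of an involution of `M11`.
-/

set_option autoImplicit false

namespace Cfsg.Agent.SporadicStructure.M11InvPerms

open scoped Pointwise
open Cfsg

/-- the squares modulo 23 as a bitmask -/
def sqMask : ℕ := 0b1010011001101011111

/-- a quickly computable version of `qrWord` -/
def q (t : ZMod 23) : GolayPt → ZMod 2
  | none => 0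
  | some x => if sqMask.testBit (x - t).val = true then 1 else 0

set_option maxRecDepth 100000 in
theorem q_aux : ∀ t x : ZMod 23, (∃ r : ZMod 23, x = r ^ 2 + t) ↔
    sqMask.testBit (x - t).val = true := by
  decide +kernel

theorem qrWord_eq (t : ZMod 23) : qrWord t = q t := by
  funext p
  cases p with
  | none => rfl
  | some x =>
    show (if ∃ r : ZMod 23, x = r ^ 2 + t then (1 : ZMod 2) else 0) =
      if sqMask.testBit (x - t).val = true then 1 else 0
    simp only [q_aux t x]

theorem q_mem (t : ZMod 23) : q t ∈ golayCode := by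
  rw [← qrWord_eq]
  exact Submodule.subset_span (Or.inl ⟨t, rfl⟩)

theorem one_mem : (1 : GolayPt → ZMod 2) ∈ golayCode :=
  Submodule.subset_span (Or.inr rfl)

/-- a combination of the first 11 words and the all-one word, given by the bits of `c` -/
def comb (c : ℕ) : GolayPt → ZMod 2 :=
  ((List.range 11).map fun i => if c.testBit i = true then q (i : ZMod 23) else 0).sum +
    (if c.testBit 11 = true then 1 else 0)

theorem comb_mem (c : ℕ) : comb c ∈ golayCode := by
  unfold comb
  apply Submodule.add_mem
  · apply list_sum_mem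
    intro x hx
    simp only [List.mem_map] at hx
    obtain ⟨i, -, rfl⟩ := hx
    split_ifs
    · exact q_mem _
    · exact Submodule.zero_mem _
  · split_ifs
    · exact one_mem
    · exact Submodule.zero_mem _

/-- decode an index -/
def dec (n : ℕ) : GolayPt := if n = 23 then none else some (n : ZMod 23)

/-- encode a point -/
def enc : GolayPt → ℕ
  | none => 23
  | some x => x.val

/-- function given by a table -/
def tabFun (f : List ℕ) (p : GolayPt) : GolayPt := dec (f.getD (enc p) 0)

/-- the action of a permutation on words -/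
def act (σ : Equiv.Perm GolayPt) : (GolayPt → ZMod 2) ≃ₗ[ZMod 2] (GolayPt → ZMod 2) :=
  LinearEquiv.funCongrLeft (ZMod 2) (ZMod 2) σ.symm

theorem act_apply (σ : Equiv.Perm GolayPt) (w : GolayPt → ZMod 2) (p : GolayPt) :
    act σ w p = w (σ.symm p) := rfl

theorem mem_support (w : GolayPt → ZMod 2) (p : GolayPt) : p ∈ support₂ w ↔ w p ≠ 0 :=
  ⟨fun h => (Finset.mem_filter.mp h).2, fun h => Finset.mem_filter.mpr ⟨Finset.mem_univ _, h⟩⟩

theorem smul_support (σ : Equiv.Perm GolayPt) (w : GolayPt → ZMod 2) :
    σ • support₂ w = support₂ (act σ w) := by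
  ext p
  rw [← Finset.inv_smul_mem_iff, mem_support, mem_support, act_apply]
  rfl

theorem mem_M24_of_map (σ : Equiv.Perm GolayPt) (h : golayCode.map (act σ).toLinearMap ≤ golayCode) :
    σ ∈ M24 := by
  have heq : golayCode.map (act σ).toLinearMap = golayCode :=
    Submodule.eq_of_le_of_finrank_eq h (LinearEquiv.finrank_map_eq (act σ) golayCode)
  show σ • supports (golayCode : Set (GolayPt → ZMod 2)) = supports (golayCode : Set (GolayPt → ZMod 2))
  ext s
  constructor
  · rintro ⟨t, ⟨w, hw, rfl⟩, rfl⟩
    refine ⟨act σ w, ?_, (smul_support σ w).symm⟩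
    exact h (Submodule.mem_map_of_mem hw)
  · rintro ⟨w, hw, rfl⟩
    have hw' : w ∈ golayCode.map (act σ).toLinearMap := by rw [heq]; exact hw
    obtain ⟨v, hv, rfl⟩ := hw'
    exact ⟨support₂ v, ⟨v, hv, rfl⟩, smul_support σ v⟩

theorem mem_M24_of_cert (σ : Equiv.Perm GolayPt) (c : ZMod 23 → ℕ)
    (h : ∀ t : ZMod 23, ∀ p : GolayPt, q t (σ.symm p) = comb (c t) p) : σ ∈ M24 := by
  apply mem_M24_of_map
  unfold golayCode
  rw [Submodule.map_span, Submodule.span_le]
  rintro _ ⟨w, hw, rfl⟩
  rcases hw with ⟨t, rfl⟩ | hw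
  · have : act σ (qrWord t) = comb (c t) := by
      rw [qrWord_eq]
      funext p
      exact h t p
    show act σ (qrWord t) ∈ golayCode
    rw [this]
    exact comb_mem _
  · rw [Set.mem_singleton_iff] at hw
    subst hw
    have : act σ 1 = 1 := by
      funext p
      rfl
    show act σ 1 ∈ golayCode
    rw [this]
    exact one_mem

/-- table of `pT` -/
def tT : List ℕ := [0, 16, 2, 9, 4, 17, 18, 15, 3, 8, 7, 20, 6, 1, 11, 10, 13, 19, 12, 5, 14, 21, 22, 23]
/-- table of the inverse of `pT` -/
def tTi : List ℕ := [0, 13, 2, 8, 4, 19, 12, 10, 9, 3, 15, 14, 18, 16, 20, 7, 1, 5, 6, 17, 11, 21, 22, 23]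
/-- certificate for `pT` -/
def cT : List ℕ := [1, 127, 168, 1957, 199, 431, 1527, 1335, 1126, 518, 1147, 791, 10, 1869, 1395, 847, 1613, 2015, 1320, 206, 804, 1407, 1155]
/-- table of `pW` -/
def tW : List ℕ := [0, 1, 3, 2, 12, 5, 6, 7, 18, 9, 10, 22, 4, 16, 14, 21, 13, 23, 8, 20, 19, 15, 11, 17]
/-- certificate for `pW` -/
def cW : List ℕ := [1, 3768, 155, 1996, 2934, 3589, 223, 519, 3389, 3746, 1560, 3270, 2014, 2569, 3811, 2822, 3385, 2255, 311, 1212, 337, 146, 3720]
/-- table of `pX` -/
def tX : List ℕ := [0, 1, 4, 12, 2, 14, 9, 7, 18, 6, 10, 17, 3, 13, 5, 15, 16, 11, 8, 20, 19, 21, 23, 22]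
/-- certificate for `pX` -/
def cX : List ℕ := [1, 1783, 1777, 921, 3602, 32, 2735, 1133, 1660, 3987, 3942, 1927, 2014, 3949, 3292, 1581, 2412, 2011, 3858, 2984, 3194, 3027, 3462]

/-- the transvection -/
def pT : Equiv.Perm GolayPt where
  toFun := tabFun tT
  invFun := tabFun tTi
  left_inv := by unfold Function.LeftInverse; decide +kernel
  right_inv := by unfold Function.RightInverse Function.LeftInverse; decide +kernel

/-- the swap -/
def pW : Equiv.Perm GolayPt where
  toFun := tabFun tW
  invFun := tabFun tW
  left_inv := by unfold Function.LeftInverse; decide +kernel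
  right_inv := by unfold Function.RightInverse Function.LeftInverse; decide +kernel

/-- the involution -/
def pX : Equiv.Perm GolayPt where
  toFun := tabFun tX
  invFun := tabFun tX
  left_inv := by unfold Function.LeftInverse; decide +kernel
  right_inv := by unfold Function.RightInverse Function.LeftInverse; decide +kernel

set_option maxRecDepth 100000 in
theorem pT_mem : pT ∈ M24 := mem_M24_of_cert pT (fun t => cT.getD t.val 0) (by decide +kernel)

set_option maxRecDepth 100000 in
theorem pW_mem : pW ∈ M24 := mem_M24_of_cert pW (fun t => cW.getD t.val 0) (by decide +kernel)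

set_option maxRecDepth 100000 in
theorem pX_mem : pX ∈ M24 := mem_M24_of_cert pX (fun t => cX.getD t.val 0) (by decide +kernel)

/-- the dodecad of squares -/
def dd : Finset GolayPt := support₂ (q 0)

theorem dd_mem : dd ∈ dodecads := ⟨⟨q 0, q_mem 0, rfl⟩, by decide +kernel⟩

theorem pT_dd : ∀ p ∈ dd, pT p ∈ dd := by decide +kernel
theorem pW_dd : ∀ p ∈ dd, pW p ∈ dd := by decide +kernel
theorem pX_dd : ∀ p ∈ dd, pX p ∈ dd := by decide +kernel
theorem pT_zero : pT (some 0) = some 0 := by decide +kernel
theorem pW_zero : pW (some 0) = some 0 := by decide +kernel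
theorem pX_zero : pX (some 0) = some 0 := by decide +kernel

end Cfsg.Agent.SporadicStructure.M11InvPerms
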