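import Cfsg.Agent.SporadicStructure.M11InvCore
import Cfsg.Agent.SporadicStructure.M11InvPerms

/-!
Involution centralisers in `M11` are `GL(2,3)`, assuming that dodecad stabilisers are sharply
5-transitive and that `M24` is transitive on dodecads.
-/

set_option autoImplicit false

namespace Cfsg.Agent.SporadicStructure.M11InvMain

open scoped Pointwise
open Cfsg Matrix
open Cfsg.Agent.SporadicStructure.M11InvCore Cfsg.Agent.SporadicStructure.M11InvPerms

/-- sharp 5-transitivity of the dodecad stabilisers (this is S0384) -/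
def Sharp : Prop := ∀ (d : Finset Cfsg.GolayPt) (_ : d ∈ Cfsg.dodecads) (x y : Fin 5 ↪ Cfsg.GolayPt)
  (_ : ∀ i, x i ∈ d) (_ : ∀ i, y i ∈ d),
  ∃! g : MulAction.stabilizer Cfsg.M24 d, ∀ i, ((g : Cfsg.M24) : Equiv.Perm Cfsg.GolayPt) (x i) = y i

/-- transitivity on dodecads (this is S0368) -/
def TransDod : Prop := ∀ (d d' : Finset Cfsg.GolayPt) (_ : d ∈ Cfsg.dodecads) (_ : d' ∈ Cfsg.dodecads),
  ∃ g : Cfsg.M24, g • d = d'

/-- the concrete `M11` in `Perm GolayPt`: `M24`, preserving `d`, fixing `p` -/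
def HH (d : Finset GolayPt) (p : GolayPt) : Subgroup (Equiv.Perm GolayPt) :=
  M24 ⊓ (MulAction.stabilizer (Equiv.Perm GolayPt) d ⊓ MulAction.stabilizer (Equiv.Perm GolayPt) p)

theorem mem_HH {d : Finset GolayPt} {p : GolayPt} {σ : Equiv.Perm GolayPt} :
    σ ∈ HH d p ↔ σ ∈ M24 ∧ σ • d = d ∧ σ p = p := by
  unfold HH
  rw [Subgroup.mem_inf, Subgroup.mem_inf, MulAction.mem_stabilizer_iff, MulAction.mem_stabilizer_iff]
  rfl

theorem apply_mem_of_smul {d : Finset GolayPt} {σ : Equiv.Perm GolayPt} (h : σ • d = d)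
    {u : GolayPt} (hu : u ∈ d) : σ u ∈ d := by
  have : σ • u ∈ σ • d := Finset.smul_mem_smul_finset hu
  rw [h] at this
  exact this

theorem smul_eq_of_forall {d : Finset GolayPt} {σ : Equiv.Perm GolayPt} (h : ∀ u ∈ d, σ u ∈ d) :
    σ • d = d := by
  apply Finset.eq_of_subset_of_card_le
  · intro u hu
    rw [Finset.mem_smul_finset] at hu
    obtain ⟨v, hv, rfl⟩ := hu
    exact h v hv
  · rw [Finset.card_smul_finset]

/-- the labelling of eight points by the nonzero vectors -/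
def psi (v : Fin 2 → ZMod 3) : GolayPt :=
  dec ([99, 3, 12, 2, 9, 18, 4, 8, 6].getD (3 * (v 0).val + (v 1).val) 0)

theorem uniq_of (hS : Sharp) {d : Finset GolayPt} (hd : d ∈ dodecads) {p : GolayPt} (hp : p ∈ d)
    (h : Equiv.Perm GolayPt) (hh : h ∈ HH d p) (k : Equiv.Perm GolayPt) (hk : k ∈ HH d p)
    (q : Fin 4 → GolayPt) (hq : Function.Injective q) (hqD : ∀ i, q i ∈ d.erase p)
    (he : ∀ i, h (q i) = k (q i)) : h = k := by
  rw [mem_HH] at hh hk
  have hqd : ∀ i, q i ∈ d := fun i => Finset.mem_of_mem_erase (hqD i)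
  have hqp : ∀ i, q i ≠ p := fun i => Finset.ne_of_mem_erase (hqD i)
  have hx : Function.Injective (Fin.cons p q : Fin 5 → GolayPt) := by
    rw [Fin.cons_injective_iff]
    refine ⟨?_, hq⟩
    rintro ⟨i, hi⟩
    exact hqp i hi
  have hxd : ∀ i, (Fin.cons p q : Fin 5 → GolayPt) i ∈ d := by
    intro i
    refine Fin.cases ?_ ?_ i
    · exact hp
    · intro j
      exact hqd j
  obtain ⟨g, -, hg⟩ := hS d hd ⟨_, hx⟩ ⟨fun i => h ((Fin.cons p q : Fin 5 → GolayPt) i),
    h.injective.comp hx⟩ hxd (fun i => apply_mem_of_smul hh.2.1 (hxd i))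
  have e1 := hg ⟨⟨h, hh.1⟩, hh.2.1⟩ (fun i => rfl)
  have e2 := hg ⟨⟨k, hk.1⟩, hk.2.1⟩ (by
    intro i
    refine Fin.cases ?_ ?_ i
    · show k p = h p
      rw [hh.2.2, hk.2.2]
    · intro j
      exact (he j).symm)
  have := e1.trans e2.symm
  have := congrArg (fun z : MulAction.stabilizer Cfsg.M24 d => ((z : Cfsg.M24) : Equiv.Perm GolayPt)) this
  exact this

theorem exis_of (hS : Sharp) {d : Finset GolayPt} (hd : d ∈ dodecads) {p : GolayPt} (hp : p ∈ d)
    (q q' : Fin 4 → GolayPt) (hq : Function.Injective q) (hq' : Function.Injective q')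
    (hqD : ∀ i, q i ∈ d.erase p) (hqD' : ∀ i, q' i ∈ d.erase p) :
    ∃ h ∈ HH d p, ∀ i, h (q i) = q' i := by
  have hx : ∀ q : Fin 4 → GolayPt, Function.Injective q → (∀ i, q i ∈ d.erase p) →
      Function.Injective (Fin.cons p q : Fin 5 → GolayPt) ∧
      ∀ i, (Fin.cons p q : Fin 5 → GolayPt) i ∈ d := by
    intro q hq hqD
    have hqd : ∀ i, q i ∈ d := fun i => Finset.mem_of_mem_erase (hqD i)
    have hqp : ∀ i, q i ≠ p := fun i => Finset.ne_of_mem_erase (hqD i)
    constructor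
    · rw [Fin.cons_injective_iff]
      refine ⟨?_, hq⟩
      rintro ⟨i, hi⟩
      exact hqp i hi
    · intro i
      refine Fin.cases ?_ ?_ i
      · exact hp
      · intro j
        exact hqd j
  obtain ⟨g, hg, -⟩ := hS d hd ⟨_, (hx q hq hqD).1⟩ ⟨_, (hx q' hq' hqD').1⟩ (hx q hq hqD).2
    (hx q' hq' hqD').2
  refine ⟨((g : M24) : Equiv.Perm GolayPt), ?_, fun i => hg i.succ⟩
  rw [mem_HH]
  exact ⟨(g : M24).2, g.2, hg 0⟩

theorem data (hS : Sharp) : Data (HH dd (some 0)) (dd.erase (some 0)) psi pX where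
  uniq := fun h hh k hk q hq hqD he => uniq_of hS dd_mem (by decide +kernel) h hh k hk q hq hqD he
  exis := fun q q' hq hq' hqD hqD' => exis_of hS dd_mem (by decide +kernel) q q' hq hq' hqD hqD'
  stab := by
    intro h hh u hu
    rw [mem_HH] at hh
    rw [Finset.mem_erase] at hu ⊢
    refine ⟨?_, apply_mem_of_smul hh.2.1 hu.2⟩
    intro hc
    exact hu.1 (h.injective (hc.trans hh.2.2.symm))
  card := by decide +kernel
  psi_mem := by decide +kernel
  psi_inj := by decide +kernel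
  x0_mem := mem_HH.mpr ⟨pX_mem, smul_eq_of_forall pX_dd, pX_zero⟩
  x0_psi := by decide +kernel
  x0_fix := by decide +kernel
  exT := ⟨pT, mem_HH.mpr ⟨pT_mem, smul_eq_of_forall pT_dd, pT_zero⟩, by decide +kernel⟩
  exW := ⟨pW, mem_HH.mpr ⟨pW_mem, smul_eq_of_forall pW_dd, pW_zero⟩, by decide +kernel⟩

/-- transitivity on flags (point on a dodecad) -/
theorem exists_flag (hS : Sharp) (hT : TransDod) (d : Finset GolayPt) (hd : d ∈ dodecads) (p : GolayPt)
    (hp : p ∈ d) : ∃ g ∈ M24, g • dd = d ∧ g (some 0) = p := by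
  obtain ⟨g, hg⟩ := hT dd d dd_mem hd
  -- the point to be reached inside `dd`
  have hr : ((g : M24) : Equiv.Perm GolayPt)⁻¹ p ∈ dd := by
    have h1 : ((g : M24) : Equiv.Perm GolayPt) • dd = d := hg
    have h2 : ((g : M24) : Equiv.Perm GolayPt)⁻¹ • p ∈ dd := by
      rw [Finset.inv_smul_mem_iff, h1]
      exact hp
    exact h2
  set r := ((g : M24) : Equiv.Perm GolayPt)⁻¹ p with hrdef
  let x : Fin 5 → GolayPt := ![some 0, some 1, some 2, some 3, some 4]
  have hx : Function.Injective x := by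
    have : ∀ i j, x i = x j → i = j := by decide +kernel
    exact fun i j h => this i j h
  have hxd : ∀ i, x i ∈ dd := by decide +kernel
  have hyd : ∀ i, Equiv.swap (some 0) r (x i) ∈ dd := by
    intro i
    by_cases h0 : x i = some 0
    · rw [h0, Equiv.swap_apply_left]; exact hr
    · by_cases h1 : x i = r
      · rw [h1, Equiv.swap_apply_right]; exact hxd 0
      · rw [Equiv.swap_apply_of_ne_of_ne h0 h1]; exact hxd i
  obtain ⟨k, hk, -⟩ := hS dd dd_mem ⟨x, hx⟩ ⟨_, (Equiv.swap (some 0) r).injective.comp hx⟩ hxd hyd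
  have hk0 : ((k : M24) : Equiv.Perm GolayPt) (some 0) = r := by
    have := hk 0
    change ((k : M24) : Equiv.Perm GolayPt) (some 0) = Equiv.swap (some 0) r (some 0) at this
    rw [this, Equiv.swap_apply_left]
  refine ⟨(g : Equiv.Perm GolayPt) * ((k : M24) : Equiv.Perm GolayPt), M24.mul_mem g.2 (k : M24).2, ?_, ?_⟩
  · rw [mul_smul]
    have h1 : ((k : M24) : Equiv.Perm GolayPt) • dd = dd := k.2
    rw [h1]
    exact hg
  · rw [Equiv.Perm.mul_apply, hk0, hrdef]
    exact Equiv.apply_symm_apply _ _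

/-- centralisers through an injective homomorphism -/
theorem map_centralizer {A B : Type*} [Group A] [Group B] (φ : A →* B) (hφ : Function.Injective φ)
    (a : A) : (Subgroup.centralizer ({a} : Set A)).map φ =
      φ.range ⊓ Subgroup.centralizer ({φ a} : Set B) := by
  ext y
  simp only [Subgroup.mem_map, Subgroup.mem_inf, Subgroup.mem_centralizer_singleton_iff,
    MonoidHom.mem_range]
  constructor
  · rintro ⟨z, hz, rfl⟩
    exact ⟨⟨z, rfl⟩, by rw [← map_mul, ← map_mul, hz]⟩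
  · rintro ⟨⟨z, rfl⟩, hz⟩
    exact ⟨z, hφ (by rw [map_mul, map_mul, hz]), rfl⟩

theorem main (hS : Sharp) (hT : TransDod) (d : Finset Cfsg.GolayPt) (hd : d ∈ Cfsg.dodecads)
    (p : Cfsg.GolayPt) (hp : p ∈ d)
    (x : ↥(MulAction.stabilizer Cfsg.M24 d ⊓ MulAction.stabilizer Cfsg.M24 p)) (hx : orderOf x = 2) :
    Nonempty (↥(Subgroup.centralizer ({x} :
      Set ↥(MulAction.stabilizer Cfsg.M24 d ⊓ MulAction.stabilizer Cfsg.M24 p))) ≃*
      GL (Fin 2) (ZMod 3)) := by
  obtain ⟨g, hgM, hgd, hgp⟩ := exists_flag hS hT d hd p hp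
  let φ : ↥(MulAction.stabilizer Cfsg.M24 d ⊓ MulAction.stabilizer Cfsg.M24 p) →* Equiv.Perm GolayPt :=
    (MulAut.conj g⁻¹).toMonoidHom.comp
      (M24.subtype.comp (MulAction.stabilizer Cfsg.M24 d ⊓ MulAction.stabilizer Cfsg.M24 p).subtype)
  have hφ : Function.Injective φ :=
    (MulAut.conj g⁻¹).injective.comp (Subtype.val_injective.comp Subtype.val_injective)
  have hφa : ∀ y, φ y = g⁻¹ * ((y : M24) : Equiv.Perm GolayPt) * g := by
    intro y
    show g⁻¹ * ((y : M24) : Equiv.Perm GolayPt) * g⁻¹⁻¹ = _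
    rw [inv_inv]
  have hrange : φ.range = HH dd (some 0) := by
    ext σ
    rw [MonoidHom.mem_range, mem_HH]
    constructor
    · rintro ⟨y, rfl⟩
      have hy1 : ((y : M24) : Equiv.Perm GolayPt) • d = d := y.2.1
      have hy2 : ((y : M24) : Equiv.Perm GolayPt) p = p := y.2.2
      rw [hφa]
      refine ⟨M24.mul_mem (M24.mul_mem (M24.inv_mem hgM) (y : M24).2) hgM, ?_, ?_⟩
      · rw [mul_smul, mul_smul, hgd, hy1, inv_smul_eq_iff, hgd]
      · rw [Equiv.Perm.mul_apply, Equiv.Perm.mul_apply, hgp, hy2, Equiv.Perm.inv_eq_iff_eq, hgp]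
    · rintro ⟨h1, h2, h3⟩
      refine ⟨⟨⟨g * σ * g⁻¹, M24.mul_mem (M24.mul_mem hgM h1) (M24.inv_mem hgM)⟩, ?_, ?_⟩, ?_⟩
      · show (g * σ * g⁻¹) • d = d
        rw [← hgd, smul_smul, inv_mul_cancel_right, mul_smul, h2]
      · show (g * σ * g⁻¹) p = p
        have h4 : g⁻¹ (g (some 0)) = some 0 := Equiv.symm_apply_apply g _
        rw [← hgp, Equiv.Perm.mul_apply, h4, Equiv.Perm.mul_apply, h3]
      · rw [hφa]
        show g⁻¹ * (g * σ * g⁻¹) * g = σ
        group
  obtain ⟨e⟩ : Nonempty (↥(φ.range ⊓ Subgroup.centralizer ({φ x} : Set (Equiv.Perm GolayPt))) ≃*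
      GL (Fin 2) (ZMod 3)) := by
    rw [hrange]
    apply (data hS).nonempty_equiv
    · rw [← hrange]
      exact ⟨x, rfl⟩
    · intro h1
      have : x = 1 := hφ (by rw [h1, map_one])
      rw [this, orderOf_one] at hx
      omega
    · rw [← map_mul, ← pow_two, ← hx, pow_orderOf_eq_one, map_one]
  rw [← map_centralizer φ hφ] at e
  exact ⟨(Subgroup.equivMapOfInjective _ φ hφ).trans e⟩

end Cfsg.Agent.SporadicStructure.M11InvMain
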