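import Mathlib
import Cfsg.Prelude.Def_TwoFusion
import Cfsg.Agent.S1187

/-!
A class of involutions with all products of p-power order (`p` odd): the class size is a power of
`p` and the group is a p-group extended by an involution.
-/

set_option autoImplicit false

namespace Cfsg.Agent.SporadicStructure.OddProducts

open Cfsg

/-- every isolated involution normalises a Sylow q-subgroup -/
theorem exists_invariant_sylow {G : Type*} [Group G] [Finite G] {z : G}
    (hz : IsIsolatedInvolution z) (q : ℕ) [Fact q.Prime] :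
    ∃ Q : Sylow q G, z ∈ Subgroup.normalizer ((Q : Subgroup G) : Set G) := by
  let S : Set (Subgroup G) := {R | IsPGroup q R ∧ z ∈ Subgroup.normalizer (R : Set G)}
  have hne : S.Nonempty := by
    refine ⟨⊥, IsPGroup.of_bot, ?_⟩
    rw [Subgroup.mem_normalizer_iff]
    intro h
    rw [Subgroup.mem_bot, Subgroup.mem_bot]
    constructor
    · rintro rfl; group
    · intro hh
      rw [mul_inv_eq_one] at hh
      exact mul_eq_left.1 hh
  obtain ⟨Q, hQ⟩ := (Set.toFinite S).exists_maximal hne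
  obtain ⟨P, hP⟩ := Cfsg.Agent.S1187.result z hz Q hQ.prop.1 hQ.prop.2
    (fun R h1 h2 h3 => le_antisymm (hQ.le_of_ge ⟨h1, h2⟩ h3) h3)
  exact ⟨P, by rw [hP]; exact hQ.prop.2⟩

theorem pgroup_of_products {G : Type*} [Group G] [Finite G] (p : ℕ) [hp : Fact p.Prime] (hodd : p ≠ 2)
    (z : G) (hz2 : orderOf z = 2) (hgen : Subgroup.closure (conjugatesOf z) = ⊤)
    (hprod : ∀ x ∈ conjugatesOf z, ∀ y ∈ conjugatesOf z, x ≠ y → ∃ k : ℕ, orderOf (x * y) = p ^ k) :
    ∃ P : Subgroup G, P.Normal ∧ IsPGroup p P ∧ P ⊔ Subgroup.zpowers z = ⊤ := by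
  have hzz : z * z = 1 := by
    have := pow_orderOf_eq_one z
    rwa [hz2, pow_two] at this
  have hzinv : z⁻¹ = z := inv_eq_of_mul_eq_one_left hzz
  have hself : z ∈ conjugatesOf z := mem_conjugatesOf_self
  have hconj : ∀ g : G, g * z * g⁻¹ ∈ conjugatesOf z := fun g =>
    isConj_iff.2 ⟨g, rfl⟩
  have hiso : IsIsolatedInvolution z := by
    refine ⟨hz2, fun g hg => ?_⟩
    by_contra hne
    obtain ⟨k, hk⟩ := hprod _ (hconj g) z hself hne
    have h1 : (g * z * g⁻¹ * z) ^ 2 = 1 := by
      rw [hg.symm.mul_pow, pow_two z, hzz, mul_one, pow_two]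
      have : g * z * g⁻¹ * (g * z * g⁻¹) = g * (z * z) * g⁻¹ := by group
      rw [this, hzz]
      group
    have h2 : orderOf (g * z * g⁻¹ * z) ∣ 2 := orderOf_dvd_of_pow_eq_one h1
    rw [hk] at h2
    have h3 : p ^ k = 1 := by
      rcases (Nat.dvd_prime Nat.prime_two).1 h2 with h | h
      · exact h
      · exfalso
        rcases Nat.eq_zero_or_pos k with hk0 | hk0
        · rw [hk0] at h; norm_num at h
        · have : p ∣ 2 := h ▸ dvd_pow_self p hk0.ne'
          exact hodd ((Nat.prime_dvd_prime_iff_eq hp.1 Nat.prime_two).1 this)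
    rw [h3] at hk
    have h4 := orderOf_eq_one_iff.1 hk
    exact hne ((eq_inv_of_mul_eq_one_left h4).trans hzinv)
  -- Sylow q-subgroups normalised by z centralise z, q ≠ p
  set C : Subgroup G := Subgroup.centralizer {z} with hC
  have hcent : ∀ q : ℕ, q.Prime → q ≠ p → ¬ q ∣ C.index := by
    intro q hq hqp hdvd
    have : Fact q.Prime := ⟨hq⟩
    obtain ⟨Q, hQ⟩ := exists_invariant_sylow hiso q
    have hle : (Q : Subgroup G) ≤ C := by
      intro x hx
      rw [hC, Subgroup.mem_centralizer_singleton_iff]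
      by_contra hne
      have hne' : x * z * x⁻¹ ≠ z := by
        intro h
        apply hne
        rwa [mul_inv_eq_iff_eq_mul] at h
      obtain ⟨k, hk⟩ := hprod _ (hconj x) z hself hne'
      have hmem : x * z * x⁻¹ * z ∈ (Q : Subgroup G) := by
        have h1 : z * x⁻¹ * z⁻¹ ∈ (Q : Subgroup G) :=
          (Subgroup.mem_normalizer_iff.1 hQ _).1 ((Q : Subgroup G).inv_mem hx)
        rw [hzinv] at h1
        have := (Q : Subgroup G).mul_mem hx h1
        simpa only [mul_assoc] using this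
      obtain ⟨m, hm⟩ := (IsPGroup.iff_orderOf.1 Q.isPGroup') ⟨_, hmem⟩
      rw [Subgroup.orderOf_mk, hk] at hm
      have hcop : Nat.Coprime (p ^ k) (q ^ m) :=
        Nat.Coprime.pow _ _ ((Nat.coprime_primes hp.1 hq).2 hqp.symm)
      rw [← hm, Nat.coprime_self] at hcop
      rw [hcop] at hk
      have h4 := orderOf_eq_one_iff.1 hk
      exact hne' ((eq_inv_of_mul_eq_one_left h4).trans hzinv)
    have h1 : C.index ∣ (Q : Subgroup G).index := Subgroup.index_dvd_of_le hle
    exact Q.not_dvd_index (hdvd.trans h1)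
  obtain ⟨P, hP⟩ := exists_invariant_sylow hiso p
  -- P is transitive on the class
  have hcop : Nat.Coprime C.index (P : Subgroup G).index := by
    rw [Nat.coprime_iff_gcd_eq_one]
    by_contra hg
    obtain ⟨q, hq, hqd⟩ := Nat.exists_prime_and_dvd hg
    rw [Nat.dvd_gcd_iff] at hqd
    by_cases hqp : q = p
    · subst hqp
      exact P.not_dvd_index hqd.2
    · exact hcent q hq hqp hqd.1
  have hrel : C.index ∣ C.relIndex P := by
    have h1 : (C ⊓ P).relIndex (P : Subgroup G) * (P : Subgroup G).index = (C ⊓ P).index :=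
      Subgroup.relIndex_mul_index inf_le_right
    have h2 : (C ⊓ P).relIndex C * C.index = (C ⊓ P).index :=
      Subgroup.relIndex_mul_index inf_le_left
    rw [Subgroup.inf_relIndex_right] at h1
    have h3 : C.index ∣ C.relIndex P * (P : Subgroup G).index := by
      rw [h1, ← h2]
      exact dvd_mul_left _ _
    exact hcop.dvd_of_dvd_mul_right h3
  have htrans : ∀ g : G, ∃ x ∈ (P : Subgroup G), g * z * g⁻¹ = x * z * x⁻¹ := by
    intro g
    have h1 := MulAction.index_stabilizer (G := P) (x := ((1 : G) : G ⧸ C))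
    have h2 : MulAction.stabilizer P ((1 : G) : G ⧸ C) = C.subgroupOf P := by
      ext x
      rw [MulAction.mem_stabilizer_iff, Subgroup.mem_subgroupOf]
      show (((x : G) * (1 : G) : G) : G ⧸ C) = ((1 : G) : G ⧸ C) ↔ _
      rw [mul_one, QuotientGroup.eq, mul_one, inv_mem_iff]
    rw [h2] at h1
    have h3 : (MulAction.orbit P ((1 : G) : G ⧸ C)) = Set.univ := by
      apply Set.eq_of_subset_of_ncard_le (Set.subset_univ _)
      rw [Set.ncard_univ, ← h1]
      exact Nat.le_of_dvd (Nat.pos_of_ne_zero (Subgroup.index_ne_zero_of_finite)) hrel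
    have h4 : ((g : G) : G ⧸ C) ∈ MulAction.orbit P ((1 : G) : G ⧸ C) := by
      rw [h3]; trivial
    obtain ⟨x, hx⟩ := h4
    refine ⟨x, x.2, ?_⟩
    have h5 : ((x : G) : G ⧸ C) = ((g : G) : G ⧸ C) := by
      have h6 : (((x : G) * (1 : G) : G) : G ⧸ C) = ((g : G) : G ⧸ C) := hx
      rwa [mul_one] at h6
    rw [QuotientGroup.eq, hC, Subgroup.mem_centralizer_singleton_iff] at h5
    have h7 : g = x * ((x : G)⁻¹ * g) := by group
    set c := (x : G)⁻¹ * g with hc
    rw [h7]
    calc (x : G) * c * z * (x * c)⁻¹ = x * (c * z) * c⁻¹ * (x : G)⁻¹ := by group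
      _ = x * (z * c) * c⁻¹ * (x : G)⁻¹ := by rw [h5]
      _ = x * z * (x : G)⁻¹ := by group
  have hsup : (P : Subgroup G) ⊔ Subgroup.zpowers z = ⊤ := by
    rw [eq_top_iff, ← hgen, Subgroup.closure_le]
    intro y hy
    obtain ⟨g, rfl⟩ := isConj_iff.1 hy
    obtain ⟨x, hx, hxg⟩ := htrans g
    rw [hxg]
    have hx' : x ∈ (P : Subgroup G) ⊔ Subgroup.zpowers z := Subgroup.mem_sup_left hx
    have hz' : z ∈ (P : Subgroup G) ⊔ Subgroup.zpowers z :=
      Subgroup.mem_sup_right (Subgroup.mem_zpowers z)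
    exact Subgroup.mul_mem _ (Subgroup.mul_mem _ hx' hz') (Subgroup.inv_mem _ hx')
  have hnorm : Subgroup.normalizer ((P : Subgroup G) : Set G) = ⊤ := by
    rw [eq_top_iff, ← hsup]
    apply sup_le Subgroup.le_normalizer
    rw [Subgroup.zpowers_le]
    exact hP
  exact ⟨P, Subgroup.normalizer_eq_top_iff.1 hnorm, P.isPGroup', hsup⟩

end Cfsg.Agent.SporadicStructure.OddProducts
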