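import Mathlib
import Cfsg.Prelude.Def_SporadicB
import Cfsg.Agent.SporadicB.ThreeTrans

set_option autoImplicit false

/-!
# Fischer spaces: classes of 3-transpositions and invariant equivalence relations on them
-/

namespace Cfsg.Agent.SporadicStructure.FischerSpace

open Cfsg

variable {G : Type*} [Group G] {D : Set G}

/-- the facts about a class `D` of 3-transpositions that we use -/
structure FData (D : Set G) : Prop where
  sq : ∀ x ∈ D, x * x = 1
  ne_one : ∀ x ∈ D, x ≠ 1
  conj : ∀ g : G, ∀ x ∈ D, g * x * g⁻¹ ∈ D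
  braid : ∀ x ∈ D, ∀ y ∈ D, ¬ Commute x y → x * y * x = y * x * y
  single : ∀ x ∈ D, ∀ y ∈ D, ∃ g : G, g * x * g⁻¹ = y
  gen : Subgroup.closure D = ⊤
  nonempty : D.Nonempty

theorem fdata_of_class (hD : Cfsg.IsThreeTranspositionClass D) : FData D := by
  obtain ⟨hS, ⟨d, hd, hDd⟩, hgen⟩ := hD
  have hconj : ∀ g : G, ∀ x ∈ D, g * x * g⁻¹ ∈ D := by
    intro g x hx
    rw [hDd] at hx ⊢
    have hx' : IsConj d x := hx
    exact hx'.trans (isConj_iff.2 ⟨g, rfl⟩)
  refine ⟨fun x hx => SporadicB.ThreeTrans.mul_self hS hx, ?_, hconj,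
    fun x hx y hy h => SporadicB.ThreeTrans.braid hS hx hy h, ?_, hgen, ⟨d, hd⟩⟩
  · intro x hx h
    have := hS.1 x hx
    rw [h, orderOf_one] at this
    omega
  · intro x hx y hy
    rw [hDd] at hx hy
    have hx' : IsConj d x := hx
    have hy' : IsConj d y := hy
    exact isConj_iff.1 (hx'.symm.trans hy')

namespace FData

theorem inv_eq (h : FData D) {x : G} (hx : x ∈ D) : x⁻¹ = x :=
  inv_eq_of_mul_eq_one_left (h.sq x hx)

theorem conj' (h : FData D) {x y : G} (hx : x ∈ D) (hy : y ∈ D) : x * y * x ∈ D := by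
  have := h.conj x y hy
  rwa [h.inv_eq hx] at this

/-- conjugation by the third point of a line interchanges the other two -/
theorem third_conj (h : FData D) {x y : G} (hx : x ∈ D) (hy : y ∈ D) (hxy : ¬ Commute x y) :
    (x * y * x) * x * (x * y * x) = y := by
  have hb := h.braid x hx y hy hxy
  calc (x * y * x) * x * (x * y * x) = x * y * (x * x) * (x * y * x) := by
        simp only [mul_assoc]
    _ = x * (y * x * y) * x := by rw [h.sq x hx, mul_one]; simp only [mul_assoc]
    _ = (x * x) * y * (x * x) := by rw [← hb]; simp only [mul_assoc]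
    _ = y := by rw [h.sq x hx, one_mul, mul_one]

theorem conj_conj (h : FData D) {x : G} (hx : x ∈ D) (y : G) : x * (x * y * x) * x = y := by
  calc x * (x * y * x) * x = (x * x) * y * (x * x) := by simp only [mul_assoc]
    _ = y := by rw [h.sq x hx, one_mul, mul_one]

theorem commute_iff (h : FData D) {x : G} (hx : x ∈ D) (y : G) : Commute x y ↔ x * y * x = y := by
  constructor
  · intro hc
    rw [hc.eq, mul_assoc, h.sq x hx, mul_one]
  · intro hc
    show x * y = y * x
    calc x * y = (x * y * x) * x := by rw [mul_assoc (x * y), h.sq x hx, mul_one]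
      _ = y * x := by rw [hc]

/-- `Commute` is invariant under conjugation by `x` -/
theorem commute_conj_iff (h : FData D) {x : G} (hx : x ∈ D) (y z : G) :
    Commute (x * y * x) (x * z * x) ↔ Commute y z := by
  have key : ∀ u v : G, Commute u v → Commute (x * u * x) (x * v * x) := by
    intro u v huv
    show x * u * x * (x * v * x) = x * v * x * (x * u * x)
    calc x * u * x * (x * v * x) = x * u * (x * x) * v * x := by simp only [mul_assoc]
      _ = x * (u * v) * x := by rw [h.sq x hx, mul_one]; simp only [mul_assoc]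
      _ = x * (v * u) * x := by rw [huv.eq]
      _ = x * v * (x * x) * u * x := by rw [h.sq x hx, mul_one]; simp only [mul_assoc]
      _ = x * v * x * (x * u * x) := by simp only [mul_assoc]
  constructor
  · intro hc
    have := key _ _ hc
    rwa [h.conj_conj hx, h.conj_conj hx] at this
  · exact key y z

theorem commute_conj_left_iff (h : FData D) {x : G} (hx : x ∈ D) (y z : G) :
    Commute (x * y * x) z ↔ Commute y (x * z * x) := by
  rw [← h.commute_conj_iff hx (x * y * x) z, h.conj_conj hx]

/-- generalised conjugation invariance -/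
theorem commute_conj_gen (g y z : G) : Commute (g * y * g⁻¹) (g * z * g⁻¹) ↔ Commute y z := by
  have : ∀ a b c : G, Commute b c → Commute (a * b * a⁻¹) (a * c * a⁻¹) := by
    intro a b c hbc
    show a * b * a⁻¹ * (a * c * a⁻¹) = a * c * a⁻¹ * (a * b * a⁻¹)
    calc a * b * a⁻¹ * (a * c * a⁻¹) = a * (b * c) * a⁻¹ := by group
      _ = a * (c * b) * a⁻¹ := by rw [hbc.eq]
      _ = a * c * a⁻¹ * (a * b * a⁻¹) := by group
  constructor
  · intro hc
    have := this g⁻¹ _ _ hc
    have e : ∀ w : G, g⁻¹ * (g * w * g⁻¹) * g⁻¹⁻¹ = w := by intro w; group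
    rwa [e, e] at this
  · exact this g y z

/-- If every member of `D` commutes with `x`, then `x` is central. -/
theorem mem_center_of_forall_commute (h : FData D) {x : G} (hc : ∀ y ∈ D, Commute x y) :
    x ∈ Subgroup.center G := by
  rw [Subgroup.mem_center_iff]
  intro g
  have hg : g ∈ Subgroup.closure D := by rw [h.gen]; trivial
  have hle : Subgroup.closure D ≤ Subgroup.centralizer {x} := by
    rw [Subgroup.closure_le]
    intro y hy
    rw [SetLike.mem_coe, Subgroup.mem_centralizer_singleton_iff]
    exact (hc y hy).symm.eq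
  have := hle hg
  rw [Subgroup.mem_centralizer_singleton_iff] at this
  exact this

end FData

/-- conjugation invariant equivalence relations on `D` -/
structure InvEquiv (D : Set G) (r : G → G → Prop) : Prop where
  mem_left : ∀ {x y : G}, r x y → x ∈ D
  refl : ∀ {x : G}, x ∈ D → r x x
  symm : ∀ {x y : G}, r x y → r y x
  trans : ∀ {x y z : G}, r x y → r y z → r x z
  conj : ∀ (g : G) {x y : G}, r x y → r (g * x * g⁻¹) (g * y * g⁻¹)

namespace InvEquiv

variable {r : G → G → Prop}

theorem mem_right (hr : InvEquiv D r) {x y : G} (h : r x y) : y ∈ D := hr.mem_left (hr.symm h)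

theorem conj' (hr : InvEquiv D r) (h : FData D) {x y z : G} (hx : x ∈ D) (hyz : r y z) :
    r (x * y * x) (x * z * x) := by
  have := hr.conj x hyz
  rwa [h.inv_eq hx] at this

theorem conj'_iff (hr : InvEquiv D r) (h : FData D) {x y z : G} (hx : x ∈ D) :
    r (x * y * x) (x * z * x) ↔ r y z := by
  constructor
  · intro h1
    have := hr.conj' h hx h1
    rwa [h.conj_conj hx, h.conj_conj hx] at this
  · exact hr.conj' h hx

/-- inequivalent, noncommuting `x y`; then every member of the class of `x` does not commute with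
`y` -/
theorem not_commute_of_rel (hr : InvEquiv D r) (h : FData D) {x y s : G} (hx : x ∈ D) (hy : y ∈ D)
    (hxy : ¬ r x y) (hc : ¬ Commute x y) (hxs : r x s) : ¬ Commute s y := by
  intro hsy
  apply hxy
  have hb := h.braid x hx y hy hc
  have h1 : r (y * x * y) (y * s * y) := hr.conj' h hy hxs
  have h2 : y * s * y = s := (h.commute_iff hy s).1 hsy.symm
  rw [h2, ← hb] at h1
  -- h1 : r (x*y*x) s
  have hw : x * y * x ∈ D := h.conj' hx hy
  have h3 : r x (x * y * x) := hr.trans hxs (hr.symm h1)
  have h4 := hr.conj' h hw h3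
  rw [h.third_conj hx hy hc] at h4
  have h5 : (x * y * x) * (x * y * x) * (x * y * x) = x * y * x := by
    rw [h.sq _ hw, one_mul]
  rw [h5] at h4
  exact hr.trans h3 (hr.symm h4)

theorem commute_iff_of_rel (hr : InvEquiv D r) (h : FData D) {x y s : G} (hy : y ∈ D)
    (hxy : ¬ r x y) (hxs : r x s) : Commute x y ↔ Commute s y := by
  have hx := hr.mem_left hxs
  have hs := hr.mem_right hxs
  constructor
  · intro hc
    by_contra hsy
    exact hr.not_commute_of_rel h hs hy (fun h1 => hxy (hr.trans hxs h1)) hsy (hr.symm hxs) hc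
  · intro hc
    by_contra hxy'
    exact hr.not_commute_of_rel h hx hy hxy hxy' hxs hc

theorem commute_iff_of_rel' (hr : InvEquiv D r) (h : FData D) {x y s t : G}
    (hxy : ¬ r x y) (hxs : r x s) (hyt : r y t) : Commute x y ↔ Commute s t := by
  rw [hr.commute_iff_of_rel h (hr.mem_left hyt) hxy hxs, Commute.symm_iff,
    hr.commute_iff_of_rel h (hr.mem_right hxs)
      (fun h1 => hxy (hr.trans hxs (hr.symm h1))) hyt, Commute.symm_iff]

theorem not_rel_of_rel (hr : InvEquiv D r) {x y s t : G}
    (hxy : ¬ r x y) (hxs : r x s) (hyt : r y t) : ¬ r s t := fun h1 =>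
  hxy (hr.trans hxs (hr.trans h1 (hr.symm hyt)))

/-- for equivalent `x, s`, conjugation by `x * s` preserves all classes -/
theorem rel_conj_conj (hr : InvEquiv D r) (h : FData D) {x s y : G} (hxs : r x s) (hy : y ∈ D) :
    r (x * y * x) (s * y * s) := by
  have hx := hr.mem_left hxs
  have hs := hr.mem_right hxs
  by_cases hxy : r x y
  · have h1 : r (x * y * x) x := by
      have := hr.conj' h hx (hr.symm hxy)
      rwa [h.sq x hx, one_mul] at this
    have h2 : r (s * y * s) s := by
      have := hr.conj' h hs (hr.trans (hr.symm hxy) hxs)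
      rwa [h.sq s hs, one_mul] at this
    exact hr.trans h1 (hr.trans hxs (hr.symm h2))
  · by_cases hc : Commute x y
    · have hc' := (hr.commute_iff_of_rel h hy hxy hxs).1 hc
      rw [(h.commute_iff hx y).1 hc, (h.commute_iff hs y).1 hc']
      exact hr.refl hy
    · have hc' : ¬ Commute s y := fun h1 => hc ((hr.commute_iff_of_rel h hy hxy hxs).2 h1)
      rw [h.braid x hx y hy hc, h.braid s hs y hy hc']
      exact hr.conj' h hy hxs

/-- The subgroup of elements preserving all classes of `r`. -/
def ker (D : Set G) (r : G → G → Prop) (hr : InvEquiv D r) (hDc : ∀ g : G, ∀ x ∈ D, g * x * g⁻¹ ∈ D) :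
    Subgroup G where
  carrier := {g | ∀ y ∈ D, r y (g * y * g⁻¹)}
  one_mem' := by
    intro y hy
    simpa using hr.refl hy
  mul_mem' := by
    intro a b ha hb y hy
    have h1 := ha _ (hDc b y hy)
    have h2 := hb y hy
    have e : a * b * y * (a * b)⁻¹ = a * (b * y * b⁻¹) * a⁻¹ := by group
    rw [e]
    exact hr.trans h2 h1
  inv_mem' := by
    intro a ha y hy
    have h1 := ha _ (hDc a⁻¹ y hy)
    have e : a * (a⁻¹ * y * a⁻¹⁻¹) * a⁻¹ = y := by group
    rw [e] at h1
    exact hr.symm h1

end InvEquiv

end Cfsg.Agent.SporadicStructure.FischerSpace
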