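import Mathlib
import Cfsg.Agent.SporadicStructure.FischerSpace
import Cfsg.Agent.SignalizersComponents.ComponentExists
import Cfsg.Agent.S0144

set_option autoImplicit false

/-!
# The subgroup generated by products of equivalent 3-transpositions is solvable
-/

namespace Cfsg.Agent.SporadicStructure.FischerSolv

open Cfsg Cfsg.Agent.SporadicStructure.FischerSpace

/-- A finite group all of whose elements satisfy `g ^ 2 = 1` or `g ^ 3 = 1` is solvable. -/
theorem isSolvable_of_orders {H : Type*} [Group H] [Finite H]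
    (h : ∀ g : H, g ^ 2 = 1 ∨ g ^ 3 = 1) : Group.IsSolvable H := by
  classical
  have h0 : Nat.card H ≠ 0 := Nat.card_pos.ne'
  have hdiv : ∀ p : ℕ, p.Prime → p ∣ Nat.card H → p = 2 ∨ p = 3 := by
    intro p hp hpd
    have : Fact p.Prime := ⟨hp⟩
    obtain ⟨g, hg⟩ := exists_prime_orderOf_dvd_card' p hpd
    rcases h g with h2 | h3
    · left
      have := orderOf_dvd_of_pow_eq_one h2
      rw [hg] at this
      exact (Nat.prime_dvd_prime_iff_eq hp Nat.prime_two).1 this
    · right
      have := orderOf_dvd_of_pow_eq_one h3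
      rw [hg] at this
      exact (Nat.prime_dvd_prime_iff_eq hp Nat.prime_three).1 this
  have hcard : Nat.card H = 2 ^ ((Nat.card H).factorization 2) * 3 ^ ((Nat.card H).factorization 3) := by
    conv_lhs => rw [← Nat.prod_factorization_pow_eq_self h0]
    rw [Finsupp.prod_of_support_subset (s := {2, 3})]
    · rw [Finset.prod_pair (by norm_num)]
    · intro p hp
      rw [Nat.support_factorization, Nat.mem_primeFactors] at hp
      rcases hdiv p hp.1 hp.2.1 with h | h <;> simp [h]
    · intro i _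
      exact pow_zero i
  exact Cfsg.Agent.S0144.result 2 3 _ _ Nat.prime_two Nat.prime_three hcard

variable {G : Type*} [Group G] {D : Set G} {r : G → G → Prop}

/-- subgroup generated by products of two equivalent members -/
def T (r : G → G → Prop) : Subgroup G := Subgroup.closure {g | ∃ x s, r x s ∧ g = x * s}

/-- subgroup generated by products of two members of the class of `x` -/
def Tx (r : G → G → Prop) (x : G) : Subgroup G :=
  Subgroup.closure {g | ∃ s t, r x s ∧ r x t ∧ g = s * t}

theorem mul_mem_T {x s : G} (h : r x s) : x * s ∈ T r :=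
  Subgroup.subset_closure ⟨x, s, h, rfl⟩

theorem mul_mem_Tx {x s t : G} (h : r x s) (h' : r x t) : s * t ∈ Tx r x :=
  Subgroup.subset_closure ⟨s, t, h, h', rfl⟩

theorem Tx_le_T (hr : InvEquiv D r) (x : G) : Tx r x ≤ T r := by
  refine (Subgroup.closure_le _).2 ?_
  rintro _ ⟨s, t, hs, ht, rfl⟩
  exact mul_mem_T (hr.trans (hr.symm hs) ht)

theorem T_normal (hr : InvEquiv D r) : (T r).Normal := by
  constructor
  intro n hn g
  have hle : T r ≤ (T r).comap (MulAut.conj g).toMonoidHom := by
    refine (Subgroup.closure_le _).2 ?_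
    rintro _ ⟨x, s, hxs, rfl⟩
    show g * (x * s) * g⁻¹ ∈ T r
    have e : g * (x * s) * g⁻¹ = (g * x * g⁻¹) * (g * s * g⁻¹) := by group
    rw [e]
    exact mul_mem_T (hr.conj g hxs)
  exact hle hn

/-- elements of `T` preserve the classes -/
theorem rel_conj_of_mem_T (h : FData D) (hr : InvEquiv D r) {g y : G} (hg : g ∈ T r) (hy : y ∈ D) :
    r y (g * y * g⁻¹) := by
  have hle : T r ≤ InvEquiv.ker D r hr h.conj := by
    refine (Subgroup.closure_le _).2 ?_
    rintro _ ⟨x, s, hxs, rfl⟩
    intro y hy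
    have hx := hr.mem_left hxs
    have hs := hr.mem_right hxs
    have h1 := hr.conj' h hx (hr.rel_conj_conj h hxs hy)
    rw [h.conj_conj hx] at h1
    have e : x * s * y * (x * s)⁻¹ = x * (s * y * s) * x := by
      rw [mul_inv_rev, h.inv_eq hx, h.inv_eq hs]
      simp only [mul_assoc]
    rw [e]
    exact h1
  exact hle hg y hy

theorem rel_conj_of_mem_T' (h : FData D) (hr : InvEquiv D r) {g y t : G} (hg : g ∈ T r)
    (hyt : r y t) : r y (g * t * g⁻¹) :=
  hr.trans hyt (rel_conj_of_mem_T h hr hg (hr.mem_right hyt))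

/-- `Tx x` is normalised by `T`. -/
theorem conj_mem_Tx (h : FData D) (hr : InvEquiv D r) {g x k : G} (hg : g ∈ T r)
    (hk : k ∈ Tx r x) : g * k * g⁻¹ ∈ Tx r x := by
  have hle : Tx r x ≤ (Tx r x).comap (MulAut.conj g).toMonoidHom := by
    refine (Subgroup.closure_le _).2 ?_
    rintro _ ⟨s, t, hs, ht, rfl⟩
    show g * (s * t) * g⁻¹ ∈ Tx r x
    have e : g * (s * t) * g⁻¹ = (g * s * g⁻¹) * (g * t * g⁻¹) := by group
    rw [e]
    exact mul_mem_Tx (rel_conj_of_mem_T' h hr hg hs) (rel_conj_of_mem_T' h hr hg ht)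
  exact hle hk

/-- If `w` commutes with `x` and is inequivalent to it, it commutes with `Tx x`. -/
theorem commute_Tx (h : FData D) (hr : InvEquiv D r) {x w w' k : G} (hw : w ∈ D)
    (hwx : ¬ r w x) (hc : Commute w x) (hww' : r w w') (hx : x ∈ D) (hk : k ∈ Tx r x) :
    Commute k w' := by
  have hle : Tx r x ≤ Subgroup.centralizer {w'} := by
    refine (Subgroup.closure_le _).2 ?_
    rintro _ ⟨s, t, hs, ht, rfl⟩
    rw [SetLike.mem_coe, Subgroup.mem_centralizer_singleton_iff]
    have h1 : Commute w' s := (hr.commute_iff_of_rel' h hwx hww' hs).1 hc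
    have h2 : Commute w' t := (hr.commute_iff_of_rel' h hwx hww' ht).1 hc
    exact (h1.mul_right h2).symm.eq
  exact Subgroup.mem_centralizer_singleton_iff.1 (hle hk)

/-- The basic geometric construction: for inequivalent noncommuting `x, y` and `t` equivalent to
`t0`, there is `s` equivalent to `x` with `s * x` conjugating `t0` to `t`. -/
theorem exists_mul_conj (h : FData D) (hr : InvEquiv D r) {x t0 t : G} (hx : x ∈ D)
    (hxt : ¬ r x t0) (hc : ¬ Commute x t0) (htt : r t0 t) :
    ∃ s, r x s ∧ t = s * (x * t0 * x) * s := by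
  have ht0 := hr.mem_left htt
  have ht := hr.mem_right htt
  have hb := h.braid x hx t0 ht0 hc
  set v := x * t0 * x with hv
  have hvD : v ∈ D := h.conj' hx ht0
  have hvt0 : ¬ r v t0 := by
    intro h1
    rw [hb] at h1
    have h2 := hr.conj' h ht0 h1
    rw [h.conj_conj ht0, h.sq t0 ht0, one_mul] at h2
    exact hxt h2
  have hcv : ¬ Commute v t0 := by
    rw [hb, h.commute_conj_left_iff ht0, h.sq t0 ht0, one_mul]
    exact hc
  have hvt : ¬ r v t := fun h1 => hvt0 (hr.trans h1 (hr.symm htt))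
  have hcvt : ¬ Commute v t := by
    rw [← hr.commute_iff_of_rel' h hvt0 (hr.refl hvD) htt]
    exact hcv
  have hb2 := h.braid v hvD t ht hcvt
  refine ⟨v * t * v, ?_, ?_⟩
  · rw [hb2]
    have h1 := hr.rel_conj_conj h htt hvD
    have e : t0 * v * t0 = x := by
      rw [hb, h.conj_conj ht0]
    rwa [e] at h1
  · exact (h.third_conj hvD ht hcvt).symm

/-- `w` separates `x` from `y`. -/
theorem commute_all_of_commute_one (h : FData D) (hr : InvEquiv D r) {x y w k t0 t : G}
    (hx : x ∈ D) (hy : y ∈ D) (hxy : ¬ r x y) (hc : ¬ Commute x y) (hw : w ∈ D)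
    (hwx : ¬ r w x) (hcwx : Commute w x) (hcwy : ¬ Commute w y) (hk : k ∈ Tx r x)
    (ht0 : r y t0) (ht : r y t) (hkt : Commute k t0) : Commute k t := by
  have hwy : ¬ r w y := by
    intro h1
    exact hc ((hr.commute_iff_of_rel h hx (fun h2 => hxy (hr.symm h2)) (hr.symm h1)).2 hcwx).symm
  have hwt0 : ¬ r w t0 := fun h1 => hwy (hr.trans h1 (hr.symm ht0))
  have hcwt0 : ¬ Commute w t0 := by
    rw [← hr.commute_iff_of_rel' h hwy (hr.refl hw) ht0]
    exact hcwy
  obtain ⟨w', hww', hte⟩ := exists_mul_conj h hr hw hwt0 hcwt0 (hr.trans (hr.symm ht0) ht)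
  have h1 : Commute k w := commute_Tx h hr hw hwx hcwx (hr.refl hw) hx hk
  have h2 : Commute k w' := commute_Tx h hr hw hwx hcwx hww' hx hk
  rw [hte]
  exact (h2.mul_right ((h1.mul_right hkt).mul_right h1)).mul_right h2

theorem pow_two_or_three (h : FData D) {s x : G} (hs : s ∈ D) (hx : x ∈ D) :
    (s * x) ^ 2 = 1 ∨ (s * x) ^ 3 = 1 := by
  by_cases hc : Commute s x
  · left
    rw [hc.mul_pow, pow_two, pow_two, h.sq s hs, h.sq x hx, one_mul]
  · right
    have hb := h.braid s hs x hx hc
    calc (s * x) ^ 3 = (s * x * s) * (x * s * x) := by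
          rw [pow_succ, pow_two]; simp only [mul_assoc]
      _ = (s * x * s) * (s * x * s) := by rw [hb]
      _ = 1 := h.sq _ (h.conj' hs hx)

/-- every element of `Tx x` acts on the class of `y` like a product `s * x` -/
theorem exists_act_like (h : FData D) (hr : InvEquiv D r) {x y w k : G}
    (hx : x ∈ D) (hy : y ∈ D) (hxy : ¬ r x y) (hc : ¬ Commute x y) (hw : w ∈ D)
    (hwx : ¬ r w x) (hcwx : Commute w x) (hcwy : ¬ Commute w y) (hk : k ∈ Tx r x) :
    ∃ s, r x s ∧ ∀ t, r y t → (s * x) * t * (s * x)⁻¹ = k * t * k⁻¹ := by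
  have hkT := Tx_le_T hr x hk
  obtain ⟨s, hxs, hts⟩ := exists_mul_conj h hr hx hxy hc (rel_conj_of_mem_T h hr hkT hy)
  have hs := hr.mem_right hxs
  refine ⟨s, hxs, ?_⟩
  have hsx : s * x ∈ Tx r x := mul_mem_Tx hxs (hr.refl hx)
  have hk' : (s * x)⁻¹ * k ∈ Tx r x := mul_mem (inv_mem hsx) hk
  have e1 : (s * x) * y * (s * x)⁻¹ = k * y * k⁻¹ := by
    rw [hts, mul_inv_rev, h.inv_eq hx, h.inv_eq hs]
    simp only [mul_assoc]
  have h1 : Commute ((s * x)⁻¹ * k) y := by
    show (s * x)⁻¹ * k * y = y * ((s * x)⁻¹ * k)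
    calc (s * x)⁻¹ * k * y = (s * x)⁻¹ * (k * y * k⁻¹) * k := by group
      _ = (s * x)⁻¹ * ((s * x) * y * (s * x)⁻¹) * k := by rw [e1]
      _ = y * ((s * x)⁻¹ * k) := by group
  intro t ht
  have h2 : Commute ((s * x)⁻¹ * k) t :=
    commute_all_of_commute_one h hr hx hy hxy hc hw hwx hcwx hcwy hk' (hr.refl hy) ht h1
  calc (s * x) * t * (s * x)⁻¹
      = (s * x) * (t * ((s * x)⁻¹ * k)) * k⁻¹ := by group
    _ = (s * x) * (((s * x)⁻¹ * k) * t) * k⁻¹ := by rw [h2.eq]
    _ = k * t * k⁻¹ := by group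

/-- The action of `T` on the class of `y`. -/
def act (h : FData D) (hr : InvEquiv D r) (y : G) : ↥(T r) →* Equiv.Perm {t : G // r y t} where
  toFun g :=
    { toFun := fun t => ⟨g * t * (g : G)⁻¹, rel_conj_of_mem_T' h hr g.2 t.2⟩
      invFun := fun t => ⟨(g : G)⁻¹ * t * g, by
        have := rel_conj_of_mem_T' h hr (inv_mem g.2) t.2
        rwa [inv_inv] at this⟩
      left_inv := fun t => by
        apply Subtype.ext
        show (g : G)⁻¹ * (g * t * (g : G)⁻¹) * g = t
        group
      right_inv := fun t => by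
        apply Subtype.ext
        show (g : G) * ((g : G)⁻¹ * t * g) * (g : G)⁻¹ = t
        group }
  map_one' := by
    ext t
    show ((1 : ↥(T r)) : G) * t * ((1 : ↥(T r)) : G)⁻¹ = t
    simp
  map_mul' a b := by
    ext t
    show ((a * b : ↥(T r)) : G) * t * ((a * b : ↥(T r)) : G)⁻¹ = a * (b * t * (b : G)⁻¹) * (a : G)⁻¹
    rw [Subgroup.coe_mul]
    group

theorem act_apply (h : FData D) (hr : InvEquiv D r) (y : G) (g : ↥(T r)) (t : {t : G // r y t}) :
    ((act h hr y g t : {t : G // r y t}) : G) = g * t * (g : G)⁻¹ := rfl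

theorem act_eq_one_iff (h : FData D) (hr : InvEquiv D r) (y : G) (g : ↥(T r)) :
    act h hr y g = 1 ↔ ∀ t, r y t → Commute (g : G) t := by
  constructor
  · intro h1 t ht
    have h2 := act_apply h hr y g ⟨t, ht⟩
    rw [h1] at h2
    have h3 : t = g * t * (g : G)⁻¹ := h2
    show (g : G) * t = t * g
    conv_rhs => rw [h3]
    group
  · intro h1
    ext t
    show (g : G) * t * (g : G)⁻¹ = t
    rw [(h1 t t.2).eq]
    group

section Solv

variable [Finite G]

/-- the image of `T` on each class is solvable -/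
theorem isSolvable_range_act (h : FData D) (hr : InvEquiv D r)
    (hsep : ∀ x ∈ D, ∀ y ∈ D, ¬ r x y → ¬ Commute x y →
      ∃ w ∈ D, ¬ r w x ∧ Commute w x ∧ ¬ Commute w y)
    (hnc : ∀ x ∈ D, ∃ z ∈ D, ¬ r x z ∧ ¬ Commute x z) (y : G) (hy : y ∈ D) :
    Group.IsSolvable (act h hr y).range := by
  classical
  have : (T r).Normal := T_normal hr
  obtain ⟨R, -, hRs, hR⟩ :=
    SignalizersComponents.ComponentExists.exists_solvableRadical ↥(act h hr y).range
  set ψ := (act h hr y).rangeRestrict with hψ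
  have hψs : Function.Surjective ψ := MonoidHom.rangeRestrict_surjective _
  -- the subgroup of `G` consisting of elements mapping into the radical
  set U : Subgroup G := (R.comap ψ).map (T r).subtype with hU
  have hTx : ∀ x ∈ D, ¬ r x y → ¬ Commute x y → Tx r x ≤ U := by
    intro x hx hxy hc
    obtain ⟨w, hw, hwx, hcwx, hcwy⟩ := hsep x hx y hy hxy hc
    have hnorm : ((Tx r x).subgroupOf (T r)).Normal := by
      constructor
      intro n hn g
      rw [Subgroup.mem_subgroupOf] at hn ⊢
      exact conj_mem_Tx h hr g.2 hn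
    have hN : (((Tx r x).subgroupOf (T r)).map ψ).Normal := hnorm.map _ hψs
    have hel : ∀ g : ↥(((Tx r x).subgroupOf (T r)).map ψ), g ^ 2 = 1 ∨ g ^ 3 = 1 := by
      rintro ⟨g, k, hk, rfl⟩
      have hk' : (k : G) ∈ Tx r x := Subgroup.mem_subgroupOf.1 hk
      obtain ⟨s, hxs, hs⟩ := exists_act_like h hr hx hy hxy hc hw hwx hcwx hcwy hk'
      have hsx : s * x ∈ T r := mul_mem_T (hr.symm hxs)
      have e : ψ k = ψ ⟨s * x, hsx⟩ := by
        apply Subtype.ext
        show act h hr y k = act h hr y ⟨s * x, hsx⟩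
        ext t
        rw [act_apply, act_apply]
        exact (hs t t.2).symm
      have key : ∀ n : ℕ, (s * x) ^ n = 1 → (ψ k) ^ n = 1 := by
        intro n hn
        rw [e, ← map_pow]
        have : (⟨s * x, hsx⟩ : ↥(T r)) ^ n = 1 := by
          apply Subtype.ext
          rw [Subgroup.coe_pow]
          exact hn
        rw [this, map_one]
      rcases pow_two_or_three h (hr.mem_right hxs) hx with h2 | h3
      · left
        apply Subtype.ext
        exact key 2 h2
      · right
        apply Subtype.ext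
        exact key 3 h3
    have hsolv : Group.IsSolvable ↥(((Tx r x).subgroupOf (T r)).map ψ) := isSolvable_of_orders hel
    have hle := hR _ hN hsolv
    intro k hk
    have hkT : k ∈ T r := Tx_le_T hr x hk
    refine ⟨⟨k, hkT⟩, ?_, rfl⟩
    show ψ ⟨k, hkT⟩ ∈ R
    exact hle ⟨⟨k, hkT⟩, hk, rfl⟩
  have hTU : T r ≤ U := by
    refine (Subgroup.closure_le _).2 ?_
    rintro _ ⟨x, s, hxs, rfl⟩
    have hx := hr.mem_left hxs
    have hs := hr.mem_right hxs
    by_cases hxy : r x y
    · -- same class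
      obtain ⟨z, hz, hxz, hcz⟩ := hnc x hx
      have hzy : ¬ r z y := fun h1 => hxz (hr.trans hxy (hr.symm h1))
      have hczy : ¬ Commute z y := by
        rw [Commute.symm_iff, ← hr.commute_iff_of_rel h hz hxz hxy]
        exact hcz
      have hb := h.braid x hx z hz hcz
      have hz1 : z * x * z ∈ D := h.conj' hz hx
      have hz1y : ¬ r (z * x * z) y := by
        intro h1
        have h2 : r (x * z * x) x := by rw [hb]; exact hr.trans h1 (hr.symm hxy)
        have h3 := hr.conj' h hx h2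
        rw [h.conj_conj hx, h.sq x hx, one_mul] at h3
        exact hxz (hr.symm h3)
      have hcz1x : ¬ Commute (z * x * z) x := by
        rw [← hb, h.commute_conj_left_iff hx, h.sq x hx, one_mul, Commute.symm_iff]
        exact hcz
      have hcz1y : ¬ Commute (z * x * z) y := by
        have hz1x : ¬ r (z * x * z) x := fun h1 => hz1y (hr.trans h1 hxy)
        rw [← hr.commute_iff_of_rel' h hz1x (hr.refl hz1) hxy]
        exact hcz1x
      -- x * s = (z1 * z2) * ((z1*z2)⁻¹ * z * (z1 * z2)) * z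
      have hm : (z * x * z) * (z * s * z) ∈ Tx r (z * x * z) :=
        mul_mem_Tx (hr.refl hz1) (hr.conj' h hz hxs)
      have hmT := Tx_le_T hr _ hm
      have hz2 : r z (((z * x * z) * (z * s * z))⁻¹ * z * ((z * x * z) * (z * s * z))) := by
        have := rel_conj_of_mem_T h hr (inv_mem hmT) hz
        rwa [inv_inv] at this
      have hm2 : (((z * x * z) * (z * s * z))⁻¹ * z * ((z * x * z) * (z * s * z))) * z ∈ Tx r z :=
        mul_mem_Tx hz2 (hr.refl hz)
      have h1 := hTx _ hz1 hz1y hcz1y hm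
      have h2 := hTx _ hz hzy hczy hm2
      have e : x * s = ((z * x * z) * (z * s * z)) *
          ((((z * x * z) * (z * s * z))⁻¹ * z * ((z * x * z) * (z * s * z))) * z) := by
        have hzz := h.sq z hz
        calc x * s = (z * z) * x * (z * z) * s * (z * z) := by rw [hzz]; simp
          _ = z * ((z * x * z) * (z * s * z)) * z := by simp only [mul_assoc]
          _ = _ := by group
      rw [SetLike.mem_coe, e]
      exact mul_mem h1 h2
    · by_cases hc : Commute x y
      · -- acts trivially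
        refine ⟨⟨x * s, mul_mem_T hxs⟩, ?_, rfl⟩
        show ψ ⟨x * s, mul_mem_T hxs⟩ ∈ R
        have : ψ ⟨x * s, mul_mem_T hxs⟩ = 1 := by
          apply Subtype.ext
          show act h hr y ⟨x * s, mul_mem_T hxs⟩ = 1
          rw [act_eq_one_iff]
          intro t ht
          have h1 : Commute x t := (hr.commute_iff_of_rel' h hxy (hr.refl hx) ht).1 hc
          have h2 : Commute s t := (hr.commute_iff_of_rel' h hxy hxs ht).1 hc
          exact h1.mul_left h2
        rw [this]
        exact one_mem _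
      · exact hTx x hx hxy hc (mul_mem_Tx (hr.refl hx) hxs)
  have htop : R = ⊤ := by
    rw [eq_top_iff]
    rintro g -
    obtain ⟨k, rfl⟩ := hψs g
    obtain ⟨k', hk', hkk⟩ := hTU k.2
    have : k' = k := Subtype.ext hkk
    rw [← this]
    exact hk'
  rw [htop] at hRs
  exact Group.isSolvable_of_surjective (f := (Subgroup.topEquiv (G := ↥(act h hr y).range)).toMonoidHom)
    (Subgroup.topEquiv (G := ↥(act h hr y).range)).surjective

/-- `T` is solvable. -/
theorem isSolvable_T (h : FData D) (hr : InvEquiv D r)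
    (hsep : ∀ x ∈ D, ∀ y ∈ D, ¬ r x y → ¬ Commute x y →
      ∃ w ∈ D, ¬ r w x ∧ Commute w x ∧ ¬ Commute w y)
    (hnc : ∀ x ∈ D, ∃ z ∈ D, ¬ r x z ∧ ¬ Commute x z) (hZ : Subgroup.center G = ⊥) :
    Group.IsSolvable (T r) := by
  classical
  have hsol : ∀ y : {y : G // y ∈ D}, ∃ n : ℕ, derivedSeries ↥(act h hr (y : G)).range n = ⊥ :=
    fun y => (isSolvable_range_act h hr hsep hnc y.1 y.2).solvable
  choose n hn using hsol
  obtain ⟨N, hN⟩ : ∃ N : ℕ, ∀ y, n y ≤ N := by
    obtain ⟨N, hN⟩ := (Set.finite_range n).bddAbove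
    exact ⟨N, fun y => hN ⟨y, rfl⟩⟩
  refine ⟨⟨N, ?_⟩⟩
  rw [eq_bot_iff]
  intro g hg
  have hg1 : ∀ y (hy : y ∈ D), act h hr y g = 1 := by
    intro y hy
    have h1 : (derivedSeries ↥(T r) N).map (act h hr y).rangeRestrict
        ≤ derivedSeries ↥(act h hr y).range N := map_derivedSeries_le_derivedSeries _ _
    have h2 : derivedSeries ↥(act h hr y).range N ≤ ⊥ := by
      rw [← hn ⟨y, hy⟩]
      exact derivedSeries_antitone _ (hN ⟨y, hy⟩)
    have h3 := h2 (h1 ⟨g, hg, rfl⟩)
    exact congrArg Subtype.val (Subgroup.mem_bot.1 h3)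
  have hc : (g : G) ∈ Subgroup.center G :=
    h.mem_center_of_forall_commute (fun y hy =>
      (act_eq_one_iff h hr y g).1 (hg1 y hy) y (hr.refl hy))
  rw [hZ, Subgroup.mem_bot] at hc
  exact Subgroup.mem_bot.2 (Subtype.ext hc)

end Solv

end Cfsg.Agent.SporadicStructure.FischerSolv
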