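import Mathlib
import Cfsg.Agent.SporadicStructure.FischerSolv
import Cfsg.Agent.S1618

set_option autoImplicit false

/-!
# Primitivity of 3-transposition groups with perfect derived group and no solvable normal subgroup
-/

namespace Cfsg.Agent.SporadicStructure.FischerPrimitive

open Cfsg Cfsg.Agent.SporadicStructure.FischerSpace Cfsg.Agent.SporadicStructure.FischerSolv
open scoped commutatorElement

variable {G : Type*} [Group G] {D : Set G} {r : G → G → Prop}

/-- equality on `D` is an invariant equivalence relation -/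
theorem invEquiv_eq (h : FData D) : InvEquiv D (fun x y => x ∈ D ∧ x = y) where
  mem_left := fun h1 => h1.1
  refl := fun hx => ⟨hx, rfl⟩
  symm := by rintro x y ⟨hx, rfl⟩; exact ⟨hx, rfl⟩
  trans := by rintro x y z ⟨hx, rfl⟩ ⟨_, rfl⟩; exact ⟨hx, rfl⟩
  conj := by rintro g x y ⟨hx, rfl⟩; exact ⟨h.conj g x hx, rfl⟩

theorem not_rel_conj (hr : InvEquiv D r) {g x y : G} (hxy : ¬ r x y) :
    ¬ r (g * x * g⁻¹) (g * y * g⁻¹) := by
  intro h1
  have h2 := hr.conj g⁻¹ h1
  have e : ∀ w : G, g⁻¹ * (g * w * g⁻¹) * g⁻¹⁻¹ = w := by intro w; group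
  rw [e, e] at h2
  exact hxy h2

/-- if `r` is not universal, every member has an inequivalent noncommuting member -/
theorem exists_not_commute (h : FData D) (hr : InvEquiv D r)
    (hne : ∃ x ∈ D, ∃ y ∈ D, ¬ r x y) : ∀ x ∈ D, ∃ z ∈ D, ¬ r x z ∧ ¬ Commute x z := by
  have h0 : ∃ x ∈ D, ∃ z ∈ D, ¬ r x z ∧ ¬ Commute x z := by
    by_contra hcon
    push Not at hcon
    obtain ⟨x0, hx0, y0, hy0, hxy0⟩ := hne
    have hle : (⊤ : Subgroup G) ≤ InvEquiv.ker D r hr h.conj := by
      rw [← h.gen]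
      refine (Subgroup.closure_le _).2 ?_
      intro d hd u hu
      rw [h.inv_eq hd]
      by_cases hdu : r d u
      · have := hr.conj' h hd (hr.symm hdu)
        rw [h.sq d hd, one_mul] at this
        exact hr.trans (hr.symm hdu) (hr.symm this)
      · have := hcon d hd u hu hdu
        rw [(h.commute_iff hd u).1 this]
        exact hr.refl hu
    obtain ⟨g, hg⟩ := h.single x0 hx0 y0 hy0
    have := hle (Subgroup.mem_top g) x0 hx0
    rw [hg] at this
    exact hxy0 this
  obtain ⟨x0, hx0, z0, hz0, h1, h2⟩ := h0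
  intro x hx
  obtain ⟨g, rfl⟩ := h.single x0 hx0 x hx
  refine ⟨g * z0 * g⁻¹, h.conj g z0 hz0, not_rel_conj hr h1, ?_⟩
  rw [FData.commute_conj_gen]
  exact h2

/-- A perfect commutator subgroup that is nilpotent is trivial. -/
theorem comm_of_nilpotent_perfect {H : Type*} [Group H]
    (hperf : ⁅commutator H, commutator H⁆ = commutator H)
    (hnil : Group.IsNilpotent ↥(commutator H)) : ∀ a b : H, a * b = b * a := by
  have hs : Group.IsSolvable H := by
    rw [Group.isSolvable_iff_subgroup_quotient (commutator H)]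
    refine ⟨inferInstance, ?_⟩
    apply Group.isSolvable_of_comm
    intro a b
    obtain ⟨a, rfl⟩ := QuotientGroup.mk_surjective a
    obtain ⟨b, rfl⟩ := QuotientGroup.mk_surjective b
    rw [← QuotientGroup.mk_mul, ← QuotientGroup.mk_mul, QuotientGroup.eq]
    have : (a * b)⁻¹ * (b * a) = ⁅b⁻¹, a⁻¹⁆ := by
      rw [commutatorElement_def]; group
    rw [this]
    exact Subgroup.commutator_mem_commutator (Subgroup.mem_top _) (Subgroup.mem_top _)
  have hbot : commutator H = ⊥ := by
    by_contra hne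
    have := Group.IsSolvable.commutator_lt_of_ne_bot hne
    rw [hperf] at this
    exact lt_irrefl _ this
  intro a b
  have : ⁅a, b⁆ ∈ commutator H :=
    Subgroup.commutator_mem_commutator (Subgroup.mem_top _) (Subgroup.mem_top _)
  rw [hbot, Subgroup.mem_bot] at this
  exact commutatorElement_eq_one_iff_mul_comm.1 this

/-- If inequivalent members never commute, `r` is universal (given a perfect commutator
subgroup). -/
theorem universal_of_not_commute [Finite G] (h : FData D) (hr : InvEquiv D r)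
    (hperf : ⁅commutator G, commutator G⁆ = commutator G)
    (hnc : ∀ x ∈ D, ∀ y ∈ D, ¬ r x y → ¬ Commute x y) : ∀ x ∈ D, ∀ y ∈ D, r x y := by
  by_contra hne
  push Not at hne
  obtain ⟨x, hx, y, hy, hxy⟩ := hne
  have hTn : (T r).Normal := T_normal hr
  have hxT : x ∉ T r := by
    intro hxT
    have htop : (⊤ : Subgroup G) ≤ T r := by
      rw [← h.gen]
      refine (Subgroup.closure_le _).2 ?_
      intro d hd
      obtain ⟨g, rfl⟩ := h.single x hx d hd
      exact hTn.conj_mem x hxT g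
    obtain ⟨g, hg⟩ := h.single x hx y hy
    have := rel_conj_of_mem_T h hr (htop (Subgroup.mem_top g)) hx
    rw [hg] at this
    exact hxy this
  set π := QuotientGroup.mk' (T r) with hπ
  have hπs : Function.Surjective π := QuotientGroup.mk'_surjective _
  have hone : ∀ g : G, π g = 1 ↔ g ∈ T r := fun g => by
    rw [hπ, QuotientGroup.mk'_apply, QuotientGroup.eq_one_iff]
  have hconj : π '' D = conjugatesOf (π x) := by
    ext d
    constructor
    · rintro ⟨d, hd, rfl⟩
      obtain ⟨g, rfl⟩ := h.single x hx d hd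
      show IsConj _ _
      rw [isConj_iff]
      exact ⟨π g, by rw [← map_inv, ← map_mul, ← map_mul]⟩
    · intro hd
      have hd' : IsConj (π x) d := hd
      obtain ⟨c, rfl⟩ := isConj_iff.1 hd'
      obtain ⟨g, rfl⟩ := hπs c
      exact ⟨g * x * g⁻¹, h.conj g x hx, by rw [map_mul, map_mul, map_inv]⟩
  have hord : ∀ d ∈ π '' D, orderOf d = 2 := by
    rintro _ ⟨d, hd, rfl⟩
    rw [orderOf_eq_prime_iff]
    refine ⟨by rw [pow_two, ← map_mul, h.sq d hd, map_one], ?_⟩
    intro h1
    obtain ⟨g, rfl⟩ := h.single x hx d hd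
    rw [hone] at h1
    have := hTn.conj_mem _ h1 g⁻¹
    have e : g⁻¹ * (g * x * g⁻¹) * g⁻¹⁻¹ = x := by group
    rw [e] at this
    exact hxT this
  have hgen : Subgroup.closure (π '' D) = ⊤ := by
    rw [← MonoidHom.map_closure, h.gen, Subgroup.map_top_of_surjective _ hπs]
  have hprod : ∀ a ∈ π '' D, ∀ b ∈ π '' D, a ≠ b → ∃ k : ℕ, orderOf (a * b) = 3 ^ k := by
    rintro _ ⟨a, ha, rfl⟩ _ ⟨b, hb, rfl⟩ hab
    have hrab : ¬ r a b := by
      intro h1
      apply hab
      have h2 : π (a * b) = 1 := (hone _).2 (mul_mem_T h1)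
      rw [map_mul] at h2
      rw [eq_inv_of_mul_eq_one_left h2, ← map_inv, h.inv_eq hb]
    have hc := hnc a ha b hb hrab
    have h3 : (a * b) ^ 3 = 1 := by
      have hbr := h.braid a ha b hb hc
      calc (a * b) ^ 3 = (a * b * a) * (b * a * b) := by
            rw [pow_succ, pow_two]; simp only [mul_assoc]
        _ = (a * b * a) * (a * b * a) := by rw [hbr]
        _ = 1 := h.sq _ (h.conj' ha hb)
    have h4 : (π a * π b) ^ 3 = 1 := by rw [← map_mul, ← map_pow, h3, map_one]
    have h5 := orderOf_dvd_of_pow_eq_one h4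
    rcases (Nat.dvd_prime Nat.prime_three).1 h5 with h6 | h6
    · exact ⟨0, by rw [h6, pow_zero]⟩
    · exact ⟨1, by rw [h6, pow_one]⟩
  have hnil := Cfsg.Agent.S1618.result 3 Nat.prime_three (by norm_num) (D := π '' D) hord
    ⟨π x, ⟨x, hx, rfl⟩, hconj⟩ hgen hprod
  have hperf' : ⁅commutator (G ⧸ T r), commutator (G ⧸ T r)⁆ = commutator (G ⧸ T r) := by
    have h1 : (commutator G).map π = commutator (G ⧸ T r) := by
      rw [commutator_def, Subgroup.map_commutator, Subgroup.map_top_of_surjective _ hπs,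
        commutator_def]
    rw [← h1, ← Subgroup.map_commutator, hperf]
  have hcomm := comm_of_nilpotent_perfect hperf' hnil
  -- `x` and `z` noncommuting and inequivalent
  obtain ⟨z, hz, hxz, hcz⟩ := exists_not_commute h hr ⟨x, hx, y, hy, hxy⟩ x hx
  have hbr := h.braid x hx z hz hcz
  have h1 : x * z * x * z ∈ T r := by
    rw [← hone, map_mul, map_mul, map_mul, hcomm (π x) (π z)]
    rw [mul_assoc (π z), ← map_mul π x x, h.sq x hx, map_one, mul_one, ← map_mul, h.sq z hz, map_one]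
  have h2 := rel_conj_of_mem_T h hr h1 hz
  have e : x * z * x * z * z * (x * z * x * z)⁻¹ = x := by
    have hz2 := h.sq z hz
    rw [mul_inv_rev, mul_inv_rev, mul_inv_rev, h.inv_eq hx, h.inv_eq hz]
    calc x * z * x * z * z * (z * (x * (z * x)))
        = (x * z * x) * (z * z) * (z * x * z) * x := by simp only [mul_assoc]
      _ = (x * z * x) * (z * x * z) * x := by rw [hz2, mul_one]
      _ = (x * z * x) * (x * z * x) * x := by rw [hbr]
      _ = x := by rw [h.sq _ (h.conj' hx hz), one_mul]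
  rw [e] at h2
  exact hxz (hr.symm h2)

theorem center_eq_bot (hsol : ∀ N : Subgroup G, N.Normal → Group.IsSolvable ↥N → N = ⊥) :
    Subgroup.center G = ⊥ :=
  hsol _ inferInstance (Group.isSolvable_of_comm (fun a b =>
    Subtype.ext ((Subgroup.mem_center_iff.1 b.2 a))))

/-- the relation "the same inequivalent members commute with `x` and with `y`" -/
def rel2 (D : Set G) (r : G → G → Prop) (x y : G) : Prop :=
  x ∈ D ∧ y ∈ D ∧ ∀ w ∈ D, (¬ r w x ∧ Commute w x) ↔ (¬ r w y ∧ Commute w y)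

theorem rel2_def (D : Set G) (r : G → G → Prop) (x y : G) : rel2 D r x y ↔
  (x ∈ D ∧ y ∈ D ∧ ∀ w ∈ D, (¬ r w x ∧ Commute w x) ↔ (¬ r w y ∧ Commute w y)) := Iff.rfl

theorem invEquiv_rel2 (h : FData D) (hr : InvEquiv D r) : InvEquiv D (rel2 D r) where
  mem_left := fun h1 => h1.1
  refl := fun hx => ⟨hx, hx, fun _ _ => Iff.rfl⟩
  symm := fun h1 => ⟨h1.2.1, h1.1, fun w hw => (h1.2.2 w hw).symm⟩
  trans := fun h1 h2 => ⟨h1.1, h2.2.1, fun w hw => (h1.2.2 w hw).trans (h2.2.2 w hw)⟩
  conj := by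
    rintro g x y ⟨hx, hy, hxy⟩
    refine ⟨h.conj g x hx, h.conj g y hy, ?_⟩
    have key : ∀ w z : G, (¬ r w (g * z * g⁻¹) ∧ Commute w (g * z * g⁻¹)) ↔
        (¬ r (g⁻¹ * w * g⁻¹⁻¹) z ∧ Commute (g⁻¹ * w * g⁻¹⁻¹) z) := by
      intro w z
      have e : g⁻¹ * (g * z * g⁻¹) * g⁻¹⁻¹ = z := by group
      have e2 : g * (g⁻¹ * w * g⁻¹⁻¹) * g⁻¹ = w := by group
      have h1 : Commute w (g * z * g⁻¹) ↔ Commute (g⁻¹ * w * g⁻¹⁻¹) z := by
        conv_lhs => rw [← FData.commute_conj_gen g⁻¹, e]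
      have h2 : r w (g * z * g⁻¹) ↔ r (g⁻¹ * w * g⁻¹⁻¹) z := by
        constructor
        · intro h3
          have := hr.conj g⁻¹ h3
          rwa [e] at this
        · intro h3
          have := hr.conj g h3
          rwa [e2] at this
      rw [h1, h2]
    intro w hw
    rw [key w x, key w y]
    exact hxy _ (h.conj g⁻¹ w hw)

/-- **Primitivity** of `G` on `D`. -/
theorem primitive [Finite G] (h : FData D)
    (hsol : ∀ N : Subgroup G, N.Normal → Group.IsSolvable ↥N → N = ⊥)
    (hperf : ⁅commutator G, commutator G⁆ = commutator G) (hr : InvEquiv D r) :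
    (∀ x y, r x y → x = y) ∨ (∀ x ∈ D, ∀ y ∈ D, r x y) := by
  classical
  by_contra hcon
  rw [not_or] at hcon
  obtain ⟨hcon1, hcon2⟩ := hcon
  push Not at hcon1 hcon2
  -- a maximal non-universal relation above `r`
  obtain ⟨q, hq⟩ := Set.Finite.exists_maximal
    (s := {q : G → G → Prop | InvEquiv D q ∧ r ≤ q ∧ ∃ x ∈ D, ∃ y ∈ D, ¬ q x y}) (Set.toFinite _)
    ⟨r, hr, le_rfl, hcon2⟩
  obtain ⟨hqi, hrq, hqn⟩ := hq.prop
  have hmax : ∀ q' : G → G → Prop, InvEquiv D q' → (∀ x y, q x y → q' x y) →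
      (∀ x ∈ D, ∀ y ∈ D, q' x y) ∨ (∀ x y, q' x y → q x y) := by
    intro q' hq' hle
    by_cases hu : ∀ x ∈ D, ∀ y ∈ D, q' x y
    · exact Or.inl hu
    · right
      push Not at hu
      have hle' : q ≤ q' := fun x y => hle x y
      exact fun x y => hq.le_of_ge ⟨hq', hrq.trans hle', hu⟩ hle' x y
  have hnc := exists_not_commute h hqi hqn
  rcases hmax (rel2 D q) (invEquiv_rel2 h hqi) (by
    intro x y hxy
    refine ⟨hqi.mem_left hxy, hqi.mem_right hxy, ?_⟩
    intro w hw
    constructor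
    · rintro ⟨h1, h2⟩
      exact ⟨fun h3 => h1 (hqi.trans h3 (hqi.symm hxy)),
        (hqi.commute_iff_of_rel' h h1 (hqi.refl hw) hxy).1 h2⟩
    · rintro ⟨h1, h2⟩
      exact ⟨fun h3 => h1 (hqi.trans h3 hxy),
        (hqi.commute_iff_of_rel' h h1 (hqi.refl hw) (hqi.symm hxy)).1 h2⟩) with hu | hu
  · -- inequivalent members never commute
    obtain ⟨x0, hx0, y0, hy0, hxy0⟩ := hqn
    apply hxy0
    refine universal_of_not_commute h hqi hperf ?_ x0 hx0 y0 hy0
    intro x hx y hy hxy hc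
    have h1 := (hu y hy x hx).2.2 x hx
    exact (h1.1 ⟨hxy, hc⟩).1 (hqi.refl hx)
  · have hsep : ∀ x ∈ D, ∀ y ∈ D, ¬ q x y → ¬ Commute x y →
        ∃ w ∈ D, ¬ q w x ∧ Commute w x ∧ ¬ Commute w y := by
      intro x hx y hy hxy hc
      have h1 : ¬ rel2 D q x y := fun h2 => hxy (hu x y h2)
      rw [rel2_def] at h1
      push Not at h1
      obtain ⟨w, hw, h2⟩ := h1 hx hy
      rcases h2 with ⟨⟨h3, h4⟩, h5⟩ | ⟨h3, h5, h4⟩
      · refine ⟨w, hw, h3, h4, ?_⟩
        by_cases h6 : q w y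
        · exfalso
          exact hc ((hqi.commute_iff_of_rel h hx h3 h6).1 h4).symm
        · exact h5 h6
      · -- `w` commutes with `y`
        have h6 : ¬ Commute w x := by
          by_cases h7 : q w x
          · exfalso
            exact hc ((hqi.commute_iff_of_rel h hy h5 h7).1 h4)
          · exact h3 h7
        have hz : x * y * x ∈ D := h.conj' hx hy
        have hzx := h.third_conj hx hy hc
        have hzy : (x * y * x) * y * (x * y * x) = x := by
          have := h.conj_conj hz x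
          rw [hzx] at this
          exact this
        refine ⟨(x * y * x) * w * (x * y * x), h.conj' hz hw, ?_, ?_, ?_⟩
        · intro h8
          have := hqi.conj' h hz h8
          rw [h.conj_conj hz, hzx] at this
          exact h5 this
        · rw [h.commute_conj_left_iff hz, hzx]
          exact h4
        · rw [h.commute_conj_left_iff hz, hzy]
          exact h6
    have hT := isSolvable_T h hqi hsep hnc (center_eq_bot hsol)
    have hT0 := hsol _ (T_normal hqi) hT
    obtain ⟨x, y, hxy, hne⟩ := hcon1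
    apply hne
    have h1 : x * y ∈ T q := mul_mem_T (hrq x y hxy)
    rw [hT0, Subgroup.mem_bot] at h1
    rw [eq_inv_of_mul_eq_one_left h1, h.inv_eq (hr.mem_right hxy)]

/-! ### Consequences -/

section Consequences

variable [Finite G]

theorem nontrivial_D (h : FData D)
    (hsol : ∀ N : Subgroup G, N.Normal → Group.IsSolvable ↥N → N = ⊥) :
    ∃ x ∈ D, ∃ y ∈ D, x ≠ y := by
  by_contra hcon
  push Not at hcon
  obtain ⟨x, hx⟩ := h.nonempty
  have hc : x ∈ Subgroup.center G := by
    apply h.mem_center_of_forall_commute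
    intro y hy
    rw [hcon x hx y hy]
  rw [center_eq_bot hsol, Subgroup.mem_bot] at hc
  exact h.ne_one x hx hc

/-- every member has a noncommuting member -/
theorem exists_col (h : FData D)
    (hsol : ∀ N : Subgroup G, N.Normal → Group.IsSolvable ↥N → N = ⊥) :
    ∀ x ∈ D, ∃ z ∈ D, ¬ Commute x z := by
  intro x hx
  by_contra hcon
  push Not at hcon
  have hc := h.mem_center_of_forall_commute hcon
  rw [center_eq_bot hsol, Subgroup.mem_bot] at hc
  exact h.ne_one x hx hc

/-- every member has another commuting member -/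
theorem exists_perp (h : FData D)
    (hsol : ∀ N : Subgroup G, N.Normal → Group.IsSolvable ↥N → N = ⊥)
    (hperf : ⁅commutator G, commutator G⁆ = commutator G) :
    ∀ x ∈ D, ∃ z ∈ D, z ≠ x ∧ Commute x z := by
  have h0 : ∃ x ∈ D, ∃ z ∈ D, z ≠ x ∧ Commute x z := by
    by_contra hcon
    push Not at hcon
    obtain ⟨x, hx, y, hy, hxy⟩ := nontrivial_D h hsol
    apply hxy
    refine (universal_of_not_commute h (invEquiv_eq h) hperf ?_ x hx y hy).2
    intro a ha b hb hab
    exact hcon a ha b hb (fun h1 => hab ⟨ha, h1.symm⟩)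
  obtain ⟨x0, hx0, z0, hz0, hne, hc⟩ := h0
  intro x hx
  obtain ⟨g, rfl⟩ := h.single x0 hx0 x hx
  refine ⟨g * z0 * g⁻¹, h.conj g z0 hz0, ?_, ?_⟩
  · intro h1
    exact hne (mul_left_cancel (mul_right_cancel h1))
  · rw [FData.commute_conj_gen]
    exact hc

/-- `A_x = A_y` implies `x = y`. -/
theorem eq_of_commute_iff (h : FData D)
    (hsol : ∀ N : Subgroup G, N.Normal → Group.IsSolvable ↥N → N = ⊥)
    (hperf : ⁅commutator G, commutator G⁆ = commutator G) {x y : G} (hx : x ∈ D) (hy : y ∈ D)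
    (hxy : ∀ w ∈ D, Commute w x ↔ Commute w y) : x = y := by
  have hq : InvEquiv D (fun a b => a ∈ D ∧ b ∈ D ∧ ∀ w ∈ D, (Commute w a ↔ Commute w b)) := by
    refine ⟨fun h1 => h1.1, fun ha => ⟨ha, ha, fun _ _ => Iff.rfl⟩,
      fun h1 => ⟨h1.2.1, h1.1, fun w hw => (h1.2.2 w hw).symm⟩,
      fun h1 h2 => ⟨h1.1, h2.2.1, fun w hw => (h1.2.2 w hw).trans (h2.2.2 w hw)⟩, ?_⟩
    rintro g a b ⟨ha, hb, hab⟩
    refine ⟨h.conj g a ha, h.conj g b hb, ?_⟩
    intro w hw
    have key : ∀ z : G, Commute w (g * z * g⁻¹) ↔ Commute (g⁻¹ * w * g⁻¹⁻¹) z := by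
      intro z
      have e : g⁻¹ * (g * z * g⁻¹) * g⁻¹⁻¹ = z := by group
      conv_lhs => rw [← FData.commute_conj_gen g⁻¹, e]
    rw [key, key]
    exact hab _ (h.conj g⁻¹ w hw)
  rcases primitive h hsol hperf hq with h1 | h1
  · exact h1 x y ⟨hx, hy, hxy⟩
  · exfalso
    obtain ⟨z, hz, hxz⟩ := exists_col h hsol x hx
    exact hxz (((h1 x hx z hz).2.2 x hx).1 (Commute.refl x))

/-- `D_x = D_y` implies `x = y`. -/
theorem eq_of_perp_iff (h : FData D)
    (hsol : ∀ N : Subgroup G, N.Normal → Group.IsSolvable ↥N → N = ⊥)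
    (hperf : ⁅commutator G, commutator G⁆ = commutator G) {x y : G} (hx : x ∈ D) (hy : y ∈ D)
    (hxy : ∀ w ∈ D, (w ≠ x ∧ Commute w x) ↔ (w ≠ y ∧ Commute w y)) : x = y := by
  have hq := invEquiv_rel2 h (invEquiv_eq h)
  have hkey : ∀ w ∈ D, ∀ z : G, (¬ (w ∈ D ∧ w = z) ∧ Commute w z) ↔ (w ≠ z ∧ Commute w z) := by
    intro w hw z
    simp [hw]
  rcases primitive h hsol hperf hq with h1 | h1
  · refine h1 x y ⟨hx, hy, ?_⟩
    intro w hw
    rw [hkey w hw, hkey w hw]
    exact hxy w hw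
  · exfalso
    obtain ⟨z, hz, hne, hc⟩ := exists_perp h hsol hperf x hx
    have h2 := (h1 x hx z hz).2.2 z hz
    rw [hkey z hz, hkey z hz] at h2
    exact (h2.1 ⟨hne, hc.symm⟩).1 rfl

end Consequences

end Cfsg.Agent.SporadicStructure.FischerPrimitive
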