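import Mathlib
import Cfsg.Agent.SporadicStructure.FischerPrimitive

set_option autoImplicit false

/-!
# Fischer's rank three theorem and connectedness of the set of transpositions commuting with one
-/

namespace Cfsg.Agent.SporadicStructure.FischerRank3

open Cfsg Cfsg.Agent.SporadicStructure.FischerSpace Cfsg.Agent.SporadicStructure.FischerSolv
open Cfsg.Agent.SporadicStructure.FischerPrimitive

variable {G : Type*} [Group G] {D : Set G}

/-- `(x, u)` and `(y, v)` are conjugate pairs -/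
def PR (x u y v : G) : Prop := ∃ g : G, g * x * g⁻¹ = y ∧ g * u * g⁻¹ = v

theorem PR.refl (x u : G) : PR x u x u := ⟨1, by simp, by simp⟩

theorem PR.symm {x u y v : G} (h : PR x u y v) : PR y v x u := by
  obtain ⟨g, rfl, rfl⟩ := h
  exact ⟨g⁻¹, by group, by group⟩

theorem PR.trans {x u y v z w : G} (h : PR x u y v) (h' : PR y v z w) : PR x u z w := by
  obtain ⟨g, rfl, rfl⟩ := h
  obtain ⟨k, rfl, rfl⟩ := h'
  exact ⟨k * g, by group, by group⟩

theorem PR.conj (g x u : G) : PR x u (g * x * g⁻¹) (g * u * g⁻¹) := ⟨g, rfl, rfl⟩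

theorem PR.conj' (h : FData D) {x y u : G} (hx : x ∈ D) : PR y u (x * y * x) (x * u * x) := by
  have := PR.conj x y u
  rwa [h.inv_eq hx] at this

theorem PR.commute_iff {x u y v : G} (h : PR x u y v) : Commute x u ↔ Commute y v := by
  obtain ⟨g, rfl, rfl⟩ := h
  exact (FData.commute_conj_gen g x u).symm

theorem PR.flip {x u y v : G} (h : PR x u y v) : PR u x v y := by
  obtain ⟨g, h1, h2⟩ := h
  exact ⟨g, h2, h1⟩

theorem third_conj' (h : FData D) {x y : G} (hx : x ∈ D) (hy : y ∈ D) (hxy : ¬ Commute x y) :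
    (x * y * x) * y * (x * y * x) = x := by
  have := h.conj_conj (h.conj' hx hy) x
  rwa [h.third_conj hx hy hxy] at this

/-- swap of a noncommuting pair -/
theorem PR.swap (h : FData D) {x y : G} (hx : x ∈ D) (hy : y ∈ D) (hxy : ¬ Commute x y) :
    PR x y y x := by
  have := PR.conj' h (x := x * y * x) (y := x) (u := y) (h.conj' hx hy)
  rwa [h.third_conj hx hy hxy, third_conj' h hx hy hxy] at this

/-- the symmetric group of degree four -/
theorem s4 (h : FData D) {u c z : G} (hu : u ∈ D) (hc : c ∈ D) (hz : z ∈ D) (hcz : Commute c z)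
    (huc : ¬ Commute u c) (huz : ¬ Commute u z) :
    ∃ g : G, g * u * g⁻¹ = u ∧ g * c * g⁻¹ = z ∧ g * z * g⁻¹ = c := by
  have hbc := h.braid u hu c hc huc
  have hbz := h.braid u hu z hz huz
  have hw : z * u * z ∈ D := h.conj' hz hu
  have hf : c * (z * u * z) * c ∈ D := h.conj' hc hw
  have hcf : Commute (c * (z * u * z) * c) u := by
    rw [h.commute_conj_left_iff hc, ← hbz, ← hbc, h.commute_conj_iff hu]
    exact hcz.symm
  have e1 : (c * (z * u * z) * c) * c * (c * (z * u * z) * c) = z * u * z := by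
    have hcc := h.sq c hc
    have hzz := h.sq z hz
    have hzcz : z * c * z = c := (h.commute_iff hz c).1 hcz.symm
    calc (c * (z * u * z) * c) * c * (c * (z * u * z) * c)
        = c * (z * u * z) * (c * c) * c * (z * u * z) * c := by simp only [mul_assoc]
      _ = c * z * u * (z * c * z) * u * z * c := by rw [hcc]; simp only [mul_assoc, one_mul]
      _ = c * z * (u * c * u) * z * c := by rw [hzcz]; simp only [mul_assoc]
      _ = (c * z * c) * u * (c * z * c) := by rw [hbc]; simp only [mul_assoc]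
      _ = z * u * z := by rw [(h.commute_iff hc z).1 hcz]
  have e2 : (c * (z * u * z) * c) * z * (c * (z * u * z) * c) = c * u * c := by
    have hcc := h.sq c hc
    have hzz := h.sq z hz
    have hczc : c * z * c = z := (h.commute_iff hc z).1 hcz
    calc (c * (z * u * z) * c) * z * (c * (z * u * z) * c)
        = c * (z * u * z) * (c * z * c) * (z * u * z) * c := by simp only [mul_assoc]
      _ = c * z * u * (z * z) * z * u * z * c := by rw [hczc]; simp only [mul_assoc]
      _ = c * z * (u * z * u) * z * c := by rw [hzz]; simp only [mul_assoc, one_mul]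
      _ = c * (z * z) * u * (z * z) * c := by rw [hbz]; simp only [mul_assoc]
      _ = c * u * c := by rw [hzz, mul_one, mul_one]
  have hfi := h.inv_eq hf
  have hui := h.inv_eq hu
  refine ⟨u * (c * (z * u * z) * c), ?_, ?_, ?_⟩
  · rw [mul_inv_rev, hfi, hui]
    calc u * (c * (z * u * z) * c) * u * (c * (z * u * z) * c * u)
        = u * ((c * (z * u * z) * c) * u * (c * (z * u * z) * c)) * u := by simp only [mul_assoc]
      _ = u := by rw [(h.commute_iff hf u).1 hcf, h.sq u hu, one_mul]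
  · rw [mul_inv_rev, hfi, hui]
    calc u * (c * (z * u * z) * c) * c * (c * (z * u * z) * c * u)
        = u * ((c * (z * u * z) * c) * c * (c * (z * u * z) * c)) * u := by simp only [mul_assoc]
      _ = z := by rw [e1, ← hbz, h.conj_conj hu]
  · rw [mul_inv_rev, hfi, hui]
    calc u * (c * (z * u * z) * c) * z * (c * (z * u * z) * c * u)
        = u * ((c * (z * u * z) * c) * z * (c * (z * u * z) * c)) * u := by simp only [mul_assoc]
      _ = c := by rw [e2, ← hbc, h.conj_conj hu]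

theorem s4_PR (h : FData D) {u c z : G} (hu : u ∈ D) (hc : c ∈ D) (hz : z ∈ D) (hcz : Commute c z)
    (huc : ¬ Commute u c) (huz : ¬ Commute u z) : PR u c u z := by
  obtain ⟨g, h1, h2, -⟩ := s4 h hu hc hz hcz huc huz
  exact ⟨g, h1, h2⟩

section Main

variable [Finite G] (h : FData D)
  (hsol : ∀ N : Subgroup G, N.Normal → Group.IsSolvable ↥N → N = ⊥)
  (hperf : ⁅commutator G, commutator G⁆ = commutator G)

include h hsol hperf

/-- If `c` commutes with `x` and all `R`-neighbours of `x`, contradiction. -/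
theorem false_of_commute_all (R : G → G → Prop) (hRD : ∀ a b, R a b → a ∈ D ∧ b ∈ D ∧ ¬ Commute a b)
    (hRs : ∀ a b, R a b → R b a) (hRc : ∀ g a b, R a b → R (g * a * g⁻¹) (g * b * g⁻¹))
    (hRn : ∃ a b, R a b) {c x : G} (hc : c ∈ D) (hx : x ∈ D) (hcx : Commute c x)
    (hall : ∀ b, R x b → Commute c b) : False := by
  have hq : InvEquiv D (fun a b => a ∈ D ∧ Relation.ReflTransGen R a b) := by
    refine ⟨fun h1 => h1.1, fun ha => ⟨ha, Relation.ReflTransGen.refl⟩, ?_, ?_, ?_⟩
    · rintro a b ⟨ha, hab⟩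
      have hb : b ∈ D := by
        induction hab with
        | refl => exact ha
        | tail _ h2 _ => exact (hRD _ _ h2).2.1
      refine ⟨hb, ?_⟩
      clear hb
      induction hab with
      | refl => exact Relation.ReflTransGen.refl
      | tail _ h2 ih => exact Relation.ReflTransGen.head (hRs _ _ h2) ih
    · rintro a b c ⟨ha, hab⟩ ⟨-, hbc⟩
      exact ⟨ha, hab.trans hbc⟩
    · rintro g a b ⟨ha, hab⟩
      refine ⟨h.conj g a ha, ?_⟩
      exact Relation.ReflTransGen.lift (fun w => g * w * g⁻¹) (fun p q hpq => hRc g p q hpq) _ _ hab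
  rcases primitive h hsol hperf hq with h1 | h1
  · obtain ⟨a, b, hab⟩ := hRn
    obtain ⟨ha, hb, hnc⟩ := hRD a b hab
    have := h1 a b ⟨ha, Relation.ReflTransGen.single hab⟩
    rw [this] at hnc
    exact hnc (Commute.refl b)
  · have key : ∀ y, Relation.ReflTransGen R x y → Commute c y ∧ ∀ b, R y b → Commute c b := by
      intro y hy
      induction hy with
      | refl => exact ⟨hcx, hall⟩
      | @tail y z _ hyz ih =>
        obtain ⟨hyD, hzD, hnc⟩ := hRD y z hyz
        refine ⟨ih.2 z hyz, ?_⟩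
        intro b hzb
        have ht : y * z * y ∈ D := h.conj' hyD hzD
        have hyt : R y (y * z * y) := by
          have := hRc y y z hyz
          rw [h.inv_eq hyD, h.sq y hyD, one_mul] at this
          exact this
        have hct := ih.2 _ hyt
        have hb := hRc (y * z * y) z b hzb
        rw [h.inv_eq ht, third_conj' h hyD hzD hnc] at hb
        have h2 := ih.2 _ hb
        have h3 : (y * z * y) * c * (y * z * y) = c := (h.commute_iff ht c).1 hct.symm
        have h4 := (h.commute_conj_left_iff ht c b).2 h2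
        rwa [h3] at h4
    have hcc : c ∈ Subgroup.center G := by
      apply h.mem_center_of_forall_commute
      intro y hy
      exact (key y (h1 x hx y hy).2).1
    rw [center_eq_bot hsol, Subgroup.mem_bot] at hcc
    exact h.ne_one c hc hcc

/-- for commuting members there is a member commuting with neither -/
theorem exists_not_commute_both {p q : G} (hp : p ∈ D) (hq : q ∈ D) (hpq : Commute p q) :
    ∃ u ∈ D, ¬ Commute u p ∧ ¬ Commute u q := by
  by_contra hcon
  push Not at hcon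
  refine false_of_commute_all h hsol hperf (fun a b => a ∈ D ∧ b ∈ D ∧ ¬ Commute a b)
    (fun a b h1 => h1) (fun a b h1 => ⟨h1.2.1, h1.1, fun h2 => h1.2.2 h2.symm⟩)
    (fun g a b h1 => ⟨h.conj g a h1.1, h.conj g b h1.2.1, by
      rw [FData.commute_conj_gen]; exact h1.2.2⟩) ?_ hq hp hpq.symm ?_
  · obtain ⟨z, hz, hc⟩ := exists_col h hsol p hp
    exact ⟨p, z, hp, hz, hc⟩
  · rintro b ⟨-, hb, hc⟩
    exact (hcon b hb (fun h1 => hc h1.symm)).symm

/-- swap of a commuting pair -/
theorem perp_swap {p q : G} (hp : p ∈ D) (hq : q ∈ D) (hpq : Commute p q) : PR p q q p := by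
  obtain ⟨u, hu, h1, h2⟩ := exists_not_commute_both h hsol hperf hp hq hpq
  obtain ⟨g, -, h3, h4⟩ := s4 h hu hp hq hpq h1 h2
  exact ⟨g, h3, h4⟩

omit h hsol hperf in
theorem ncard_eq_of_conj (S S' : Set G) (g : G) (hS : ∀ w, w ∈ S ↔ g * w * g⁻¹ ∈ S') :
    S.ncard = S'.ncard := by
  have hinj : Function.Injective (fun w : G => g * w * g⁻¹) := by
    intro a b hab
    exact mul_left_cancel (mul_right_cancel hab)
  rw [← Set.ncard_image_of_injective S hinj]
  congr 1
  ext w
  constructor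
  · rintro ⟨v, hv, rfl⟩
    exact (hS v).1 hv
  · intro hw
    refine ⟨g⁻¹ * w * g, ?_, by group⟩
    rw [hS]
    have e : g * (g⁻¹ * w * g) * g⁻¹ = w := by group
    rwa [e]

/-- members commuting with `a` but not with `p` -/
def SS (D : Set G) (a p : G) : Set G := {c | c ∈ D ∧ Commute c a ∧ ¬ Commute c p}

omit hsol hperf in
theorem mem_conj_iff (g w : G) : w ∈ D ↔ g * w * g⁻¹ ∈ D := by
  constructor
  · exact h.conj g w
  · intro h1
    have := h.conj g⁻¹ _ h1
    have e : g⁻¹ * (g * w * g⁻¹) * g⁻¹⁻¹ = w := by group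
    rwa [e] at this

omit hsol hperf in
theorem ncard_SS_eq {a p a' p' : G} (hP : PR a p a' p') : (SS D a p).ncard = (SS D a' p').ncard := by
  obtain ⟨g, rfl, rfl⟩ := hP
  apply ncard_eq_of_conj _ _ g
  intro w
  show (w ∈ D ∧ Commute w a ∧ ¬ Commute w p) ↔ (g * w * g⁻¹ ∈ D ∧ Commute (g * w * g⁻¹) (g * a * g⁻¹)
    ∧ ¬ Commute (g * w * g⁻¹) (g * p * g⁻¹))
  rw [FData.commute_conj_gen, FData.commute_conj_gen, ← mem_conj_iff h]

/-- core of the transitivity on noncommuting members -/
theorem col_trans_aux {x u v : G} (hx : x ∈ D) (hu : u ∈ D) (hv : v ∈ D) (hxu : ¬ Commute x u)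
    (hxv : ¬ Commute x v) (hno : ¬ PR x u x v)
    (hle : (SS D x u).ncard ≤ (SS D x v).ncard) : False := by
  -- membership facts
  have hR1D : ∀ a b, PR x u a b → a ∈ D ∧ b ∈ D ∧ ¬ Commute a b := by
    intro a b hab
    refine ⟨?_, ?_, ?_⟩
    · obtain ⟨g, rfl, rfl⟩ := hab; exact h.conj g x hx
    · obtain ⟨g, rfl, rfl⟩ := hab; exact h.conj g u hu
    · rw [← hab.commute_iff]; exact hxu
  have hR2D : ∀ a b, PR x v a b → a ∈ D ∧ b ∈ D ∧ ¬ Commute a b := by
    intro a b hab
    refine ⟨?_, ?_, ?_⟩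
    · obtain ⟨g, rfl, rfl⟩ := hab; exact h.conj g x hx
    · obtain ⟨g, rfl, rfl⟩ := hab; exact h.conj g v hv
    · rw [← hab.commute_iff]; exact hxv
  have hdisj : ∀ a b, PR x u a b → PR x v a b → False := fun a b h1 h2 => hno (h1.trans h2.symm)
  have hR1s : ∀ a b, PR x u a b → PR x u b a := fun a b h1 =>
    h1.trans (PR.swap h (hR1D a b h1).1 (hR1D a b h1).2.1 (hR1D a b h1).2.2)
  have hR2s : ∀ a b, PR x v a b → PR x v b a := fun a b h1 =>
    h1.trans (PR.swap h (hR2D a b h1).1 (hR2D a b h1).2.1 (hR2D a b h1).2.2)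
  -- lines of different types are completely joined
  have hF3 : ∀ a p q, PR x u a p → PR x v a q → ¬ Commute p q := by
    intro a p q h1 h2 hpq
    have h3 := s4_PR h (hR1D a p h1).1 (hR1D a p h1).2.1 (hR2D a q h2).2.1 hpq (hR1D a p h1).2.2
      (hR2D a q h2).2.2
    exact hdisj a q (h1.trans h3) h2
  have hincl : ∀ a p q, PR x u a p → PR x v a q → SS D a p ⊆ SS D a q ∨ SS D a q ⊆ SS D a p := by
    intro a p q h1 h2
    obtain ⟨ha, hp, hap⟩ := hR1D a p h1
    obtain ⟨-, hq, haq⟩ := hR2D a q h2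
    have hpq := hF3 a p q h1 h2
    -- if the second inclusion fails then `(p, q)` has type 2
    by_cases hA : SS D a q ⊆ SS D a p
    · exact Or.inr hA
    left
    rw [Set.not_subset] at hA
    obtain ⟨c, ⟨hc, hca, hcq⟩, hcp⟩ := hA
    have hcp' : Commute c p := by
      by_contra h3
      exact hcp ⟨hc, hca, h3⟩
    have hPqp : PR q p q a :=
      (s4_PR h hq hc hp hcp' (fun h3 => hcq h3.symm) (fun h3 => hpq h3.symm)).symm.trans
        (s4_PR h hq hc ha hca (fun h3 => hcq h3.symm) (fun h3 => haq h3.symm))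
    have h2pq : PR x v p q := hR2s q p ((hR2s a q h2).trans hPqp.symm)
    by_contra hB
    rw [Set.not_subset] at hB
    obtain ⟨d, ⟨hd, hda, hdp⟩, hdq⟩ := hB
    have hdq' : Commute d q := by
      by_contra h3
      exact hdq ⟨hd, hda, h3⟩
    have hPpq : PR p q p a :=
      (s4_PR h hp hd hq hdq' (fun h3 => hdp h3.symm) hpq).symm.trans
        (s4_PR h hp hd ha hda (fun h3 => hdp h3.symm) (fun h3 => hap h3.symm))
    have h1pq : PR x u p q := (hR1s a p h1).trans hPpq.symm
    exact hdisj p q h1pq h2pq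
  have hsub : ∀ a p q, PR x u a p → PR x v a q → SS D a p ⊆ SS D a q := by
    intro a p q h1 h2
    rcases hincl a p q h1 h2 with h3 | h3
    · exact h3
    · have h4 : (SS D a p).ncard ≤ (SS D a q).ncard := by
        rw [← ncard_SS_eq h h1, ← ncard_SS_eq h h2]; exact hle
      exact (Set.eq_of_subset_of_ncard_le h3 h4 (Set.toFinite _)).ge
  -- nothing commutes with both `a` and a type 2 neighbour
  have hstar : ∀ a q c, PR x v a q → c ∈ D → Commute c a → ¬ Commute c q := by
    intro a q c h2 hc hca hcq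
    obtain ⟨g, rfl, rfl⟩ := h2
    set a := g * x * g⁻¹ with ha
    have haD : a ∈ D := h.conj g x hx
    refine false_of_commute_all h hsol hperf (fun a b => PR x u a b) hR1D hR1s
      (fun k a b h1 => h1.trans (PR.conj k a b)) ⟨x, u, PR.refl x u⟩ hc haD hca ?_
    intro b hb
    by_contra hcb
    have h3 := hsub a b (g * v * g⁻¹) hb ⟨g, rfl, rfl⟩ ⟨hc, hca, hcb⟩
    exact h3.2.2 hcq
  have hq : InvEquiv D (fun a b => a ∈ D ∧ b ∈ D ∧ ∀ q, PR x v a q ↔ PR x v b q) := by
    refine ⟨fun h1 => h1.1, fun ha => ⟨ha, ha, fun _ => Iff.rfl⟩,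
      fun h1 => ⟨h1.2.1, h1.1, fun w => (h1.2.2 w).symm⟩,
      fun h1 h2 => ⟨h1.1, h2.2.1, fun w => (h1.2.2 w).trans (h2.2.2 w)⟩, ?_⟩
    rintro g a b ⟨ha, hb, hab⟩
    refine ⟨h.conj g a ha, h.conj g b hb, ?_⟩
    intro q
    have key : ∀ z : G, PR x v (g * z * g⁻¹) q ↔ PR x v z (g⁻¹ * q * g) := by
      intro z
      constructor
      · intro h1
        have := h1.trans (PR.conj g⁻¹ _ _)
        have e : g⁻¹ * (g * z * g⁻¹) * g⁻¹⁻¹ = z := by group
        have e2 : g⁻¹ * q * g⁻¹⁻¹ = g⁻¹ * q * g := by group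
        rwa [e, e2] at this
      · intro h1
        have := h1.trans (PR.conj g _ _)
        have e2 : g * (g⁻¹ * q * g) * g⁻¹ = q := by group
        rwa [e2] at this
    rw [key, key]
    exact hab _
  obtain ⟨c, hc, hcx, hxc⟩ := exists_perp h hsol hperf x hx
  have hrel : ∀ q, PR x v x q ↔ PR x v c q := by
    have hdir : ∀ a b, a ∈ D → b ∈ D → Commute a b → ∀ q, PR x v a q → PR x v b q := by
      intro a b ha hb hab q h1
      obtain ⟨-, hq, haq⟩ := hR2D a q h1
      have h2 := hstar a q b h1 hb hab.symm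
      have h3 := s4_PR h hq hb ha hab.symm (fun h4 => h2 h4.symm) (fun h4 => haq h4.symm)
      exact hR2s q b ((hR2s a q h1).trans h3.symm)
    exact fun q => ⟨hdir x c hx hc hxc q, hdir c x hc hx hxc.symm q⟩
  rcases primitive h hsol hperf hq with h1 | h1
  · exact hcx (h1 x c ⟨hx, hc, hrel⟩).symm
  · have h2 := ((h1 x hx v hv).2.2 v).1 (PR.refl x v)
    exact (hR2D v v h2).2.2 (Commute.refl v)

/-- `C(x)` is transitive on the members not commuting with `x`. -/
theorem col_trans {x u v : G} (hx : x ∈ D) (hu : u ∈ D) (hv : v ∈ D) (hxu : ¬ Commute x u)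
    (hxv : ¬ Commute x v) : ∃ g : G, g * x * g⁻¹ = x ∧ g * u * g⁻¹ = v := by
  by_contra hno
  rcases le_total (SS D x u).ncard (SS D x v).ncard with hle | hle
  · exact col_trans_aux h hsol hperf hx hu hv hxu hxv hno hle
  · exact col_trans_aux h hsol hperf hx hv hu hxv hxu
      (fun h1 : PR x v x u => hno h1.symm) hle

/-- members not commuting with `a` but commuting with `p` -/
def BB (D : Set G) (a p : G) : Set G := {c | c ∈ D ∧ ¬ Commute c a ∧ Commute c p}

omit hsol hperf in
theorem ncard_BB_eq {a p a' p' : G} (hP : PR a p a' p') : (BB D a p).ncard = (BB D a' p').ncard := by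
  obtain ⟨g, rfl, rfl⟩ := hP
  apply ncard_eq_of_conj _ _ g
  intro w
  show (w ∈ D ∧ ¬ Commute w a ∧ Commute w p) ↔ (g * w * g⁻¹ ∈ D ∧ ¬ Commute (g * w * g⁻¹) (g * a * g⁻¹)
    ∧ Commute (g * w * g⁻¹) (g * p * g⁻¹))
  rw [FData.commute_conj_gen, FData.commute_conj_gen, ← mem_conj_iff h]

/-- if every member noncommuting with `a` is noncommuting with `p` then `a = p` -/
theorem eq_of_not_commute_imp {a p : G} (ha : a ∈ D) (hp : p ∈ D)
    (himp : ∀ w ∈ D, ¬ Commute w a → ¬ Commute w p) : a = p := by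
  obtain ⟨g, hg⟩ := h.single a ha p hp
  have hcard : ({w | w ∈ D ∧ ¬ Commute w a} : Set G).ncard = ({w | w ∈ D ∧ ¬ Commute w p} : Set G).ncard := by
    apply ncard_eq_of_conj _ _ g
    intro w
    show (w ∈ D ∧ ¬ Commute w a) ↔ (g * w * g⁻¹ ∈ D ∧ ¬ Commute (g * w * g⁻¹) p)
    rw [← hg, FData.commute_conj_gen, ← mem_conj_iff h]
  have heq : ({w | w ∈ D ∧ ¬ Commute w a} : Set G) = {w | w ∈ D ∧ ¬ Commute w p} :=
    Set.eq_of_subset_of_ncard_le (fun w hw => ⟨hw.1, himp w hw.1 hw.2⟩) hcard.ge (Set.toFinite _)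
  apply eq_of_commute_iff h hsol hperf ha hp
  intro w hw
  have h1 : w ∈ ({w | w ∈ D ∧ ¬ Commute w a} : Set G) ↔ w ∈ ({w | w ∈ D ∧ ¬ Commute w p} : Set G) := by
    rw [heq]
  simp only [Set.mem_setOf_eq, hw, true_and] at h1
  exact not_iff_not.1 h1

/-- if every other member commuting with `a` commutes with `u` then `a = u` -/
theorem eq_of_perp_imp {a u : G} (ha : a ∈ D) (hu : u ∈ D)
    (himp : ∀ w ∈ D, w ≠ a → Commute w a → w ≠ u ∧ Commute w u) : a = u := by
  obtain ⟨g, hg⟩ := h.single a ha u hu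
  have hcard : ({w | w ∈ D ∧ w ≠ a ∧ Commute w a} : Set G).ncard =
      ({w | w ∈ D ∧ w ≠ u ∧ Commute w u} : Set G).ncard := by
    apply ncard_eq_of_conj _ _ g
    intro w
    show (w ∈ D ∧ w ≠ a ∧ Commute w a) ↔ (g * w * g⁻¹ ∈ D ∧ g * w * g⁻¹ ≠ u ∧ Commute (g * w * g⁻¹) u)
    rw [← hg, FData.commute_conj_gen, ← mem_conj_iff h]
    have : g * w * g⁻¹ ≠ g * a * g⁻¹ ↔ w ≠ a := by
      rw [not_iff_not]
      exact ⟨fun h1 => mul_left_cancel (mul_right_cancel h1), fun h1 => by rw [h1]⟩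
    rw [this]
  have heq : ({w | w ∈ D ∧ w ≠ a ∧ Commute w a} : Set G) = {w | w ∈ D ∧ w ≠ u ∧ Commute w u} :=
    Set.eq_of_subset_of_ncard_le (fun w hw => ⟨hw.1, himp w hw.1 hw.2.1 hw.2.2⟩) hcard.ge
      (Set.toFinite _)
  apply eq_of_perp_iff h hsol hperf ha hu
  intro w hw
  have h1 : w ∈ ({w | w ∈ D ∧ w ≠ a ∧ Commute w a} : Set G) ↔
      w ∈ ({w | w ∈ D ∧ w ≠ u ∧ Commute w u} : Set G) := by
    rw [heq]
  simp only [Set.mem_setOf_eq, hw, true_and] at h1
  exact h1

/-- core of the transitivity on commuting members -/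
theorem perp_trans_aux {a e c : G} (ha : a ∈ D) (he : e ∈ D) (hc : c ∈ D) (hea : e ≠ a)
    (hca : c ≠ a) (hae : Commute a e) (hac : Commute a c) (hno : ¬ PR a e a c)
    (hle : (BB D a e).ncard ≤ (BB D a c).ncard) : False := by
  have hdisj : ∀ a' b, PR a e a' b → PR a c a' b → False := fun a' b h1 h2 =>
    hno (h1.trans h2.symm)
  have hG1 : ∀ a' p q, PR a e a' p → PR a c a' q → p ∈ D → q ∈ D → Commute a' p → Commute a' q →
      Commute p q := by
    intro a' p q h1 h2 hp hq hap haq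
    by_contra hpq
    have ht : p * q * p ∈ D := h.conj' hp hq
    have hta : (p * q * p) * a' * (p * q * p) = a' := by
      rw [← h.commute_iff ht]
      exact ((hap.mul_right haq).mul_right hap).symm
    have h3 := PR.conj' h (x := p * q * p) (y := a') (u := p) ht
    rw [hta, h.third_conj hp hq hpq] at h3
    exact hdisj a' q (h1.trans h3) h2
  have hmem1 : ∀ a' p, PR a e a' p → a' ∈ D ∧ p ∈ D ∧ p ≠ a' ∧ Commute a' p := by
    rintro a' p h1
    refine ⟨?_, ?_, ?_, (h1.commute_iff).1 hae⟩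
    · obtain ⟨g, rfl, rfl⟩ := h1; exact h.conj g a ha
    · obtain ⟨g, rfl, rfl⟩ := h1; exact h.conj g e he
    · obtain ⟨g, rfl, rfl⟩ := h1
      intro h2
      exact hea (mul_left_cancel (mul_right_cancel h2))
  have hmem2 : ∀ a' p, PR a c a' p → a' ∈ D ∧ p ∈ D ∧ p ≠ a' ∧ Commute a' p := by
    rintro a' p h1
    refine ⟨?_, ?_, ?_, (h1.commute_iff).1 hac⟩
    · obtain ⟨g, rfl, rfl⟩ := h1; exact h.conj g a ha
    · obtain ⟨g, rfl, rfl⟩ := h1; exact h.conj g c hc
    · obtain ⟨g, rfl, rfl⟩ := h1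
      intro h2
      exact hca (mul_left_cancel (mul_right_cancel h2))
  -- path lemma
  have hpath : ∀ a' p q u, a' ∈ D → p ∈ D → q ∈ D → u ∈ D → Commute p a' → Commute p q →
      Commute p u → ¬ Commute a' u → ¬ Commute u q → PR p a' p q := by
    intro a' p q u ha' hp hq hu hpa hpq hpu hau huq
    have ht1 : a' * u * a' ∈ D := h.conj' ha' hu
    have ht2 : u * q * u ∈ D := h.conj' hu hq
    have e1 : (a' * u * a') * p * (a' * u * a') = p := by
      rw [← h.commute_iff ht1]
      exact ((hpa.mul_right hpu).mul_right hpa).symm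
    have e2 : (u * q * u) * p * (u * q * u) = p := by
      rw [← h.commute_iff ht2]
      exact ((hpu.mul_right hpq).mul_right hpu).symm
    have h1 := PR.conj' h (x := a' * u * a') (y := p) (u := a') ht1
    rw [e1, h.third_conj ha' hu hau] at h1
    have h2 := PR.conj' h (x := u * q * u) (y := p) (u := u) ht2
    rw [e2, h.third_conj hu hq huq] at h2
    exact h1.trans h2
  have hincl : ∀ a' p q, PR a e a' p → PR a c a' q → BB D a' p ⊆ BB D a' q ∨
      BB D a' q ⊆ BB D a' p := by
    intro a' p q h1 h2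
    obtain ⟨ha', hp, hpa, hap⟩ := hmem1 a' p h1
    obtain ⟨-, hq, hqa, haq⟩ := hmem2 a' q h2
    have hpq := hG1 a' p q h1 h2 hp hq hap haq
    by_cases hA : BB D a' p ⊆ BB D a' q
    · exact Or.inl hA
    right
    by_contra hB
    rw [Set.not_subset] at hA hB
    obtain ⟨u1, ⟨hu1, h3, h4⟩, h5⟩ := hA
    obtain ⟨u2, ⟨hu2, h6, h7⟩, h8⟩ := hB
    have h5' : ¬ Commute u1 q := fun h9 => h5 ⟨hu1, h3, h9⟩
    have h8' : ¬ Commute u2 p := fun h9 => h8 ⟨hu2, h6, h9⟩
    have k1 : PR p a' p q := hpath a' p q u1 ha' hp hq hu1 hap.symm hpq h4.symm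
      (fun h9 => h3 h9.symm) h5'
    have k2 : PR q a' q p := hpath a' q p u2 ha' hq hp hu2 haq.symm hpq.symm h7.symm
      (fun h9 => h6 h9.symm) h8'
    have s1 : PR a' p p a' := perp_swap h hsol hperf ha' hp hap
    have s2 : PR p q q p := perp_swap h hsol hperf hp hq hpq
    have s3 : PR q a' a' q := perp_swap h hsol hperf hq ha' haq.symm
    have hfin : PR a' p a' q := (((s1.trans k1).trans s2).trans k2.symm).trans s3
    exact hdisj a' q (h1.trans hfin) h2
  have hsub : ∀ a' p q, PR a e a' p → PR a c a' q → BB D a' p ⊆ BB D a' q := by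
    intro a' p q h1 h2
    rcases hincl a' p q h1 h2 with h3 | h3
    · exact h3
    · have h4 : (BB D a' p).ncard ≤ (BB D a' q).ncard := by
        rw [← ncard_BB_eq h h1, ← ncard_BB_eq h h2]; exact hle
      exact (Set.eq_of_subset_of_ncard_le h3 h4 (Set.toFinite _)).ge
  -- `BB D a e` is empty
  have hempty : ∀ u ∈ D, ¬ Commute u a → ¬ Commute u e := by
    intro u hu hua hue
    have hall : ∀ q, PR a c a q → Commute u q := fun q h1 =>
      (hsub a e q (PR.refl a e) h1 ⟨hu, hua, hue⟩).2.2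
    refine false_of_commute_all h hsol hperf (fun a b => a ∈ D ∧ b ∈ D ∧ ¬ Commute a b)
      (fun a b h1 => h1) (fun a b h1 => ⟨h1.2.1, h1.1, fun h2 => h1.2.2 h2.symm⟩)
      (fun g a b h1 => ⟨h.conj g a h1.1, h.conj g b h1.2.1, by
        rw [FData.commute_conj_gen]; exact h1.2.2⟩) ⟨u, a, hu, ha, hua⟩ hc ha hac.symm ?_
    rintro b ⟨-, hb, hab⟩
    obtain ⟨g, hg1, hg2⟩ := col_trans h hsol hperf ha hu hb (fun h1 => hua h1.symm) hab
    have h2 : PR a c a (g⁻¹ * c * g) := by
      refine ⟨g⁻¹, ?_, by group⟩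
      rw [inv_inv]
      conv_lhs => rw [← hg1]
      group
    have h3 := hall _ h2
    rw [← FData.commute_conj_gen g, hg2] at h3
    have e : g * (g⁻¹ * c * g) * g⁻¹ = c := by group
    rw [e] at h3
    exact h3.symm
  exact hea (eq_of_not_commute_imp h hsol hperf ha he hempty).symm

/-- `C(a)` is transitive on the other members commuting with `a`. -/
theorem perp_trans {a e c : G} (ha : a ∈ D) (he : e ∈ D) (hc : c ∈ D) (hea : e ≠ a)
    (hca : c ≠ a) (hae : Commute a e) (hac : Commute a c) :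
    ∃ g : G, g * a * g⁻¹ = a ∧ g * e * g⁻¹ = c := by
  by_contra hno
  rcases le_total (BB D a e).ncard (BB D a c).ncard with hle | hle
  · exact perp_trans_aux h hsol hperf ha he hc hea hca hae hac hno hle
  · exact perp_trans_aux h hsol hperf ha hc he hca hea hac hae
      (fun h1 : PR a c a e => hno h1.symm) hle

/-- adjacency in the set of members commuting with `a` -/
def adj (D : Set G) (a p q : G) : Prop :=
  (p ∈ D ∧ p ≠ a ∧ Commute a p) ∧ (q ∈ D ∧ q ≠ a ∧ Commute a q) ∧ ¬ Commute p q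

omit h hsol hperf in
theorem adj_symm {a p q : G} (hpq : adj D a p q) : adj D a q p :=
  ⟨hpq.2.1, hpq.1, fun h1 => hpq.2.2 h1.symm⟩

omit h hsol hperf in
theorem rtg_symm {a p q : G} (hpq : Relation.ReflTransGen (adj D a) p q) :
    Relation.ReflTransGen (adj D a) q p := by
  induction hpq with
  | refl => exact Relation.ReflTransGen.refl
  | tail _ h2 ih => exact Relation.ReflTransGen.head (adj_symm h2) ih

omit h hsol hperf in
theorem rtg_mem {a p q : G} (hp : p ∈ D ∧ p ≠ a ∧ Commute a p)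
    (hpq : Relation.ReflTransGen (adj D a) p q) : q ∈ D ∧ q ≠ a ∧ Commute a q := by
  induction hpq with
  | refl => exact hp
  | tail _ h2 _ => exact h2.2.1

omit hsol hperf in
theorem adj_conj (g : G) {a p q : G} (hpq : adj D a p q) :
    adj D (g * a * g⁻¹) (g * p * g⁻¹) (g * q * g⁻¹) := by
  have hne : ∀ b : G, b ≠ a → g * b * g⁻¹ ≠ g * a * g⁻¹ := fun b hb h1 =>
    hb (mul_left_cancel (mul_right_cancel h1))
  refine ⟨⟨h.conj g p hpq.1.1, hne p hpq.1.2.1, ?_⟩, ⟨h.conj g q hpq.2.1.1, hne q hpq.2.1.2.1, ?_⟩, ?_⟩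
  · rw [FData.commute_conj_gen]; exact hpq.1.2.2
  · rw [FData.commute_conj_gen]; exact hpq.2.1.2.2
  · rw [FData.commute_conj_gen]; exact hpq.2.2

omit hsol hperf in
theorem rtg_conj (g : G) {a p q : G} (hpq : Relation.ReflTransGen (adj D a) p q) :
    Relation.ReflTransGen (adj D (g * a * g⁻¹)) (g * p * g⁻¹) (g * q * g⁻¹) :=
  Relation.ReflTransGen.lift (fun w => g * w * g⁻¹) (fun _ _ h1 => adj_conj h g h1) _ _ hpq

omit hsol hperf in
theorem ncard_comp_eq {a p a' p' : G} (hP : PR a p a' p') :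
    ({y | Relation.ReflTransGen (adj D a) p y} : Set G).ncard =
      ({y | Relation.ReflTransGen (adj D a') p' y} : Set G).ncard := by
  obtain ⟨g, rfl, rfl⟩ := hP
  apply ncard_eq_of_conj _ _ g
  intro w
  show Relation.ReflTransGen (adj D a) p w ↔
    Relation.ReflTransGen (adj D (g * a * g⁻¹)) (g * p * g⁻¹) (g * w * g⁻¹)
  constructor
  · exact rtg_conj h g
  · intro h1
    have := rtg_conj h g⁻¹ h1
    have e : ∀ z : G, g⁻¹ * (g * z * g⁻¹) * g⁻¹⁻¹ = z := by intro z; group
    rwa [e, e, e] at this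

/-- the graph of noncommuting members on the members commuting with `a` is connected -/
theorem connected {a e c : G} (ha : a ∈ D) (he : e ∈ D ∧ e ≠ a ∧ Commute a e)
    (hc : c ∈ D ∧ c ≠ a ∧ Commute a c) : Relation.ReflTransGen (adj D a) e c := by
  by_contra hcon
  -- conjugacy of commuting pairs
  have hpairs : ∀ a1 p1 a2 p2, a1 ∈ D → a2 ∈ D → (p1 ∈ D ∧ p1 ≠ a1 ∧ Commute a1 p1) →
      (p2 ∈ D ∧ p2 ≠ a2 ∧ Commute a2 p2) → PR a1 p1 a2 p2 := by
    intro a1 p1 a2 p2 h1 h2 h3 h4
    obtain ⟨g, rfl⟩ := h.single a1 h1 a2 h2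
    have h5 : PR a1 p1 (g * a1 * g⁻¹) (g * p1 * g⁻¹) := PR.conj g a1 p1
    refine h5.trans (perp_trans h hsol hperf h2 (h.conj g p1 h3.1) h4.1 ?_ h4.2.1 ?_ h4.2.2)
    · intro h6
      exact h3.2.1 (mul_left_cancel (mul_right_cancel h6))
    · rw [FData.commute_conj_gen]; exact h3.2.2
  have hclaim : ∀ e' c', (e' ∈ D ∧ e' ≠ a ∧ Commute a e') → (c' ∈ D ∧ c' ≠ a ∧ Commute a c') →
      ¬ Relation.ReflTransGen (adj D a) e' c' → ∀ u ∈ D, ¬ Commute u a → Commute u e' →
      Commute u c' := by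
    intro e' c' he' hc' hn u hu hua hue
    by_contra huc
    have hec' : ∀ y, Relation.ReflTransGen (adj D a) c' y → y ≠ e' ∧ Commute e' y := by
      intro y hy
      have hyD := rtg_mem hc' hy
      refine ⟨?_, ?_⟩
      · rintro rfl
        exact hn (rtg_symm hy)
      · by_contra h1
        exact hn (Relation.ReflTransGen.head ⟨he', hyD, h1⟩ (rtg_symm hy))
    have haE : a ∈ D ∧ a ≠ e' ∧ Commute e' a := ⟨ha, he'.2.1.symm, he'.2.2.symm⟩
    have huE : u ∈ D ∧ u ≠ e' ∧ Commute e' u := by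
      refine ⟨hu, ?_, hue.symm⟩
      rintro rfl
      exact hua he'.2.2.symm
    have hcE : c' ∈ D ∧ c' ≠ e' ∧ Commute e' c' :=
      ⟨hc'.1, (hec' c' Relation.ReflTransGen.refl).1, (hec' c' Relation.ReflTransGen.refl).2⟩
    have hpath : Relation.ReflTransGen (adj D e') a c' :=
      (Relation.ReflTransGen.single ⟨haE, huE, fun h1 => hua h1.symm⟩).tail ⟨huE, hcE, huc⟩
    have hss : ({y | Relation.ReflTransGen (adj D a) c' y} : Set G) ⊂
        {y | Relation.ReflTransGen (adj D e') a y} := by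
      rw [Set.ssubset_iff_of_subset]
      · exact ⟨a, Relation.ReflTransGen.refl, fun h1 => (rtg_mem hc' h1).2.1 rfl⟩
      · intro y hy
        have hy' : Relation.ReflTransGen (adj D a) c' y := hy
        refine hpath.trans ?_
        clear hy
        induction hy' with
        | refl => exact Relation.ReflTransGen.refl
        | @tail p q hp hpq ih =>
          refine ih.tail ⟨⟨hpq.1.1, hec' p hp⟩, ⟨hpq.2.1.1, hec' q (hp.tail hpq)⟩, hpq.2.2⟩
    have hlt := Set.ncard_lt_ncard hss (Set.toFinite _)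
    rw [ncard_comp_eq h (hpairs a c' e' a ha he'.1 hc' haE)] at hlt
    exact lt_irrefl _ hlt
  have hall : ∀ u ∈ D, ¬ Commute u a → Commute u e → ∀ e', (e' ∈ D ∧ e' ≠ a ∧ Commute a e') →
      Commute u e' := by
    intro u hu hua hue e' he'
    by_cases h1 : Relation.ReflTransGen (adj D a) e e'
    · have h2 : ¬ Relation.ReflTransGen (adj D a) c e' := fun h3 => hcon (h1.trans (rtg_symm h3))
      exact hclaim c e' hc he' h2 u hu hua (hclaim e c he hc hcon u hu hua hue)
    · exact hclaim e e' he he' h1 u hu hua hue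
  have hno : ∀ u ∈ D, ¬ Commute u a → ¬ Commute u e := by
    intro u hu hua hue
    have : a = u := by
      apply eq_of_perp_imp h hsol hperf ha hu
      intro w hw hwa hcwa
      have h1 := hall u hu hua hue w ⟨hw, hwa, hcwa.symm⟩
      refine ⟨?_, h1.symm⟩
      rintro rfl
      exact hua hcwa
    rw [this] at hua
    exact hua (Commute.refl u)
  exact he.2.1 (eq_of_not_commute_imp h hsol hperf ha he.1 hno).symm

/-- **S1613** -/
theorem perp_single_class {x : G} (hx : x ∈ D) :
    ∀ y ∈ {y : G | y ∈ D ∧ y ≠ x ∧ Commute x y}, ∀ y' ∈ {y : G | y ∈ D ∧ y ≠ x ∧ Commute x y},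
      ∃ g ∈ Subgroup.closure {y : G | y ∈ D ∧ y ≠ x ∧ Commute x y}, g * y * g⁻¹ = y' := by
  intro y hy y' hy'
  have hpath := connected h hsol hperf hx hy hy'
  clear hy'
  induction hpath with
  | refl => exact ⟨1, one_mem _, by simp⟩
  | @tail p q _ hpq ih =>
    obtain ⟨g, hg, rfl⟩ := ih
    have hp := hpq.1
    have hq := hpq.2.1
    have hnc := hpq.2.2
    have ht : (g * y * g⁻¹) * q * (g * y * g⁻¹) ∈ D := h.conj' hp.1 hq.1
    refine ⟨((g * y * g⁻¹) * q * (g * y * g⁻¹)) * g, ?_, ?_⟩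
    · refine mul_mem (mul_mem (mul_mem ?_ ?_) ?_) hg
      · exact Subgroup.subset_closure hp
      · exact Subgroup.subset_closure hq
      · exact Subgroup.subset_closure hp
    · have h1 := h.third_conj hp.1 hq.1 hnc
      conv_rhs => rw [← h1]
      rw [mul_inv_rev, h.inv_eq ht]
      group

end Main

end Cfsg.Agent.SporadicStructure.FischerRank3
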