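import Mathlib
import Cfsg.Agent.SporadicStructure.FischerRank3
import Cfsg.Agent.SporadicStructure.PermFive
import Cfsg.Agent.Lib.HallTriple
import Cfsg.Agent.OddOrderLocal.PLengthOne

/-!
# Fischer's theorem: the case `O(⟨D_x⟩)` not central
-/

set_option autoImplicit false
set_option maxHeartbeats 400000
set_option linter.unusedSimpArgs false
set_option linter.unusedSectionVars false

namespace Cfsg.Agent.SporadicStructure.FischerOdd

open Cfsg Cfsg.Agent.SporadicStructure.FischerSpace Cfsg.Agent.SporadicStructure.FischerSolv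
open Cfsg.Agent.SporadicStructure.FischerPrimitive Cfsg.Agent.SporadicStructure.FischerRank3
open Cfsg.Agent.SporadicStructure.PermFive

variable {G : Type*} [Group G] {D : Set G}

/-- `D_e ∩ D_y = D_e ∩ D_z` -/
def Blk (D : Set G) (e y z : G) : Prop :=
  ∀ c ∈ D, c ≠ e → Commute e c → ((c ≠ y ∧ Commute c y) ↔ (c ≠ z ∧ Commute c z))

theorem Blk.symm {e y z : G} (hb : Blk D e y z) : Blk D e z y := fun c h1 h2 h3 => (hb c h1 h2 h3).symm

theorem Blk.trans {e y z w : G} (hb : Blk D e y z) (hb' : Blk D e z w) : Blk D e y w :=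
  fun c h1 h2 h3 => (hb c h1 h2 h3).trans (hb' c h1 h2 h3)

theorem Blk.refl (e y : G) : Blk D e y y := fun _ _ _ _ => Iff.rfl

theorem Blk.conj (h : FData D) (g : G) {e y z : G} (hb : Blk D e y z) :
    Blk D (g * e * g⁻¹) (g * y * g⁻¹) (g * z * g⁻¹) := by
  have hne : ∀ c w : G, c ≠ g * w * g⁻¹ ↔ g⁻¹ * c * g⁻¹⁻¹ ≠ w := by
    intro c w
    rw [not_iff_not]
    constructor
    · rintro rfl; group
    · rintro rfl; group
  have hcm : ∀ c w : G, Commute c (g * w * g⁻¹) ↔ Commute (g⁻¹ * c * g⁻¹⁻¹) w := by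
    intro c w
    have h1 := FData.commute_conj_gen g (g⁻¹ * c * g⁻¹⁻¹) w
    have h2 : g * (g⁻¹ * c * g⁻¹⁻¹) * g⁻¹ = c := by group
    rw [h2] at h1
    exact h1
  intro c hc hce hec
  rw [hne, hcm, hne, hcm]
  apply hb
  · exact h.conj g⁻¹ c hc
  · exact (hne c e).mp hce
  · exact ((hcm c e).mp hec.symm).symm

/-- Step 0: a block from a non-central odd core -/
theorem exists_block [Finite G] (h : FData D) {x : G}
    (hO : ¬ Cfsg.oddCore ↥(Subgroup.closure {y : G | y ∈ D ∧ y ≠ x ∧ Commute x y}) ≤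
      Subgroup.center ↥(Subgroup.closure {y : G | y ∈ D ∧ y ≠ x ∧ Commute x y})) :
    ∃ a b : G, (a ∈ D ∧ a ≠ x ∧ Commute x a) ∧ (b ∈ D ∧ b ≠ x ∧ Commute x b) ∧ ¬ Commute a b ∧
      Blk D x a b := by
  set S : Set G := {y : G | y ∈ D ∧ y ≠ x ∧ Commute x y} with hS
  set H : Subgroup G := Subgroup.closure S with hH
  set N : Subgroup G := (Cfsg.oddCore ↥H).map H.subtype with hN
  have hNH : N ≤ H := Subgroup.map_subtype_le _
  have hNn : ∀ g ∈ H, ∀ n ∈ N, g * n * g⁻¹ ∈ N := by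
    rintro g hg _ ⟨n, hn, rfl⟩
    exact ⟨⟨g, hg⟩ * n * ⟨g, hg⟩⁻¹, (inferInstance : (Cfsg.oddCore ↥H).Normal).conj_mem n hn _, rfl⟩
  have hN2 : ∀ n ∈ N, n * n = 1 → n = 1 := by
    rintro _ ⟨n, hn, rfl⟩ h2
    have h3 : n * n = 1 := Subtype.ext h2
    have h4 := Cfsg.Agent.OddOrderLocal.PLengthOne.card_pPrimeCore_coprime (G := ↥H) 2
    have h5 : (⟨n, hn⟩ : ↥(Cfsg.oddCore ↥H)) = 1 := by
      have e1 : (⟨n, hn⟩ : ↥(Cfsg.oddCore ↥H)) ^ 2 = 1 := by
        rw [pow_two]; exact Subtype.ext h3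
      have e2 : (⟨n, hn⟩ : ↥(Cfsg.oddCore ↥H)) ^ (Nat.card ↥(Cfsg.oddCore ↥H)) = 1 := pow_card_eq_one'
      have e3 := orderOf_dvd_of_pow_eq_one e1
      have e4 := orderOf_dvd_of_pow_eq_one e2
      have e5 := Nat.eq_one_of_dvd_coprimes h4 e4 e3
      exact orderOf_eq_one_iff.mp e5
    have h6 : n = 1 := congrArg Subtype.val h5
    rw [h6]; rfl
  have hxH : ∀ g ∈ H, g * x = x * g := by
    have hle : H ≤ Subgroup.centralizer {x} := by
      rw [hH, Subgroup.closure_le]
      intro y hy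
      rw [SetLike.mem_coe, Subgroup.mem_centralizer_iff]
      intro w hw
      rw [Set.mem_singleton_iff] at hw
      rw [hw]
      exact hy.2.2
    intro g hg
    exact ((Subgroup.mem_centralizer_iff.mp (hle hg)) x rfl).symm
  have hSH : ∀ y ∈ S, y ∈ H := fun y hy => Subgroup.subset_closure hy
  have hSc : ∀ g ∈ H, ∀ y ∈ S, g * y * g⁻¹ ∈ S := by
    intro g hg y hy
    have hgx : g * x * g⁻¹ = x := by rw [hxH g hg, mul_inv_cancel_right]
    refine ⟨h.conj g y hy.1, ?_, ?_⟩
    · intro h1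
      apply hy.2.1
      rw [← hgx] at h1
      exact mul_left_cancel (mul_right_cancel h1)
    · have h1 := (FData.commute_conj_gen g x y).mpr hy.2.2
      rwa [hgx] at h1
  -- a non-commuting pair
  obtain ⟨a, ha, n, hn, han⟩ : ∃ a ∈ S, ∃ n ∈ N, ¬ Commute a n := by
    by_contra hcon
    push Not at hcon
    apply hO
    intro n hn
    rw [Subgroup.mem_center_iff]
    intro g
    have hle : H ≤ Subgroup.centralizer {(n : G)} := by
      refine (Subgroup.closure_le _).mpr ?_
      intro y hy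
      rw [SetLike.mem_coe, Subgroup.mem_centralizer_iff]
      intro w hw
      rw [Set.mem_singleton_iff] at hw
      rw [hw]
      exact (hcon y hy n.1 ⟨n, hn, rfl⟩).symm
    have h1 := (Subgroup.mem_centralizer_iff.mp (hle g.2)) n.1 rfl
    exact Subtype.ext h1.symm
  set b : G := n * a * n⁻¹ with hb
  have hnH : n ∈ H := hNH hn
  have hbS : b ∈ S := hSc n hnH a ha
  have hab : a * b ∈ N := by
    have h1 : a * b = (a * n * a⁻¹) * n⁻¹ := by
      rw [hb, h.inv_eq ha.1]; group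
    rw [h1]
    exact N.mul_mem (hNn a (hSH a ha) n hn) (N.inv_mem hn)
  have hne : a ≠ b := by
    intro h1
    apply han
    show a * n = n * a
    have h2 : a * n = n * a * n⁻¹ * n := by rw [← hb, ← h1]
    rw [h2, inv_mul_cancel_right]
  have hba : b * a ∈ N := by
    have := N.inv_mem hab
    rwa [mul_inv_rev, h.inv_eq ha.1, h.inv_eq hbS.1] at this
  have hnc : ¬ Commute a b := by
    intro hc
    apply hne
    have h1 : (a * b) * (a * b) = 1 := by
      calc (a * b) * (a * b) = a * (b * a) * b := by simp only [mul_assoc]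
        _ = a * (a * b) * b := by rw [hc.eq]
        _ = (a * a) * (b * b) := by simp only [mul_assoc]
        _ = 1 := by rw [h.sq a ha.1, h.sq b hbS.1, one_mul]
    have h2 := hN2 _ hab h1
    rw [← h.inv_eq hbS.1]
    exact (eq_inv_of_mul_eq_one_left h2)
  have key : ∀ u v : G, u ∈ S → v ∈ S → ¬ Commute u v → v * u ∈ N → ∀ c ∈ D, c ≠ x → Commute x c →
      (c ≠ u ∧ Commute c u) → (c ≠ v ∧ Commute c v) := by
    rintro u v hu hv huv hvu c hc hcx hxc ⟨hcu, hcu'⟩
    have hcS : c ∈ S := ⟨hc, hcx, hxc⟩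
    refine ⟨?_, ?_⟩
    · rintro rfl; exact huv hcu'.symm
    · by_contra hcv
      apply hcu
      have hbr := h.braid c hc v hv.1 hcv
      -- `m = v u`, `w = c v`
      set m : G := v * u with hm
      set w : G := c * v with hw
      have hw3 : w * w * w = 1 := by
        rw [hw]
        calc c * v * (c * v) * (c * v) = (c * v * c) * (v * c * v) := by simp only [mul_assoc]
          _ = (v * c * v) * (v * c * v) := by rw [hbr]
          _ = v * c * (v * v) * c * v := by simp only [mul_assoc]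
          _ = v * (c * c) * v := by rw [h.sq v hv.1]; simp only [mul_assoc, one_mul]
          _ = 1 := by rw [h.sq c hc, mul_one, h.sq v hv.1]
      have hwH : w ∈ H := H.mul_mem (hSH c hcS) (hSH v hv)
      have hcu2 : c * u = w * m := by
        rw [hw, hm]
        calc c * u = c * (v * v) * u := by rw [h.sq v hv.1, mul_one]
          _ = c * v * (v * u) := by simp only [mul_assoc]
      have h2 : (c * u) * (c * u) = 1 := by
        calc (c * u) * (c * u) = c * (u * c) * u := by simp only [mul_assoc]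
          _ = c * (c * u) * u := by rw [hcu'.eq]
          _ = (c * c) * (u * u) := by simp only [mul_assoc]
          _ = 1 := by rw [h.sq c hc, h.sq u hu.1, one_mul]
      have h3 : c * u ∈ N := by
        have e1 : c * u = (w * m * w⁻¹) * ((w * w) * m * (w * w)⁻¹) * ((w * w * w) * m * (w * w * w)⁻¹) *
            (w * w * w) := by
          calc c * u = (c * u) * ((c * u) * (c * u)) := by rw [h2, mul_one]
            _ = (w * m) * ((w * m) * (w * m)) := by rw [hcu2]
            _ = _ := by group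
        rw [e1, hw3]
        simp only [one_mul, mul_one, inv_one]
        exact N.mul_mem (N.mul_mem (hNn w hwH m hvu) (hNn _ (H.mul_mem hwH hwH) m hvu)) hvu
      have h4 := hN2 _ h3 h2
      rw [← h.inv_eq hu.1]
      exact (eq_inv_of_mul_eq_one_left h4)
  refine ⟨a, b, ha, hbS, hnc, ?_⟩
  intro c hc hcx hxc
  exact ⟨key a b ha hbS hnc hba c hc hcx hxc,
    key b a hbS ha (fun h1 => hnc h1.symm) hab c hc hcx hxc⟩

/-- the `A_4` diagram -/
theorem cox (h : FData D) {x y b a : G} (hx : x ∈ D) (hy : y ∈ D) (hb : b ∈ D) (ha : a ∈ D)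
    (hxy : ¬ Commute x y) (hyb : ¬ Commute y b) (hba : ¬ Commute b a) (hxb : Commute x b)
    (hxa : Commute x a) (hya : Commute y a) : Cox x y b a where
  xx := h.sq x hx
  yy := h.sq y hy
  bb := h.sq b hb
  aa := h.sq a ha
  bx := hxb.symm
  ax := hxa.symm
  ay := hya.symm
  yxy := (h.braid x hx y hy hxy).symm
  byb := (h.braid y hy b hb hyb).symm
  aba := (h.braid b hb a ha hba).symm

/-- The longest element of `S_5`. -/
theorem cox_longest {x y b a : G} (hc : Cox x y b a) :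
    ∃ w : G, w * x * w⁻¹ = a ∧ w * a * w⁻¹ = x ∧ w * y * w⁻¹ = b := by
  refine ⟨x * (y * (x * (b * (y * (x * (a * (b * (y * x)))))))), ?_, ?_, ?_⟩
  · rw [mul_inv_eq_iff_eq_mul]
    simp only [mul_assoc, hc.xx, hc.yy, hc.bb, hc.aa, hc.bx, hc.ax, hc.ay, hc.xx', hc.yy', hc.bb', hc.aa',
      hc.bx', hc.ax', hc.ay', hc.yxy1, hc.yxy', hc.byb1, hc.byb', hc.aba1, hc.aba', hc.byxb1, hc.byxb',
      hc.abya1, hc.abya', hc.abyxa1, hc.abyxa', mul_one]
  · rw [mul_inv_eq_iff_eq_mul]
    simp only [mul_assoc, hc.xx, hc.yy, hc.bb, hc.aa, hc.bx, hc.ax, hc.ay, hc.xx', hc.yy', hc.bb', hc.aa',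
      hc.bx', hc.ax', hc.ay', hc.yxy1, hc.yxy', hc.byb1, hc.byb', hc.aba1, hc.aba', hc.byxb1, hc.byxb',
      hc.abya1, hc.abya', hc.abyxa1, hc.abyxa', mul_one]
  · rw [mul_inv_eq_iff_eq_mul]
    simp only [mul_assoc, hc.xx, hc.yy, hc.bb, hc.aa, hc.bx, hc.ax, hc.ay, hc.xx', hc.yy', hc.bb', hc.aa',
      hc.bx', hc.ax', hc.ay', hc.yxy1, hc.yxy', hc.byb1, hc.byb', hc.aba1, hc.aba', hc.byxb1, hc.byxb',
      hc.abya1, hc.abya', hc.abyxa1, hc.abyxa', mul_one]

section Main

variable [Finite G] (h : FData D)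
  (hsol : ∀ N : Subgroup G, N.Normal → Group.IsSolvable ↥N → N = ⊥)
  (hperf : ⁅commutator G, commutator G⁆ = commutator G)

include h hsol hperf

/-- Steps 1 and 2: the `S_5` configuration. -/
theorem blk_of_config {x a b y : G} (hx : x ∈ D) (ha : a ∈ D ∧ a ≠ x ∧ Commute x a)
    (hb : b ∈ D ∧ b ≠ x ∧ Commute x b) (hab : ¬ Commute a b) (hblk : Blk D x a b)
    (hy : y ∈ D) (hya : y ≠ a) (hay : Commute a y) (hyb : ¬ Commute y b) :
    ¬ Commute x y ∧ Blk D a x y := by
  have hxy : ¬ Commute x y := by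
    intro hc
    have hyx : y ≠ x := by
      rintro rfl; exact hyb hb.2.2
    exact hyb ((hblk y hy hyx hc).mp ⟨hya, hay.symm⟩).2
  refine ⟨hxy, ?_⟩
  have hcox : Cox x y b a := cox h hx hy hb.1 ha.1 hxy hyb (fun h1 => hab h1.symm) hb.2.2 ha.2.2
    hay.symm
  obtain ⟨w, hwx, hwa, hwy⟩ := cox_longest hcox
  have h1 : ∀ c ∈ D, c ≠ a → Commute a c → c ≠ x ∧ Commute c x → c ≠ y ∧ Commute c y := by
    rintro c hc hca hac ⟨hcx, hcx'⟩
    refine ⟨?_, ?_⟩
    · rintro rfl; exact hxy hcx'.symm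
    · have e1 : w * c * w⁻¹ ≠ x := by
        rw [← hwa]
        intro h2
        exact hca (mul_left_cancel (mul_right_cancel h2))
      have e2 : w * c * w⁻¹ ≠ a := by
        rw [← hwx]
        intro h2
        exact hcx (mul_left_cancel (mul_right_cancel h2))
      have e3 : Commute x (w * c * w⁻¹) := by
        have := (FData.commute_conj_gen w a c).mpr hac
        rwa [hwa] at this
      have e4 : Commute (w * c * w⁻¹) a := by
        have := (FData.commute_conj_gen w c x).mpr hcx'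
        rwa [hwx] at this
      have e5 := ((hblk _ (h.conj w c hc) e1 e3).mp ⟨e2, e4⟩).2
      rw [← hwy, FData.commute_conj_gen] at e5
      exact e5
  -- equality by counting
  have hyx : x ≠ y := by rintro rfl; exact hxy (Commute.refl _)
  obtain ⟨g, hg1, hg2⟩ := perp_trans h hsol hperf ha.1 hx hy (Ne.symm ha.2.1) hya ha.2.2.symm hay
  have hcard : ({c | c ∈ D ∧ (c ≠ a ∧ Commute a c) ∧ (c ≠ x ∧ Commute c x)} : Set G).ncard =
      ({c | c ∈ D ∧ (c ≠ a ∧ Commute a c) ∧ (c ≠ y ∧ Commute c y)} : Set G).ncard := by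
    apply ncard_eq_of_conj _ _ g
    intro c
    have hne : ∀ v : G, c ≠ v ↔ g * c * g⁻¹ ≠ g * v * g⁻¹ := by
      intro v
      rw [not_iff_not]
      exact ⟨fun h2 => by rw [h2], fun h2 => mul_left_cancel (mul_right_cancel h2)⟩
    show (c ∈ D ∧ (c ≠ a ∧ Commute a c) ∧ (c ≠ x ∧ Commute c x)) ↔ (g * c * g⁻¹ ∈ D ∧
      (g * c * g⁻¹ ≠ a ∧ Commute a (g * c * g⁻¹)) ∧ (g * c * g⁻¹ ≠ y ∧ Commute (g * c * g⁻¹) y))
    have e1 : Commute a (g * c * g⁻¹) ↔ Commute a c := by
      have := FData.commute_conj_gen g a c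
      rwa [hg1] at this
    have e2 : Commute (g * c * g⁻¹) y ↔ Commute c x := by
      have := FData.commute_conj_gen g c x
      rwa [hg2] at this
    have e3 := hne a
    rw [hg1] at e3
    have e4 := hne x
    rw [hg2] at e4
    rw [e1, e2, ← e3, ← e4, ← mem_conj_iff h]
  have hsub : ({c | c ∈ D ∧ (c ≠ a ∧ Commute a c) ∧ (c ≠ x ∧ Commute c x)} : Set G) ⊆
      ({c | c ∈ D ∧ (c ≠ a ∧ Commute a c) ∧ (c ≠ y ∧ Commute c y)} : Set G) :=
    fun c hc => ⟨hc.1, hc.2.1, h1 c hc.1 hc.2.1.1 hc.2.1.2 hc.2.2⟩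
  have heq := Set.eq_of_subset_of_ncard_le hsub hcard.ge (Set.toFinite _)
  intro c hc hca hac
  refine ⟨h1 c hc hca hac, fun h2 => ?_⟩
  have : c ∈ ({c | c ∈ D ∧ (c ≠ a ∧ Commute a c) ∧ (c ≠ x ∧ Commute c x)} : Set G) := by
    rw [heq]; exact ⟨hc, ⟨hca, hac⟩, h2⟩
  exact this.2.2

/-- For noncommuting `e, f` the members of `D_e` not commuting with `f` lie in one block of `D_e`. -/
theorem one_block {x a b : G} (hx : x ∈ D) (ha : a ∈ D ∧ a ≠ x ∧ Commute x a)
    (hb : b ∈ D ∧ b ≠ x ∧ Commute x b) (hab : ¬ Commute a b) (hblk : Blk D x a b)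
    {e f y z : G} (he : e ∈ D) (hf : f ∈ D) (hef : ¬ Commute e f)
    (hy : y ∈ D) (hye : y ≠ e) (hey : Commute e y) (hyf : ¬ Commute y f)
    (hz : z ∈ D) (hze : z ≠ e) (hez : Commute e z) (hzf : ¬ Commute z f) : Blk D e y z := by
  obtain ⟨g, hg⟩ := h.single a ha.1 e he
  have h1 : ¬ Commute e (g * b * g⁻¹) := by
    rw [← hg, FData.commute_conj_gen]; exact hab
  obtain ⟨k, hk1, hk2⟩ := col_trans h hsol hperf he (h.conj g b hb.1) hf h1 hef
  have e1 : (k * g) * a * (k * g)⁻¹ = e := by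
    calc (k * g) * a * (k * g)⁻¹ = k * (g * a * g⁻¹) * k⁻¹ := by group
      _ = e := by rw [hg, hk1]
  have e2 : (k * g) * b * (k * g)⁻¹ = f := by
    calc (k * g) * b * (k * g)⁻¹ = k * (g * b * g⁻¹) * k⁻¹ := by group
      _ = f := hk2
  set m : G := k * g with hm
  have e1' : m⁻¹ * e * m⁻¹⁻¹ = a := by rw [← e1]; group
  have e2' : m⁻¹ * f * m⁻¹⁻¹ = b := by rw [← e2]; group
  have key : ∀ v : G, v ∈ D → v ≠ e → Commute e v → ¬ Commute v f → Blk D e (m * x * m⁻¹) v := by
    intro v hv hve hev hvf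
    have h3 : m⁻¹ * v * m⁻¹⁻¹ ≠ a := by
      rw [← e1']
      intro h4
      exact hve (mul_left_cancel (mul_right_cancel h4))
    have h4 : Commute a (m⁻¹ * v * m⁻¹⁻¹) := by
      rw [← e1', FData.commute_conj_gen]; exact hev
    have h5 : ¬ Commute (m⁻¹ * v * m⁻¹⁻¹) b := by
      rw [← e2', FData.commute_conj_gen]; exact hvf
    have h6 := (blk_of_config h hsol hperf hx ha hb hab hblk (h.conj m⁻¹ v hv) h3 h4 h5).2
    have h7 := Blk.conj h m h6
    rw [e1] at h7
    have h8 : m * (m⁻¹ * v * m⁻¹⁻¹) * m⁻¹ = v := by group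
    rwa [h8] at h7
  exact (key y hy hye hey hyf).symm.trans (key z hz hze hez hzf)

/-- Step 2: `λ = 0`. -/
theorem lam0 {x a b : G} (hx : x ∈ D) (ha : a ∈ D ∧ a ≠ x ∧ Commute x a)
    (hb : b ∈ D ∧ b ≠ x ∧ Commute x b) (hab : ¬ Commute a b) (hblk : Blk D x a b)
    {e p q : G} (he : e ∈ D) (hp : p ∈ D ∧ p ≠ e ∧ Commute e p) (hq : q ∈ D ∧ q ≠ e ∧ Commute e q)
    (hpq : p ≠ q) : ¬ Commute p q := by
  -- first for `e = a`
  obtain ⟨y, hy, hya, hay, hyb⟩ : ∃ y ∈ D, y ≠ a ∧ Commute a y ∧ ¬ Commute y b := by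
    by_contra hcon
    push Not at hcon
    have h1 : a = b := by
      apply eq_of_perp_imp h hsol hperf ha.1 hb.1
      intro w hw hwa hwa'
      have h2 := hcon w hw hwa hwa'.symm
      refine ⟨?_, h2⟩
      rintro rfl; exact hab hwa'.symm
    rw [h1] at hab
    exact hab (Commute.refl _)
  obtain ⟨hxy, hBy⟩ := blk_of_config h hsol hperf hx ha hb hab hblk hy hya hay hyb
  have hba : ¬ Commute b a := fun h1 => hab h1.symm
  -- the transposition `(1 3)`
  set t : G := x * y * x with ht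
  have htD : t ∈ D := h.conj' hx hy
  have hta : Commute a t := by
    have h1 : Commute t a := by
      rw [ht, h.commute_conj_left_iff hx, (h.commute_iff hx a).1 ha.2.2]
      exact hay.symm
    exact h1.symm
  have htb : ¬ Commute t b := by
    rw [ht, h.commute_conj_left_iff hx, (h.commute_iff hx b).1 hb.2.2]
    exact hyb
  have htne : t ≠ a := by
    intro h1
    apply hya
    have h2 := h.conj_conj hx y
    rw [← ht, h1, (h.commute_iff hx a).1 ha.2.2] at h2
    exact h2.symm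
  have hBt : Blk D a x t := (blk_of_config h hsol hperf hx ha hb hab hblk htD htne hta htb).2
  -- the transposition `(1 4)`
  set r : G := b * t * b with hr
  have hrD : r ∈ D := h.conj' hb.1 htD
  have hra : ¬ Commute r a := by
    rw [hr, h.commute_conj_left_iff hb.1, h.braid b hb.1 a ha.1 hba]
    rw [← h.commute_conj_iff ha.1, h.conj_conj ha.1, (h.commute_iff ha.1 t).1 hta]
    exact htb
  have hrx : ¬ Commute r x := by
    rw [hr, h.commute_conj_left_iff hb.1, (h.commute_iff hb.1 x).1 hb.2.2.symm, ht,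
      h.commute_conj_left_iff hx, h.sq x hx, one_mul]
    exact fun h1 => hxy h1.symm
  -- all of `D_a` is one block
  have hall : ∀ z : G, (z ∈ D ∧ z ≠ a ∧ Commute a z) → Blk D a z x := by
    intro z hz
    have hpath := connected h hsol hperf ha.1 (e := x) ⟨hx, Ne.symm ha.2.1, ha.2.2.symm⟩ hz
    clear hz
    induction hpath with
    | refl => exact Blk.refl _ _
    | @tail u c _ h2 ih =>
      obtain ⟨⟨hu, hua, hau⟩, ⟨hc, hca, hac⟩, huc⟩ := h2
      by_contra hcB
      have hnot : ∀ v : G, Blk D a v x → ¬ Commute c v := by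
        intro v hv hcv
        have hcv' : c ≠ v := by rintro rfl; exact hcB hv
        have h3 := ((hv.trans ih.symm) c hc hca hac).mp ⟨hcv', hcv⟩
        exact huc h3.2.symm
      have hcx : ¬ Commute c x := hnot x (Blk.refl _ _)
      have hct : ¬ Commute c t := hnot t hBt.symm
      have hcb : Commute c b := by
        by_contra hcb
        exact hcB (blk_of_config h hsol hperf hx ha hb hab hblk hc hca hac hcb).2.symm
      have hcr : ¬ Commute c r := by
        intro h3
        have h4 : Commute r c := h3.symm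
        rw [hr, h.commute_conj_left_iff hb.1, (h.commute_iff hb.1 c).1 hcb.symm] at h4
        exact hct h4.symm
      exact hcB (one_block h hsol hperf hx ha hb hab hblk ha.1 hrD (fun h3 => hra h3.symm) hc hca hac
        hcr hx (Ne.symm ha.2.1) ha.2.2.symm (fun h3 => hrx h3.symm))
  have hla : ∀ p q : G, (p ∈ D ∧ p ≠ a ∧ Commute a p) → (q ∈ D ∧ q ≠ a ∧ Commute a q) → p ≠ q →
      ¬ Commute p q := by
    intro p q hp hq hpq hc
    have h1 := ((hall p hp).trans (hall q hq).symm) p hp.1 hp.2.1 hp.2.2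
    exact (h1.mpr ⟨hpq, hc⟩).1 rfl
  obtain ⟨g, hg⟩ := h.single e he a ha.1
  have hcj : ∀ v : G, (v ∈ D ∧ v ≠ e ∧ Commute e v) →
      (g * v * g⁻¹ ∈ D ∧ g * v * g⁻¹ ≠ a ∧ Commute a (g * v * g⁻¹)) := by
    intro v hv
    refine ⟨h.conj g v hv.1, ?_, ?_⟩
    · rw [← hg]
      intro h1
      exact hv.2.1 (mul_left_cancel (mul_right_cancel h1))
    · rw [← hg, FData.commute_conj_gen]; exact hv.2.2
  intro hc
  exact hla _ _ (hcj p hp) (hcj q hq) (fun h1 => hpq (mul_left_cancel (mul_right_cancel h1)))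
    ((FData.commute_conj_gen g p q).mpr hc)

end Main

end Cfsg.Agent.SporadicStructure.FischerOdd
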