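import Mathlib
import Cfsg.Agent.SporadicStructure.FischerOdd

/-!
# Fischer's theorem: the case `O(⟨D_x⟩)` not central, counting and identification
-/

set_option autoImplicit false
set_option maxHeartbeats 400000
set_option linter.unusedSimpArgs false
set_option linter.unusedSectionVars false

namespace Cfsg.Agent.SporadicStructure.FischerOdd2

open Cfsg Cfsg.Agent.SporadicStructure.FischerSpace Cfsg.Agent.SporadicStructure.FischerSolv
open Cfsg.Agent.SporadicStructure.FischerPrimitive Cfsg.Agent.SporadicStructure.FischerRank3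
open Cfsg.Agent.SporadicStructure.PermFive Cfsg.Agent.SporadicStructure.FischerOdd

variable {G : Type*} [Group G] {D : Set G}

/-- A set of pairwise noncommuting transpositions closed under conjugation has order a power of three. -/
theorem ncard_pow_three [Finite G] (h : FData D) (S : Set G) (hSD : S ⊆ D) (hne : S.Nonempty)
    (hnc : ∀ s ∈ S, ∀ t ∈ S, s ≠ t → ¬ Commute s t) (hcl : ∀ s ∈ S, ∀ t ∈ S, s * t * s ∈ S) :
    ∃ i : ℕ, S.ncard = 3 ^ i := by
  have : Fact (Nat.Prime 3) := ⟨Nat.prime_three⟩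
  have hbraid : ∀ s ∈ S, ∀ t ∈ S, s * t * s = t * s * t := by
    intro s hs t ht
    by_cases hst : s = t
    · rw [hst]
    · exact h.braid s (hSD hs) t (hSD ht) (hnc s hs t ht hst)
  have hH : Cfsg.Agent.Lib.HallTriple.IsHallSet S := by
    refine ⟨fun a ha => h.sq a (hSD ha), hcl, ?_⟩
    intro s hs t ht
    calc (s * t) ^ 3 = (s * t * s) * (t * s * t) := by simp only [pow_succ, pow_zero, one_mul, mul_assoc]
      _ = (s * t * s) * (s * t * s) := by rw [hbraid s hs t ht]
      _ = s * t * (s * s) * t * s := by simp only [mul_assoc]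
      _ = s * (t * t) * s := by rw [h.sq s (hSD hs), mul_one]; simp only [mul_assoc]
      _ = 1 := by rw [h.sq t (hSD ht), mul_one, h.sq s (hSD hs)]
  have hP := Cfsg.Agent.Lib.HallTriple.isPGroup_closure_mul hH
  set K : Subgroup G := Subgroup.closure {x : G | ∃ a ∈ S, ∃ b ∈ S, x = a * b} with hK
  have hinv : ∀ s ∈ S, s⁻¹ = s := fun s hs => h.inv_eq (hSD hs)
  have hKS : ∀ k ∈ K, ∀ s ∈ S, k * s * k⁻¹ ∈ S := by
    intro k hk
    induction hk using Subgroup.closure_induction with
    | mem z hz =>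
      obtain ⟨a, ha, b, hb, rfl⟩ := hz
      intro s hs
      have h1 := hcl a ha _ (hcl b hb s hs)
      have h2 : a * b * s * (a * b)⁻¹ = a * (b * s * b) * a := by
        rw [mul_inv_rev, hinv a ha, hinv b hb]; simp only [mul_assoc]
      rw [h2]; exact h1
    | one => intro s hs; simpa using hs
    | mul u v _ _ hu hv =>
      intro s hs
      have := hu _ (hv s hs)
      have h2 : u * v * s * (u * v)⁻¹ = u * (v * s * v⁻¹) * u⁻¹ := by group
      rw [h2]; exact this
    | inv u _ hu =>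
      intro s hs
      -- the map `t ↦ u t u⁻¹` is injective on the finite set `S`, so surjective
      have hinj : Function.Injective (fun t : S => (⟨u * t * u⁻¹, hu t t.2⟩ : S)) := by
        intro t t' htt
        have := congrArg Subtype.val htt
        exact Subtype.ext (mul_left_cancel (mul_right_cancel this))
      obtain ⟨t, ht⟩ := (Finite.injective_iff_surjective.mp hinj) ⟨s, hs⟩
      have h2 : u * t.1 * u⁻¹ = s := congrArg Subtype.val ht
      have h3 : u⁻¹ * s * u⁻¹⁻¹ = t.1 := by rw [← h2]; group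
      rw [h3]; exact t.2
  let act : MulAction K S :=
    { smul := fun k s => ⟨k.1 * s.1 * k.1⁻¹, hKS k.1 k.2 s.1 s.2⟩
      one_smul := by
        intro s
        apply Subtype.ext
        show (1 : G) * s.1 * (1 : G)⁻¹ = s.1
        simp
      mul_smul := by
        intro k l s
        apply Subtype.ext
        show (k.1 * l.1) * s.1 * (k.1 * l.1)⁻¹ = k.1 * (l.1 * s.1 * l.1⁻¹) * k.1⁻¹
        group }
  obtain ⟨s0, hs0⟩ := hne
  obtain ⟨n, hn⟩ := hP.card_orbit (⟨s0, hs0⟩ : S)
  refine ⟨n, ?_⟩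
  rw [← hn]
  have horb : MulAction.orbit K (⟨s0, hs0⟩ : S) = Set.univ := by
    apply Set.eq_univ_of_forall
    rintro ⟨t, ht⟩
    refine ⟨⟨s0 * t, Subgroup.subset_closure ⟨s0, hs0, t, ht, rfl⟩⟩, ?_⟩
    apply Subtype.ext
    show (s0 * t) * s0 * (s0 * t)⁻¹ = t
    rw [mul_inv_rev, hinv s0 hs0, hinv t ht]
    calc s0 * t * s0 * (t * s0) = (t * s0 * t) * (t * s0) := by rw [← hbraid s0 hs0 t ht]
      _ = t * s0 * (t * t) * s0 := by simp only [mul_assoc]
      _ = t * (s0 * s0) := by rw [h.sq t (hSD ht), mul_one, mul_assoc]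
      _ = t := by rw [h.sq s0 (hSD hs0), mul_one]
  rw [horb, Nat.card_univ, Nat.card_coe_set_eq]

/-- A transposition commuting with the product of two noncommuting ones commutes with both. -/
theorem commute_of_commute_mul (h : FData D) {x y z : G} (hx : x ∈ D) (hy : y ∈ D) (hz : z ∈ D)
    (hxy : ¬ Commute x y) (hc : Commute z (x * y)) : Commute z x ∧ Commute z y := by
  by_cases hzx : Commute z x
  · refine ⟨hzx, ?_⟩
    have h1 : y = x * (x * y) := by rw [← mul_assoc, h.sq x hx, one_mul]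
    rw [h1]
    exact hzx.mul_right hc
  · by_cases hzy : Commute z y
    · refine ⟨?_, hzy⟩
      have h1 : x = (x * y) * y := by rw [mul_assoc, h.sq y hy, mul_one]
      rw [h1]
      exact hc.mul_right hzy
    · exfalso
      apply hxy
      -- `x z x = y z y`
      have h1 : x * z * x = y * z * y := by
        have h2 : z * (x * y) = (x * y) * z := hc
        calc x * z * x = x * z * x * (y * y) := by rw [h.sq y hy, mul_one]
          _ = x * (z * (x * y)) * y := by simp only [mul_assoc]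
          _ = x * ((x * y) * z) * y := by rw [h2]
          _ = (x * x) * y * z * y := by simp only [mul_assoc]
          _ = y * z * y := by rw [h.sq x hx, one_mul]
      have h2 := h.braid z hz x hx hzx
      have h3 := h.braid z hz y hy hzy
      have h4 : z * x * z = z * y * z := by rw [h2, h3, h1]
      have h5 : x = y := by
        have h6 := h.conj_conj hz x
        have h7 := h.conj_conj hz y
        rw [h4] at h6
        exact h6.symm.trans h7
      rw [h5]

section Count

variable [Finite G] (h : FData D)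
  (hsol : ∀ N : Subgroup G, N.Normal → Group.IsSolvable ↥N → N = ⊥)
  (hperf : ⁅commutator G, commutator G⁆ = commutator G)

/-- common commuting members -/
def MM (D : Set G) (x y : G) : Set G := {c | c ∈ D ∧ Commute c x ∧ Commute c y}

/-- members commuting with `x`, different from `x` -/
def PP (D : Set G) (x : G) : Set G := {c | c ∈ D ∧ c ≠ x ∧ Commute x c}

/-- members not commuting with `x` -/
def AA (D : Set G) (x : G) : Set G := {c | c ∈ D ∧ ¬ Commute x c}

theorem card_D {x : G} (hx : x ∈ D) : D.ncard = 1 + (PP D x).ncard + (AA D x).ncard := by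
  have h1 : D = {x} ∪ (PP D x ∪ AA D x) := by
    ext c
    constructor
    · intro hc
      by_cases h1 : c = x
      · exact Or.inl h1
      · by_cases h2 : Commute x c
        · exact Or.inr (Or.inl ⟨hc, h1, h2⟩)
        · exact Or.inr (Or.inr ⟨hc, h2⟩)
    · rintro (hc | hc | hc)
      · rw [Set.mem_singleton_iff.mp hc]; exact hx
      · exact hc.1
      · exact hc.1
  have h2 : Disjoint (PP D x) (AA D x) := by
    rw [Set.disjoint_left]
    intro c hc hc'
    exact hc'.2 hc.2.2
  have h3 : Disjoint {x} (PP D x ∪ AA D x) := by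
    rw [Set.disjoint_left]
    rintro c hc (hc' | hc')
    · exact hc'.2.1 hc
    · rw [Set.mem_singleton_iff.mp hc] at hc'
      exact hc'.2 (Commute.refl _)
  conv_lhs => rw [h1]
  rw [Set.ncard_union_eq h3 (Set.toFinite _) (Set.toFinite _),
    Set.ncard_union_eq h2 (Set.toFinite _) (Set.toFinite _), Set.ncard_singleton, add_assoc]

include h

theorem card_PP_eq {x y : G} (hx : x ∈ D) (hy : y ∈ D) : (PP D x).ncard = (PP D y).ncard := by
  obtain ⟨g, hg⟩ := h.single x hx y hy
  apply ncard_eq_of_conj _ _ g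
  intro c
  show (c ∈ D ∧ c ≠ x ∧ Commute x c) ↔ (g * c * g⁻¹ ∈ D ∧ g * c * g⁻¹ ≠ y ∧ Commute y (g * c * g⁻¹))
  rw [← hg, FData.commute_conj_gen, ← mem_conj_iff h]
  have : g * c * g⁻¹ ≠ g * x * g⁻¹ ↔ c ≠ x := by
    rw [not_iff_not]
    exact ⟨fun h2 => mul_left_cancel (mul_right_cancel h2), fun h2 => by rw [h2]⟩
  rw [this]

include hsol hperf

theorem card_MM_eq {x y x' y' : G} (hx : x ∈ D) (hy : y ∈ D) (hxy : ¬ Commute x y) (hx' : x' ∈ D)
    (hy' : y' ∈ D) (hxy' : ¬ Commute x' y') : (MM D x y).ncard = (MM D x' y').ncard := by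
  obtain ⟨g, hg⟩ := h.single x hx x' hx'
  have h1 : ¬ Commute x' (g * y * g⁻¹) := by
    rw [← hg, FData.commute_conj_gen]; exact hxy
  obtain ⟨k, hk1, hk2⟩ := col_trans h hsol hperf hx' (h.conj g y hy) hy' h1 hxy'
  have e1 : (k * g) * x * (k * g)⁻¹ = x' := by
    calc (k * g) * x * (k * g)⁻¹ = k * (g * x * g⁻¹) * k⁻¹ := by group
      _ = x' := by rw [hg, hk1]
  have e2 : (k * g) * y * (k * g)⁻¹ = y' := by
    calc (k * g) * y * (k * g)⁻¹ = k * (g * y * g⁻¹) * k⁻¹ := by group
      _ = y' := hk2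
  apply ncard_eq_of_conj _ _ (k * g)
  intro c
  show (c ∈ D ∧ Commute c x ∧ Commute c y) ↔ ((k * g) * c * (k * g)⁻¹ ∈ D ∧
    Commute ((k * g) * c * (k * g)⁻¹) x' ∧ Commute ((k * g) * c * (k * g)⁻¹) y')
  rw [← e1, ← e2, FData.commute_conj_gen, FData.commute_conj_gen, ← mem_conj_iff h]

omit hsol hperf in
/-- `|D| ≡ μ` modulo three. -/
theorem card_modEq {x y : G} (hx : x ∈ D) (hy : y ∈ D) (hxy : ¬ Commute x y) :
    D.ncard ≡ (MM D x y).ncard [MOD 3] := by
  classical
  have : Fact (Nat.Prime 3) := ⟨Nat.prime_three⟩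
  have : Fintype D := Fintype.ofFinite _
  let f : Function.End D := fun d => ⟨(x * y) * d.1 * (x * y)⁻¹, h.conj _ _ d.2⟩
  have hr : (x * y) ^ 3 = 1 := by
    calc (x * y) ^ 3 = (x * y * x) * (y * x * y) := by simp only [pow_succ, pow_zero, one_mul, mul_assoc]
      _ = (x * y * x) * (x * y * x) := by rw [h.braid x hx y hy hxy]
      _ = x * y * (x * x) * y * x := by simp only [mul_assoc]
      _ = x * (y * y) * x := by rw [h.sq x hx, mul_one]; simp only [mul_assoc]
      _ = 1 := by rw [h.sq y hy, mul_one, h.sq x hx]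
  have hf : f ^ 3 ^ 1 = 1 := by
    funext d
    apply Subtype.ext
    show (x * y) * ((x * y) * ((x * y) * d.1 * (x * y)⁻¹) * (x * y)⁻¹) * (x * y)⁻¹ = d.1
    have h0 : ∀ w : G, w * (w * (w * d.1 * w⁻¹) * w⁻¹) * w⁻¹ = w ^ 3 * d.1 * (w ^ 3)⁻¹ := by
      intro w
      simp only [pow_succ, pow_zero, one_mul, mul_inv_rev, mul_assoc]
    rw [h0, hr, one_mul, inv_one, mul_one]
  have h1 := Equiv.Perm.card_fixedPoints_modEq (p := 3) (n := 1) hf
  have h2 : Fintype.card D = D.ncard := by
    rw [← Nat.card_eq_fintype_card, Nat.card_coe_set_eq]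
  have h3 : Fintype.card (Function.fixedPoints f) = (MM D x y).ncard := by
    rw [← Nat.card_eq_fintype_card, ← Nat.card_coe_set_eq]
    apply Nat.card_congr
    refine ⟨fun d => ⟨d.1.1, ?_⟩, fun c => ⟨⟨c.1, c.2.1⟩, ?_⟩, fun d => rfl, fun c => rfl⟩
    · have h4 : (x * y) * d.1.1 * (x * y)⁻¹ = d.1.1 := congrArg Subtype.val d.2
      rw [mul_inv_eq_iff_eq_mul] at h4
      obtain ⟨h5, h6⟩ := commute_of_commute_mul h hx hy d.1.2 hxy h4.symm
      exact ⟨d.1.2, h5, h6⟩
    · apply Subtype.ext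
      show (x * y) * c.1 * (x * y)⁻¹ = c.1
      rw [mul_inv_eq_iff_eq_mul]
      exact (c.2.2.1.mul_right c.2.2.2).eq.symm
  rw [h2, h3] at h1
  exact h1

/-- Double counting. -/
theorem double_count {x : G} (hx : x ∈ D)
    (hlam : ∀ e p q : G, e ∈ D → p ∈ PP D e → q ∈ PP D e → p ≠ q → ¬ Commute p q) {m : ℕ}
    (hm : ∀ y ∈ AA D x, (MM D x y).ncard = m) :
    (AA D x).ncard * m = (PP D x).ncard * ((PP D x).ncard - 1) := by
  classical
  have := Fintype.ofFinite G
  have h1 : (AA D x).toFinset.card * m = (PP D x).toFinset.card * ((PP D x).ncard - 1) := by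
    apply Finset.card_mul_eq_card_mul (fun y z : G => Commute y z)
    · intro y hy
      rw [Set.mem_toFinset] at hy
      rw [← hm y hy]
      rw [Set.ncard_eq_toFinset_card' (MM D x y)]
      congr 1
      ext z
      rw [Finset.mem_bipartiteAbove, Set.mem_toFinset, Set.mem_toFinset]
      constructor
      · rintro ⟨⟨hz, hzx, hxz⟩, hyz⟩
        exact ⟨hz, hxz.symm, hyz.symm⟩
      · rintro ⟨hz, hzx, hzy⟩
        refine ⟨⟨hz, ?_, hzx.symm⟩, hzy.symm⟩
        rintro rfl
        exact hy.2 hzy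
    · intro z hz
      rw [Set.mem_toFinset] at hz
      have h2 : ((AA D x).toFinset.bipartiteBelow (fun y z : G => Commute y z) z) =
          (PP D z).toFinset.erase x := by
        ext y
        rw [Finset.mem_bipartiteBelow, Set.mem_toFinset, Finset.mem_erase, Set.mem_toFinset]
        constructor
        · rintro ⟨⟨hy, hxy⟩, hyz⟩
          refine ⟨?_, hy, ?_, hyz.symm⟩
          · rintro rfl; exact hxy (Commute.refl _)
          · rintro rfl; exact hxy hz.2.2
        · rintro ⟨hyx, hy, hyz, hzy⟩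
          refine ⟨⟨hy, ?_⟩, hzy.symm⟩
          exact hlam z x y hz.1 ⟨hx, Ne.symm hz.2.1, hz.2.2.symm⟩ ⟨hy, hyz, hzy⟩ (Ne.symm hyx)
      rw [h2, Finset.card_erase_of_mem, ← Set.ncard_eq_toFinset_card', card_PP_eq h hz.1 hx]
      rw [Set.mem_toFinset]
      exact ⟨hx, Ne.symm hz.2.1, hz.2.2.symm⟩
  rwa [← Set.ncard_eq_toFinset_card', ← Set.ncard_eq_toFinset_card'] at h1

/-- `μ = 1`. -/
theorem mu_eq_one
    (hlam : ∀ e p q : G, e ∈ D → p ∈ PP D e → q ∈ PP D e → p ≠ q → ¬ Commute p q)
    {x y : G} (hx : x ∈ D) (hy : y ∈ D) (hxy : ¬ Commute x y) {p q : G} (hp : p ∈ PP D x)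
    (hq : q ∈ PP D x) (hpq : p ≠ q) : (MM D x y).ncard = 1 := by
  have hcount := double_count h hsol hperf hx hlam (m := (MM D x y).ncard)
    (fun z hz => card_MM_eq h hsol hperf hx hz.1 hz.2 hx hy hxy)
  have hD := card_D (D := D) hx
  have hmod := card_modEq h hx hy hxy
  set k := (PP D x).ncard with hk
  set l := (AA D x).ncard with hl
  set m := (MM D x y).ncard with hm
  have hk2 : 2 ≤ k := by
    have h1 : ({p, q} : Set G) ⊆ PP D x := by
      rintro c (rfl | rfl)
      · exact hp
      · exact hq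
    have h2 := Set.ncard_le_ncard h1 (Set.toFinite _)
    rwa [Set.ncard_pair hpq] at h2
  have hMP : MM D x y ⊆ PP D x := by
    rintro c ⟨hc, hcx, hcy⟩
    refine ⟨hc, ?_, hcx.symm⟩
    rintro rfl; exact hxy hcy
  have hmne : (MM D x y).Nonempty := by
    rw [← Set.ncard_pos (Set.toFinite _)]
    by_contra h0
    have h1 : m = 0 := by omega
    rw [h1, mul_zero] at hcount
    rcases Nat.mul_eq_zero.mp hcount.symm with h2 | h2 <;> omega
  obtain ⟨j, hj⟩ := ncard_pow_three h (PP D x) (fun c hc => hc.1) ⟨p, hp⟩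
    (fun s hs t ht hst => hlam x s t hx hs ht hst) (by
      rintro s ⟨hs, hsx, hxs⟩ t ⟨ht, htx, hxt⟩
      refine ⟨h.conj' hs ht, ?_, ?_⟩
      · intro h1
        apply htx
        have h2 := h.conj_conj hs t
        rw [h1, (h.commute_iff hs x).1 hxs.symm] at h2
        exact h2.symm
      · exact (hxs.mul_right hxt).mul_right hxs)
  obtain ⟨i, hi⟩ := ncard_pow_three h (MM D x y) (fun c hc => hc.1) hmne
    (fun s hs t ht hst => hlam x s t hx (hMP hs) (hMP ht) hst) (by
      rintro s ⟨hs, hsx, hsy⟩ t ⟨ht, htx, hty⟩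
      exact ⟨h.conj' hs ht, (hsx.mul_left htx).mul_left hsx, (hsy.mul_left hty).mul_left hsy⟩)
  rw [← hk] at hj
  rw [← hm] at hi
  rcases Nat.eq_zero_or_pos i with hi0 | hi0
  · rw [hi, hi0, pow_zero]
  · exfalso
    have hj0 : 0 < j := by
      rcases Nat.eq_zero_or_pos j with h0 | h0
      · rw [h0, pow_zero] at hj; omega
      · exact h0
    have h3k : 3 ∣ k := by rw [hj]; exact dvd_pow_self 3 (by omega)
    have h3m : 3 ∣ m := by rw [hi]; exact dvd_pow_self 3 (by omega)
    have h3l : ¬ 3 ∣ l := by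
      intro h3l
      rw [hD] at hmod
      have h1 : (1 + k + l) % 3 = m % 3 := hmod
      omega
    have hcop : Nat.Coprime (3 ^ j) l := Nat.Coprime.pow_left _ ((Nat.Prime.coprime_iff_not_dvd Nat.prime_three).mpr h3l)
    have h1 : 3 ^ j ∣ l * 3 ^ i := by
      rw [← hi, hcount, hj]
      exact Dvd.intro _ rfl
    have h2 : 3 ^ j ∣ 3 ^ i := hcop.dvd_of_dvd_mul_left h1
    have h3 : k ≤ m := by
      rw [hj, hi]; exact Nat.le_of_dvd (by positivity) h2
    have h4 : MM D x y = PP D x := Set.eq_of_subset_of_ncard_le hMP h3 (Set.toFinite _)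
    have h5 : x = y := by
      apply eq_of_perp_imp h hsol hperf hx hy
      intro w hw hwx hwx'
      have h6 : w ∈ MM D x y := by rw [h4]; exact ⟨hw, hwx, hwx'.symm⟩
      refine ⟨?_, h6.2.2⟩
      rintro rfl
      exact hxy hwx'.symm
    rw [h5] at hxy
    exact hxy (Commute.refl _)

/-- The main theorem. -/
theorem main {x a b : G} (hx : x ∈ D) (ha : a ∈ D ∧ a ≠ x ∧ Commute x a)
    (hb : b ∈ D ∧ b ≠ x ∧ Commute x b) (hab : ¬ Commute a b) (hblk : Blk D x a b) :
    Nonempty (G ≃* Equiv.Perm (Fin 5)) := by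
  classical
  have hlam : ∀ e p q : G, e ∈ D → p ∈ PP D e → q ∈ PP D e → p ≠ q → ¬ Commute p q :=
    fun e p q he hp hq hpq => lam0 h hsol hperf hx ha hb hab hblk he hp hq hpq
  have hne_ab : a ≠ b := by rintro rfl; exact hab (Commute.refl _)
  have hmu : ∀ u v : G, u ∈ D → v ∈ D → ¬ Commute u v → (MM D u v).ncard = 1 := by
    intro u v hu hv huv
    rw [card_MM_eq h hsol hperf hu hv huv hx (exists_col h hsol x hx).choose_spec.1
      (exists_col h hsol x hx).choose_spec.2]
    exact mu_eq_one h hsol hperf hlam hx (exists_col h hsol x hx).choose_spec.1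
      (exists_col h hsol x hx).choose_spec.2 ha hb hne_ab
  have hmu1 : ∀ u v c c' : G, u ∈ D → v ∈ D → ¬ Commute u v → c ∈ D → Commute c u → Commute c v →
      c' ∈ D → Commute c' u → Commute c' v → c = c' := by
    intro u v c c' hu hv huv hc hcu hcv hc' hcu' hcv'
    obtain ⟨w, hw⟩ := Set.ncard_eq_one.mp (hmu u v hu hv huv)
    have h1 : c ∈ MM D u v := ⟨hc, hcu, hcv⟩
    have h2 : c' ∈ MM D u v := ⟨hc', hcu', hcv'⟩
    rw [hw] at h1 h2
    exact h1.trans h2.symm
  have hmuex : ∀ u v : G, u ∈ D → v ∈ D → ¬ Commute u v → ∃ c ∈ D, Commute c u ∧ Commute c v := by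
    intro u v hu hv huv
    obtain ⟨w, hw⟩ := Set.ncard_eq_one.mp (hmu u v hu hv huv)
    have h1 : w ∈ MM D u v := by rw [hw]; rfl
    exact ⟨w, h1.1, h1.2⟩
  obtain ⟨y, hy, hya, hay, hyb⟩ : ∃ y ∈ D, y ≠ a ∧ Commute a y ∧ ¬ Commute y b := by
    by_contra hcon
    push Not at hcon
    have h1 : a = b := by
      apply eq_of_perp_imp h hsol hperf ha.1 hb.1
      intro w hw hwa hwa'
      have h2 := hcon w hw hwa hwa'.symm
      refine ⟨?_, h2⟩
      rintro rfl; exact hab hwa'.symm
    exact hne_ab h1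
  obtain ⟨hxy, -⟩ := blk_of_config h hsol hperf hx ha hb hab hblk hy hya hay hyb
  have hba : ¬ Commute b a := fun h1 => hab h1.symm
  have hc : Cox x y b a := cox h hx hy hb.1 ha.1 hxy hyb hba hb.2.2 ha.2.2 hay.symm
  -- `D_x = {b, a, a b a}`
  have hDx : ∀ z ∈ D, z ≠ x → Commute x z → z = a ∨ z = b ∨ z = a * b * a := by
    intro z hz hzx hxz
    by_contra hcon
    push Not at hcon
    obtain ⟨hza, hzb, hzs⟩ := hcon
    -- `p = (1 3)`, `q = (2 4)`
    have hpD : x * y * x ∈ D := h.conj' hx hy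
    have hqD : y * b * y ∈ D := h.conj' hy hb.1
    have hzp : ¬ Commute z (x * y * x) := by
      intro h1
      have hxp : ¬ Commute x (x * y * x) := by
        intro h2
        have h3 := h2.symm
        rw [h.commute_conj_left_iff hx, h.sq x hx, one_mul] at h3
        exact hxy h3.symm
      apply hza
      apply hmu1 x (x * y * x) z a hx hpD hxp hz hxz.symm h1 ha.1 ha.2.2.symm
      have h2 : Commute (x * y * x) a := by
        rw [h.commute_conj_left_iff hx, (h.commute_iff hx a).1 ha.2.2]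
        exact hay.symm
      exact h2.symm
    have hzq : ¬ Commute z (y * b * y) := by
      intro h1
      have hxq : ¬ Commute x (y * b * y) := by
        intro h2
        have h3 := h2.symm
        have h4 : y * b * y = b * y * b := h.braid y hy b hb.1 hyb
        rw [h4, h.commute_conj_left_iff hb.1, (h.commute_iff hb.1 x).1 hb.2.2.symm] at h3
        exact hxy h3.symm
      apply hzs
      have hsD : a * b * a ∈ D := h.conj' ha.1 hb.1
      apply hmu1 x (y * b * y) z (a * b * a) hx hqD hxq hz hxz.symm h1 hsD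
      · exact ((ha.2.2.mul_right hb.2.2).mul_right ha.2.2).symm
      · show a * b * a * (y * b * y) = y * b * y * (a * b * a)
        simp only [mul_assoc, hc.xx, hc.yy, hc.bb, hc.aa, hc.bx, hc.ax, hc.ay, hc.xx', hc.yy', hc.bb', hc.aa',
          hc.bx', hc.ax', hc.ay', hc.yxy1, hc.yxy', hc.byb1, hc.byb', hc.aba1, hc.aba', hc.byxb1, hc.byxb',
          hc.abya1, hc.abya', hc.abyxa1, hc.abyxa', mul_one]
    set p : G := x * y * x with hp
    set q : G := y * b * y with hq
    have hpq : Commute p q := by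
      show x * y * x * (y * b * y) = y * b * y * (x * y * x)
      simp only [mul_assoc, hc.xx, hc.yy, hc.bb, hc.aa, hc.bx, hc.ax, hc.ay, hc.xx', hc.yy', hc.bb', hc.aa',
        hc.bx', hc.ax', hc.ay', hc.yxy1, hc.yxy', hc.byb1, hc.byb', hc.aba1, hc.aba', hc.byxb1, hc.byxb',
        hc.abya1, hc.abya', hc.abyxa1, hc.abyxa', mul_one]
    have hbp := h.braid z hz p hpD hzp
    have hbq := h.braid z hz q hqD hzq
    have h1 : Commute (p * (q * z * q) * p) z := by
      rw [h.commute_conj_left_iff hpD, ← hbq, ← hbp, h.commute_conj_iff hz]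
      exact hpq.symm
    have hqpb : q * (p * b * p) * q = x := by
      show y * b * y * (x * y * x * b * (x * y * x)) * (y * b * y) = x
      simp only [mul_assoc, hc.xx, hc.yy, hc.bb, hc.aa, hc.bx, hc.ax, hc.ay, hc.xx', hc.yy', hc.bb', hc.aa',
        hc.bx', hc.ax', hc.ay', hc.yxy1, hc.yxy', hc.byb1, hc.byb', hc.aba1, hc.aba', hc.byxb1, hc.byxb',
        hc.abya1, hc.abya', hc.abyxa1, hc.abyxa', mul_one]
    have h2 : Commute (p * (q * z * q) * p) b := by
      rw [h.commute_conj_left_iff hpD, h.commute_conj_left_iff hqD, hqpb]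
      exact hxz.symm
    have hzb' : ¬ Commute z b := hlam x z b hx ⟨hz, hzx, hxz⟩ hb hzb
    have h3 : p * (q * z * q) * p = x :=
      hmu1 z b _ x hz hb.1 hzb' (h.conj' hpD (h.conj' hqD hz)) h1 h2 hx hxz hb.2.2
    apply hzb
    have h4 : z = q * (p * x * p) * q := by
      rw [← h3, h.conj_conj hpD, h.conj_conj hqD]
    rw [h4]
    show y * b * y * (x * y * x * x * (x * y * x)) * (y * b * y) = b
    simp only [mul_assoc, hc.xx, hc.yy, hc.bb, hc.aa, hc.bx, hc.ax, hc.ay, hc.xx', hc.yy', hc.bb', hc.aa',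
      hc.bx', hc.ax', hc.ay', hc.yxy1, hc.yxy', hc.byb1, hc.byb', hc.aba1, hc.aba', hc.byxb1, hc.byxb',
      hc.abya1, hc.abya', hc.abyxa1, hc.abyxa', mul_one]
  -- generation
  have hgen : Subgroup.closure {x, y, b, a} = (⊤ : Subgroup G) := by
    set K : Subgroup G := Subgroup.closure {x, y, b, a} with hK
    have hxK : x ∈ K := Subgroup.subset_closure (by simp)
    have hyK : y ∈ K := Subgroup.subset_closure (by simp)
    have hbK : b ∈ K := Subgroup.subset_closure (by simp)
    have haK : a ∈ K := Subgroup.subset_closure (by simp)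
    have hPK : ∀ z ∈ D, Commute x z → z ∈ K := by
      intro z hz hxz
      by_cases hzx : z = x
      · rw [hzx]; exact hxK
      · rcases hDx z hz hzx hxz with rfl | rfl | rfl
        · exact haK
        · exact hbK
        · exact K.mul_mem (K.mul_mem haK hbK) haK
    -- the members of `D_x` are conjugate to `x` in `K`
    have hconjK : ∀ z ∈ D, z ≠ x → Commute x z → ∃ g ∈ K, g * x * g⁻¹ = z := by
      have hbc : (y * b * x * y) * x * (y * b * x * y)⁻¹ = b := by
        rw [mul_inv_eq_iff_eq_mul]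
        simp only [mul_assoc, hc.xx, hc.yy, hc.bb, hc.aa, hc.bx, hc.ax, hc.ay, hc.xx', hc.yy', hc.bb', hc.aa',
          hc.bx', hc.ax', hc.ay', hc.yxy1, hc.yxy', hc.byb1, hc.byb', hc.aba1, hc.aba', hc.byxb1, hc.byxb',
          hc.abya1, hc.abya', hc.abyxa1, hc.abyxa', mul_one]
      have hbcK : y * b * x * y ∈ K := K.mul_mem (K.mul_mem (K.mul_mem hyK hbK) hxK) hyK
      have habc : (b * a) * b * (b * a)⁻¹ = a := by
        rw [mul_inv_eq_iff_eq_mul]
        simp only [mul_assoc, hc.xx, hc.yy, hc.bb, hc.aa, hc.bx, hc.ax, hc.ay, hc.xx', hc.yy', hc.bb', hc.aa',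
          hc.bx', hc.ax', hc.ay', hc.yxy1, hc.yxy', hc.byb1, hc.byb', hc.aba1, hc.aba', hc.byxb1, hc.byxb',
          hc.abya1, hc.abya', hc.abyxa1, hc.abyxa', mul_one]
      intro z hz hzx hxz
      rcases hDx z hz hzx hxz with h1 | h1 | h1
      · refine ⟨(b * a) * (y * b * x * y), K.mul_mem (K.mul_mem hbK haK) hbcK, ?_⟩
        rw [h1]
        calc (b * a) * (y * b * x * y) * x * ((b * a) * (y * b * x * y))⁻¹
            = (b * a) * ((y * b * x * y) * x * (y * b * x * y)⁻¹) * (b * a)⁻¹ := by group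
          _ = a := by rw [hbc, habc]
      · exact ⟨_, hbcK, by rw [h1]; exact hbc⟩
      · refine ⟨a * (y * b * x * y), K.mul_mem haK hbcK, ?_⟩
        rw [h1]
        calc a * (y * b * x * y) * x * (a * (y * b * x * y))⁻¹
            = a * ((y * b * x * y) * x * (y * b * x * y)⁻¹) * a⁻¹ := by group
          _ = a * b * a := by rw [hbc, h.inv_eq ha.1]
    rw [eq_top_iff, ← h.gen, Subgroup.closure_le]
    intro d hd
    by_cases hxd : Commute x d
    · exact hPK d hd hxd
    · obtain ⟨e, he, hex, hed⟩ := hmuex x d hx hd hxd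
      have hne : e ≠ x := by rintro rfl; exact hxd hed
      obtain ⟨g, hg, hge⟩ := hconjK e he hne hex.symm
      have h1 : Commute x (g⁻¹ * d * g⁻¹⁻¹) := by
        rw [← hge] at hed
        have h2 := (FData.commute_conj_gen g⁻¹ _ _).mpr hed
        have h3 : g⁻¹ * (g * x * g⁻¹) * g⁻¹⁻¹ = x := by group
        rwa [h3] at h2
      have h2 := hPK _ (h.conj g⁻¹ d hd) h1
      have h3 : d = g * (g⁻¹ * d * g⁻¹⁻¹) * g⁻¹ := by group
      rw [h3]
      exact K.mul_mem (K.mul_mem hg h2) (K.inv_mem hg)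
  exact equiv_perm hc (fun h1 => hxy h1) hgen (center_eq_bot hsol)

end Count

end Cfsg.Agent.SporadicStructure.FischerOdd2
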