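import Cfsg.Agent.SporadicStructure.FSolEnd9

set_option autoImplicit false

/-!
# A 3-transposition group with the commuting graph `adj3` is `PSU(4,2)` (for S1614)
-/

namespace Cfsg.Agent.SporadicStructure.FSolEnd3

open Cfsg Cfsg.Agent.SporadicStructure.FischerSpace Cfsg.Agent.SporadicStructure.FSolModel
open Cfsg.Agent.SporadicStructure.FSolHyp Cfsg.Agent.SporadicStructure.FSolEnd9
open Cfsg.Agent.Lib.FieldFour Cfsg.Agent.Fischer920.PsuEnd

/-- coefficients of the three classes -/
def cf3 (k : Fin 3) : F4 × F4 :=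
  match k with
  | 0 => (1, 0)
  | 1 => (0, 1)
  | 2 => (1, 1)

/-- the Hermitian form on `F4²` -/
def H3 (a b a' b' : F4) : F4 := a * fr b' + b * fr a'

/-- the model space -/
abbrev V3 : Type := F4 × F4 × F4 × F4

/-- the Hermitian form on the model space -/
def h3 (u v : V3) : F4 :=
  u.1 * fr v.2.1 + u.2.1 * fr v.1 + H3 u.2.2.1 u.2.2.2 v.2.2.1 v.2.2.2

/-- the quadratic correction -/
def phi3 (a b : F4) : F4 := b * fr a

/-- the vector of a label -/
def vec3 : L3 → V3
  | .x => (1, 0, 0, 0)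
  | .e k g => (fr g, 0, (cf3 k).1, (cf3 k).2)
  | .a ε al be => (bit ε + phi3 al be, 1, al, be)

theorem S3_iff (ε : Bool) (a b : F4) : S3 ε a b = true ↔ bit ε + phi3 a b = 0 := by
  revert ε a b
  decide

theorem H3_cf (k l : Fin 3) : (k == l) = true ↔
    H3 (cf3 k).1 (cf3 k).2 (cf3 l).1 (cf3 l).2 = 0 := by
  revert k l
  decide

theorem lam3_eq (k : Fin 3) (a b : F4) : lam3 k a b = fr (H3 (cf3 k).1 (cf3 k).2 a b) := by
  revert k a b
  decide

theorem lam3_iff (k : Fin 3) (a b g : F4) :
    g = lam3 k a b ↔ fr g + H3 (cf3 k).1 (cf3 k).2 a b = 0 := by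
  rw [lam3_eq]
  constructor
  · intro h
    rw [h, fr_fr, add_self]
  · intro h
    rw [← eq_iff_add] at h
    rw [← h, fr_fr]

theorem key_identity (ε ε' : Bool) (a b a' b' : F4) :
    bit (xor (xor ε ε') (B (a + a') b')) + phi3 (a + a') (b + b') =
    (bit ε + phi3 a b) * 1 + 1 * fr (bit ε' + phi3 a' b') + H3 a b a' b' := by
  simp only [bit_xor, bit_B, fr_add, fr_mul, fr_fr, fr_bit, phi3, H3]
  rw [eq_iff_add]
  have h2 : (2 : F4) = 0 := rfl
  ring_nf
  simp only [h2, mul_zero, add_zero]

theorem H3_swap (a b a' b' : F4) : H3 a' b' a b = fr (H3 a b a' b') := by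
  unfold H3
  simp only [fr_add, fr_mul, fr_fr]
  ring

theorem h3_swap (u v : V3) : h3 v u = fr (h3 u v) := by
  unfold h3
  rw [H3_swap]
  simp only [fr_add, fr_mul, fr_fr]
  ring

theorem h3_eq_zero_swap {u v : V3} : h3 v u = 0 ↔ h3 u v = 0 := by
  rw [h3_swap]
  generalize h3 u v = x
  revert x
  decide

theorem adj3_iff (l m : L3) : adj3 l m = true ↔ h3 (vec3 l) (vec3 m) = 0 := by
  have hea : ∀ (k : Fin 3) (g : F4) (ε : Bool) (a b : F4),
      (g == lam3 k a b) = true ↔ h3 (vec3 (.e k g)) (vec3 (.a ε a b)) = 0 := by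
    intro k g ε a b
    rw [beq_iff_eq]
    rw [lam3_iff]
    simp only [h3, vec3, fr_one, mul_one, zero_mul, add_zero]
  cases l with
  | x =>
    cases m with
    | x => exact iff_of_true rfl (by decide)
    | e k g =>
      apply iff_of_true rfl
      simp only [h3, vec3, H3, fr_zero, mul_zero, zero_mul, add_zero]
    | a ε a b =>
      apply iff_of_false (by simp [adj3])
      simp only [h3, vec3, H3, fr_one, mul_one, zero_mul, add_zero]
      exact one_ne_zero
  | e k g =>
    cases m with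
    | x =>
      apply iff_of_true rfl
      simp only [h3, vec3, H3, fr_zero, mul_zero, zero_mul, add_zero]
    | e l g' =>
      show (k == l) = true ↔ _
      rw [H3_cf]
      simp only [h3, vec3, fr_zero, mul_zero, zero_mul, zero_add]
    | a ε a b => exact hea k g ε a b
  | a ε a b =>
    cases m with
    | x =>
      apply iff_of_false (by simp [adj3])
      simp only [h3, vec3, H3, fr_zero, fr_one, mul_one, mul_zero, add_zero, zero_add]
      exact one_ne_zero
    | e k g =>
      rw [h3_eq_zero_swap]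
      exact hea k g ε a b
    | a ε' a' b' =>
      show S3 _ _ _ = true ↔ _
      rw [S3_iff]
      have h := key_identity ε ε' a b a' b'
      simp only [h3, vec3, fr_one, ← h]
      exact Iff.rfl

/-! ### the model space -/

theorem hermSp3 : HermSp F4 V3 h3 := by
  refine ⟨?_, ?_, ?_, ?_⟩
  · intro u u' v
    simp only [h3, H3, Prod.fst_add, Prod.snd_add]
    ring
  · intro c u v
    simp only [h3, H3, Prod.smul_fst, Prod.smul_snd, smul_eq_mul]
    ring
  · intro u v
    rw [h3_swap, fr_eq]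
  · rintro ⟨u0, u1, a, b⟩ hu
    have h1 := hu (1, 0, 0, 0)
    have h2 := hu (0, 1, 0, 0)
    have h3' := hu (0, 0, 1, 0)
    have h4 := hu (0, 0, 0, 1)
    simp only [h3, H3, fr_zero, fr_one, mul_one, mul_zero, add_zero, zero_add] at h1 h2 h3' h4
    subst h1
    subst h2
    subst h3'
    subst h4
    rfl

theorem finrank_V3 : Module.finrank F4 V3 = 4 := by
  simp [V3, Module.finrank_prod]

theorem cf3_ne (c : F4) (k : Fin 3) : c ≠ 0 →
    ¬ (0 = c * (cf3 k).1 ∧ 0 = c * (cf3 k).2) := by
  revert c k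
  decide

theorem cf3_inj (c : F4) (k l : Fin 3) (h1 : (cf3 k).1 = c * (cf3 l).1)
    (h2 : (cf3 k).2 = c * (cf3 l).2) : k = l ∧ c = 1 := by
  revert c k l
  decide

theorem vec3_ne_zero (l : L3) : vec3 l ≠ 0 := by
  intro h
  cases l with
  | x => exact one_ne_zero (congrArg Prod.fst h)
  | e k g =>
    have h1 : ∀ k : Fin 3, ¬ ((cf3 k).1 = 0 ∧ (cf3 k).2 = 0) := by decide
    exact h1 k ⟨congrArg (fun x => x.2.2.1) h, congrArg (fun x => x.2.2.2) h⟩
  | a ε a b => exact one_ne_zero (congrArg (fun x => x.2.1) h)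

theorem adj3_refl (l : L3) : adj3 l l = true := by
  cases l with
  | x => rfl
  | e k g => show (k == k) = true; simp
  | a ε a b =>
    rw [adj3_iff]
    revert ε a b
    decide

theorem vec3_inj (l m : L3) (c : F4) (h : vec3 l = c • vec3 m) : l = m := by
  have hc : c ≠ 0 := by
    rintro rfl
    rw [zero_smul] at h
    exact vec3_ne_zero l h
  cases l with
  | x =>
    cases m with
    | x => rfl
    | e k g =>
      exfalso
      exact cf3_ne c k hc ⟨congrArg (fun x : V3 => x.2.2.1) h,
        congrArg (fun x : V3 => x.2.2.2) h⟩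
    | a ε a b =>
      exfalso
      have h1 : (0 : F4) = c * 1 := congrArg (fun x : V3 => x.2.1) h
      rw [mul_one] at h1
      exact hc h1.symm
  | e k g =>
    cases m with
    | x =>
      exfalso
      have h1 : (cf3 k).1 = c * 0 := congrArg (fun x : V3 => x.2.2.1) h
      have h2 : (cf3 k).2 = c * 0 := congrArg (fun x : V3 => x.2.2.2) h
      rw [mul_zero] at h1 h2
      exact cf3_ne 1 k one_ne_zero ⟨by rw [h1, mul_zero], by rw [h2, mul_zero]⟩
    | e l g' =>
      have h1 : (cf3 k).1 = c * (cf3 l).1 := congrArg (fun x : V3 => x.2.2.1) h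
      have h2 : (cf3 k).2 = c * (cf3 l).2 := congrArg (fun x : V3 => x.2.2.2) h
      obtain ⟨rfl, rfl⟩ := cf3_inj c k l h1 h2
      have h4 : fr g = 1 * fr g' := congrArg (fun x : V3 => x.1) h
      rw [one_mul] at h4
      rw [fr_inj h4]
    | a ε a b =>
      exfalso
      have h1 : (0 : F4) = c * 1 := congrArg (fun x : V3 => x.2.1) h
      rw [mul_one] at h1
      exact hc h1.symm
  | a ε a b =>
    cases m with
    | x =>
      exfalso
      have h1 : (1 : F4) = c * 0 := congrArg (fun x : V3 => x.2.1) h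
      rw [mul_zero] at h1
      exact one_ne_zero h1
    | e k g =>
      exfalso
      have h1 : (1 : F4) = c * 0 := congrArg (fun x : V3 => x.2.1) h
      rw [mul_zero] at h1
      exact one_ne_zero h1
    | a ε' a' b' =>
      have h0 : (1 : F4) = c * 1 := congrArg (fun x : V3 => x.2.1) h
      rw [mul_one] at h0
      subst h0
      rw [one_smul] at h
      have h1 : a = a' := congrArg (fun x : V3 => x.2.2.1) h
      have h2 : b = b' := congrArg (fun x : V3 => x.2.2.2) h
      subst h1
      subst h2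
      have h4 : bit ε + phi3 a b = bit ε' + phi3 a b := congrArg (fun x : V3 => x.1) h
      rw [bit_inj (add_right_cancel h4)]

theorem H3_self (a b : F4) : H3 a b a b = phi3 a b + fr (phi3 a b) := by
  revert a b
  decide

theorem exists_cf3 (a b : F4) (h : H3 a b a b = 0) (hne : ¬ (a = 0 ∧ b = 0)) :
    ∃ (c : F4) (k : Fin 3), a = c * (cf3 k).1 ∧ b = c * (cf3 k).2 := by
  revert a b
  decide

theorem vec3_surj (v : V3) (hv : v ≠ 0) (h : h3 v v = 0) : ∃ (l : L3) (c : F4), v = c • vec3 l := by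
  obtain ⟨u0, u1, a, b⟩ := v
  by_cases hu : u1 = 0
  · subst hu
    have h1 : H3 a b a b = 0 := by
      simp only [h3, fr_zero, mul_zero, zero_mul, zero_add] at h
      exact h
    by_cases hm : a = 0 ∧ b = 0
    · obtain ⟨rfl, rfl⟩ := hm
      refine ⟨.x, u0, ?_⟩
      simp [vec3]
    · obtain ⟨c, k, rfl, rfl⟩ := exists_cf3 a b h1 hm
      have hc : c ≠ 0 := by
        rintro rfl
        exact hm ⟨zero_mul _, zero_mul _⟩
      refine ⟨.e k (fr (c⁻¹ * u0)), c, ?_⟩
      simp only [vec3, fr_fr, Prod.smul_mk, smul_eq_mul, mul_zero, mul_inv_cancel_left₀ hc]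
  · have h2 : (u1⁻¹ * u0) + fr (u1⁻¹ * u0) + H3 (u1⁻¹ * a) (u1⁻¹ * b)
        (u1⁻¹ * a) (u1⁻¹ * b) = 0 := by
      have h5 := hermSp3.smul_left (u1⁻¹) (u0, u1, a, b) (u1⁻¹ • (u0, u1, a, b))
      have h4 : h3 (u0, u1, a, b) (u1⁻¹ • (u0, u1, a, b)) = 0 := by
        rw [h3_swap, hermSp3.smul_left, h, mul_zero, fr_zero]
      rw [h4, mul_zero] at h5
      simp only [h3, Prod.smul_mk, smul_eq_mul, inv_mul_cancel₀ hu, fr_one, one_mul, mul_one] at h5
      exact h5
    rw [H3_self] at h2
    obtain ⟨ε, hε⟩ := fixed_iff (u1⁻¹ * u0 + phi3 (u1⁻¹ * a) (u1⁻¹ * b)) (by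
      rw [fr_add, ← h2]
      ring)
    refine ⟨.a ε (u1⁻¹ * a) (u1⁻¹ * b), u1, ?_⟩
    have h4 : bit ε + phi3 (u1⁻¹ * a) (u1⁻¹ * b) = u1⁻¹ * u0 := by
      rw [← hε, add_assoc, add_self, add_zero]
    simp only [vec3, h4, Prod.smul_mk, smul_eq_mul, mul_one, mul_inv_cancel_left₀ hu]

/-! ### hyperbolic lines -/

theorem hyp3 (m : L3) (hm : adj3 .x m = false) : ∃ t, ∀ n,
    (∀ z, adj3 z .x = true → adj3 z m = true → adj3 z n = true) → n = .x ∨ n = m ∨ n = t := by
  cases m with
  | x => exact absurd hm (by decide)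
  | e k g => exact absurd hm (by simp [adj3])
  | a ε a b =>
    refine ⟨.a (!ε) a b, ?_⟩
    intro n hn
    have h1 : ∀ k, adj3 (.e k (lam3 k a b)) n = true := by
      intro k
      apply hn _ rfl
      show (_ == _) = true
      rw [beq_self_eq_true]
    cases n with
    | x => left; rfl
    | e k g =>
      exfalso
      have h2 := h1 (k + 1)
      have h3 : (k + 1 == k) = true := h2
      revert h3
      clear h2 h1 hn hm
      revert k
      decide
    | a ε' a' b' =>
      have h2 : b = b' := by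
        have h3 : (lam3 0 a b == lam3 0 a' b') = true := h1 0
        exact beq_iff_eq.1 h3
      have h4 : a = a' := by
        have h3 : (lam3 1 a b == lam3 1 a' b') = true := h1 1
        exact beq_iff_eq.1 h3
      subst h2
      subst h4
      right
      cases ε <;> cases ε' <;> simp

/-- **The end of the case with three classes.** -/
theorem psu_four {G : Type*} [Group G] {D : Set G} (h₁ : FData D)
    (hz : Subgroup.center G = ⊥) (Psi : L3 → G) (hinj : Function.Injective Psi)
    (hrange : Set.range Psi = D)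
    (hadj : ∀ l m, Commute (Psi l) (Psi m) ↔ adj3 l m = true) :
    Nonempty (G ≃* Cfsg.PSU 4 F4 2) := by
  have hyp := hyp_of_labels h₁ Psi hrange adj3 hadj .x hyp3
  have : Nonempty L3 := ⟨.x⟩
  have hinv : ∀ l, Function.invFun Psi (Psi l) = l := Function.leftInverse_invFun hinj
  obtain ⟨e, _⟩ := exists_equiv_psu h₁ hz hyp F4.card hermSp3 finrank_V3 (by norm_num)
    (fun g => vec3 (Function.invFun Psi g))
    (by
      intro a _
      exact vec3_ne_zero _)
    (by
      intro a _
      exact (adj3_iff _ _).1 (adj3_refl _))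
    (by
      intro a ha b hb
      rw [← hrange] at ha hb
      obtain ⟨l, rfl⟩ := ha
      obtain ⟨m, rfl⟩ := hb
      rw [hinv, hinv, hadj, adj3_iff])
    (by
      intro a ha b hb c hc
      rw [← hrange] at ha hb
      obtain ⟨l, rfl⟩ := ha
      obtain ⟨m, rfl⟩ := hb
      rw [hinv, hinv] at hc
      rw [vec3_inj _ _ _ hc])
    (by
      intro v hv h
      obtain ⟨l, c, hc⟩ := vec3_surj v hv h
      refine ⟨Psi l, ?_, c, ?_⟩
      · rw [← hrange]
        exact ⟨l, rfl⟩
      · rw [hinv]
        exact hc)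
  exact ⟨e⟩

end Cfsg.Agent.SporadicStructure.FSolEnd3
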