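import Mathlib

set_option autoImplicit false

/-!
# Solvable groups generated by 3-transpositions (for S1614)
-/

namespace Cfsg.Agent.SporadicStructure.FSolSolv

variable {X : Type*} [Group X]

/-- the normal Sylow subgroup of a normal nilpotent subgroup -/
theorem exists_sylow [Finite X] (K : Subgroup X) [hK : K.Normal] (hn : Group.IsNilpotent K) (p : ℕ)
    [Fact p.Prime] : ∃ P : Subgroup X, P.Normal ∧ IsPGroup p P ∧ P ≤ K ∧
      ∀ k ∈ K, (∃ n, k ^ p ^ n = 1) → k ∈ P := by
  obtain ⟨Q⟩ : Nonempty (Sylow p K) := inferInstance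
  have hQn : (Q : Subgroup K).Normal := by
    have h1 := (Group.isNilpotent_of_finite_tfae (G := K)).out 0 3
    exact (h1.1 hn) p inferInstance Q
  have hQc : (Q : Subgroup K).Characteristic := Q.characteristic_of_normal hQn
  refine ⟨(Q : Subgroup K).map K.subtype, ?_, ?_, ?_, ?_⟩
  · exact ConjAct.normal_of_characteristic_of_normal
  · exact Q.2.map K.subtype
  · exact Subgroup.map_subtype_le _
  · rintro k hk ⟨n, hkn⟩
    have h1 : IsPGroup p (Subgroup.zpowers (⟨k, hk⟩ : K)) := by
      rw [IsPGroup.iff_card]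
      have h2 : orderOf (⟨k, hk⟩ : K) ∣ p ^ n := by
        apply orderOf_dvd_of_pow_eq_one
        apply Subtype.ext
        simpa using hkn
      obtain ⟨m, -, hm⟩ := (Nat.dvd_prime_pow (Fact.out : p.Prime)).1 h2
      exact ⟨m, by rw [Nat.card_zpowers, hm]⟩
    obtain ⟨Q', hQ'⟩ := h1.exists_le_sylow
    have : Q' = Q := by
      have := Sylow.unique_of_normal Q hQn
      exact Subsingleton.elim _ _
    rw [this] at hQ'
    exact ⟨⟨k, hk⟩, hQ' (Subgroup.mem_zpowers _), rfl⟩

theorem exists_class_two (hX : Group.IsSolvable X) {a b : X} (hab : ¬ Commute a b) :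
    ∃ K : Subgroup X, K.Normal ∧ ¬ K ≤ Subgroup.center X ∧ ⁅K, K⁆ ≤ Subgroup.center X := by
  classical
  have hex : ∃ n, derivedSeries X n ≤ Subgroup.center X := by
    obtain ⟨n, hn⟩ := hX.solvable
    exact ⟨n, by rw [hn]; exact bot_le⟩
  have h0 : ¬ derivedSeries X 0 ≤ Subgroup.center X := by
    intro h1
    have : a ∈ Subgroup.center X := h1 (by simp)
    exact hab ((Subgroup.mem_center_iff.1 this b).symm)
  set n := Nat.find hex with hn
  have hn0 : n ≠ 0 := by
    intro h1
    apply h0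
    have := Nat.find_spec hex
    rw [← hn, h1] at this
    exact this
  obtain ⟨m, hm⟩ := Nat.exists_eq_succ_of_ne_zero hn0
  refine ⟨derivedSeries X m, inferInstance, ?_, ?_⟩
  · exact Nat.find_min hex (by omega)
  · have := Nat.find_spec hex
    rw [← hn, hm, Nat.succ_eq_add_one, derivedSeries_succ] at this
    exact this

theorem nilpotent_of_class_two (K : Subgroup X) (hK : ⁅K, K⁆ ≤ Subgroup.center X) :
    Group.IsNilpotent K := by
  have h1 : (Abelianization.of (G := K)).ker ≤ Subgroup.center K := by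
    rw [Abelianization.ker_of]
    intro k hk
    rw [Subgroup.mem_center_iff]
    intro g
    have h2 : (k : X) ∈ ⁅K, K⁆ := by
      have h3 : (commutator K).map K.subtype = ⁅K, K⁆ := by
        exact Subgroup.map_subtype_commutator K
      rw [← h3]
      exact ⟨k, hk, rfl⟩
    apply Subtype.ext
    exact Subgroup.mem_center_iff.1 (hK h2) g
  exact Subgroup.isNilpotent_of_ker_le_center _ h1

/-- **Solvable groups generated by 3-transpositions.** -/
theorem dichotomy [Finite X] (hX : Group.IsSolvable X) {S : Set X} (hsq : ∀ a ∈ S, a * a = 1)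
    (hconj : ∀ g : X, ∀ a ∈ S, g * a * g⁻¹ ∈ S)
    (hbr : ∀ a ∈ S, ∀ b ∈ S, ¬ Commute a b → a * b * a = b * a * b)
    (hgen : Subgroup.closure S = ⊤) (hnc : ∃ a ∈ S, ∃ b ∈ S, ¬ Commute a b) :
    (∃ a ∈ S, ∃ b ∈ S, a ≠ b ∧ Commute a b ∧ ∀ c ∈ S, Commute c a ↔ Commute c b) ∨
    (∃ a ∈ S, ∃ b ∈ S, ¬ Commute a b ∧ (∀ c ∈ S, c ≠ a → Commute c a → Commute c b) ∧
      ∃ P : Subgroup X, P.Normal ∧ IsPGroup 3 P ∧ a * b ∈ P) := by
  obtain ⟨a0, -, b0, -, hab0⟩ := hnc
  obtain ⟨K, hKn, hKc, hKK⟩ := exists_class_two hX hab0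
  have hnil := nilpotent_of_class_two K hKK
  have : Fact (Nat.Prime 2) := ⟨Nat.prime_two⟩
  have : Fact (Nat.Prime 3) := ⟨Nat.prime_three⟩
  have hex : ∃ a ∈ S, ∃ n ∈ K, ¬ Commute n a := by
    by_contra hno
    push Not at hno
    apply hKc
    intro n hn
    rw [Subgroup.mem_center_iff]
    intro g
    have hle : Subgroup.closure S ≤ Subgroup.centralizer {n} := by
      rw [Subgroup.closure_le]
      intro a ha
      rw [SetLike.mem_coe, Subgroup.mem_centralizer_singleton_iff]
      exact (hno a ha n hn).symm.eq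
    have hg : g ∈ Subgroup.centralizer {n} := hle (by rw [hgen]; trivial)
    exact Subgroup.mem_centralizer_singleton_iff.1 hg
  obtain ⟨a, ha, n, hn, hna⟩ := hex
  set b := n * a * n⁻¹ with hb
  have hbS : b ∈ S := hconj n a ha
  have hab : a ≠ b := by
    intro h1
    apply hna
    rw [hb, eq_mul_inv_iff_mul_eq] at h1
    exact h1.symm
  have hainv : a⁻¹ = a := inv_eq_of_mul_eq_one_left (hsq a ha)
  have habK : a * b ∈ K := by
    have h1 : a * n * a⁻¹ ∈ K := hKn.conj_mem n hn a
    have h2 : a * b = (a * n * a⁻¹) * n⁻¹ := by rw [hb, hainv]; simp only [mul_assoc]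
    rw [h2]
    exact mul_mem h1 (inv_mem hn)
  -- the key computation
  have key : ∀ P : Subgroup X, P.Normal → ∀ a ∈ S, ∀ b ∈ S, ∀ c ∈ S, a * b ∈ P → Commute c a →
      ¬ Commute c b → c * b ∈ P := by
    intro P hP a ha b hb c hc habP hca hcb
    have hbb := hsq b hb
    have hcc := hsq c hc
    have haa := hsq a ha
    have hci : c⁻¹ = c := inv_eq_of_mul_eq_one_left hcc
    have h1 : c * (a * b) * c⁻¹ ∈ P := hP.conj_mem _ habP c
    have h2 : (a * b)⁻¹ * (c * (a * b) * c⁻¹) ∈ P := mul_mem (inv_mem habP) h1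
    have hai : a⁻¹ = a := inv_eq_of_mul_eq_one_left haa
    have hbi : b⁻¹ = b := inv_eq_of_mul_eq_one_left hbb
    have h3 : (a * b)⁻¹ * (c * (a * b) * c⁻¹) = c * b := by
      rw [mul_inv_rev, hci, hai, hbi]
      calc b * a * (c * (a * b) * c) = b * a * ((c * a) * b * c) := by simp only [mul_assoc]
        _ = b * a * ((a * c) * b * c) := by rw [hca.eq]
        _ = b * (a * a) * (c * b * c) := by simp only [mul_assoc]
        _ = b * (b * c * b) := by rw [haa, mul_one, hbr c hc b hb hcb]
        _ = (b * b) * c * b := by simp only [mul_assoc]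
        _ = c * b := by rw [hbb, one_mul]
    rwa [h3] at h2
  have cube : ∀ a ∈ S, ∀ b ∈ S, ¬ Commute a b → (a * b) ^ 3 = 1 := by
    intro a ha b hb hab
    calc (a * b) ^ 3 = (a * b * a) * (b * a * b) := by
          simp only [pow_succ, pow_zero, one_mul, mul_assoc]
      _ = (a * b * a) * (a * b * a) := by rw [hbr a ha b hb hab]
      _ = a * b * (a * a) * b * a := by simp only [mul_assoc]
      _ = a * (b * b) * a := by rw [hsq a ha]; simp only [mul_assoc, mul_one]
      _ = 1 := by rw [hsq b hb, mul_one, hsq a ha]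
  have square : ∀ a ∈ S, ∀ b ∈ S, Commute a b → (a * b) ^ 2 = 1 := by
    intro a ha b hb hab
    rw [hab.mul_pow, pow_two, pow_two, hsq a ha, hsq b hb, one_mul]
  by_cases hcab : Commute a b
  · left
    obtain ⟨P, hPn, hP2, hPK, hPm⟩ := exists_sylow K hnil 2
    have habP : a * b ∈ P := hPm _ habK ⟨1, by rw [pow_one]; exact square a ha b hbS hcab⟩
    have two : ∀ a ∈ S, ∀ b ∈ S, a * b ∈ P → ¬ ¬ Commute a b := by
      intro a ha b hb habP hn
      obtain ⟨k, hk⟩ := hP2 ⟨a * b, habP⟩
      have hk' : (a * b) ^ 2 ^ k = 1 := by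
        have := congrArg Subtype.val hk
        simpa using this
      have h3 := cube a ha b hb hn
      have hco : Nat.Coprime (2 ^ k) 3 := by
        apply Nat.Coprime.pow_left; decide
      have h1 : a * b = 1 := by
        have h4 : orderOf (a * b) ∣ 1 := by
          rw [← hco]
          exact Nat.dvd_gcd (orderOf_dvd_of_pow_eq_one hk') (orderOf_dvd_of_pow_eq_one h3)
        rwa [Nat.dvd_one, orderOf_eq_one_iff] at h4
      apply hn
      have h2 : b = a := by
        have := eq_inv_of_mul_eq_one_right h1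
        rw [this]
        exact inv_eq_of_mul_eq_one_left (hsq a ha)
      rw [h2]
    refine ⟨a, ha, b, hbS, hab, hcab, fun c hc => ⟨fun h1 => ?_, fun h1 => ?_⟩⟩
    · by_contra h2
      exact two c hc b hbS (key P hPn a ha b hbS c hc habP h1 h2) h2
    · by_contra h2
      have hbaP : b * a ∈ P := by rw [← hcab.eq]; exact habP
      exact two c hc a ha (key P hPn b hbS a ha c hc hbaP h1 h2) h2
  · right
    obtain ⟨P, hPn, hP3, hPK, hPm⟩ := exists_sylow K hnil 3
    have habP : a * b ∈ P := hPm _ habK ⟨1, by rw [pow_one]; exact cube a ha b hbS hcab⟩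
    refine ⟨a, ha, b, hbS, hcab, ?_, P, hPn, hP3, habP⟩
    intro c hc hca h1
    by_contra h2
    have h3 := key P hPn a ha b hbS c hc habP h1 h2
    have hbi : b⁻¹ = b := inv_eq_of_mul_eq_one_left (hsq b hbS)
    have h4 : c * a ∈ P := by
      have h5 : (c * b) * (a * b)⁻¹ = c * a := by
        rw [mul_inv_rev, hainv, hbi]
        calc c * b * (b * a) = c * (b * b) * a := by simp only [mul_assoc]
          _ = c * a := by rw [hsq b hbS, mul_one]
      rw [← h5]
      exact mul_mem h3 (inv_mem habP)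
    obtain ⟨k, hk⟩ := hP3 ⟨c * a, h4⟩
    have hk' : (c * a) ^ 3 ^ k = 1 := by
      have := congrArg Subtype.val hk
      simpa using this
    have h5 := square c hc a ha h1
    have hco : Nat.Coprime (3 ^ k) 2 := by
      apply Nat.Coprime.pow_left; decide
    have h6 : c * a = 1 := by
      have h7 : orderOf (c * a) ∣ 1 := by
        rw [← hco]
        exact Nat.dvd_gcd (orderOf_dvd_of_pow_eq_one hk') (orderOf_dvd_of_pow_eq_one h5)
      rwa [Nat.dvd_one, orderOf_eq_one_iff] at h7
    apply hca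
    rw [eq_inv_of_mul_eq_one_left h6, hainv]

end Cfsg.Agent.SporadicStructure.FSolSolv
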