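import Mathlib
import Cfsg.Agent.SporadicStructure.FischerRank3

set_option autoImplicit false

/-!
# 3-transposition groups: conjugation calculus, lines, one-or-all (for S1614)
-/

namespace Cfsg.Agent.SporadicStructure.FSolBase

open Cfsg Cfsg.Agent.SporadicStructure.FischerSpace Cfsg.Agent.SporadicStructure.FischerPrimitive
open Cfsg.Agent.SporadicStructure.FischerRank3

variable {G : Type*} [Group G] {D : Set G}

/-- conjugation -/
def cc (g z : G) : G := g * z * g⁻¹

theorem cc_def (g z : G) : cc g z = g * z * g⁻¹ := rfl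

theorem cc_mul (g k z : G) : cc (g * k) z = cc g (cc k z) := by
  simp only [cc_def, mul_inv_rev, mul_assoc]

theorem cc_one (z : G) : cc 1 z = z := by simp [cc_def]

theorem cc_one_right (g : G) : cc g 1 = 1 := by simp [cc_def]

theorem cc_map_mul (g z w : G) : cc g (z * w) = cc g z * cc g w := by
  simp only [cc_def]; group

theorem cc_inv_cc (g z : G) : cc g⁻¹ (cc g z) = z := by simp only [cc_def]; group

theorem cc_cc_inv (g z : G) : cc g (cc g⁻¹ z) = z := by simp only [cc_def]; group

theorem cc_self (g : G) : cc g g = g := by simp [cc_def]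

theorem cc_inj {g z w : G} : cc g z = cc g w ↔ z = w := by
  constructor
  · intro h
    have := congrArg (cc g⁻¹) h
    rwa [cc_inv_cc, cc_inv_cc] at this
  · rintro rfl; rfl

theorem cc_eq_iff {g z : G} : cc g z = z ↔ Commute g z := by
  rw [cc_def, mul_inv_eq_iff_eq_mul]
  rfl

theorem cc_of_commute {g z : G} (h : Commute g z) : cc g z = z := cc_eq_iff.2 h

theorem cc_commute (g z w : G) : Commute (cc g z) (cc g w) ↔ Commute z w :=
  FData.commute_conj_gen g z w

theorem cc_cc (g k z : G) : cc (cc g k) (cc g z) = cc g (cc k z) := by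
  simp only [cc_def]; group

theorem commute_cc_comm {g z w : G} : Commute z (cc g w) ↔ Commute (cc g⁻¹ z) w := by
  rw [← cc_commute g (cc g⁻¹ z) w, cc_cc_inv]

theorem PR_iff {x u y v : G} : PR x u y v ↔ ∃ g : G, cc g x = y ∧ cc g u = v := Iff.rfl

section F

variable (h : FData D)

include h

theorem inv_eq {a : G} (ha : a ∈ D) : a⁻¹ = a := h.inv_eq ha

theorem sq {a : G} (ha : a ∈ D) : a * a = 1 := h.sq a ha

theorem ccm (g : G) {a : G} (ha : a ∈ D) : cc g a ∈ D := h.conj g a ha

theorem ccm_iff (g a : G) : cc g a ∈ D ↔ a ∈ D := by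
  constructor
  · intro h1
    have := ccm h g⁻¹ h1
    rwa [cc_inv_cc] at this
  · exact ccm h g

theorem cc_cc_self {a : G} (ha : a ∈ D) (z : G) : cc a (cc a z) = z := by
  rw [← cc_mul, sq h ha, cc_one]

/-- the third point of a noncommuting pair -/
theorem third {a b : G} (ha : a ∈ D) (hb : b ∈ D) (hab : ¬ Commute a b) : cc a b = cc b a := by
  rw [cc_def, cc_def, inv_eq h ha, inv_eq h hb, h.braid a ha b hb hab]

theorem third_cc {a b : G} (ha : a ∈ D) (hb : b ∈ D) (hab : ¬ Commute a b) :
    cc (cc a b) a = b := by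
  have h1 := third h ha hb hab
  have h2 : cc (cc b a) (cc b b) = cc b (cc a b) := cc_cc b a b
  rw [cc_self, h1, cc_cc_self h hb] at h2
  -- h2 : cc (cc b a) b = a
  have h3 : cc (cc a b) (cc (cc a b) b) = cc (cc a b) a := by rw [h1, h2]
  rw [cc_cc_self h (ccm h a hb)] at h3
  exact h3.symm

omit h in
theorem third_not_commute {a b : G} (hab : ¬ Commute a b) :
    ¬ Commute a (cc a b) := by
  intro h1
  apply hab
  have : Commute (cc a a) (cc a b) := by rwa [cc_self]
  rwa [cc_commute] at this

theorem cc_commute_left {a : G} (ha : a ∈ D) (z w : G) : Commute (cc a z) w ↔ Commute z (cc a w) := by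
  rw [← cc_commute a, cc_cc_self h ha]

omit h in
/-- something commuting with `a, b` commutes with `cc a b` -/
theorem commute_cc_of {d a b : G} (h1 : Commute d a) (h2 : Commute d b) : Commute d (cc a b) := by
  rw [cc_def]
  exact (h1.mul_right h2).mul_right h1.inv_right

/-- if `d` commutes with `a` but not with `b` then not with `cc a b` -/
theorem not_commute_cc {d a b : G} (ha : a ∈ D) (h1 : Commute d a) (h2 : ¬ Commute d b) :
    ¬ Commute d (cc a b) := by
  intro h3
  apply h2
  have := commute_cc_of h1 h3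
  rwa [cc_cc_self h ha] at this

/-- the symmetric group of degree four: `u` joined to the commuting `c, z`. -/
theorem s4' {u c z : G} (hu : u ∈ D) (hc : c ∈ D) (hz : z ∈ D) (hcz : Commute c z)
    (huc : ¬ Commute u c) (huz : ¬ Commute u z) :
    cc c (cc z u) ∈ D ∧ Commute (cc c (cc z u)) u ∧ cc (u * cc c (cc z u)) c = z := by
  have hf : cc c (cc z u) ∈ D := ccm h c (ccm h z hu)
  have hcf : Commute (cc c (cc z u)) u := by
    rw [cc_commute_left h hc, ← third h hu hz huz, ← third h hu hc huc, cc_commute]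
    exact hcz.symm
  refine ⟨hf, hcf, ?_⟩
  rw [cc_mul]
  have e : cc (cc c (cc z u)) c = cc z u := by
    have h1 : cc (cc c (cc z u)) (cc c c) = cc c (cc (cc z u) c) := cc_cc _ _ _
    rw [cc_self] at h1
    have h2 : cc (cc z u) c = cc c (cc z u) := by
      apply third h (ccm h z hu) hc
      rw [cc_commute_left h hz, cc_of_commute hcz.symm]
      exact huc
    rw [h1, h2, cc_cc_self h hc]
  rw [e, ← third h hu hz huz, cc_cc_self h hu]

end F

/-- common perp of `a, b` in `D` -/
def T (D : Set G) (a b : G) : Set G := {d | d ∈ D ∧ Commute d a ∧ Commute d b}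

theorem mem_T {D : Set G} {a b d : G} : d ∈ T D a b ↔ d ∈ D ∧ Commute d a ∧ Commute d b := Iff.rfl

theorem T_comm (D : Set G) (a b : G) : T D a b = T D b a := by
  ext d; simp only [mem_T]; tauto

theorem ncard_T_eq [Finite G] (h : FData D) {a b a' b' : G} (hP : PR a b a' b') :
    (T D a b).ncard = (T D a' b').ncard := by
  obtain ⟨g, rfl, rfl⟩ := hP
  apply ncard_eq_of_conj _ _ g
  intro w
  show (w ∈ D ∧ Commute w a ∧ Commute w b) ↔ (g * w * g⁻¹ ∈ D ∧ Commute (g * w * g⁻¹) (g * a * g⁻¹)
    ∧ Commute (g * w * g⁻¹) (g * b * g⁻¹))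
  rw [FData.commute_conj_gen, FData.commute_conj_gen, ← mem_conj_iff h]

section Main

variable [Finite G] (h : FData D)
  (hsol : ∀ N : Subgroup G, N.Normal → Group.IsSolvable ↥N → N = ⊥)
  (hperf : ⁅commutator G, commutator G⁆ = commutator G)

include h hsol hperf

/-- `G` is transitive on ordered commuting pairs -/
theorem PR_perp {a b a' b' : G} (ha : a ∈ D) (hb : b ∈ D) (ha' : a' ∈ D) (hb' : b' ∈ D)
    (hab : Commute a b) (hne : b ≠ a) (hab' : Commute a' b') (hne' : b' ≠ a') : PR a b a' b' := by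
  obtain ⟨g, hg⟩ := h.single a ha a' ha'
  have h5 : PR a b a' (g * b * g⁻¹) := ⟨g, hg, rfl⟩
  refine h5.trans (perp_trans h hsol hperf ha' (h.conj g b hb) hb' ?_ hne' ?_ hab')
  · intro h6
    rw [← hg] at h6
    exact hne (mul_left_cancel (mul_right_cancel h6))
  · rw [← hg, FData.commute_conj_gen]; exact hab

/-- `G` is transitive on ordered noncommuting pairs -/
theorem PR_col {a b a' b' : G} (ha : a ∈ D) (hb : b ∈ D) (ha' : a' ∈ D) (hb' : b' ∈ D)
    (hab : ¬ Commute a b) (hab' : ¬ Commute a' b') : PR a b a' b' := by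
  obtain ⟨g, hg⟩ := h.single a ha a' ha'
  have h5 : PR a b a' (g * b * g⁻¹) := ⟨g, hg, rfl⟩
  refine h5.trans (col_trans h hsol hperf ha' (h.conj g b hb) hb' ?_ hab')
  rw [← hg, FData.commute_conj_gen]; exact hab

theorem T_eq_perp {a b a' b' : G} (ha : a ∈ D) (hb : b ∈ D) (ha' : a' ∈ D) (hb' : b' ∈ D)
    (hab : Commute a b) (hne : b ≠ a) (hab' : Commute a' b') (hne' : b' ≠ a')
    (hs : T D a b ⊆ T D a' b') : T D a b = T D a' b' :=
  Set.eq_of_subset_of_ncard_le hs
    (ncard_T_eq h (PR_perp h hsol hperf ha hb ha' hb' hab hne hab' hne')).ge (Set.toFinite _)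

theorem T_eq_col {a b a' b' : G} (ha : a ∈ D) (hb : b ∈ D) (ha' : a' ∈ D) (hb' : b' ∈ D)
    (hab : ¬ Commute a b) (hab' : ¬ Commute a' b')
    (hs : T D a b ⊆ T D a' b') : T D a b = T D a' b' :=
  Set.eq_of_subset_of_ncard_le hs
    (ncard_T_eq h (PR_col h hsol hperf ha hb ha' hb' hab hab')).ge (Set.toFinite _)

end Main

end Cfsg.Agent.SporadicStructure.FSolBase
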