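import Mathlib
import Cfsg.Agent.SporadicStructure.FSolBase

set_option autoImplicit false

/-!
# 3-transposition groups: lines and the one-or-all property (for S1614)
-/

namespace Cfsg.Agent.SporadicStructure.FSolLines

open Cfsg Cfsg.Agent.SporadicStructure.FischerSpace Cfsg.Agent.SporadicStructure.FischerPrimitive
open Cfsg.Agent.SporadicStructure.FischerRank3 Cfsg.Agent.SporadicStructure.FSolBase

variable {G : Type*} [Group G] {D : Set G}

/-- `a ∈ D_x` -/
def In (D : Set G) (x a : G) : Prop := a ∈ D ∧ a ≠ x ∧ Commute x a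

theorem In.symm {x a : G} (hx : x ∈ D) (ha : In D x a) : In D a x := ⟨hx, ha.2.1.symm, ha.2.2.symm⟩

/-- the `τ_x`-class of `a` -/
def V (D : Set G) (x a : G) : Set G := {b | In D x b ∧ T D x a = T D x b}

/-- the line through `x` and `a` -/
def Ln (D : Set G) (x a : G) : Set G := {z | z ∈ D ∧ ∀ d ∈ T D x a, Commute d z}

theorem mem_V {x a b : G} : b ∈ V D x a ↔ In D x b ∧ T D x a = T D x b := Iff.rfl

theorem mem_Ln {x a z : G} : z ∈ Ln D x a ↔ z ∈ D ∧ ∀ d ∈ T D x a, Commute d z := Iff.rfl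

theorem Ln_comm (D : Set G) (x a : G) : Ln D x a = Ln D a x := by
  ext z; rw [mem_Ln, mem_Ln, T_comm]

theorem self_mem_V {x a : G} (ha : In D x a) : a ∈ V D x a := ⟨ha, rfl⟩

theorem V_eq_of_mem {x a b : G} (hb : b ∈ V D x a) : V D x a = V D x b := by
  ext z; rw [mem_V, mem_V, hb.2]

theorem mem_V_symm {x a b : G} (ha : In D x a) (hb : b ∈ V D x a) : a ∈ V D x b := ⟨ha, hb.2.symm⟩

/-- members of a class commute with the same members of `D_x` -/
theorem V_commute {x a b d : G} (hb : b ∈ V D x a) (hd : d ∈ D) (hdx : Commute d x) :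
    Commute d a ↔ Commute d b := by
  have h1 : d ∈ T D x a ↔ d ∈ T D x b := by rw [hb.2]
  rw [mem_T, mem_T] at h1
  constructor
  · intro h2; exact (h1.1 ⟨hd, hdx, h2⟩).2.2
  · intro h2; exact (h1.2 ⟨hd, hdx, h2⟩).2.2

theorem V_comm_V {x a b c : G} (hb : b ∈ V D x a) (hc : c ∈ V D x a) : Commute b c := by
  have h1 : b ∈ V D x b := self_mem_V hb.1
  have h2 : c ∈ V D x b := by rw [← V_eq_of_mem hb]; exact hc
  exact (V_commute h2 hb.1.1 hb.1.2.2.symm).1 (Commute.refl b)

theorem V_ne {x a b : G} (hb : b ∈ V D x a) : b ≠ x := hb.1.2.1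

section F

variable (h : FData D)

include h

theorem In_cc (g : G) {x a : G} : In D (cc g x) (cc g a) ↔ In D x a := by
  unfold In
  rw [ccm_iff h, cc_commute, Ne, cc_inj]

theorem T_cc (g : G) {x a d : G} : cc g d ∈ T D (cc g x) (cc g a) ↔ d ∈ T D x a := by
  rw [mem_T, mem_T, ccm_iff h, cc_commute, cc_commute]

theorem T_cc_eq (g : G) {x a b : G} :
    T D (cc g x) (cc g a) = T D (cc g x) (cc g b) ↔ T D x a = T D x b := by
  constructor
  · intro h1
    ext d
    rw [← T_cc h g, h1, T_cc h g]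
  · intro h1
    ext d
    rw [← cc_cc_inv g d, T_cc h g, T_cc h g, h1]

theorem V_cc (g : G) {x a b : G} : cc g b ∈ V D (cc g x) (cc g a) ↔ b ∈ V D x a := by
  rw [mem_V, mem_V, In_cc h, T_cc_eq h]

theorem Ln_cc (g : G) {x a b : G} : cc g b ∈ Ln D (cc g x) (cc g a) ↔ b ∈ Ln D x a := by
  rw [mem_Ln, mem_Ln, ccm_iff h]
  constructor
  · rintro ⟨h1, h2⟩
    refine ⟨h1, fun d hd => ?_⟩
    have := h2 (cc g d) ((T_cc h g).2 hd)
    rwa [cc_commute] at this
  · rintro ⟨h1, h2⟩
    refine ⟨h1, fun d hd => ?_⟩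
    rw [← cc_cc_inv g d, T_cc h g] at hd
    have := h2 _ hd
    rw [← cc_commute g, cc_cc_inv] at this
    exact this

/-- `V` under conjugation by an element commuting with `x` -/
theorem V_cc' {g : G} {x : G} (hg : Commute g x) {a b : G} :
    cc g b ∈ V D x (cc g a) ↔ b ∈ V D x a := by
  have := V_cc h g (x := x) (a := a) (b := b)
  rwa [cc_of_commute hg] at this

/-- products of two members of a class preserve all classes -/
theorem cc_mem_V {x a b c : G} (ha : In D x a) (hb : b ∈ V D x a) (hc : In D x c) :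
    cc (a * b) c ∈ V D x c := by
  rw [cc_mul]
  by_cases hca : Commute a c
  · have hcb : Commute b c := ((V_commute hb hc.1 hc.2.2.symm).1 hca.symm).symm
    rw [cc_of_commute hcb, cc_of_commute hca]
    exact self_mem_V hc
  · have hcb : ¬ Commute b c := fun h1 => hca (((V_commute hb hc.1 hc.2.2.symm).2 h1.symm).symm)
    rw [third h hb.1.1 hc.1 hcb]
    have h1 : cc c b ∈ V D x (cc c a) := (V_cc' h hc.2.2.symm).2 hb
    have h2 := (V_cc' h ha.2.2.symm).2 h1
    rwa [← third h ha.1 hc.1 hca, cc_cc_self h ha.1] at h2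

/-- a product of two members of a class moves each noncommuting member of `D_x` -/
theorem eq_of_cc_fix {a b c : G} (ha : a ∈ D) (hb : b ∈ D) (hc : c ∈ D) (hca : ¬ Commute a c)
    (hcb : ¬ Commute b c) (hfix : cc (a * b) c = c) : a = b := by
  rw [cc_mul] at hfix
  have h1 : cc a (cc a (cc b c)) = cc a c := by rw [hfix]
  rw [cc_cc_self h ha, third h hb hc hcb, third h ha hc hca, cc_inj] at h1
  exact h1.symm

end F

omit [Group G] in
theorem even_of_invol {S : Set G} (hS : S.Finite) (f : G → G) (hf : ∀ z ∈ S, f z ∈ S)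
    (hff : ∀ z ∈ S, f (f z) = z) (hne : ∀ z ∈ S, f z ≠ z) : Even S.ncard := by
  classical
  rw [Set.ncard_eq_toFinset_card S hS]
  have h1 : ∑ z ∈ hS.toFinset, (1 : ZMod 2) = 0 := by
    apply Finset.sum_involution (fun z _ => f z)
    · intro z hz; decide
    · intro z hz _; exact hne z (by simpa using hz)
    · intro z hz; simpa using hf z (by simpa using hz)
    · intro z hz; exact hff z (by simpa using hz)
  rw [Finset.sum_const, nsmul_eq_mul, mul_one] at h1
  exact (ZMod.natCast_eq_zero_iff_even).1 h1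

section Main

variable [Finite G] (h : FData D)
  (hsol : ∀ N : Subgroup G, N.Normal → Group.IsSolvable ↥N → N = ⊥)
  (hperf : ⁅commutator G, commutator G⁆ = commutator G)

include h hsol hperf

theorem mem_V_of_Ln {x a z : G} (hx : x ∈ D) (ha : In D x a) (hz : z ∈ Ln D x a) (hzx : z ≠ x) :
    z ∈ V D x a := by
  have hxz : Commute x z := hz.2 x ⟨hx, Commute.refl x, ha.2.2⟩
  refine ⟨⟨hz.1, hzx, hxz⟩, ?_⟩
  apply T_eq_perp h hsol hperf hx ha.1 hx hz.1 ha.2.2 ha.2.1 hxz hzx
  intro d hd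
  exact ⟨hd.1, hd.2.1, hz.2 d hd⟩

omit [Finite G] h hsol hperf in
theorem V_sub_Ln {x a z : G} (hz : z ∈ V D x a) : z ∈ Ln D x a :=
  ⟨hz.1.1, fun _ hd => (V_commute hz hd.1 hd.2.1).1 hd.2.2⟩

omit [Finite G] h hsol hperf in
theorem self_mem_Ln {x a : G} (hx : x ∈ D) : x ∈ Ln D x a := ⟨hx, fun _ hd => hd.2.1⟩

theorem Ln_eq {x a : G} (hx : x ∈ D) (ha : In D x a) : Ln D x a = insert x (V D x a) := by
  ext z
  rw [Set.mem_insert_iff]
  constructor
  · intro hz
    by_cases hzx : z = x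
    · exact Or.inl hzx
    · exact Or.inr (mem_V_of_Ln h hsol hperf hx ha hz hzx)
  · rintro (rfl | hz)
    · exact self_mem_Ln hx
    · exact V_sub_Ln hz

/-- two points of a line determine it -/
theorem T_eq_of_Ln {x a u v : G} (hx : x ∈ D) (ha : In D x a) (hu : u ∈ Ln D x a)
    (hv : v ∈ Ln D x a) (huv : u ≠ v) : T D u v = T D x a := by
  by_cases hux : u = x
  · subst hux
    exact (mem_V_of_Ln h hsol hperf hx ha hv huv.symm).2.symm
  by_cases hvx : v = x
  · subst hvx
    rw [T_comm]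
    exact (mem_V_of_Ln h hsol hperf hx ha hu huv).2.symm
  have hu' := mem_V_of_Ln h hsol hperf hx ha hu hux
  have hv' := mem_V_of_Ln h hsol hperf hx ha hv hvx
  have huv' : Commute u v := V_comm_V hu' hv'
  rw [hu'.2]
  symm
  apply T_eq_perp h hsol hperf hx hu'.1.1 hu'.1.1 hv'.1.1 hu'.1.2.2 hu'.1.2.1 huv' huv.symm
  intro d hd
  refine ⟨hd.1, hd.2.2, ?_⟩
  rw [← hu'.2] at hd
  exact hv.2 d hd

theorem Ln_eq_of_mem {x a u v : G} (hx : x ∈ D) (ha : In D x a) (hu : u ∈ Ln D x a)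
    (hv : v ∈ Ln D x a) (huv : u ≠ v) : Ln D u v = Ln D x a := by
  ext z; rw [mem_Ln, mem_Ln, T_eq_of_Ln h hsol hperf hx ha hu hv huv]

/-- commuting with two points of a line: commuting with the whole line -/
theorem all_of_two {x a u v p z : G} (hx : x ∈ D) (ha : In D x a) (hu : u ∈ Ln D x a)
    (hv : v ∈ Ln D x a) (huv : u ≠ v) (hp : p ∈ D) (hpu : Commute p u) (hpv : Commute p v)
    (hz : z ∈ Ln D x a) : Commute p z := by
  have h1 : p ∈ T D u v := ⟨hp, hpu, hpv⟩
  rw [T_eq_of_Ln h hsol hperf hx ha hu hv huv] at h1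
  exact hz.2 p h1

/-- every member of `D_x` has a noncommuting partner in `D_x` -/
theorem exists_nc {x a : G} (hx : x ∈ D) (ha : In D x a) :
    ∃ w, In D x w ∧ ¬ Commute a w := by
  by_contra hno
  push Not at hno
  apply ha.2.1
  symm
  obtain ⟨g, hg⟩ := h.single x hx a ha.1
  have hcard : ({w | w ∈ D ∧ Commute w x} : Set G).ncard = ({w | w ∈ D ∧ Commute w a} : Set G).ncard := by
    apply ncard_eq_of_conj _ _ g
    intro w
    show (w ∈ D ∧ Commute w x) ↔ (g * w * g⁻¹ ∈ D ∧ Commute (g * w * g⁻¹) a)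
    rw [← hg, FData.commute_conj_gen, ← mem_conj_iff h]
  have heq : ({w | w ∈ D ∧ Commute w x} : Set G) = {w | w ∈ D ∧ Commute w a} := by
    refine Set.eq_of_subset_of_ncard_le (fun w hw => ⟨hw.1, ?_⟩) hcard.ge (Set.toFinite _)
    by_cases hwx : w = x
    · rw [hwx]; exact ha.2.2
    · exact (hno w ⟨hw.1, hwx, hw.2.symm⟩).symm
  apply eq_of_commute_iff h hsol hperf hx ha.1
  intro w hw
  have h1 : w ∈ ({w | w ∈ D ∧ Commute w x} : Set G) ↔ w ∈ ({w | w ∈ D ∧ Commute w a} : Set G) := by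
    rw [heq]
  simp only [Set.mem_ofPred_eq, hw, true_and] at h1
  exact h1

/-- `hτ`: some class is nontrivial; then all are -/
theorem exists_ne {x a : G} (hτ : ∃ x a b : G, x ∈ D ∧ In D x a ∧ b ∈ V D x a ∧ b ≠ a)
    (hx : x ∈ D) (ha : In D x a) : ∃ b ∈ V D x a, b ≠ a := by
  obtain ⟨x', a', b', hx', ha', hb', hne'⟩ := hτ
  obtain ⟨g, hg1, hg2⟩ := PR_perp h hsol hperf hx' ha'.1 hx ha.1 ha'.2.2 ha'.2.1 ha.2.2 ha.2.1
  have h1 : cc g b' ∈ V D (cc g x') (cc g a') := (V_cc h g).2 hb'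
  have e1 : cc g x' = x := hg1
  have e2 : cc g a' = a := hg2
  rw [e1, e2] at h1
  refine ⟨cc g b', h1, ?_⟩
  rw [← e2, Ne, cc_inj]
  exact hne'

variable (hτ : ∃ x a b : G, x ∈ D ∧ In D x a ∧ b ∈ V D x a ∧ b ≠ a)

include hτ

/-- the classes have even size -/
theorem even_V {x a : G} (hx : x ∈ D) (ha : In D x a) : Even (V D x a).ncard := by
  obtain ⟨b, hb, hba⟩ := exists_ne h hsol hperf hτ hx ha
  obtain ⟨w, hw, haw⟩ := exists_nc h hsol hperf hx ha
  have hbw : ¬ Commute b w := fun h1 => haw ((V_commute hb hw.1 hw.2.2.symm).2 h1.symm).symm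
  have hab : Commute a b := V_comm_V (self_mem_V ha) hb
  have hab2 : (a * b) * (a * b) = 1 := by
    rw [mul_assoc, ← mul_assoc b a b, ← hab.eq, mul_assoc, sq h hb.1.1, mul_one, sq h ha.1]
  apply even_of_invol (Set.toFinite _) (fun d => cc w (cc (a * b) (cc w d)))
  · intro d hd
    have h1 : In D x (cc w d) := by
      have := (In_cc h w (x := x) (a := d)).2 hd.1
      rwa [cc_of_commute hw.2.2.symm] at this
    have h2 := cc_mem_V h ha hb h1
    have h3 := (V_cc' h hw.2.2.symm).2 h2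
    rw [cc_cc_self h hw.1, ← V_eq_of_mem hd] at h3
    exact h3
  · intro d hd
    rw [cc_cc_self h hw.1, ← cc_mul (a * b), hab2, cc_one, cc_cc_self h hw.1]
  · intro d hd h1
    have h2 : cc w (cc w (cc (a * b) (cc w d))) = cc w d := by rw [h1]
    rw [cc_cc_self h hw.1] at h2
    have hdw : ¬ Commute w d := fun h1 => haw ((V_commute hd hw.1 hw.2.2.symm).2 h1).symm
    rw [third h hw.1 hd.1.1 hdw] at h2
    have hda : Commute d a := V_comm_V hd (self_mem_V ha)
    have hdb : Commute d b := V_comm_V hd hb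
    have h3 : cc (a * b) (cc d w) = cc d (cc (a * b) w) := by
      rw [← cc_mul, ← cc_mul, (hda.mul_right hdb).eq]
    rw [h3, cc_inj] at h2
    exact hba (eq_of_cc_fix h ha.1 hb.1.1 hw.1 haw hbw h2).symm

/-- **one or all**, first half -/
theorem exists_perp {x a p : G} (hx : x ∈ D) (ha : In D x a) (hp : p ∈ D) :
    ∃ z ∈ Ln D x a, Commute p z := by
  by_contra hno
  push Not at hno
  have hxL : x ∈ Ln D x a := self_mem_Ln hx
  have haL : a ∈ Ln D x a := V_sub_Ln (self_mem_V ha)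
  have hpx := hno x hxL
  have hpa := hno a haL
  have hab2 : (x * a) * (x * a) = 1 := by
    rw [mul_assoc, ← mul_assoc a x a, ← ha.2.2.eq, mul_assoc, sq h ha.1, mul_one, sq h hx]
  have hev : Even (Ln D x a).ncard := by
    apply even_of_invol (Set.toFinite _) (fun d => cc p (cc (x * a) (cc p d)))
    · intro d hd
      have h1 := (Ln_cc h p).2 hd
      have h2 := (Ln_cc h (x * a)).2 h1
      have e1 : cc (x * a) (cc p x) = cc p a := by
        rw [third h hp hx hpx, third h hp ha.1 hpa, ha.2.2.eq, cc_mul, cc_cc_self h hx]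
      have e2 : cc (x * a) (cc p a) = cc p x := by
        rw [third h hp hx hpx, third h hp ha.1 hpa, cc_mul, cc_cc_self h ha.1]
      rw [e1, e2, Ln_comm] at h2
      have h3 := (Ln_cc h p).2 h2
      rwa [cc_cc_self h hp, cc_cc_self h hp] at h3
    · intro d hd
      rw [cc_cc_self h hp, ← cc_mul (x * a), hab2, cc_one, cc_cc_self h hp]
    · intro d hd h1
      have h2 : cc p (cc p (cc (x * a) (cc p d))) = cc p d := by rw [h1]
      rw [cc_cc_self h hp] at h2
      have hdp : ¬ Commute p d := hno d hd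
      rw [third h hp hd.1 hdp] at h2
      have hdx : Commute d x := (hd.2 x ⟨hx, Commute.refl x, ha.2.2⟩).symm
      have hda : Commute d a := (hd.2 a ⟨ha.1, ha.2.2.symm, Commute.refl a⟩).symm
      have h3 : cc (x * a) (cc d p) = cc d (cc (x * a) p) := by
        rw [← cc_mul, ← cc_mul, (hdx.mul_right hda).eq]
      rw [h3, cc_inj] at h2
      exact ha.2.1 (eq_of_cc_fix h hx ha.1 hp (fun h4 => hpx h4.symm) (fun h4 => hpa h4.symm) h2).symm
  rw [Ln_eq h hsol hperf hx ha, Set.ncard_insert_of_notMem (fun h1 => V_ne h1 rfl) (Set.toFinite _)] at hev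
  have hV := even_V h hsol hperf hτ hx ha
  rcases hV with ⟨k, hk⟩
  rcases hev with ⟨l, hl⟩
  omega

/-- `y` not commuting with `x` commutes with some member of each class of `D_x` -/
theorem exists_perp_V {x a y : G} (hx : x ∈ D) (ha : In D x a) (hy : y ∈ D) (hxy : ¬ Commute x y) :
    ∃ z ∈ V D x a, Commute y z := by
  obtain ⟨z, hz, hyz⟩ := exists_perp h hsol hperf hτ hx ha hy
  refine ⟨z, mem_V_of_Ln h hsol hperf hx ha hz ?_, hyz⟩
  rintro rfl
  exact hxy hyz.symm

omit hτ in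
/-- ... and with only one -/
theorem perp_V_unique {x a y z z' : G} (hx : x ∈ D) (ha : In D x a) (hy : y ∈ D) (hxy : ¬ Commute x y)
    (hz : z ∈ V D x a) (hz' : z' ∈ V D x a) (hyz : Commute y z) (hyz' : Commute y z') : z = z' := by
  by_contra hne
  exact hxy (all_of_two h hsol hperf hx ha (V_sub_Ln hz) (V_sub_Ln hz') hne hy hyz hyz'
    (self_mem_Ln hx)).symm

end Main

end Cfsg.Agent.SporadicStructure.FSolLines
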