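import Mathlib
import Cfsg.Agent.SporadicStructure.FSolLines

set_option autoImplicit false

/-!
# 3-transposition groups: a line has three or five points (for S1614)
-/

namespace Cfsg.Agent.SporadicStructure.FSolPlane

open Cfsg Cfsg.Agent.SporadicStructure.FischerSpace Cfsg.Agent.SporadicStructure.FischerPrimitive
open Cfsg.Agent.SporadicStructure.FischerRank3 Cfsg.Agent.SporadicStructure.FSolBase
open Cfsg.Agent.SporadicStructure.FSolLines

variable {G : Type*} [Group G] {D : Set G}

section F

variable (h : FData D)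

include h

omit h in
theorem not_commute_V {x a b w : G} (hb : b ∈ V D x a) (hw : In D x w) (haw : ¬ Commute a w) :
    ¬ Commute b w := fun h1 => haw ((V_commute hb hw.1 hw.2.2.symm).2 h1.symm).symm

omit h in
theorem not_commute_VV {x a b w w' : G} (hb : b ∈ V D x a) (hw' : w' ∈ V D x w)
    (ha : In D x a) (haw : ¬ Commute a w) : ¬ Commute b w' := by
  have h1 : ¬ Commute a w' := fun h2 => haw ((V_commute hw' ha.1 ha.2.2.symm).2 h2)
  exact not_commute_V hb hw'.1 h1

theorem cc_inj_right {x a c d d' w : G} (hd : d ∈ V D x a) (hd' : d' ∈ V D x a)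
    (hw : In D x w) (haw : ¬ Commute a w) (he : cc (c * d) w = cc (c * d') w) : d = d' := by
  rw [cc_mul, cc_mul, cc_inj] at he
  rw [third h hd.1.1 hw.1 (not_commute_V hd hw haw),
    third h hd'.1.1 hw.1 (not_commute_V hd' hw haw), cc_inj] at he
  exact he

theorem ncard_V_eq [Finite G] {x a x' a' : G} (hP : PR x a x' a') :
    (V D x a).ncard = (V D x' a').ncard := by
  obtain ⟨g, rfl, rfl⟩ := hP
  apply ncard_eq_of_conj _ _ g
  intro w
  exact (V_cc h g).symm

end F

section Main

variable [Finite G] (h : FData D)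
  (hsol : ∀ N : Subgroup G, N.Normal → Group.IsSolvable ↥N → N = ⊥)
  (hperf : ⁅commutator G, commutator G⁆ = commutator G)

include h hsol hperf

theorem card_V {x a x' a' : G} (hx : x ∈ D) (ha : In D x a) (hx' : x' ∈ D) (ha' : In D x' a') :
    (V D x a).ncard = (V D x' a').ncard :=
  ncard_V_eq h (PR_perp h hsol hperf hx ha.1 hx' ha'.1 ha.2.2 ha.2.1 ha'.2.2 ha'.2.1)

/-- products of two members of a class are transitive on every other noncommuting class -/
theorem exists_move {x a c w w' : G} (hx : x ∈ D) (ha : In D x a) (hc : c ∈ V D x a)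
    (hw : In D x w) (haw : ¬ Commute a w) (hw' : w' ∈ V D x w) :
    ∃ d ∈ V D x a, cc (c * d) w = w' := by
  have hsub : (fun d => cc (c * d) w) '' (V D x a) ⊆ V D x w := by
    rintro _ ⟨d, hd, rfl⟩
    have : d ∈ V D x c := by rw [← V_eq_of_mem hc]; exact hd
    exact cc_mem_V h hc.1 this hw
  have hinj : Set.InjOn (fun d => cc (c * d) w) (V D x a) := fun d hd d' hd' he =>
    cc_inj_right h hd hd' hw haw he
  have heq : (fun d => cc (c * d) w) '' (V D x a) = V D x w := by
    apply Set.eq_of_subset_of_ncard_le hsub _ (Set.toFinite _)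
    rw [hinj.ncard_image, card_V h hsol hperf hx ha hx hw]
  rw [← heq] at hw'
  obtain ⟨d, hd, rfl⟩ := hw'
  exact ⟨d, hd, rfl⟩

/-- elements of `G` commuting with all members that do not commute with `x` are trivial -/
theorem eq_one_of_commute_col {x u : G} (hx : x ∈ D) (hu : ∀ y ∈ D, ¬ Commute x y → Commute u y) :
    u = 1 := by
  have hux : Commute u x := by
    obtain ⟨y, hy, hxy⟩ : ∃ y ∈ D, ¬ Commute x y := by
      obtain ⟨y, hy, h1, -⟩ := exists_not_commute_both h hsol hperf hx hx (Commute.refl x)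
      exact ⟨y, hy, fun h2 => h1 h2.symm⟩
    have h1 := hu y hy hxy
    have h2 := hu (cc x y) (ccm h x hy) (third_not_commute hxy)
    have h3 := commute_cc_of h1 h2
    rw [third h hx hy hxy, cc_cc_self h hy] at h3
    exact h3
  have hall : ∀ d ∈ D, Commute u d := by
    intro d hd
    by_cases hdx : Commute x d
    · obtain ⟨y, hy, h1, h2⟩ := exists_not_commute_both h hsol hperf hx hd hdx
      have h1' : ¬ Commute x y := fun h3 => h1 h3.symm
      have h2' : ¬ Commute d y := fun h3 => h2 h3.symm
      have h3 := hu y hy h1'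
      have h4 : ¬ Commute x (cc d y) := by
        rw [Commute.symm_iff, cc_commute_left h hd, cc_of_commute hdx.symm, Commute.symm_iff]
        exact h1'
      have h5 := commute_cc_of h3 (hu (cc d y) (ccm h d hy) h4)
      rw [third h hd hy h2', cc_cc_self h hy] at h5
      exact h5
    · exact hu d hd hdx
  have := h.mem_center_of_forall_commute hall
  rw [center_eq_bot hsol, Subgroup.mem_bot] at this
  exact this

variable (hτ : ∃ x a b : G, x ∈ D ∧ In D x a ∧ b ∈ V D x a ∧ b ≠ a)

include hτ

omit hτ in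
/-- the W(D₄) argument -/
theorem cc_eq_of_perp {x a b c d y w : G} (hx : x ∈ D) (ha : In D x a) (hb : b ∈ V D x a)
    (hc : c ∈ V D x a) (hd : d ∈ V D x a) (hab : a ≠ b) (hac : a ≠ c) (had : a ≠ d)
    (hbc : b ≠ c) (hy : y ∈ D) (hxy : ¬ Commute x y) (hya : Commute y a)
    (hw : In D x w) (haw : ¬ Commute a w) (hwy : Commute w y)
    (hz : Commute (a * b * c * d) w) : cc (a * b * c * d) y = cc x y := by
  have haV := self_mem_V ha
  have hyb : ¬ Commute y b := fun h1 =>
    hab (perp_V_unique h hsol hperf hx ha hy hxy haV hb hya h1)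
  have hyc : ¬ Commute y c := fun h1 =>
    hac (perp_V_unique h hsol hperf hx ha hy hxy haV hc hya h1)
  have hyd : ¬ Commute y d := fun h1 =>
    had (perp_V_unique h hsol hperf hx ha hy hxy haV hd hya h1)
  have kab := V_comm_V haV hb
  have kac := V_comm_V haV hc
  have kad := V_comm_V haV hd
  have kbc := V_comm_V hb hc
  have kbd := V_comm_V hb hd
  have kcd := V_comm_V hc hd
  have e0 : a * b * c * d = b * c * d * a := by
    have : Commute a (b * c * d) := (kab.mul_right kac).mul_right kad
    rw [← this.eq]; simp only [mul_assoc]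
  set p := cc (b * c * d) y with hp
  have ep : cc (a * b * c * d) y = p := by
    rw [e0, cc_mul, cc_of_commute hya.symm]
  rw [ep]
  -- the map `H = cc y ∘ cc (b * c) ∘ cc y`
  have Hb : cc y (cc (b * c) (cc y b)) = c := by
    rw [third h hy hb.1.1 hyb, kbc.eq, cc_mul, cc_cc_self h hb.1.1, ← third h hy hc.1.1 hyc,
      cc_cc_self h hy]
  have Hc : cc y (cc (b * c) (cc y c)) = b := by
    rw [third h hy hc.1.1 hyc, cc_mul, cc_cc_self h hc.1.1, ← third h hy hb.1.1 hyb,
      cc_cc_self h hy]
  have Hd : cc y (cc (b * c) (cc y d)) = cc y p := by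
    rw [third h hy hd.1.1 hyd, ← cc_mul (b * c)]
  have hbL : b ∈ Ln D x a := V_sub_Ln hb
  have hcL : c ∈ Ln D x a := V_sub_Ln hc
  have hdL : d ∈ Ln D x a := V_sub_Ln hd
  have hLbc := Ln_eq_of_mem h hsol hperf hx ha hbL hcL hbc
  have hdL' : d ∈ Ln D b c := by rw [hLbc]; exact hdL
  have hg : cc y p ∈ Ln D x a := by
    have h1 := (Ln_cc h y).2 ((Ln_cc h (b * c)).2 ((Ln_cc h y).2 hdL'))
    rw [Hb, Hc, Hd, Ln_comm, hLbc] at h1
    exact h1
  have hpw : Commute w p := by
    have h1 := (cc_commute (a * b * c * d) w y).2 hwy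
    rwa [cc_of_commute hz, ep] at h1
  have hgw : Commute w (cc y p) := commute_cc_of hwy hpw
  have hgx : cc y p = x := by
    by_contra hne
    have hgV := mem_V_of_Ln h hsol hperf hx ha hg hne
    exact not_commute_V hgV hw haw hgw.symm
  have : cc y (cc y p) = cc y x := by rw [hgx]
  rw [cc_cc_self h hy, ← third h hx hy hxy] at this
  exact this

/-- three different members of a class determine a fourth one with product `x` -/
theorem prod_four {x v a b c : G} (hx : x ∈ D) (ha : a ∈ V D x v) (hb : b ∈ V D x v)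
    (hc : c ∈ V D x v) (hab : a ≠ b) (hac : a ≠ c) (hbc : b ≠ c) :
    ∃ d ∈ V D x v, d ≠ a ∧ d ≠ b ∧ d ≠ c ∧ a * b * c * d = x := by
  have haI := ha.1
  have hVa : V D x v = V D x a := V_eq_of_mem ha
  rw [hVa] at ha hb hc ⊢
  clear hVa v
  obtain ⟨w, hw, haw⟩ := exists_nc h hsol hperf hx haI
  have kab := V_comm_V ha hb
  have kac := V_comm_V ha hc
  have kbc := V_comm_V hb hc
  have hw1 : cc (a * b) w ∈ V D x w := cc_mem_V h haI hb hw
  obtain ⟨d, hd, hdw⟩ := exists_move h hsol hperf hx haI hc hw haw hw1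
  have kad := V_comm_V ha hd
  have kbd := V_comm_V hb hd
  have kcd := V_comm_V hc hd
  have hda : d ≠ a := by
    rintro rfl
    rw [kac.symm.eq] at hdw
    exact hbc (cc_inj_right h hc hb hw haw hdw).symm
  have hdb : d ≠ b := by
    rintro rfl
    rw [kbc.symm.eq, kab.eq] at hdw
    exact hac (cc_inj_right h hc ha hw haw hdw).symm
  have hdc : d ≠ c := by
    rintro rfl
    rw [sq h hd.1.1, cc_one] at hdw
    exact hab (eq_of_cc_fix h ha.1.1 hb.1.1 hw.1 haw (not_commute_V hb hw haw) hdw.symm)
  have hzw : Commute (a * b * c * d) w := by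
    rw [← cc_eq_iff]
    have e : a * b * c * d = (a * b) * (c * d) := by simp only [mul_assoc]
    rw [e, cc_mul, hdw, ← cc_mul]
    have : (a * b) * (a * b) = 1 := by
      rw [mul_assoc, ← mul_assoc b a b, ← kab.eq, mul_assoc, sq h hb.1.1, mul_one, sq h ha.1.1]
    rw [this, cc_one]
  -- `z` commutes with the whole class of `w`
  have hzW : ∀ w' ∈ V D x w, Commute (a * b * c * d) w' := by
    intro w' hw'
    obtain ⟨d', hd', rfl⟩ := exists_move h hsol hperf hx haI hc hw haw hw'
    have k1 : Commute (c * d') (a * b * c * d) := by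
      have l1 : Commute c (a * b * c * d) :=
        (((kac.symm.mul_right kbc.symm).mul_right (Commute.refl c)).mul_right kcd)
      have l2 : Commute d' (a * b * c * d) :=
        ((((V_comm_V hd' ha).mul_right (V_comm_V hd' hb)).mul_right (V_comm_V hd' hc)).mul_right
          (V_comm_V hd' hd))
      exact l1.mul_left l2
    have := (cc_commute (c * d') (a * b * c * d) w).2 hzw
    rwa [cc_of_commute k1] at this
  have hall : ∀ y ∈ D, ¬ Commute x y → cc (a * b * c * d) y = cc x y := by
    intro y hy hxy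
    obtain ⟨a', ha', hya'⟩ := exists_perp_V h hsol hperf hτ hx haI hy hxy
    have hwa : ¬ Commute w a' := fun h1 => not_commute_V ha' hw haw h1.symm
    have haa' : a ∈ V D x a' := by rw [← V_eq_of_mem ha']; exact ha
    obtain ⟨w'', hw'', hr⟩ := exists_move h hsol hperf hx hw (self_mem_V hw) ha'.1 hwa haa'
    set r := w * w'' with hrdef
    have hrx : Commute r x := hw.2.2.symm.mul_left hw''.1.2.2.symm
    have hrz : Commute r (a * b * c * d) :=
      ((hzW w (self_mem_V hw)).symm).mul_left (hzW w'' hw'').symm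
    have hxy' : ¬ Commute x (cc r y) := by
      have : cc r x = x := cc_of_commute hrx
      rw [← this, cc_commute]
      exact hxy
    have hya : Commute (cc r y) a := by
      rw [← hr, cc_commute]; exact hya'
    obtain ⟨w', hw', hyw'⟩ := exists_perp_V h hsol hperf hτ hx hw (ccm h r hy) hxy'
    have haw' : ¬ Commute a w' := not_commute_VV ha hw' haI haw
    have h1 := cc_eq_of_perp h hsol hperf hx haI hb hc hd hab hac hda.symm hbc (ccm h r hy) hxy'
      hya hw'.1 haw' hyw'.symm (hzW w' hw')
    have e1 : cc (a * b * c * d) (cc r y) = cc r (cc (a * b * c * d) y) := by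
      rw [← cc_mul, ← hrz.eq, cc_mul]
    have e2 : cc x (cc r y) = cc r (cc x y) := by
      rw [← cc_mul, ← hrx.eq, cc_mul]
    rw [e1, e2, cc_inj] at h1
    exact h1
  refine ⟨d, hd, hda, hdb, hdc, ?_⟩
  have h1 : x * (a * b * c * d) = 1 := by
    apply eq_one_of_commute_col h hsol hperf hx
    intro y hy hxy
    rw [← cc_eq_iff, cc_mul, hall y hy hxy, cc_cc_self h hx]
  have h2 : a * b * c * d = x⁻¹ := (eq_inv_of_mul_eq_one_right h1)
  rw [h2, inv_eq h hx]

theorem ncard_V_le {x a : G} (hx : x ∈ D) (ha : In D x a) : (V D x a).ncard ≤ 4 := by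
  by_contra hgt
  push Not at hgt
  obtain ⟨b, hb, hba⟩ := exists_ne h hsol hperf hτ hx ha
  have haV := self_mem_V ha
  have h2 : ({a, b} : Set G).ncard ≤ 2 := Set.ncard_insert_le _ _ |>.trans (by simp)
  obtain ⟨c, hc, hcn⟩ : ∃ c ∈ V D x a, c ∉ ({a, b} : Set G) := by
    apply Set.exists_mem_notMem_of_ncard_lt_ncard (by omega) (Set.toFinite _)
  simp only [Set.mem_insert_iff, Set.mem_singleton_iff, not_or] at hcn
  obtain ⟨d, hd, hda, hdb, hdc, hprod⟩ := prod_four h hsol hperf hτ hx haV hb hc hba.symm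
    (Ne.symm hcn.1) (Ne.symm hcn.2)
  have h4 : ({a, b, c, d} : Set G).ncard ≤ 4 := by
    have := Set.ncard_insert_le a ({b, c, d} : Set G)
    have := Set.ncard_insert_le b ({c, d} : Set G)
    have := Set.ncard_insert_le c ({d} : Set G)
    have := Set.ncard_singleton d
    omega
  obtain ⟨e, he, hen⟩ : ∃ e ∈ V D x a, e ∉ ({a, b, c, d} : Set G) := by
    apply Set.exists_mem_notMem_of_ncard_lt_ncard (by omega) (Set.toFinite _)
  simp only [Set.mem_insert_iff, Set.mem_singleton_iff, not_or] at hen
  obtain ⟨d', hd', hda', hdb', hde', hprod'⟩ := prod_four h hsol hperf hτ hx haV hb he hba.symm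
    (Ne.symm hen.1) (Ne.symm hen.2.1)
  obtain ⟨f, hf, hfc, hfd, hfe, hprod''⟩ := prod_four h hsol hperf hτ hx hc hd he hdc.symm
    (Ne.symm hen.2.2.1) (Ne.symm hen.2.2.2)
  -- `f * d' = x`
  have kxe : Commute x e := he.1.2.2
  have e1 : c * d = a * b * x := by
    have kab := V_comm_V haV hb
    have h5 : (a * b) * (a * b) = 1 := by
      rw [mul_assoc, ← mul_assoc b a b, ← kab.eq, mul_assoc, sq h hb.1.1, mul_one, sq h ha.1]
    calc c * d = (a * b) * (a * b) * (c * d) := by rw [h5, one_mul]
      _ = a * b * (a * b * c * d) := by simp only [mul_assoc]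
      _ = a * b * x := by rw [hprod]
  have hxabe : Commute x (a * b * e) := (ha.2.2.mul_right hb.1.2.2).mul_right kxe
  have e2 : a * b * e * f = 1 := by
    have h5 : x * (a * b * e * f) = x := by
      calc x * (a * b * e * f) = (x * (a * b * e)) * f := by simp only [mul_assoc]
        _ = (a * b * e * x) * f := by rw [hxabe.eq]
        _ = a * b * (e * x) * f := by simp only [mul_assoc]
        _ = a * b * (x * e) * f := by rw [kxe.eq]
        _ = (a * b * x) * e * f := by simp only [mul_assoc]
        _ = c * d * e * f := by rw [e1]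
        _ = x := hprod''
    exact mul_left_cancel (h5.trans (mul_one x).symm)
  have e3 : d' = f * x := by
    have h5 : a * b * e = f := by
      have := eq_inv_of_mul_eq_one_left e2
      rwa [inv_eq h hf.1.1] at this
    rw [h5] at hprod'
    rw [← hprod', ← mul_assoc, sq h hf.1.1, one_mul]
  obtain ⟨w, hw, haw⟩ := exists_nc h hsol hperf hx ha
  have hfw := not_commute_V hf hw haw
  have hdw := not_commute_V hd' hw haw
  have e4 : cc d' w = cc f w := by
    rw [e3, cc_mul, cc_of_commute hw.2.2]
  rw [third h hd'.1.1 hw.1 hdw, third h hf.1.1 hw.1 hfw, cc_inj] at e4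
  rw [e4] at e3
  have : x = 1 := by
    have h5 : f * x = f * 1 := by rw [← e3, mul_one]
    exact mul_left_cancel h5
  exact h.ne_one x hx this

/-- a class has two or four members -/
theorem ncard_V {x a : G} (hx : x ∈ D) (ha : In D x a) :
    (V D x a).ncard = 2 ∨ (V D x a).ncard = 4 := by
  have h1 := ncard_V_le h hsol hperf hτ hx ha
  obtain ⟨k, hk⟩ := even_V h hsol hperf hτ hx ha
  obtain ⟨b, hb, hba⟩ := exists_ne h hsol hperf hτ hx ha
  have h2 : 1 < (V D x a).ncard := by
    rw [Set.one_lt_ncard (Set.toFinite _)]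
    exact ⟨b, hb, a, self_mem_V ha, hba⟩
  omega

end Main

end Cfsg.Agent.SporadicStructure.FSolPlane
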