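import Mathlib
import Cfsg.Agent.SporadicStructure.FSolPlane

set_option autoImplicit false

/-!
# 3-transposition groups: the group generated by `x^⊥` is transitive on `A_x` (for S1614)
-/

namespace Cfsg.Agent.SporadicStructure.FSolTrans

open Cfsg Cfsg.Agent.SporadicStructure.FischerSpace Cfsg.Agent.SporadicStructure.FischerPrimitive
open Cfsg.Agent.SporadicStructure.FischerRank3 Cfsg.Agent.SporadicStructure.FSolBase
open Cfsg.Agent.SporadicStructure.FSolLines Cfsg.Agent.SporadicStructure.FSolPlane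

variable {G : Type*} [Group G] {D : Set G}

/-- the subgroup generated by the members of `D` commuting with `x` -/
def L (D : Set G) (x : G) : Subgroup G := Subgroup.closure {d | d ∈ D ∧ Commute d x}

theorem commute_of_mem_L {x g : G} (hg : g ∈ L D x) : Commute g x := by
  have hle : L D x ≤ Subgroup.centralizer {x} := by
    unfold L
    rw [Subgroup.closure_le]
    intro d hd
    rw [SetLike.mem_coe, Subgroup.mem_centralizer_singleton_iff]
    exact hd.2.eq
  have := hle hg
  rw [Subgroup.mem_centralizer_singleton_iff] at this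
  exact this

section Main

variable [Finite G] (h : FData D)
  (hsol : ∀ N : Subgroup G, N.Normal → Group.IsSolvable ↥N → N = ⊥)
  (hperf : ⁅commutator G, commutator G⁆ = commutator G)

include h hsol hperf

theorem L_trans' {x u v : G} (hx : x ∈ D) (hu : u ∈ D) (hv : v ∈ D) (hxu : ¬ Commute x u)
    (hxv : ¬ Commute x v) (hne : (T D x u).Nonempty) : ∃ g ∈ L D x, cc g u = v := by
  have hcomm : ∀ a b, a ∈ D → b ∈ D → ¬ Commute x a → ¬ Commute x b → Commute a b →
      ∃ g ∈ L D x, cc g a = b := by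
    intro a b ha hb hxa hxb hab
    obtain ⟨h1, h2, h3⟩ := s4' h hx ha hb hab hxa hxb
    refine ⟨x * cc a (cc b x), mul_mem (Subgroup.subset_closure ⟨hx, Commute.refl x⟩)
      (Subgroup.subset_closure ⟨h1, h2⟩), h3⟩
  have hsymm : ∀ a b, (∃ g ∈ L D x, cc g a = b) → ∃ g ∈ L D x, cc g b = a := by
    rintro a b ⟨g, hg, rfl⟩
    exact ⟨g⁻¹, inv_mem hg, cc_inv_cc g a⟩
  have htrans : ∀ a b c, (∃ g ∈ L D x, cc g a = b) → (∃ g ∈ L D x, cc g b = c) →
      ∃ g ∈ L D x, cc g a = c := by
    rintro a b c ⟨g, hg, rfl⟩ ⟨k, hk, rfl⟩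
    exact ⟨k * g, mul_mem hk hg, cc_mul k g a⟩
  have hT : ∀ a b, a ∈ D → b ∈ D → ¬ Commute x a → ¬ Commute x b →
      (¬ ∃ g ∈ L D x, cc g a = b) → T D x a = T D x b := by
    intro a b ha hb hxa hxb hno
    have hnab : ¬ Commute a b := fun h1 => hno (hcomm a b ha hb hxa hxb h1)
    have key : ∀ d ∈ T D a b, Commute d x := by
      intro d hd
      by_contra hdx
      have hxd : ¬ Commute x d := fun h1 => hdx h1.symm
      exact hno (htrans a d b (hcomm a d ha hd.1 hxa hxd hd.2.1.symm)
        (hcomm d b hd.1 hb hxd hxb hd.2.2))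
    have h1 : T D a b = T D x a := T_eq_col h hsol hperf ha hb hx ha hnab hxa
      (fun d hd => ⟨hd.1, key d hd, hd.2.1⟩)
    have h2 : T D a b = T D x b := T_eq_col h hsol hperf ha hb hx hb hnab hxb
      (fun d hd => ⟨hd.1, key d hd, hd.2.2⟩)
    rw [← h1, ← h2]
  by_contra hno
  have h0 := hT u v hu hv hxu hxv hno
  have hconst : ∀ y ∈ D, ¬ Commute x y → T D x y = T D x u := by
    intro y hy hxy
    by_cases hyu : ∃ g ∈ L D x, cc g y = u
    · rw [h0]
      apply hT y v hy hv hxy hxv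
      intro h1
      exact hno (htrans u y v (hsymm y u hyu) h1)
    · exact hT y u hy hu hxy hxu hyu
  obtain ⟨c, hc⟩ := hne
  have h1 : c = 1 := by
    apply eq_one_of_commute_col h hsol hperf hx
    intro y hy hxy
    have : c ∈ T D x y := by rw [hconst y hy hxy]; exact hc
    exact this.2.2
  exact h.ne_one c hc.1 h1

variable (hτ : ∃ x a b : G, x ∈ D ∧ In D x a ∧ b ∈ V D x a ∧ b ≠ a)

include hτ

omit [Finite G] hsol hperf in
theorem exists_In {x : G} (hx : x ∈ D) : ∃ a, In D x a := by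
  obtain ⟨x', a', -, hx', ha', -⟩ := hτ
  obtain ⟨g, hg⟩ := h.single x' hx' x hx
  refine ⟨cc g a', ?_⟩
  have : cc g x' = x := hg
  rw [← this, In_cc h]
  exact ha'

theorem T_nonempty {x y : G} (hx : x ∈ D) (hy : y ∈ D) (hxy : ¬ Commute x y) :
    (T D x y).Nonempty := by
  obtain ⟨a, ha⟩ := exists_In h hτ hx
  obtain ⟨z, hz, hyz⟩ := exists_perp_V h hsol hperf hτ hx ha hy hxy
  exact ⟨z, hz.1.1, hz.1.2.2.symm, hyz.symm⟩

/-- the subgroup generated by the members of `D` commuting with `x` is transitive on the others -/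
theorem L_trans {x u v : G} (hx : x ∈ D) (hu : u ∈ D) (hv : v ∈ D) (hxu : ¬ Commute x u)
    (hxv : ¬ Commute x v) : ∃ g ∈ L D x, cc g u = v :=
  L_trans' h hsol hperf hx hu hv hxu hxv (T_nonempty h hsol hperf hτ hx hu hxu)

end Main

end Cfsg.Agent.SporadicStructure.FSolTrans
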