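import Mathlib
import Cfsg.Agent.Lib.Cores
import Cfsg.Prelude.Def_CaseTheorems
import Cfsg.Agent.SporadicStructure.FSolTrans
import Cfsg.Agent.SporadicStructure.FSolSolv

set_option autoImplicit false

/-!
# 3-transposition groups with solvable `⟨D_x⟩`: reduction to rank one (for S1614)
-/

namespace Cfsg.Agent.SporadicStructure.FSolReduce

open Cfsg Cfsg.Agent.SporadicStructure.FischerSpace Cfsg.Agent.SporadicStructure.FischerPrimitive
open Cfsg.Agent.SporadicStructure.FischerRank3 Cfsg.Agent.SporadicStructure.FSolBase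
open Cfsg.Agent.SporadicStructure.FSolLines Cfsg.Agent.SporadicStructure.FSolPlane
open Cfsg.Agent.SporadicStructure.FSolTrans Cfsg.Agent.SporadicStructure.FSolSolv

variable {G : Type*} [Group G] {D : Set G}

/-- the subgroup generated by `D_x` -/
abbrev H (D : Set G) (x : G) : Subgroup G := Subgroup.closure {y : G | y ∈ D ∧ y ≠ x ∧ Commute x y}

theorem commute_of_mem_H {x g : G} (hg : g ∈ H D x) : Commute g x := by
  have hle : H D x ≤ Subgroup.centralizer {x} := by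
    rw [Subgroup.closure_le]
    intro d hd
    rw [SetLike.mem_coe, Subgroup.mem_centralizer_singleton_iff]
    exact hd.2.2.symm.eq
  have := hle hg
  rw [Subgroup.mem_centralizer_singleton_iff] at this
  exact this

/-- the generating set inside `H` -/
def S1 (D : Set G) (x : G) : Set (H D x) := {a | In D x (a : G)}

theorem closure_S1 (x : G) : Subgroup.closure (S1 D x) = ⊤ :=
  Subgroup.closure_closure_coe_preimage (k := {y : G | y ∈ D ∧ y ≠ x ∧ Commute x y})

theorem In_mem_H {x a : G} (ha : In D x a) : a ∈ H D x := Subgroup.subset_closure ha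

section F

variable (h : FData D)

include h

theorem In_cc_H {x a g : G} (hg : g ∈ H D x) : In D x (cc g a) ↔ In D x a := by
  have := In_cc h g (x := x) (a := a)
  rwa [cc_of_commute (commute_of_mem_H hg)] at this

theorem V_cc_H {x a b g : G} (hg : g ∈ H D x) : cc g b ∈ V D x (cc g a) ↔ b ∈ V D x a :=
  V_cc' h (commute_of_mem_H hg)

/-- the kernel of the action of `H` on the set of classes -/
def Kn (x : G) : Subgroup (H D x) where
  carrier := {g | ∀ a, In D x a → cc (g : G) a ∈ V D x a}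
  one_mem' := by
    intro a ha
    rw [Subgroup.coe_one, cc_one]
    exact self_mem_V ha
  mul_mem' := by
    intro g k hg hk a ha
    rw [Subgroup.coe_mul, cc_mul]
    have h1 := hk a ha
    have h2 := hg _ h1.1
    rwa [← V_eq_of_mem h1] at h2
  inv_mem' := by
    intro g hg a ha
    rw [Subgroup.coe_inv]
    have h1 : In D x (cc (g : G)⁻¹ a) := (In_cc_H h (inv_mem g.2)).2 ha
    have h2 := hg _ h1
    rw [cc_cc_inv] at h2
    exact mem_V_symm h1 h2

theorem mem_Kn {x : G} {g : H D x} : g ∈ Kn h x ↔ ∀ a, In D x a → cc (g : G) a ∈ V D x a := Iff.rfl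

theorem Kn_normal (x : G) : (Kn h x).Normal := by
  constructor
  intro n hn g a ha
  rw [Subgroup.coe_mul, Subgroup.coe_mul, Subgroup.coe_inv, cc_mul, cc_mul]
  have h1 : In D x (cc (g : G)⁻¹ a) := (In_cc_H h (inv_mem g.2)).2 ha
  have h2 := hn _ h1
  have h3 := (V_cc_H h g.2).2 h2
  rwa [cc_cc_inv] at h3

theorem mem_Kn_of_V {x a b : G} (ha : In D x a) (hb : b ∈ V D x a) :
    (⟨a, In_mem_H ha⟩ * ⟨b, In_mem_H hb.1⟩ : H D x) ∈ Kn h x := by
  intro c hc
  exact cc_mem_V h ha hb hc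

theorem V_of_mem_Kn {x a b : G} (ha : In D x a) (hb : In D x b)
    (hab : (⟨a, In_mem_H ha⟩ * ⟨b, In_mem_H hb⟩ : H D x) ∈ Kn h x) : b ∈ V D x a := by
  have h0 : ∀ c, In D x c → cc (a * b) c ∈ V D x c := fun c hc => hab c hc
  have hcom : Commute a b := by
    by_contra hn
    have h1 := h0 a ha
    rw [cc_mul, ← third h ha.1 hb.1 hn, cc_cc_self h ha.1] at h1
    exact hn (V_comm_V (self_mem_V ha) h1)
  have half : ∀ a b : G, In D x a → In D x b → Commute a b →
      (∀ c, In D x c → cc (a * b) c ∈ V D x c) → ∀ c ∈ D, Commute c x → Commute c a →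
      Commute c b := by
    intro a b ha hb hcom h0 c hc hcx hca
    by_cases hcx' : c = x
    · rw [hcx']; exact hb.2.2
    · have hcI : In D x c := ⟨hc, hcx', hcx.symm⟩
      by_contra hn
      have h1 := h0 c hcI
      rw [hcom.eq, cc_mul, cc_of_commute hca.symm, ← third h hc hb.1 hn] at h1
      exact third_not_commute hn (V_comm_V (self_mem_V hcI) h1)
  refine ⟨hb, ?_⟩
  ext d
  rw [mem_T, mem_T]
  constructor
  · rintro ⟨h1, h2, h3⟩
    exact ⟨h1, h2, half a b ha hb hcom h0 d h1 h2 h3⟩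
  · rintro ⟨h1, h2, h3⟩
    refine ⟨h1, h2, half b a hb ha hcom.symm ?_ d h1 h2 h3⟩
    intro c hc
    rw [hcom.symm.eq]
    exact h0 c hc

end F

section Main

variable [Finite G] (h : FData D)
  (hsol : ∀ N : Subgroup G, N.Normal → Group.IsSolvable ↥N → N = ⊥)
  (hperf : ⁅commutator G, commutator G⁆ = commutator G)

include h hsol hperf

/-- a solvable `⟨D_x⟩` has noncentral odd core, or some class is nontrivial -/
theorem tau_or_core {x : G} (hx : x ∈ D) (hs : Group.IsSolvable ↥(H D x)) :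
    (∃ x a b : G, x ∈ D ∧ In D x a ∧ b ∈ V D x a ∧ b ≠ a) ∨
      ¬ Cfsg.oddCore ↥(H D x) ≤ Subgroup.center ↥(H D x) := by
  obtain ⟨a0, ha0, ha0x, hxa0⟩ := exists_perp h hsol hperf x hx
  obtain ⟨w0, hw0, haw0⟩ := exists_nc h hsol hperf hx (a := a0) ⟨ha0, ha0x, hxa0⟩
  have hd := dichotomy hs (S := S1 D x) ?_ ?_ ?_ (closure_S1 x) ?_
  rotate_left
  · intro a ha
    apply Subtype.ext
    exact sq h ha.1
  · intro g a ha
    exact (In_cc_H h g.2).2 ha
  · intro a ha b hb hab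
    apply Subtype.ext
    apply h.braid a ha.1 b hb.1
    intro h1
    exact hab (Subtype.ext h1)
  · refine ⟨⟨a0, In_mem_H ⟨ha0, ha0x, hxa0⟩⟩, ⟨ha0, ha0x, hxa0⟩, ⟨w0, In_mem_H hw0⟩, hw0, ?_⟩
    intro h1
    exact haw0 (congrArg Subtype.val h1)
  rcases hd with ⟨a, ha, b, hb, hne, hab, hc⟩ | ⟨a, ha, b, hb, hab, hc, P, hPn, hP3, habP⟩
  · left
    refine ⟨x, a, b, hx, ha, ⟨hb, ?_⟩, fun h1 => hne (Subtype.ext h1.symm)⟩
    ext d
    rw [mem_T, mem_T]
    by_cases hdx : d = x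
    · subst hdx
      exact ⟨fun h1 => ⟨h1.1, h1.2.1, hb.2.2⟩, fun h1 => ⟨h1.1, h1.2.1, ha.2.2⟩⟩
    have key : ∀ (hd : d ∈ D) (hdx' : Commute d x), Commute d (a : G) ↔ Commute d (b : G) := by
      intro hd hdx'
      have hdI : In D x d := ⟨hd, hdx, hdx'.symm⟩
      have h1 := hc ⟨d, In_mem_H hdI⟩ hdI
      constructor
      · intro h2
        exact congrArg Subtype.val (h1.1 (Subtype.ext h2))
      · intro h2
        exact congrArg Subtype.val (h1.2 (Subtype.ext h2))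
    constructor
    · rintro ⟨h1, h2, h3⟩
      exact ⟨h1, h2, (key h1 h2).1 h3⟩
    · rintro ⟨h1, h2, h3⟩
      exact ⟨h1, h2, (key h1 h2).2 h3⟩
  · right
    intro hle
    have hco : (Nat.card P).Coprime 2 := by
      obtain ⟨n, hn⟩ := (IsPGroup.iff_card (p := 3)).1 hP3
      rw [hn]
      apply Nat.Coprime.pow_left; decide
    have h1 : P ≤ Cfsg.oddCore ↥(H D x) := Cfsg.Agent.Lib.Cores.le_pPrimeCore hPn hco
    have h2 : a * b ∈ Subgroup.center ↥(H D x) := hle (h1 habP)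
    rw [Subgroup.mem_center_iff] at h2
    apply hab
    have h3 := h2 a
    have h4 : a * a = 1 := Subtype.ext (sq h ha.1)
    rw [← mul_assoc, h4, one_mul] at h3
    have h5 : a * b = b * a := by
      calc a * b = a * (a * b * a) := by rw [← h3]
        _ = (a * a) * b * a := by simp only [mul_assoc]
        _ = b * a := by rw [h4, one_mul]
    exact h5

variable (hτ : ∃ x a b : G, x ∈ D ∧ In D x a ∧ b ∈ V D x a ∧ b ≠ a)

include hτ

/-- if `⟨D_x⟩` is solvable, then different commuting classes do not exist -/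
theorem rank_one {x0 : G} (hx0 : x0 ∈ D) (hs : Group.IsSolvable ↥(H D x0)) {x a b : G} (hx : x ∈ D)
    (ha : In D x a) (hb : In D x b) (hab : Commute a b) : b ∈ V D x a := by
  -- it is enough to find one pair
  suffices hone : ∃ a0, In D x0 a0 ∧ ∀ w, In D x0 w → Commute w a0 → w ∈ V D x0 a0 by
    obtain ⟨a0, ha0, hall⟩ := hone
    obtain ⟨g, hg1, hg2⟩ := PR_perp h hsol hperf hx0 ha0.1 hx ha.1 ha0.2.2 ha0.2.1 ha.2.2 ha.2.1
    have e1 : cc g x0 = x := hg1
    have e2 : cc g a0 = a := hg2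
    have h1 : In D x0 (cc g⁻¹ b) := by
      rw [← In_cc h g, cc_cc_inv, e1]; exact hb
    have h2 : Commute (cc g⁻¹ b) a0 := by
      rw [← cc_commute g, cc_cc_inv, e2]; exact hab.symm
    have h3 := hall _ h1 h2
    rw [← V_cc h g, cc_cc_inv, e1, e2] at h3
    exact h3
  clear hab hb ha hx b a x
  obtain ⟨a0, ha0⟩ := exists_In h hτ hx0
  obtain ⟨w0, hw0, haw0⟩ := exists_nc h hsol hperf hx0 ha0
  have hKn : (Kn h x0).Normal := Kn_normal h x0
  -- classes of elements in the quotient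
  have q1 : ∀ {a b : G} (ha : In D x0 a) (hb : In D x0 b),
      (QuotientGroup.mk (⟨a, In_mem_H ha⟩ : H D x0) : H D x0 ⧸ Kn h x0) =
        QuotientGroup.mk (⟨b, In_mem_H hb⟩ : H D x0) ↔ b ∈ V D x0 a := by
    intro a b ha hb
    rw [QuotientGroup.eq]
    have e : (⟨a, In_mem_H ha⟩ : H D x0)⁻¹ = ⟨a, In_mem_H ha⟩ := Subtype.ext (inv_eq h ha.1)
    rw [e]
    exact ⟨V_of_mem_Kn h ha hb, mem_Kn_of_V h ha⟩
  have hbraid : ∀ {a b : G}, In D x0 a → In D x0 b → ¬ Commute a b → a * b * a = b * a * b :=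
    fun ha hb hab => h.braid _ ha.1 _ hb.1 hab
  have q2 : ∀ {a b : G} (ha : In D x0 a) (hb : In D x0 b),
      Commute (QuotientGroup.mk (⟨a, In_mem_H ha⟩ : H D x0) : H D x0 ⧸ Kn h x0)
        (QuotientGroup.mk (⟨b, In_mem_H hb⟩ : H D x0)) ↔ Commute a b := by
    intro a b ha hb
    constructor
    · intro h1
      by_contra hn
      apply hn
      have h2 : (⟨a, In_mem_H ha⟩ * ⟨b, In_mem_H hb⟩ * ⟨a, In_mem_H ha⟩ : H D x0) =
          ⟨b, In_mem_H hb⟩ * ⟨a, In_mem_H ha⟩ * ⟨b, In_mem_H hb⟩ := Subtype.ext (hbraid ha hb hn)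
      have h3 := congrArg (QuotientGroup.mk : H D x0 → H D x0 ⧸ Kn h x0) h2
      rw [QuotientGroup.mk_mul, QuotientGroup.mk_mul, QuotientGroup.mk_mul, QuotientGroup.mk_mul] at h3
      have h4 : (QuotientGroup.mk (⟨a, In_mem_H ha⟩ : H D x0) : H D x0 ⧸ Kn h x0) =
        QuotientGroup.mk (⟨b, In_mem_H hb⟩ : H D x0) := by
        rw [h1.eq] at h3
        exact mul_left_cancel h3
      have h5 := (q1 ha hb).1 h4
      exact V_comm_V (self_mem_V ha) h5
    · intro h1
      have h2 : (⟨a, In_mem_H ha⟩ * ⟨b, In_mem_H hb⟩ : H D x0) = ⟨b, In_mem_H hb⟩ * ⟨a, In_mem_H ha⟩ :=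
        Subtype.ext h1
      show _ * _ = _ * _
      rw [← QuotientGroup.mk_mul, ← QuotientGroup.mk_mul, h2]
  have hsX : Group.IsSolvable (H D x0 ⧸ Kn h x0) := inferInstance
  have hd := dichotomy hsX (S := (QuotientGroup.mk : H D x0 → H D x0 ⧸ Kn h x0) '' (S1 D x0)) ?_ ?_ ?_ ?_ ?_
  rotate_left
  · rintro _ ⟨a, ha, rfl⟩
    rw [← QuotientGroup.mk_mul]
    have : a * a = 1 := Subtype.ext (sq h ha.1)
    rw [this]; rfl
  · rintro g _ ⟨a, ha, rfl⟩
    obtain ⟨g, rfl⟩ := QuotientGroup.mk_surjective g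
    exact ⟨g * a * g⁻¹, (In_cc_H h g.2).2 ha, rfl⟩
  · rintro _ ⟨a, ha, rfl⟩ _ ⟨b, hb, rfl⟩ hab
    have hab' : ¬ Commute (a : G) b := fun h1 => hab ((q2 ha hb).2 h1)
    have h2 : a * b * a = b * a * b := Subtype.ext (hbraid ha hb hab')
    rw [← QuotientGroup.mk_mul, ← QuotientGroup.mk_mul, ← QuotientGroup.mk_mul, ← QuotientGroup.mk_mul,
      h2]
  · have h1 := MonoidHom.map_closure (QuotientGroup.mk' (Kn h x0)) (S1 D x0)
    rw [closure_S1, ← MonoidHom.range_eq_map, QuotientGroup.range_mk'] at h1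
    exact h1.symm
  · exact ⟨_, ⟨⟨a0, In_mem_H ha0⟩, ha0, rfl⟩, _, ⟨⟨w0, In_mem_H hw0⟩, hw0, rfl⟩, fun h1 =>
      haw0 ((q2 ha0 hw0).1 h1)⟩
  rcases hd with ⟨_, ⟨⟨a, haH⟩, ha, rfl⟩, _, ⟨⟨b, hbH⟩, hb, rfl⟩, hne, hab, hc⟩ |
    ⟨_, ⟨⟨a, haH⟩, ha, rfl⟩, _, ⟨⟨b, hbH⟩, hb, rfl⟩, hab, hc, -⟩
  · exfalso
    change In D x0 a at ha
    change In D x0 b at hb
    apply hne
    apply (q1 ha hb).2
    refine ⟨hb, ?_⟩
    have key : ∀ d, d ∈ D → Commute d x0 → (Commute d a ↔ Commute d b) := by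
      intro d hd hdx'
      by_cases hdx : d = x0
      · subst hdx
        exact ⟨fun _ => hb.2.2, fun _ => ha.2.2⟩
      have hdI : In D x0 d := ⟨hd, hdx, hdx'.symm⟩
      have h1 := hc _ ⟨⟨d, In_mem_H hdI⟩, hdI, rfl⟩
      exact ((q2 hdI ha).symm.trans h1).trans (q2 hdI hb)
    ext d
    rw [mem_T, mem_T]
    constructor
    · rintro ⟨h1, h2, h3⟩
      exact ⟨h1, h2, (key d h1 h2).1 h3⟩
    · rintro ⟨h1, h2, h3⟩
      exact ⟨h1, h2, (key d h1 h2).2 h3⟩
  · change In D x0 a at ha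
    change In D x0 b at hb
    have hab' : ¬ Commute a b := fun h1 => hab ((q2 ha hb).2 h1)
    have hcb : ∀ c, In D x0 c → c ∉ V D x0 a → Commute c a → Commute c b := by
      intro c hcI hcV hca
      have h1 := hc _ ⟨⟨c, In_mem_H hcI⟩, hcI, rfl⟩ ?_ ((q2 hcI ha).2 hca)
      · exact (q2 hcI hb).1 h1
      · intro h2
        exact hcV ((q1 ha hcI).1 h2.symm)
    refine ⟨a, ha, fun w hw hwa => ?_⟩
    by_contra hwV
    have hwb := hcb w hw hwV hwa
    have hwI : In D a w := by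
      refine ⟨hw.1, ?_, hwa.symm⟩
      rintro rfl
      exact hwV (self_mem_V ha)
    obtain ⟨u, hu, huw⟩ := exists_ne h hsol hperf hτ ha.1 hwI
    have hwL : w ∈ Ln D a w := V_sub_Ln (self_mem_V hwI)
    have haL : a ∈ Ln D a w := self_mem_Ln ha.1
    have huL : u ∈ Ln D a w := V_sub_Ln hu
    have hua : u ≠ a := hu.1.2.1
    have hxw : w ∉ Ln D x0 a := fun h1 => hwV (mem_V_of_Ln h hsol hperf hx0 ha h1 hw.2.1)
    have hux : Commute x0 u := huL.2 x0 ⟨hx0, ha.2.2, hw.2.2⟩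
    have hux' : u ≠ x0 := by
      rintro rfl
      apply hxw
      rw [← Ln_eq_of_mem h hsol hperf ha.1 hwI huL haL hua] at hwL
      exact hwL
    have huI : In D x0 u := ⟨hu.1.1, hux', hux⟩
    have huV : u ∉ V D x0 a := by
      intro h1
      apply hxw
      have h2 := Ln_eq_of_mem h hsol hperf hx0 ha (V_sub_Ln (self_mem_V ha)) (V_sub_Ln h1) hua.symm
      have h3 := Ln_eq_of_mem h hsol hperf ha.1 hwI haL huL hua.symm
      rw [← h2, h3]
      exact hwL
    have hub := hcb u huI huV hu.1.2.2.symm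
    apply hab'
    exact (all_of_two h hsol hperf ha.1 hwI huL hwL huw hb.1 hub.symm hwb.symm haL).symm

end Main

end Cfsg.Agent.SporadicStructure.FSolReduce
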