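import Mathlib
import Cfsg.Agent.SporadicStructure.FSolReduce

set_option autoImplicit false

/-!
# 3-transposition groups of rank one: context and the orbit of `y` (for S1614)
-/

namespace Cfsg.Agent.SporadicStructure.FSolCtx

open Cfsg Cfsg.Agent.SporadicStructure.FischerSpace Cfsg.Agent.SporadicStructure.FischerPrimitive
open Cfsg.Agent.SporadicStructure.FischerRank3 Cfsg.Agent.SporadicStructure.FSolBase
open Cfsg.Agent.SporadicStructure.FSolLines Cfsg.Agent.SporadicStructure.FSolPlane
open Cfsg.Agent.SporadicStructure.FSolTrans Cfsg.Agent.SporadicStructure.FSolReduce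

variable {G : Type*} [Group G] {D : Set G}

/-- all hypotheses of the rank one case, together with a noncommuting pair `x, y` -/
structure Ctx (D : Set G) (x y : G) : Prop where
  fin : Finite G
  h : FData D
  hsol : ∀ N : Subgroup G, N.Normal → Group.IsSolvable ↥N → N = ⊥
  hperf : ⁅commutator G, commutator G⁆ = commutator G
  hτ : ∃ x a b : G, x ∈ D ∧ In D x a ∧ b ∈ V D x a ∧ b ≠ a
  hR : ∀ x a b : G, x ∈ D → In D x a → In D x b → Commute a b → b ∈ V D x a
  hx : x ∈ D
  hy : y ∈ D
  hxy : ¬ Commute x y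

/-- generators of `N` -/
def Gm (D : Set G) (x : G) : Set G := {g | g = x ∨ ∃ a b, In D x a ∧ b ∈ V D x a ∧ g = a * b}

/-- the 2-group `N` (including `x`) -/
def N (D : Set G) (x : G) : Subgroup G := Subgroup.closure (Gm D x)

theorem x_mem_N (D : Set G) (x : G) : x ∈ N D x := Subgroup.subset_closure (Or.inl rfl)

theorem mul_mem_N {x a b : G} (ha : In D x a) (hb : b ∈ V D x a) : a * b ∈ N D x :=
  Subgroup.subset_closure (Or.inr ⟨a, b, ha, hb, rfl⟩)

theorem commute_N {x n : G} (hn : n ∈ N D x) : Commute n x := by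
  have hle : N D x ≤ Subgroup.centralizer {x} := by
    unfold N
    rw [Subgroup.closure_le]
    rintro d (rfl | ⟨a, b, ha, hb, rfl⟩)
    · rw [SetLike.mem_coe, Subgroup.mem_centralizer_singleton_iff]
    · rw [SetLike.mem_coe, Subgroup.mem_centralizer_singleton_iff]
      exact (ha.2.2.mul_right hb.1.2.2).symm.eq
  have := hle hn
  rw [Subgroup.mem_centralizer_singleton_iff] at this
  exact this

/-- `N` is normalised by everything commuting with `x` -/
theorem cc_mem_N (h : FData D) {x g n : G} (hg : Commute g x) (hn : n ∈ N D x) : cc g n ∈ N D x := by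
  unfold N at hn
  induction hn using Subgroup.closure_induction with
  | mem z hz =>
    rcases hz with rfl | ⟨a, b, ha, hb, rfl⟩
    · rw [cc_of_commute hg]; exact x_mem_N D z
    · rw [cc_map_mul]
      have h1 : In D x (cc g a) := by
        have := (In_cc h g (x := x) (a := a)).2 ha
        rwa [cc_of_commute hg] at this
      exact mul_mem_N h1 ((V_cc' h hg).2 hb)
  | one => rw [cc_one_right]; exact one_mem _
  | mul a b _ _ iha ihb => rw [cc_map_mul]; exact mul_mem iha ihb
  | inv a _ iha =>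
    have : cc g a⁻¹ = (cc g a)⁻¹ := by simp only [cc_def]; group
    rw [this]; exact inv_mem iha

namespace Ctx

variable {x y : G} (K : Ctx D x y)

include K

theorem mem_T_In {c : G} (hc : c ∈ T D x y) : In D x c := by
  refine ⟨hc.1, ?_, hc.2.1.symm⟩
  rintro rfl
  exact K.hxy hc.2.2

/-- the member of each class commuting with `y` -/
theorem exists_c {a : G} (ha : In D x a) : ∃ c ∈ T D x y, a ∈ V D x c ∧ c ∈ V D x a := by
  have := K.fin
  obtain ⟨z, hz, hyz⟩ := exists_perp_V K.h K.hsol K.hperf K.hτ K.hx ha K.hy K.hxy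
  exact ⟨z, ⟨hz.1.1, hz.1.2.2.symm, hyz.symm⟩, mem_V_symm ha hz, hz⟩

theorem eq_of_mem_T {a c : G} (ha : In D x a) (haT : a ∈ T D x y) (hc : c ∈ V D x a)
    (hcT : c ∈ T D x y) : c = a := by
  have := K.fin
  exact perp_V_unique K.h K.hsol K.hperf K.hx ha K.hy K.hxy hc (self_mem_V ha) hcT.2.2.symm
    haT.2.2.symm

/-- different members of `T D x y` do not commute -/
theorem not_commute_T {c c' : G} (hc : c ∈ T D x y) (hc' : c' ∈ T D x y) (hne : c ≠ c') :
    ¬ Commute c c' := by
  intro h1
  have hcI := K.mem_T_In hc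
  exact hne (K.eq_of_mem_T hcI hc (K.hR x c c' K.hx hcI (K.mem_T_In hc') h1) hc').symm

/-- `T D x y` is closed under the third point operation -/
theorem cc_mem_T {c c' : G} (hc : c ∈ T D x y) (hc' : c' ∈ T D x y) : cc c c' ∈ T D x y := by
  refine ⟨ccm K.h c hc'.1, ?_, ?_⟩
  · exact (commute_cc_of hc.2.1.symm hc'.2.1.symm).symm
  · exact (commute_cc_of hc.2.2.symm hc'.2.2.symm).symm

/-- members of `D` not commuting with `x` are conjugates of `y` under `N` -/
theorem exists_N {z : G} (hz : z ∈ D) (hxz : ¬ Commute x z) : ∃ n ∈ N D x, cc n y = z := by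
  have := K.fin
  obtain ⟨g, hg, rfl⟩ := L_trans K.h K.hsol K.hperf K.hτ K.hx K.hy hz K.hxy hxz
  clear hz hxz
  suffices hs : ∀ g ∈ L D x, ∃ n ∈ N D x, cc n y = cc g y from hs g hg
  clear hg g
  intro g hg
  unfold L at hg
  induction hg using Subgroup.closure_induction with
  | mem d hd =>
    by_cases hdx : d = x
    · exact ⟨x, x_mem_N D x, by rw [hdx]⟩
    · have hdI : In D x d := ⟨hd.1, hdx, hd.2.symm⟩
      obtain ⟨c, hc, hdc, hcd⟩ := K.exists_c hdI
      refine ⟨d * c, mul_mem_N hdI hcd, ?_⟩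
      rw [cc_mul, cc_of_commute hc.2.2]
  | one => exact ⟨1, one_mem _, rfl⟩
  | mul a b ha hb iha ihb =>
    obtain ⟨n, hn, hn'⟩ := iha
    obtain ⟨m, hm, hm'⟩ := ihb
    have hax : Commute a x := commute_of_mem_L ha
    refine ⟨cc a m * n, mul_mem (cc_mem_N K.h hax hm) hn, ?_⟩
    rw [cc_mul, cc_mul, ← hm', hn', cc_cc]
  | inv a ha iha =>
    obtain ⟨n, hn, hn'⟩ := iha
    have hax : Commute a x := commute_of_mem_L ha
    refine ⟨cc a⁻¹ n⁻¹, cc_mem_N K.h hax.inv_left (inv_mem hn), ?_⟩
    have h1 : cc a⁻¹ (cc n y) = y := by rw [hn', cc_inv_cc]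
    have h2 : cc (cc a⁻¹ n⁻¹) (cc a⁻¹ (cc n y)) = cc a⁻¹ (cc n⁻¹ (cc n y)) := cc_cc _ _ _
    rw [h1, cc_inv_cc] at h2
    exact h2

theorem not_commute_N {n : G} (hn : n ∈ N D x) : ¬ Commute x (cc n y) := by
  intro h1
  have : Commute (cc n x) (cc n y) := by rwa [cc_of_commute (commute_N hn)]
  rw [cc_commute] at this
  exact K.hxy this

/-- `N` preserves the classes -/
theorem cc_mem_V_N {n c : G} (hn : n ∈ N D x) (hc : In D x c) : cc n c ∈ V D x c := by
  suffices hs : ∀ c, In D x c → cc n c ∈ V D x c from hs c hc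
  clear hc c
  unfold N at hn
  induction hn using Subgroup.closure_induction with
  | mem z hz =>
    intro c hc
    rcases hz with rfl | ⟨a, b, ha, hb, rfl⟩
    · rw [cc_of_commute hc.2.2]; exact self_mem_V hc
    · exact cc_mem_V K.h ha hb hc
  | one => intro c hc; rw [cc_one]; exact self_mem_V hc
  | mul a b _ _ iha ihb =>
    intro c hc
    rw [cc_mul]
    have h1 := ihb c hc
    have h2 := iha _ h1.1
    rwa [← V_eq_of_mem h1] at h2
  | inv a ha iha =>
    intro c hc
    have hax : Commute a x := commute_N ha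
    have h1 : In D x (cc a⁻¹ c) := by
      have := (In_cc K.h a⁻¹ (x := x) (a := c)).2 hc
      rwa [cc_of_commute hax.inv_left] at this
    have h2 := iha _ h1
    rw [cc_cc_inv] at h2
    exact mem_V_symm h1 h2

end Ctx

end Cfsg.Agent.SporadicStructure.FSolCtx
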