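import Mathlib
import Cfsg.Agent.SporadicStructure.FSolCtx

set_option autoImplicit false

/-!
# 3-transposition groups of rank one: generic labelling lemma (for S1614)
-/

namespace Cfsg.Agent.SporadicStructure.FSolFinish

open Cfsg Cfsg.Agent.SporadicStructure.FischerSpace Cfsg.Agent.SporadicStructure.FischerPrimitive
open Cfsg.Agent.SporadicStructure.FischerRank3 Cfsg.Agent.SporadicStructure.FSolBase
open Cfsg.Agent.SporadicStructure.FSolLines Cfsg.Agent.SporadicStructure.FSolPlane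
open Cfsg.Agent.SporadicStructure.FSolTrans Cfsg.Agent.SporadicStructure.FSolReduce
open Cfsg.Agent.SporadicStructure.FSolCtx

variable {G : Type*} [Group G] {D : Set G}

/-- Labelling data for a rank one 3-transposition group: `e k γ` are the members commuting with `x`
(`k` = class, `e k z0` the member of the class commuting with `y`), `F` parametrises the group `N`. -/
structure Data (D : Set G) (x y : G) {ι E P : Type*} (z0 : E) (e : ι → E → G) (F : P → G)
    (lam : ι → P → E) (dv : P → P → P) (S : P → Prop) : Prop where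
  e_V : ∀ k γ, e k γ ∈ V D x (e k z0)
  e_T : ∀ k, e k z0 ∈ T D x y
  e_inj : ∀ k, Function.Injective (e k)
  e_surj : ∀ k, ∀ b ∈ V D x (e k z0), ∃ γ, e k γ = b
  c_surj : ∀ c ∈ T D x y, ∃ k, e k z0 = c
  c_inj : ∀ k l, e k z0 = e l z0 → k = l
  F_mem : ∀ p, F p ∈ N D x
  F_surj : ∀ n ∈ N D x, ∃ p, F p = n
  F_inj : Function.Injective F
  F_dv : ∀ m n, (F m)⁻¹ * F n = F (dv m n)
  F_lam : ∀ k p, cc (F p) (e k z0) = e k (lam k p)
  F_one : ∀ p, (∀ k, lam k p = z0) → F p = 1 ∨ F p = x
  S_iff : ∀ p, S p ↔ F p = 1 ∨ ∃ k γ, γ ≠ z0 ∧ F p = x * e k z0 * e k γ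

namespace Data

variable {x y : G} (K : Ctx D x y) {ι E P : Type*} {z0 : E} {e : ι → E → G} {F : P → G}
    {lam : ι → P → E} {dv : P → P → P} {S : P → Prop} (A : Data D x y z0 e F lam dv S)

include K A

omit K in
theorem In_e (k : ι) (γ : E) : In D x (e k γ) := (A.e_V k γ).1

theorem comm_e_e (k l : ι) (γ δ : E) : Commute (e k γ) (e l δ) ↔ k = l := by
  constructor
  · intro h1
    by_contra hne
    have h2 : e k z0 ≠ e l z0 := fun h3 => hne (A.c_inj k l h3)
    have h3 := K.not_commute_T (A.e_T k) (A.e_T l) h2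
    exact not_commute_VV (A.e_V k γ) (A.e_V l δ) (A.In_e k z0) h3 h1
  · rintro rfl
    exact V_comm_V (A.e_V k γ) (A.e_V k δ)

theorem comm_x_e (k : ι) (γ : E) : Commute x (e k γ) := (A.In_e k γ).2.2

theorem not_comm_x (p : P) : ¬ Commute x (cc (F p) y) := K.not_commute_N (A.F_mem p)

theorem comm_e_y (k : ι) (γ : E) : Commute (e k γ) y ↔ γ = z0 := by
  constructor
  · intro h1
    have h2 : e k γ ∈ T D x y := ⟨(A.In_e k γ).1, (A.In_e k γ).2.2.symm, h1⟩
    exact A.e_inj k (K.eq_of_mem_T (A.In_e k z0) (A.e_T k) (A.e_V k γ) h2)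
  · rintro rfl
    exact (A.e_T k).2.2

theorem comm_e_a (k : ι) (γ : E) (p : P) : Commute (e k γ) (cc (F p) y) ↔ γ = lam k p := by
  rw [commute_cc_comm]
  have hn : (F p)⁻¹ ∈ N D x := inv_mem (A.F_mem p)
  have h1 : cc (F p)⁻¹ (e k γ) ∈ V D x (e k γ) := K.cc_mem_V_N hn (A.In_e k γ)
  have h2 : cc (F p)⁻¹ (e k γ) ∈ V D x (e k z0) := by
    rw [V_eq_of_mem (A.e_V k γ)]; exact h1
  obtain ⟨δ, hδ⟩ := A.e_surj k _ h2
  rw [← hδ, A.comm_e_y K]
  constructor
  · rintro rfl
    have h3 : cc (F p) (e k δ) = e k (lam k p) := A.F_lam k p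
    rw [hδ, cc_cc_inv] at h3
    exact A.e_inj k h3
  · rintro rfl
    have h3 : cc (F p) (e k z0) = e k (lam k p) := A.F_lam k p
    rw [← h3, cc_inv_cc] at hδ
    exact A.e_inj k hδ

theorem eq_one_of_fix (p : P) (hp : cc (F p) y = y) : F p = 1 := by
  have h1 : ∀ k, lam k p = z0 := by
    intro k
    have h2 := (A.comm_e_a K k (lam k p) p).2 rfl
    rw [hp, A.comm_e_y K] at h2
    exact h2
  rcases A.F_one p h1 with h2 | h2
  · exact h2
  · exfalso
    rw [h2, cc_eq_iff] at hp
    exact K.hxy hp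

theorem a_inj {p p' : P} (hp : cc (F p) y = cc (F p') y) : p = p' := by
  have h1 : cc (F (dv p' p)) y = y := by
    rw [← A.F_dv, cc_mul, hp, cc_inv_cc]
  have h2 := A.eq_one_of_fix K _ h1
  rw [← A.F_dv, inv_mul_eq_one] at h2
  exact (A.F_inj h2).symm

theorem comm_a_y (p : P) : Commute (cc (F p) y) y ↔ S p := by
  have hfin := K.fin
  rw [A.S_iff]
  constructor
  · intro h1
    by_cases hy : cc (F p) y = y
    · exact Or.inl (A.eq_one_of_fix K p hy)
    right
    set y' := cc (F p) y with hy'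
    have hy'D : y' ∈ D := ccm K.h _ K.hy
    have hyI : In D y y' := ⟨hy'D, hy, h1.symm⟩
    obtain ⟨z, hz, hxz⟩ := exists_perp K.h K.hsol K.hperf K.hτ K.hy hyI K.hx
    have hzy : Commute z y := (hz.2 y ⟨K.hy, Commute.refl y, h1.symm⟩).symm
    have hzy' : Commute z y' := (hz.2 y' ⟨hy'D, h1, Commute.refl y'⟩).symm
    have hzT : z ∈ T D x y := ⟨hz.1, hxz.symm, hzy⟩
    obtain ⟨k, rfl⟩ := A.c_surj z hzT
    -- both `y` and `y'` belong to the same class at `z`
    have hyz : In D (e k z0) y := ⟨K.hy, fun h2 => K.hxy (h2 ▸ hxz), hzy⟩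
    have hy'z : In D (e k z0) y' := ⟨hy'D, fun h2 => A.not_comm_x K p (by rw [← hy', h2]; exact hxz), hzy'⟩
    have hV : y' ∈ V D (e k z0) y := K.hR _ _ _ hz.1 hyz hy'z h1.symm
    have hxz' : In D (e k z0) x := ⟨K.hx, (A.In_e k z0).2.1.symm, hxz.symm⟩
    classical
    let f : G → G := fun b => if b = e k z0 then y else cc (x * b) y
    have hby : ∀ b ∈ V D x (e k z0), b ≠ e k z0 → ¬ Commute b y := by
      intro b hb hne h2
      exact hne (K.eq_of_mem_T (A.In_e k z0) (A.e_T k) hb ⟨hb.1.1, hb.1.2.2.symm, h2⟩)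
    have hfV : ∀ b ∈ V D x (e k z0), f b ∈ V D (e k z0) y := by
      intro b hb
      by_cases hbc : b = e k z0
      · simp only [f, if_pos hbc]
        exact self_mem_V hyz
      · simp only [f, if_neg hbc]
        have hby' := hby b hb hbc
        have hxb : Commute x b := hb.1.2.2
        obtain ⟨-, h3, -⟩ := s4' K.h K.hy K.hx hb.1.1 hxb (fun h4 => K.hxy h4.symm)
          (fun h4 => hby' h4.symm)
        have e1 : cc (x * b) y = cc x (cc b y) := cc_mul _ _ _
        have h4 : Commute (e k z0) (cc (x * b) y) := by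
          apply commute_cc_of _ hzy
          exact hxz.symm.mul_right (V_comm_V (A.e_V k z0) hb)
        apply K.hR _ _ _ hz.1 hyz
        · refine ⟨ccm K.h _ K.hy, ?_, h4⟩
          intro h5
          have h6 : Commute x (cc (x * b) y) := by rw [h5]; exact hxz
          have h7 : Commute (cc (x * b) x) (cc (x * b) y) := by
            rwa [cc_of_commute ((Commute.refl x).mul_left hxb.symm)]
          rw [cc_commute] at h7
          exact K.hxy h7
        · rw [e1]; exact h3.symm
    have hfinj : Set.InjOn f (V D x (e k z0)) := by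
      have h8 : ∀ b ∈ V D x (e k z0), b ≠ e k z0 → cc (x * b) y ≠ y := by
        intro b hb hbc h9
        have hby' := hby b hb hbc
        have h10 : cc x (cc x (cc b y)) = cc x y := by
          rw [← cc_mul x b, h9]
        rw [cc_cc_self K.h K.hx, third K.h hb.1.1 K.hy hby', third K.h K.hx K.hy K.hxy, cc_inj] at h10
        exact hb.1.2.1 h10
      intro b hb b' hb' hbb
      by_cases hbc : b = e k z0
      · by_cases hbc' : b' = e k z0
        · rw [hbc, hbc']
        · simp only [f, if_pos hbc, if_neg hbc'] at hbb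
          exact absurd hbb.symm (h8 b' hb' hbc')
      · by_cases hbc' : b' = e k z0
        · simp only [f, if_neg hbc, if_pos hbc'] at hbb
          exact absurd hbb (h8 b hb hbc)
        · simp only [f, if_neg hbc, if_neg hbc'] at hbb
          rw [cc_mul, cc_mul, cc_inj, third K.h hb.1.1 K.hy (hby b hb hbc),
            third K.h hb'.1.1 K.hy (hby b' hb' hbc'), cc_inj] at hbb
          exact hbb
    have himg : f '' (V D x (e k z0)) = V D (e k z0) y := by
      apply Set.eq_of_subset_of_ncard_le _ _ (Set.toFinite _)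
      · rintro _ ⟨b, hb, rfl⟩; exact hfV b hb
      · rw [hfinj.ncard_image]
        exact (card_V K.h K.hsol K.hperf K.hx (A.In_e k z0) hz.1 hyz).ge
    rw [← himg] at hV
    obtain ⟨b, hb, hbf⟩ := hV
    obtain ⟨γ, rfl⟩ := A.e_surj k b hb
    by_cases hγ : e k γ = e k z0
    · simp only [f, if_pos hγ] at hbf
      exact absurd hbf.symm hy
    · simp only [f, if_neg hγ] at hbf
      have hγ' : γ ≠ z0 := fun h2 => hγ (by rw [h2])
      refine ⟨k, γ, hγ', ?_⟩
      have hmem : x * e k z0 * e k γ ∈ N D x := by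
        rw [mul_assoc]
        exact mul_mem (x_mem_N D x) (mul_mem_N (A.In_e k z0) (A.e_V k γ))
      obtain ⟨p', hp'⟩ := A.F_surj _ hmem
      have h9 : cc (F p) y = cc (F p') y := by
        rw [← hy', ← hbf, hp']
        have e1 : x * e k z0 * e k γ = x * e k γ * e k z0 := by
          rw [mul_assoc, mul_assoc, (V_comm_V (A.e_V k z0) (A.e_V k γ)).eq]
        rw [e1, cc_mul (x * e k γ), cc_of_commute hzy]
      rw [A.a_inj K h9, hp']
  · rintro (h1 | ⟨k, γ, hγ, h1⟩)
    · rw [h1, cc_one]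
    · rw [h1]
      have e1 : x * e k z0 * e k γ = x * e k γ * e k z0 := by
        rw [mul_assoc, mul_assoc, (V_comm_V (A.e_V k z0) (A.e_V k γ)).eq]
      rw [e1, cc_mul (x * e k γ), cc_of_commute (A.e_T k).2.2, cc_mul]
      have h2 : ¬ Commute (e k γ) y := fun h3 => hγ ((A.comm_e_y K k γ).1 h3)
      exact (s4' K.h K.hy K.hx (A.In_e k γ).1 (A.comm_x_e K k γ) (fun h4 => K.hxy h4.symm)
          (fun h4 => h2 h4.symm)).2.1

theorem comm_a_a (p p' : P) : Commute (cc (F p) y) (cc (F p') y) ↔ S (dv p' p) := by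
  rw [← A.comm_a_y K, commute_cc_comm, ← A.F_dv, cc_mul]

theorem cover {d : G} (hd : d ∈ D) : d = x ∨ (∃ k γ, e k γ = d) ∨ ∃ p, cc (F p) y = d := by
  by_cases hdx : d = x
  · exact Or.inl hdx
  right
  by_cases hc : Commute x d
  · left
    have hdI : In D x d := ⟨hd, hdx, hc⟩
    obtain ⟨c, hcT, hdc, -⟩ := K.exists_c hdI
    obtain ⟨k, rfl⟩ := A.c_surj c hcT
    obtain ⟨γ, hγ⟩ := A.e_surj k d hdc
    exact ⟨k, γ, hγ⟩
  · right
    obtain ⟨n, hn, hny⟩ := K.exists_N hd hc
    obtain ⟨p, rfl⟩ := A.F_surj n hn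
    exact ⟨p, hny⟩

end Data

end Cfsg.Agent.SporadicStructure.FSolFinish
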