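import Mathlib
import Cfsg.Agent.Lib.FieldFour

set_option autoImplicit false

/-!
# Explicit commuting graphs of the 3-transposition groups `S₆`, `PSU(4,2)`, `PSU(5,2)` (for S1614)

The labels describe the class `D` seen from a noncommuting pair `x, y`: `x` itself, the members `e k γ`
commuting with `x` (grouped into classes `k`), and the conjugates `n y n⁻¹` of `y` under a 2-group.
`adj l l'` says that the two members commute (it is reflexive).
-/

namespace Cfsg.Agent.SporadicStructure.FSolModel

open Cfsg.Agent.Lib.FieldFour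

/-- alternating form of `F4` over the prime field: `true` iff the arguments are different and nonzero -/
def B (a b : F4) : Bool := (a != .o) && (b != .o) && (a != b)

/-! ## 15 points -/

/-- labels of the 15 transpositions of `S₆` -/
inductive L2 : Type
  | x : L2
  | e : Fin 3 → Bool → L2
  | a : Bool → Bool → Bool → L2
  deriving DecidableEq

/-- the value `λ_k (n)` -/
def lam2 (k : Fin 3) (p q : Bool) : Bool :=
  match k with
  | 0 => q
  | 1 => p
  | 2 => xor p q

/-- `true` iff the conjugate of `y` by `x^ε t₁^p t₂^q` commutes with `y` -/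
def S2 (ε p q : Bool) : Bool :=
  match p, q with
  | false, false => !ε
  | _, _ => ε

/-- commuting graph of the 15 transpositions of `S₆` -/
def adj2 : L2 → L2 → Bool
  | .x, .x => true
  | .x, .e _ _ => true
  | .x, .a _ _ _ => false
  | .e _ _, .x => true
  | .a _ _ _, .x => false
  | .e k _, .e l _ => k == l
  | .e k c, .a _ p q => c == lam2 k p q
  | .a _ p q, .e k c => c == lam2 k p q
  | .a ε p q, .a ε' p' q' => S2 (xor ε ε') (xor p p') (xor q q')

/-! ## 45 points -/

/-- labels of the 45 transvections of `PSU(4,2)` -/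
inductive L3 : Type
  | x : L3
  | e : Fin 3 → F4 → L3
  | a : Bool → F4 → F4 → L3
  deriving DecidableEq

/-- the value `λ_k (n)` -/
def lam3 (k : Fin 3) (α β : F4) : F4 :=
  match k with
  | 0 => β
  | 1 => α
  | 2 => F4.add α β

/-- `true` iff the conjugate of `y` by `n = x^ε u₁(α) u₂(β)` commutes with `y` -/
def S3 (ε : Bool) (α β : F4) : Bool :=
  if α == .o then !ε else if β == .o then !ε else (α == β) && ε

/-- commuting graph of the 45 transvections of `PSU(4,2)`;
`a ε α β` stands for `n y n⁻¹`, `n = x^ε u₁(α) u₂(β)` -/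
def adj3 : L3 → L3 → Bool
  | .x, .x => true
  | .x, .e _ _ => true
  | .x, .a _ _ _ => false
  | .e _ _, .x => true
  | .a _ _ _, .x => false
  | .e k _, .e l _ => k == l
  | .e k γ, .a _ α β => γ == lam3 k α β
  | .a _ α β, .e k γ => γ == lam3 k α β
  | .a ε α β, .a ε' α' β' =>
      S3 (xor (xor ε ε') (B (F4.add α α') β')) (F4.add α α') (F4.add β β')

/-! ## 165 points -/

/-- labels of the 165 transvections of `PSU(5,2)` -/
inductive L9 : Type
  | x : L9
  | e : Fin 9 → F4 → L9
  | a : Bool → F4 → F4 → F4 → L9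
  deriving DecidableEq

/-- coefficient vectors of the nine classes -/
def cf (k : Fin 9) : F4 × F4 × F4 :=
  match k with
  | 0 => (.i, .o, .o)
  | 1 => (.o, .i, .o)
  | 2 => (.o, .o, .i)
  | 3 => (.i, .i, .o)
  | 4 => (.i, .o, .i)
  | 5 => (.o, .i, .w)
  | 6 => (.i, .i, .v)
  | 7 => (.i, .w, .i)
  | 8 => (.i, .w, .v)

/-- Frobenius -/
def fr : F4 → F4
  | .o => .o
  | .i => .i
  | .w => .v
  | .v => .w

/-- the value `λ_k (n)` -/
def lam9 (k : Fin 9) (α β δ : F4) : F4 :=
  F4.add (F4.mul (fr (cf k).1) (F4.add β δ))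
    (F4.add (F4.mul (fr (cf k).2.1) (F4.add α (F4.mul .v δ)))
      (F4.mul (fr (cf k).2.2) (F4.add α (F4.mul .w β))))

/-- sign of the class: `true` iff `u_k(γ) = x * u₁(aγ) u₂(bγ) u₃(dγ)` for `γ ≠ 0` -/
def sg (k : Fin 9) : Bool :=
  match k with
  | 0 => false
  | 1 => false
  | 2 => false
  | 3 => true
  | 4 => true
  | 5 => true
  | 6 => false
  | 7 => true
  | 8 => false

/-- `true` iff the conjugate of `y` by `n = x^ε u₁(α) u₂(β) u₃(δ)` commutes with `y`:
`n = 1` or `n = u_k(γ)` with `γ ≠ 0` -/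
def S9 (ε : Bool) (α β δ : F4) : Bool :=
  if α == .o && β == .o && δ == .o then !ε
  else (List.finRange 9).any fun k => [F4.i, F4.w, F4.v].any fun γ =>
    (ε == sg k) && (α == F4.mul (cf k).1 γ) && (β == F4.mul (cf k).2.1 γ) &&
      (δ == F4.mul (cf k).2.2 γ)

/-- commuting graph of the 165 transvections of `PSU(5,2)`;
`a ε α β δ` stands for `n y n⁻¹`, `n = x^ε u₁(α) u₂(β) u₃(δ)` -/
def adj9 : L9 → L9 → Bool
  | .x, .x => true
  | .x, .e _ _ => true
  | .x, .a _ _ _ _ => false
  | .e _ _, .x => true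
  | .a _ _ _ _, .x => false
  | .e k _, .e l _ => k == l
  | .e k γ, .a _ α β δ => γ == lam9 k α β δ
  | .a _ α β δ, .e k γ => γ == lam9 k α β δ
  | .a ε α β δ, .a ε' α' β' δ' =>
      S9 (xor (xor ε ε') (xor (B (F4.add α α') β') (xor (B (F4.add α α') δ')
          (B (F4.mul .w (F4.add β β')) δ'))))
        (F4.add α α') (F4.add β β') (F4.add δ δ')

end Cfsg.Agent.SporadicStructure.FSolModel
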