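import Mathlib
import Cfsg.Agent.SporadicStructure.FSolCtx
import Cfsg.Agent.SporadicStructure.FSolModel

set_option autoImplicit false

/-!
# 3-transposition groups of rank one with classes of size four: labelled classes (for S1614)
-/

namespace Cfsg.Agent.SporadicStructure.FSolLab

open Cfsg Cfsg.Agent.SporadicStructure.FischerSpace Cfsg.Agent.SporadicStructure.FischerPrimitive
open Cfsg.Agent.SporadicStructure.FischerRank3 Cfsg.Agent.SporadicStructure.FSolBase
open Cfsg.Agent.SporadicStructure.FSolLines Cfsg.Agent.SporadicStructure.FSolPlane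
open Cfsg.Agent.SporadicStructure.FSolTrans Cfsg.Agent.SporadicStructure.FSolReduce
open Cfsg.Agent.SporadicStructure.FSolCtx Cfsg.Agent.SporadicStructure.FSolModel
open Cfsg.Agent.Lib.FieldFour

variable {G : Type*} [Group G] {D : Set G}

/-! ### small facts on `F4` -/

theorem f4_fourth : ∀ a b d : F4, a ≠ 0 → b ≠ 0 → a ≠ b → d ≠ 0 → d ≠ a → d ≠ b → d = a + b := by
  decide

theorem f4_add_self : ∀ a : F4, a + a = 0 := by decide

theorem f4_add_ne : ∀ a b : F4, a ≠ b → a + b ≠ 0 := by decide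

/-- a labelled class -/
structure Lab (D : Set G) (x : G) (e : F4 → G) : Prop where
  In0 : In D x (e 0)
  mem : ∀ γ, e γ ∈ V D x (e 0)
  inj : Function.Injective e
  surj : ∀ b ∈ V D x (e 0), ∃ γ, e γ = b

theorem exists_lab [Finite G] {x c : G} (hc : In D x c) (h4 : (V D x c).ncard = 4) :
    ∃ e : F4 → G, e 0 = c ∧ Lab D x e := by
  classical
  have : Fintype (V D x c) := Fintype.ofFinite _
  have h1 : Fintype.card F4 = Fintype.card (V D x c) := by
    rw [← Nat.card_eq_fintype_card, ← Nat.card_eq_fintype_card, Nat.card_coe_set_eq, h4, F4.natCard]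
  let f : F4 ≃ V D x c := Fintype.equivOfCardEq h1
  let g := f.setValue 0 ⟨c, self_mem_V hc⟩
  have hg : g 0 = ⟨c, self_mem_V hc⟩ := Equiv.setValue_eq _ _ _
  have h0 : (g 0 : G) = c := by rw [hg]
  refine ⟨fun γ => g γ, h0, ?_, ?_, ?_, ?_⟩
  · show In D x (g 0 : G)
    rw [h0]; exact hc
  · intro γ
    show (g γ : G) ∈ V D x (g 0 : G)
    rw [h0]; exact (g γ).2
  · intro γ δ h2
    exact g.injective (Subtype.ext h2)
  · intro b hb
    change b ∈ V D x (g 0 : G) at hb
    rw [h0] at hb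
    exact ⟨g.symm ⟨b, hb⟩, by simp⟩

/-- `u(γ)` -/
def uu (x : G) (e : F4 → G) (γ : F4) : G := if γ = 0 then 1 else x * e 0 * e γ

theorem uu_zero (x : G) (e : F4 → G) : uu x e 0 = 1 := if_pos rfl

theorem uu_ne {x : G} {e : F4 → G} {γ : F4} (hγ : γ ≠ 0) : uu x e γ = x * e 0 * e γ := if_neg hγ

/-- the action of `n` on a labelled class is a translation -/
def Act (n : G) (e : F4 → G) (δ : F4) : Prop := ∀ γ, cc n (e γ) = e (γ + δ)

/-- `x` or `1` -/
def xp (x : G) (b : Bool) : G := if b then x else 1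

namespace Act

variable {n m : G} {e : F4 → G} {δ δ' : F4}

theorem mul (h1 : Act n e δ) (h2 : Act m e δ') : Act (n * m) e (δ + δ') := by
  intro γ
  rw [cc_mul, h2, h1, add_assoc, add_comm δ']

theorem one (e : F4 → G) : Act 1 e 0 := by
  intro γ; rw [cc_one, add_zero]

theorem inv (h1 : Act n e δ) : Act n⁻¹ e δ := by
  intro γ
  have h2 := h1 (γ + δ)
  rw [add_assoc, f4_add_self, add_zero] at h2
  rw [← h2, cc_inv_cc]

theorem unique (hinj : Function.Injective e) (h1 : Act n e δ) (h2 : Act n e δ') : δ = δ' := by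
  have h3 := (h1 0).symm.trans (h2 0)
  have h4 := hinj h3
  rwa [zero_add, zero_add] at h4

end Act

section Main

variable {x y : G} (K : Ctx D x y) (h4 : ∀ a, In D x a → (V D x a).ncard = 4)

include K

theorem x_sq : x * x = 1 := sq K.h K.hx

omit K in
theorem xp_false : xp x false = 1 := rfl

omit K in
theorem xp_true : xp x true = x := rfl

theorem xp_mul (a b : Bool) : xp x a * xp x b = xp x (xor a b) := by
  cases a <;> cases b <;> simp [xp, x_sq K]

omit K in
theorem xp_comm {g : G} (hg : Commute g x) (b : Bool) : Commute g (xp x b) := by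
  cases b
  · exact Commute.one_right g
  · exact hg

omit K in
theorem xp_mem_N (b : Bool) : xp x b ∈ N D x := by
  cases b
  · exact one_mem _
  · exact x_mem_N D x

namespace Lab

variable {e : F4 → G} (l : Lab D x e)

include l

omit K in
theorem In_e (γ : F4) : In D x (e γ) := (l.mem γ).1

omit K in
theorem comm (γ δ : F4) : Commute (e γ) (e δ) := V_comm_V (l.mem γ) (l.mem δ)

omit K in
theorem ne {γ δ : F4} (hne : γ ≠ δ) : e γ ≠ e δ := fun h1 => hne (l.inj h1)

theorem sq (γ : F4) : e γ * e γ = 1 := FSolBase.sq K.h (l.In_e γ).1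

/-- product of the four members -/
theorem prod {α β : F4} (hα : α ≠ 0) (hβ : β ≠ 0) (hne : α ≠ β) :
    e 0 * e α * e β * e (α + β) = x := by
  have := K.fin
  obtain ⟨d, hd, hd0, hdα, hdβ, hp⟩ := prod_four K.h K.hsol K.hperf K.hτ K.hx (l.mem 0) (l.mem α)
    (l.mem β) (l.ne hα.symm) (l.ne hβ.symm) (l.ne hne)
  obtain ⟨δ, rfl⟩ := l.surj d hd
  have : δ = α + β := f4_fourth α β δ hα hβ hne (fun h1 => hd0 (by rw [h1]))
    (fun h1 => hdα (by rw [h1])) (fun h1 => hdβ (by rw [h1]))
  rw [← this]; exact hp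

omit K in
theorem uu_comm_x (γ : F4) : Commute (uu x e γ) x := by
  by_cases hγ : γ = 0
  · rw [hγ, uu_zero]; exact Commute.one_left x
  · rw [uu_ne hγ]
    exact ((Commute.refl x).mul_left (l.In_e 0).2.2.symm).mul_left (l.In_e γ).2.2.symm

omit K in
theorem uu_mem_N (γ : F4) : uu x e γ ∈ N D x := by
  by_cases hγ : γ = 0
  · rw [hγ, uu_zero]; exact one_mem _
  · rw [uu_ne hγ, mul_assoc]
    exact mul_mem (x_mem_N D x) (mul_mem_N (l.In_e 0) (l.mem γ))

omit l in
/-- members of the class in terms of `u` -/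
theorem e_mul {γ : F4} (hγ : γ ≠ 0) : e 0 * e γ = x * uu x e γ := by
  rw [uu_ne hγ, ← mul_assoc, ← mul_assoc, x_sq K, one_mul]

theorem uu_add (α β : F4) : uu x e (α + β) = uu x e α * uu x e β := by
  by_cases hα : α = 0
  · rw [hα, zero_add, uu_zero, one_mul]
  by_cases hβ : β = 0
  · rw [hβ, add_zero, uu_zero, mul_one]
  have k0 := l.comm 0 α
  have kx0 := (l.In_e 0).2.2
  have kxα := (l.In_e α).2.2
  have hx := x_sq K
  have h0 := l.sq K 0
  have hαα := l.sq K α
  -- `(x e0) * (x e0) = 1`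
  have hA : (x * e 0) * (x * e 0) = 1 := by
    calc (x * e 0) * (x * e 0) = x * (e 0 * x) * e 0 := by simp only [mul_assoc]
      _ = (x * x) * (e 0 * e 0) := by rw [← kx0.eq]; simp only [mul_assoc]
      _ = 1 := by rw [hx, h0, one_mul]
  have hcA : Commute (e α) (x * e 0) := kxα.symm.mul_right k0.symm
  have hB : uu x e α * uu x e β = e α * e β := by
    rw [uu_ne hα, uu_ne hβ]
    calc x * e 0 * e α * (x * e 0 * e β) = (x * e 0) * (e α * (x * e 0)) * e β := by
          simp only [mul_assoc]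
      _ = ((x * e 0) * (x * e 0)) * e α * e β := by rw [hcA.eq]; simp only [mul_assoc]
      _ = e α * e β := by rw [hA, one_mul]
  rw [hB]
  by_cases hne : α = β
  · rw [hne, f4_add_self, uu_zero, l.sq K β]
  · have hs : α + β ≠ 0 := f4_add_ne α β hne
    rw [uu_ne hs]
    have hp := l.prod K hα hβ hne
    -- `e0 eα eβ eσ = x`
    have h1 : e α * e β * e (α + β) = e 0 * x := by
      rw [← hp]
      simp only [← mul_assoc]
      rw [h0, one_mul]
    have h2 : e α * e β = e 0 * x * e (α + β) := by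
      rw [← h1, mul_assoc (e α * e β), l.sq K (α + β), mul_one]
    rw [h2, kx0.eq]

theorem uu_sq (α : F4) : uu x e α * uu x e α = 1 := by
  rw [← l.uu_add K, f4_add_self, uu_zero]

theorem uu_inv (α : F4) : (uu x e α)⁻¹ = uu x e α :=
  inv_eq_of_mul_eq_one_left (l.uu_sq K α)

omit K in
/-- `u` acts trivially on its own class -/
theorem act_self (γ : F4) : Act (uu x e γ) e 0 := by
  intro δ
  rw [add_zero]
  apply cc_of_commute
  by_cases hγ : γ = 0
  · rw [hγ, uu_zero]; exact Commute.one_left _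
  · rw [uu_ne hγ]
    exact ((l.In_e δ).2.2.mul_left (l.comm 0 δ)).mul_left (l.comm γ δ)

omit K in
theorem act_x : Act x e 0 := by
  intro δ
  rw [add_zero]
  exact cc_of_commute (l.In_e δ).2.2

omit K in
theorem act_xp (b : Bool) : Act (xp x b) e 0 := by
  cases b
  · exact Act.one e
  · exact l.act_x

/-- a product of two different members of another class acts as a nontrivial translation -/
theorem act_pair {a b : G} (ha : In D x a) (hb : b ∈ V D x a) (hab : a ≠ b)
    (hnc : ¬ Commute a (e 0)) : ∃ δ, δ ≠ 0 ∧ Act (a * b) e δ := by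
  have hV : ∀ γ, ∃ δ, e δ = cc (a * b) (e γ) := by
    intro γ
    have h1 := cc_mem_V K.h ha hb (l.In_e γ)
    rw [← V_eq_of_mem (l.mem γ)] at h1
    exact l.surj _ h1
  choose s hs using hV
  have hkab := V_comm_V (self_mem_V ha) hb
  have hsq2 : (a * b) * (a * b) = 1 := by
    rw [mul_assoc, ← mul_assoc b a b, ← hkab.eq, mul_assoc, FSolBase.sq K.h hb.1.1, mul_one,
      FSolBase.sq K.h ha.1]
  have hss : ∀ γ, s (s γ) = γ := by
    intro γ
    apply l.inj
    rw [hs, hs, ← cc_mul, hsq2, cc_one]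
  have hfix : ∀ γ, s γ ≠ γ := by
    intro γ h1
    have h2 := hs γ
    rw [h1] at h2
    apply hab
    have haγ : ¬ Commute a (e γ) := fun h3 => hnc ((V_commute (l.mem γ) ha.1 ha.2.2.symm).2 h3)
    have hbγ : ¬ Commute b (e γ) := not_commute_V hb (l.In_e γ) haγ
    exact eq_of_cc_fix K.h ha.1 hb.1.1 (l.In_e γ).1 haγ hbγ h2.symm
  refine ⟨s 0, hfix 0, ?_⟩
  intro γ
  rw [← hs]
  congr 1
  by_cases hγ0 : γ = 0
  · rw [hγ0, zero_add]
  by_cases hγ : γ = s 0
  · rw [hγ, hss, f4_add_self]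
  · apply f4_fourth γ (s 0) (s γ) hγ0 (hfix 0) hγ
    · intro h1
      apply hγ
      rw [← h1, hss]
    · exact hfix γ
    · intro h1
      apply hγ0
      rw [← hss γ, h1, hss]

/-- `N` acts by translations -/
theorem act_N {n : G} (hn : n ∈ N D x) : ∃ δ, Act n e δ := by
  unfold N at hn
  induction hn using Subgroup.closure_induction with
  | mem z hz =>
    rcases hz with rfl | ⟨a, b, ha, hb, rfl⟩
    · exact ⟨0, l.act_x⟩
    · by_cases hab : a = b
      · refine ⟨0, ?_⟩
        rw [hab, FSolBase.sq K.h hb.1.1]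
        exact Act.one e
      by_cases hc : Commute a (e 0)
      · refine ⟨0, ?_⟩
        intro γ
        rw [add_zero]
        apply cc_of_commute
        have h1 : Commute a (e γ) := (V_commute (l.mem γ) ha.1 ha.2.2.symm).1 hc
        have h2 : Commute b (e γ) := ((V_commute hb (l.In_e γ).1 (l.In_e γ).2.2.symm).1 h1.symm).symm
        exact h1.mul_left h2
      · obtain ⟨δ, -, hδ⟩ := l.act_pair K ha hb hab hc
        exact ⟨δ, hδ⟩
  | one => exact ⟨0, Act.one e⟩
  | mul a b _ _ iha ihb =>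
    obtain ⟨δ, hδ⟩ := iha
    obtain ⟨δ', hδ'⟩ := ihb
    exact ⟨δ + δ', hδ.mul hδ'⟩
  | inv a _ iha =>
    obtain ⟨δ, hδ⟩ := iha
    exact ⟨δ, hδ.inv⟩

/-- commutators of `u` with translations -/
theorem cc_uu {n : G} (hn : Commute n x) {δ : F4} (hδ : Act n e δ) (γ : F4) :
    cc n (uu x e γ) = xp x (B δ γ) * uu x e γ := by
  by_cases hγ : γ = 0
  · subst hγ
    have : B δ 0 = false := by cases δ <;> rfl
    rw [uu_zero, cc_one_right, this, xp_false, mul_one]
  by_cases hδ0 : δ = 0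
  · subst hδ0
    have : B 0 γ = false := by cases γ <;> rfl
    rw [this, xp_false, one_mul, uu_ne hγ, cc_map_mul, cc_map_mul, cc_of_commute hn, hδ, hδ, add_zero,
      add_zero]
  have h1 : cc n (uu x e γ) = x * e δ * e (γ + δ) := by
    rw [uu_ne hγ, cc_map_mul, cc_map_mul, cc_of_commute hn, hδ, hδ, zero_add]
  by_cases hγδ : δ = γ
  · subst hγδ
    have : B δ δ = false := by cases δ <;> rfl
    rw [h1, this, xp_false, one_mul, f4_add_self, uu_ne hγ, mul_assoc, mul_assoc,
      (l.comm δ 0).eq]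
  · have hB : B δ γ = true := by
      revert hγ hδ0 hγδ; cases δ <;> cases γ <;> decide
    rw [h1, hB, xp_true, uu_ne hγ]
    have hp := l.prod K hδ0 hγ hγδ
    -- e0 eδ eγ e(δ+γ) = x
    have k1 := l.comm 0 δ
    have k2 := l.comm 0 γ
    have k3 := l.comm δ γ
    have h0 := l.sq K 0
    have h2 : e δ * e γ * e (δ + γ) = e 0 * x := by
      rw [← hp]
      simp only [← mul_assoc]
      rw [h0, one_mul]
    have h3 : e δ * e (γ + δ) = e 0 * x * e γ := by
      rw [← h2, add_comm δ γ, mul_assoc (e δ * e γ), (l.comm (γ + δ) γ).eq, ← mul_assoc (e δ * e γ),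
        mul_assoc (e δ) (e γ) (e γ), l.sq K γ, mul_one]
    rw [mul_assoc, h3, (l.In_e 0).2.2.symm.eq]

end Lab

/-- the third class on the line joining two classes -/
theorem lab_third {ei ej : F4 → G} (li : Lab D x ei) (lj : Lab D x ej) :
    Lab D x (fun γ => cc (ej 0) (ei γ)) := by
  have hjx : Commute (ej 0) x := (lj.In_e 0).2.2.symm
  refine ⟨?_, ?_, ?_, ?_⟩
  · have := (In_cc K.h (ej 0) (x := x) (a := ei 0)).2 (li.In_e 0)
    rwa [cc_of_commute hjx] at this
  · intro γ
    exact (V_cc' K.h hjx).2 (li.mem γ)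
  · intro γ δ h1
    exact li.inj (cc_inj.1 h1)
  · intro b hb
    have h1 : cc (ej 0) b ∈ V D x (ei 0) := by
      have := (V_cc' K.h hjx).2 hb
      rwa [cc_cc_self K.h (lj.In_e 0).1] at this
    obtain ⟨γ, hγ⟩ := li.surj _ h1
    refine ⟨γ, ?_⟩
    show cc (ej 0) (ei γ) = b
    rw [hγ, cc_cc_self K.h (lj.In_e 0).1]

theorem uu_third {ei ej : F4 → G} (lj : Lab D x ej) {θ : F4 → F4}
    (hθ : ∀ γ, Act (uu x ei γ) ej (θ γ)) {γ : F4} (hγ : γ ≠ 0) (hθγ : θ γ ≠ 0) :
    uu x (fun γ => cc (ej 0) (ei γ)) γ = x * uu x ej (θ γ) * uu x ei γ := by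
  have hjx : Commute (ej 0) x := (lj.In_e 0).2.2.symm
  have h1 : uu x (fun γ => cc (ej 0) (ei γ)) γ = cc (ej 0) (uu x ei γ) := by
    rw [uu_ne hγ, uu_ne hγ, cc_map_mul, cc_map_mul, cc_of_commute hjx]
  rw [h1, cc_def, inv_eq K.h (lj.In_e 0).1]
  -- `ej 0 * u * ej 0 = ej 0 * (u * ej 0 * u⁻¹) * u`
  have h2 := hθ γ 0
  rw [zero_add, cc_def] at h2
  have h3 : uu x ei γ * ej 0 = ej (θ γ) * uu x ei γ := by
    rw [← h2]; simp only [inv_mul_cancel_right]
  rw [mul_assoc, h3, ← mul_assoc, Lab.e_mul K hθγ]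

end Main

end Cfsg.Agent.SporadicStructure.FSolLab
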