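import Mathlib
import Cfsg.Agent.SporadicStructure.FSolLab

set_option autoImplicit false

/-!
# 3-transposition groups of rank one with classes of size four: commutation form (for S1614)
-/

namespace Cfsg.Agent.SporadicStructure.FSolForm

open Cfsg Cfsg.Agent.SporadicStructure.FischerSpace Cfsg.Agent.SporadicStructure.FischerPrimitive
open Cfsg.Agent.SporadicStructure.FischerRank3 Cfsg.Agent.SporadicStructure.FSolBase
open Cfsg.Agent.SporadicStructure.FSolLines Cfsg.Agent.SporadicStructure.FSolPlane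
open Cfsg.Agent.SporadicStructure.FSolTrans Cfsg.Agent.SporadicStructure.FSolReduce
open Cfsg.Agent.SporadicStructure.FSolCtx Cfsg.Agent.SporadicStructure.FSolModel
open Cfsg.Agent.SporadicStructure.FSolLab
open Cfsg.Agent.Lib.FieldFour

variable {G : Type*} [Group G] {D : Set G}

theorem B_nondeg : ∀ a b : F4, (∀ c, B a c = B b c) → a = b := by decide

theorem B_swap : ∀ a b : F4, (∀ c, B a c = B c b) → a = b := by decide

theorem B_zero_left : ∀ a : F4, B 0 a = false := by decide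

theorem B_zero_right : ∀ a : F4, B a 0 = false := by decide

theorem B_self : ∀ a : F4, B a a = false := by decide

theorem B_symm : ∀ a b : F4, B a b = B b a := by decide

theorem B_add_left : ∀ a b c : F4, B (a + b) c = xor (B a c) (B b c) := by decide

theorem B_add_right : ∀ a b c : F4, B c (a + b) = xor (B c a) (B c b) := by decide

section Main

variable {x y : G} (K : Ctx D x y)

include K

theorem xp_inj {a b : Bool} (h1 : xp x a = xp x b) : a = b := by
  have hx : x ≠ 1 := K.h.ne_one x K.hx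
  cases a <;> cases b <;> simp_all [xp]

omit K in
theorem cc_eq_xp {n m : G} {b : Bool} : cc n m = xp x b * m ↔ n * m = xp x b * m * n := by
  rw [cc_def, mul_inv_eq_iff_eq_mul]

theorem xp_xp (b : Bool) : xp x b * xp x b = 1 := by
  rw [xp_mul K, Bool.xor_self]; rfl

omit K in
theorem xp_comm' {g : G} (hg : Commute g x) (b : Bool) : g * xp x b = xp x b * g := (xp_comm hg b).eq

/-- symmetry of the commutation form -/
theorem form_symm {n m : G} {b : Bool}
    (h1 : cc n m = xp x b * m) : cc m n = xp x b * n := by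
  rw [cc_eq_xp] at h1 ⊢
  rw [mul_assoc, h1, mul_assoc (xp x b) m n, ← mul_assoc, xp_xp K, one_mul]

/-- comparing two actions -/
theorem swap_act {e f : F4 → G} (le : Lab D x e) (lf : Lab D x f) {θ : F4 → F4}
    (hθ : ∀ α, Act (uu x e α) f (θ α)) {β δ : F4} (hδ : Act (uu x f β) e δ) (α : F4) :
    B δ α = B (θ α) β := by
  have h1 := le.cc_uu K (lf.uu_comm_x β) hδ α
  have h2 := form_symm K h1
  rw [lf.cc_uu K (le.uu_comm_x α) (hθ α) β] at h2
  exact (xp_inj K (mul_right_cancel h2)).symm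

/-- the function `θ` describing the action of one class on another -/
theorem exists_theta {e f : F4 → G} (le : Lab D x e) (lf : Lab D x f)
    (hnc : ¬ Commute (e 0) (f 0)) : ∃ θ : F4 → F4, (∀ α, Act (uu x e α) f (θ α)) ∧
      (∀ α β, θ (α + β) = θ α + θ β) ∧ (∀ α, α ≠ 0 → θ α ≠ 0) := by
  have h1 : ∀ α, ∃ δ, Act (uu x e α) f δ := fun α => lf.act_N K (le.uu_mem_N α)
  choose θ hθ using h1
  refine ⟨θ, hθ, ?_, ?_⟩
  · intro α β
    apply Act.unique lf.inj (hθ (α + β))
    rw [le.uu_add K]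
    exact (hθ α).mul (hθ β)
  · intro α hα h0
    obtain ⟨δ, hδ0, hδ⟩ := lf.act_pair K (le.In_e 0) (le.mem α) (le.ne hα.symm) hnc
    apply hδ0
    have h2 : Act (uu x e α) f (0 + δ) := by
      rw [uu_ne hα, mul_assoc]
      exact lf.act_x.mul hδ
    rw [zero_add] at h2
    rw [Act.unique lf.inj h2 (hθ α), h0]

omit K in
/-- relabel the second class -/
theorem relabel {e f : F4 → G} (lf : Lab D x f) {θ : F4 → F4}
    (hθ : ∀ α, Act (uu x e α) f (θ α)) (hadd : ∀ α β, θ (α + β) = θ α + θ β)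
    (hne : ∀ α, α ≠ 0 → θ α ≠ 0) :
    Lab D x (fun γ => f (θ γ)) ∧ f (θ 0) = f 0 ∧ ∀ α, Act (uu x e α) (fun γ => f (θ γ)) α := by
  have h0 : θ 0 = 0 := by
    have := hadd 0 0
    rw [add_zero] at this
    have h2 : θ 0 + θ 0 = 0 := f4_add_self _
    rw [this, h2]
  have hinj : Function.Injective θ := by
    intro a b hab
    by_contra hne'
    apply hne (a + b) (f4_add_ne a b hne')
    rw [hadd, hab, f4_add_self]
  have hsurj : Function.Surjective θ := Finite.injective_iff_surjective.1 hinj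
  refine ⟨⟨?_, ?_, ?_, ?_⟩, by rw [h0], ?_⟩
  · exact lf.In_e _
  · intro γ
    show f (θ γ) ∈ V D x (f (θ 0))
    rw [h0]; exact lf.mem _
  · intro a b hab
    exact hinj (lf.inj hab)
  · intro b hb
    change b ∈ V D x (f (θ 0)) at hb
    rw [h0] at hb
    obtain ⟨γ, hγ⟩ := lf.surj b hb
    obtain ⟨γ', rfl⟩ := hsurj γ
    exact ⟨γ', hγ⟩
  · intro α γ
    show cc (uu x e α) (f (θ γ)) = f (θ (γ + α))
    rw [hθ, hadd]

theorem base_two (h4 : ∀ a, In D x a → (V D x a).ncard = 4) {c0 c1 : G} (h0 : c0 ∈ T D x y)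
    (h1 : c1 ∈ T D x y) (hne : c0 ≠ c1) : ∃ e0 e1 : F4 → G, e0 0 = c0 ∧ e1 0 = c1 ∧ Lab D x e0 ∧
      Lab D x e1 ∧ (∀ α, Act (uu x e0 α) e1 α) ∧ (∀ α, Act (uu x e1 α) e0 α) := by
  have := K.fin
  have hI0 := K.mem_T_In h0
  have hI1 := K.mem_T_In h1
  obtain ⟨e0, he0, l0⟩ := exists_lab hI0 (h4 _ hI0)
  obtain ⟨f, hf, lf⟩ := exists_lab hI1 (h4 _ hI1)
  have hnc : ¬ Commute (e0 0) (f 0) := by rw [he0, hf]; exact K.not_commute_T h0 h1 hne
  obtain ⟨θ, hθ, hadd, hne'⟩ := exists_theta K l0 lf hnc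
  obtain ⟨l1, h10, hact⟩ := relabel lf hθ hadd hne'
  refine ⟨e0, fun γ => f (θ γ), he0, h10.trans hf, l0, l1, hact, ?_⟩
  intro β
  obtain ⟨δ, hδ⟩ := l0.act_N K (l1.uu_mem_N β)
  have h2 : δ = β := B_swap δ β (fun α => swap_act K l0 l1 hact hδ α)
  rw [← h2]
  rw [h2] at hδ ⊢
  exact hδ

/-- the action on a third class -/
theorem act_third {ei ej : F4 → G} (li : Lab D x ei) (lj : Lab D x ej) {θ : F4 → F4}
    (hθ : ∀ γ, Act (uu x ei γ) ej (θ γ)) (hθ0 : ∀ γ, γ ≠ 0 → θ γ ≠ 0)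
    {n : G} (hn : n ∈ N D x) {δi δj δ : F4} (hi : Act n ei δi) (hj : Act n ej δj)
    (hδ : ∀ γ, γ ≠ 0 → B δ γ = xor (B δi γ) (B δj (θ γ))) :
    Act n (fun γ => cc (ej 0) (ei γ)) δ := by
  have lk := lab_third K li lj
  obtain ⟨δ', hδ'⟩ := lk.act_N K hn
  have h1 : δ' = δ := by
    apply B_nondeg
    intro γ
    by_cases hγ : γ = 0
    · rw [hγ, B_zero_right, B_zero_right]
    rw [hδ γ hγ]
    have hnx := commute_N hn
    have h2 := lk.cc_uu K hnx hδ' γ
    rw [uu_third K lj hθ hγ (hθ0 γ hγ)] at h2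
    rw [cc_map_mul, cc_map_mul, cc_of_commute hnx, lj.cc_uu K hnx hj, li.cc_uu K hnx hi] at h2
    apply xp_inj K
    have k1 : Commute (uu x ej (θ γ)) x := lj.uu_comm_x _
    have h3 : x * (xp x (B δj (θ γ)) * uu x ej (θ γ)) * (xp x (B δi γ) * uu x ei γ) =
        xp x (xor (B δi γ) (B δj (θ γ))) * (x * uu x ej (θ γ) * uu x ei γ) := by
      rw [← xp_mul K]
      have c1 : x * xp x (B δj (θ γ)) = xp x (B δj (θ γ)) * x := xp_comm' (Commute.refl x) _
      have c2 : uu x ej (θ γ) * xp x (B δi γ) = xp x (B δi γ) * uu x ej (θ γ) := xp_comm' k1 _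
      have c3 : x * xp x (B δi γ) = xp x (B δi γ) * x := xp_comm' (Commute.refl x) _
      have c4 : xp x (B δj (θ γ)) * xp x (B δi γ) = xp x (B δi γ) * xp x (B δj (θ γ)) := by
        rw [xp_mul K, xp_mul K, Bool.xor_comm]
      calc x * (xp x (B δj (θ γ)) * uu x ej (θ γ)) * (xp x (B δi γ) * uu x ei γ)
          = (x * xp x (B δj (θ γ))) * (uu x ej (θ γ) * xp x (B δi γ)) * uu x ei γ := by
            simp only [mul_assoc]
        _ = xp x (B δj (θ γ)) * (x * xp x (B δi γ)) * uu x ej (θ γ) * uu x ei γ := by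
            rw [c1, c2]; simp only [mul_assoc]
        _ = (xp x (B δj (θ γ)) * xp x (B δi γ)) * x * uu x ej (θ γ) * uu x ei γ := by
            rw [c3]; simp only [mul_assoc]
        _ = xp x (B δi γ) * xp x (B δj (θ γ)) * (x * uu x ej (θ γ) * uu x ei γ) := by
            rw [c4]; simp only [mul_assoc]
    rw [h3] at h2
    exact (mul_right_cancel h2).symm
  rw [← h1]; exact hδ'

/-- generic surjectivity of a parametrisation -/
theorem F_surj {ι P : Type*} {e : ι → F4 → G} (F : P → G) (dv : P → P → P)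
    (hdv : ∀ m n, (F m)⁻¹ * F n = F (dv m n)) (lab : ∀ k, Lab D x (e k))
    (hx : ∃ p, F p = x) (hu : ∀ k γ, ∃ p, F p = uu x (e k) γ)
    (hc : ∀ c ∈ T D x y, ∃ k, e k 0 = c) : ∀ n ∈ N D x, ∃ p, F p = n := by
  have hone : ∃ p, F p = 1 := by
    obtain ⟨p, hp⟩ := hx
    exact ⟨dv p p, by rw [← hdv, inv_mul_cancel]⟩
  have hinv : ∀ g, (∃ p, F p = g) → ∃ p, F p = g⁻¹ := by
    rintro _ ⟨p, rfl⟩
    obtain ⟨q, hq⟩ := hone
    exact ⟨dv p q, by rw [← hdv, hq, mul_one]⟩
  have hmul : ∀ g g', (∃ p, F p = g) → (∃ p, F p = g') → ∃ p, F p = g * g' := by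
    rintro g g' hg ⟨q, rfl⟩
    obtain ⟨p, hp⟩ := hinv g hg
    exact ⟨dv p q, by rw [← hdv, hp, inv_inv]⟩
  have ht : ∀ k γ, ∃ p, F p = e k 0 * e k γ := by
    intro k γ
    by_cases hγ : γ = 0
    · rw [hγ, (lab k).sq K 0]; exact hone
    · rw [Lab.e_mul K hγ]
      exact hmul _ _ hx (hu k γ)
  intro n hn
  unfold N at hn
  induction hn using Subgroup.closure_induction with
  | mem z hz =>
    rcases hz with rfl | ⟨a, b, ha, hb, rfl⟩
    · exact hx
    · obtain ⟨c, hcT, hac, hca⟩ := K.exists_c ha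
      obtain ⟨k, rfl⟩ := hc c hcT
      have hbV : b ∈ V D x (e k 0) := by rw [V_eq_of_mem hac]; exact hb
      obtain ⟨γ, rfl⟩ := (lab k).surj a hac
      obtain ⟨δ, rfl⟩ := (lab k).surj b hbV
      have h1 : e k γ * e k δ = (e k 0 * e k γ)⁻¹ * (e k 0 * e k δ) := by
        rw [mul_inv_rev, inv_eq K.h ((lab k).In_e γ).1, inv_eq K.h ((lab k).In_e 0).1]
        calc e k γ * e k δ = e k γ * (e k 0 * e k 0) * e k δ := by
              rw [(lab k).sq K 0, mul_one]
          _ = e k γ * e k 0 * (e k 0 * e k δ) := by simp only [mul_assoc]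
      rw [h1]
      exact hmul _ _ (hinv _ (ht k γ)) (ht k δ)
  | one => exact hone
  | mul a b _ _ iha ihb => exact hmul _ _ iha ihb
  | inv a _ iha => exact hinv _ iha

end Main

end Cfsg.Agent.SporadicStructure.FSolForm
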