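import Mathlib
import Cfsg.Agent.SporadicStructure.FSolForm
import Cfsg.Agent.SporadicStructure.FSolFinish
import Cfsg.Agent.SporadicStructure.FSolEnd3

set_option autoImplicit false

/-!
# 3-transposition groups of rank one: three classes of size four, `PSU(4,2)` (for S1614)
-/

namespace Cfsg.Agent.SporadicStructure.FSolThree

open Cfsg Cfsg.Agent.SporadicStructure.FischerSpace Cfsg.Agent.SporadicStructure.FischerPrimitive
open Cfsg.Agent.SporadicStructure.FischerRank3 Cfsg.Agent.SporadicStructure.FSolBase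
open Cfsg.Agent.SporadicStructure.FSolLines Cfsg.Agent.SporadicStructure.FSolPlane
open Cfsg.Agent.SporadicStructure.FSolTrans Cfsg.Agent.SporadicStructure.FSolReduce
open Cfsg.Agent.SporadicStructure.FSolCtx Cfsg.Agent.SporadicStructure.FSolModel
open Cfsg.Agent.SporadicStructure.FSolLab Cfsg.Agent.SporadicStructure.FSolForm
open Cfsg.Agent.SporadicStructure.FSolFinish
open Cfsg.Agent.Lib.FieldFour

variable {G : Type*} [Group G] {D : Set G}

/-- the three labelled classes -/
def e3 (e0 e1 : F4 → G) : Fin 3 → F4 → G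
  | 0 => e0
  | 1 => e1
  | 2 => fun γ => cc (e1 0) (e0 γ)

abbrev P3 := Bool × F4 × F4

/-- parametrisation of `N` -/
def F3 (x : G) (e0 e1 : F4 → G) (p : P3) : G := xp x p.1 * uu x e0 p.2.1 * uu x e1 p.2.2

/-- `m⁻¹ n` -/
def dv3 (m n : P3) : P3 :=
  (xor (xor n.1 m.1) (B (n.2.1 + m.2.1) m.2.2), n.2.1 + m.2.1, n.2.2 + m.2.2)

/-- parameters of `u_k(γ)` -/
def uc3 : Fin 3 → F4 → P3
  | 0, γ => (false, γ, 0)
  | 1, γ => (false, 0, γ)
  | 2, γ => (true, γ, γ)

theorem S3_iff : ∀ p : P3, S3 p.1 p.2.1 p.2.2 = true ↔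
    p = (false, 0, 0) ∨ ∃ k γ, γ ≠ 0 ∧ p = uc3 k γ := by
  decide

section Main

variable {x y : G} (K : Ctx D x y)

include K

/-- the commutation rule -/
theorem comm_rule {e : F4 → G} (le : Lab D x e) {n : G} (hn : Commute n x) {δ : F4}
    (hδ : Act n e δ) (γ : F4) : n * uu x e γ = xp x (B δ γ) * uu x e γ * n :=
  cc_eq_xp.1 (le.cc_uu K hn hδ γ)

theorem data {e0 e1 : F4 → G} (l0 : Lab D x e0) (l1 : Lab D x e1)
    (a01 : ∀ α, Act (uu x e0 α) e1 α) (a10 : ∀ α, Act (uu x e1 α) e0 α)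
    (h0 : e0 0 ∈ T D x y) (h1 : e1 0 ∈ T D x y) (hne : e0 0 ≠ e1 0)
    (hT : ∀ c ∈ T D x y, c = e0 0 ∨ c = e1 0 ∨ c = cc (e1 0) (e0 0)) :
    Data D x y (0 : F4) (e3 e0 e1) (F3 x e0 e1) (fun k p => lam3 k p.2.1 p.2.2) dv3
      (fun p => S3 p.1 p.2.1 p.2.2 = true) := by
  have hnc : ¬ Commute (e0 0) (e1 0) := K.not_commute_T h0 h1 hne
  have l2 := lab_third K l0 l1
  have lab : ∀ k, Lab D x (e3 e0 e1 k) := by
    intro k
    match k with
    | 0 => exact l0
    | 1 => exact l1
    | 2 => exact l2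
  have hF0 : ∀ p, Act (F3 x e0 e1 p) e0 p.2.2 := by
    intro p
    have h3 := ((l0.act_xp p.1).mul (l0.act_self p.2.1)).mul (a10 p.2.2)
    rwa [zero_add, zero_add] at h3
  have hF1 : ∀ p, Act (F3 x e0 e1 p) e1 p.2.1 := by
    intro p
    have h3 := ((l1.act_xp p.1).mul (a01 p.2.1)).mul (l1.act_self p.2.2)
    rwa [zero_add, add_zero] at h3
  have hFN : ∀ p, F3 x e0 e1 p ∈ N D x := fun p =>
    mul_mem (mul_mem (xp_mem_N _) (l0.uu_mem_N _)) (l1.uu_mem_N _)
  have hF2 : ∀ p, Act (F3 x e0 e1 p) (fun γ => cc (e1 0) (e0 γ)) (p.2.1 + p.2.2) := by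
    intro p
    apply act_third K l0 l1 a01 (fun γ hγ => hγ) (hFN p) (hF0 p) (hF1 p)
    intro γ _
    rw [B_add_left, Bool.xor_comm]
  have hlam : ∀ k p, Act (F3 x e0 e1 p) (e3 e0 e1 k) (lam3 k p.2.1 p.2.2) := by
    intro k p
    match k with
    | 0 => exact hF0 p
    | 1 => exact hF1 p
    | 2 => exact hF2 p
  have hdv : ∀ m n, (F3 x e0 e1 m)⁻¹ * F3 x e0 e1 n = F3 x e0 e1 (dv3 m n) := by
    rintro ⟨ε', α', β'⟩ ⟨ε, α, β⟩
    simp only [F3, dv3]
    have i1 : (xp x ε')⁻¹ = xp x ε' := inv_eq_of_mul_eq_one_left (xp_xp K ε')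
    rw [mul_inv_rev, mul_inv_rev, l1.uu_inv K, l0.uu_inv K, i1]
    have c1 : uu x e0 α' * xp x (xor ε ε') = xp x (xor ε ε') * uu x e0 α' :=
      xp_comm' (l0.uu_comm_x _) _
    have c2 : uu x e1 β' * xp x (xor ε ε') = xp x (xor ε ε') * uu x e1 β' :=
      xp_comm' (l1.uu_comm_x _) _
    have c3 := comm_rule K l0 (l1.uu_comm_x β') (a10 β') (α + α')
    calc uu x e1 β' * (uu x e0 α' * xp x ε') * (xp x ε * uu x e0 α * uu x e1 β)
        = uu x e1 β' * (uu x e0 α' * (xp x ε' * xp x ε)) * uu x e0 α * uu x e1 β := by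
          simp only [mul_assoc]
      _ = (uu x e1 β' * xp x (xor ε ε')) * (uu x e0 α' * uu x e0 α) * uu x e1 β := by
          rw [xp_mul K, Bool.xor_comm ε' ε, c1]; simp only [mul_assoc]
      _ = xp x (xor ε ε') * (uu x e1 β' * uu x e0 (α + α')) * uu x e1 β := by
          rw [c2, ← l0.uu_add K, add_comm α' α]; simp only [mul_assoc]
      _ = (xp x (xor ε ε') * xp x (B β' (α + α'))) * uu x e0 (α + α') *
            (uu x e1 β' * uu x e1 β) := by
          rw [c3]; simp only [mul_assoc]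
      _ = xp x (xor (xor ε ε') (B (α + α') β')) * uu x e0 (α + α') * uu x e1 (β + β') := by
          rw [xp_mul K, ← l1.uu_add K, add_comm β' β, B_symm β']
  have hFone : ∀ p, F3 x e0 e1 p = 1 ↔ p = (false, 0, 0) := by
    intro p
    constructor
    · intro hp
      have k0 := hF0 p
      have k1 := hF1 p
      rw [hp] at k0 k1
      have m0 := Act.unique l0.inj k0 (Act.one _)
      have m1 := Act.unique l1.inj k1 (Act.one _)
      obtain ⟨ε, α, β⟩ := p
      simp only at m0 m1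
      subst m0 m1
      simp only [F3, uu_zero, mul_one] at hp
      have : ε = false := xp_inj K (x := x) (by rw [hp]; rfl)
      rw [this]
    · rintro rfl
      simp only [F3, uu_zero, mul_one]; rfl
  have hFinj : Function.Injective (F3 x e0 e1) := by
    intro p q hpq
    have h5 : F3 x e0 e1 (dv3 q p) = 1 := by rw [← hdv, hpq, inv_mul_cancel]
    rw [hFone] at h5
    obtain ⟨ε, α, β⟩ := p
    obtain ⟨ε', α', β'⟩ := q
    revert h5
    clear hpq
    simp only [dv3, Prod.mk.injEq]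
    rintro ⟨m1, m2, m3⟩
    have n2 : α = α' := by
      by_contra hc; exact f4_add_ne _ _ hc m2
    have n3 : β = β' := by
      by_contra hc; exact f4_add_ne _ _ hc m3
    subst n2 n3
    refine ⟨?_, rfl, rfl⟩
    rw [f4_add_self, B_zero_left] at m1
    revert m1; cases ε <;> cases ε' <;> decide
  have huc : ∀ k γ, γ ≠ 0 → F3 x e0 e1 (uc3 k γ) = uu x (e3 e0 e1 k) γ := by
    intro k γ hγ
    match k with
    | 0 => simp only [F3, uc3, e3, uu_zero, mul_one]; simp [xp]
    | 1 => simp only [F3, uc3, e3, uu_zero, mul_one]; simp [xp]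
    | 2 =>
      show xp x true * uu x e0 γ * uu x e1 γ = uu x (fun γ => cc (e1 0) (e0 γ)) γ
      rw [uu_third K l1 a01 hγ hγ, xp_true]
      have c3 := comm_rule K l0 (l1.uu_comm_x γ) (a10 γ) γ
      rw [B_self, xp_false, one_mul] at c3
      rw [mul_assoc, mul_assoc, c3]
  have hcs : ∀ c ∈ T D x y, ∃ k, e3 e0 e1 k 0 = c := by
    intro c hc
    rcases hT c hc with rfl | rfl | rfl
    · exact ⟨0, rfl⟩
    · exact ⟨1, rfl⟩
    · exact ⟨2, rfl⟩
  refine
    { e_V := fun k γ => (lab k).mem γ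
      e_T := ?_
      e_inj := fun k => (lab k).inj
      e_surj := fun k => (lab k).surj
      c_surj := hcs
      c_inj := ?_
      F_mem := hFN
      F_surj := ?_
      F_inj := hFinj
      F_dv := hdv
      F_lam := ?_
      F_one := ?_
      S_iff := ?_ }
  · intro k
    match k with
    | 0 => exact h0
    | 1 => exact h1
    | 2 => exact K.cc_mem_T h1 h0
  · -- distinctness of the classes
    intro k l hkl
    by_contra hne'
    have h6 : Act (F3 x e0 e1 (uc3 k 1)) (e3 e0 e1 k) 0 := by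
      rw [huc k 1 (by decide)]
      exact (lab k).act_self 1
    have h7 := hlam l (uc3 k 1)
    have h8 := h6 0
    have h9 := h7 0
    rw [zero_add, hkl] at h8
    have h10 := (lab l).inj (h9.symm.trans h8)
    revert h10 hne'
    clear h6 h7 h8 h9 hkl
    revert k l
    decide
  · apply F_surj K (F3 x e0 e1) dv3 hdv lab ⟨(true, 0, 0), ?_⟩ ?_ hcs
    · simp only [F3, uu_zero, mul_one]; rfl
    · intro k γ
      by_cases hγ : γ = 0
      · refine ⟨(false, 0, 0), ?_⟩
        rw [hγ, uu_zero, (hFone _).2 rfl]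
      · exact ⟨uc3 k γ, huc k γ hγ⟩
  · intro k p
    have := hlam k p 0
    rwa [zero_add] at this
  · intro p hp
    have m0 := hp 0
    have m1 := hp 1
    obtain ⟨ε, α, β⟩ := p
    change β = 0 at m0
    change α = 0 at m1
    subst m0 m1
    simp only [F3, uu_zero, mul_one]
    cases ε
    · left; rfl
    · right; rfl
  · intro p
    rw [S3_iff, hFone]
    apply or_congr Iff.rfl
    constructor
    · rintro ⟨k, γ, hγ, rfl⟩
      exact ⟨k, γ, hγ, by rw [huc k γ hγ, uu_ne hγ]⟩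
    · rintro ⟨k, γ, hγ, hp⟩
      refine ⟨k, γ, hγ, hFinj ?_⟩
      rw [hp, huc k γ hγ, uu_ne hγ]

/-- **three classes of size four** -/
theorem three (h4 : ∀ a, In D x a → (V D x a).ncard = 4) {c0 c1 : G} (h0 : c0 ∈ T D x y)
    (h1 : c1 ∈ T D x y) (hne : c0 ≠ c1) (hT : ∀ c ∈ T D x y, c = c0 ∨ c = c1 ∨ c = cc c1 c0) :
    Nonempty (G ≃* Cfsg.PSU 4 F4 2) := by
  obtain ⟨e0, e1, rfl, rfl, l0, l1, a01, a10⟩ := base_two K h4 h0 h1 hne
  have A := data K l0 l1 a01 a10 h0 h1 hne hT
  let Psi : L3 → G := fun l => match l with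
    | .x => x
    | .e k γ => e3 e0 e1 k γ
    | .a ε α β => cc (F3 x e0 e1 (ε, α, β)) y
  have hxe : ∀ k γ, x ≠ e3 e0 e1 k γ := fun k γ h5 => (A.In_e k γ).2.1 h5.symm
  have hxa : ∀ p, x ≠ cc (F3 x e0 e1 p) y := fun p h5 =>
    A.not_comm_x K p (by rw [← h5])
  have hea : ∀ k γ p, e3 e0 e1 k γ ≠ cc (F3 x e0 e1 p) y := fun k γ p h5 =>
    A.not_comm_x K p (by rw [← h5]; exact A.comm_x_e K k γ)
  refine FSolEnd3.psu_four K.h (center_eq_bot K.hsol) Psi ?_ ?_ ?_
  · intro l m hlm
    cases l with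
    | x => cases m with
      | x => rfl
      | e k γ => exact absurd hlm (hxe k γ)
      | a ε α β => exact absurd hlm (hxa _)
    | e k γ => cases m with
      | x => exact absurd hlm.symm (hxe k γ)
      | e k' γ' =>
        have hkk : k = k' := (A.comm_e_e K k k' γ γ').1 (by
          change e3 e0 e1 k γ = e3 e0 e1 k' γ' at hlm
          rw [hlm])
        subst hkk
        rw [A.e_inj k hlm]
      | a ε α β => exact absurd hlm (hea _ _ _)
    | a ε α β => cases m with
      | x => exact absurd hlm.symm (hxa _)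
      | e k γ => exact absurd hlm.symm (hea _ _ _)
      | a ε' α' β' =>
        have := A.a_inj K hlm
        simp only [Prod.mk.injEq] at this
        obtain ⟨rfl, rfl, rfl⟩ := this
        rfl
  · ext d
    constructor
    · rintro ⟨l, rfl⟩
      cases l with
      | x => exact K.hx
      | e k γ => exact (A.In_e k γ).1
      | a ε α β => exact ccm K.h _ K.hy
    · intro hd
      rcases A.cover K hd with rfl | ⟨k, γ, rfl⟩ | ⟨⟨ε, α, β⟩, rfl⟩
      · exact ⟨.x, rfl⟩
      · exact ⟨.e k γ, rfl⟩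
      · exact ⟨.a ε α β, rfl⟩
  · intro l m
    cases l with
    | x => cases m with
      | x => exact iff_of_true (Commute.refl x) rfl
      | e k γ => exact iff_of_true (A.comm_x_e K k γ) rfl
      | a ε α β => exact iff_of_false (A.not_comm_x K _) Bool.false_ne_true
    | e k γ => cases m with
      | x => exact iff_of_true (A.comm_x_e K k γ).symm rfl
      | e k' γ' =>
        show Commute (e3 e0 e1 k γ) (e3 e0 e1 k' γ') ↔ (k == k') = true
        rw [A.comm_e_e K, beq_iff_eq]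
      | a ε α β =>
        show Commute (e3 e0 e1 k γ) (cc (F3 x e0 e1 (ε, α, β)) y) ↔ (γ == lam3 k α β) = true
        rw [A.comm_e_a K, beq_iff_eq]
    | a ε α β => cases m with
      | x => exact iff_of_false (fun h5 => A.not_comm_x K _ h5.symm) Bool.false_ne_true
      | e k γ =>
        show Commute (cc (F3 x e0 e1 (ε, α, β)) y) (e3 e0 e1 k γ) ↔ (γ == lam3 k α β) = true
        rw [Commute.symm_iff, A.comm_e_a K, beq_iff_eq]
      | a ε' α' β' =>
        show Commute (cc (F3 x e0 e1 (ε, α, β)) y) (cc (F3 x e0 e1 (ε', α', β')) y) ↔ _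
        rw [A.comm_a_a K]
        rfl

end Main

end Cfsg.Agent.SporadicStructure.FSolThree
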