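import Mathlib
import Cfsg.Agent.SporadicStructure.FSolThree

set_option autoImplicit false

/-!
# 3-transposition groups of rank one: more than three classes of size four, base (for S1614)
-/

namespace Cfsg.Agent.SporadicStructure.FSolBase9

open Cfsg Cfsg.Agent.SporadicStructure.FischerSpace Cfsg.Agent.SporadicStructure.FischerPrimitive
open Cfsg.Agent.SporadicStructure.FischerRank3 Cfsg.Agent.SporadicStructure.FSolBase
open Cfsg.Agent.SporadicStructure.FSolLines Cfsg.Agent.SporadicStructure.FSolPlane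
open Cfsg.Agent.SporadicStructure.FSolTrans Cfsg.Agent.SporadicStructure.FSolReduce
open Cfsg.Agent.SporadicStructure.FSolCtx Cfsg.Agent.SporadicStructure.FSolModel
open Cfsg.Agent.SporadicStructure.FSolLab Cfsg.Agent.SporadicStructure.FSolForm
open Cfsg.Agent.SporadicStructure.FSolFinish Cfsg.Agent.SporadicStructure.FSolThree
open Cfsg.Agent.Lib.FieldFour

variable {G : Type*} [Group G] {D : Set G}

/-- the generator `w` and its square `v` -/
abbrev w : F4 := F4.w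
abbrev v : F4 := F4.v

/-- three labelled classes in general position -/
structure Base9 (D : Set G) (x y : G) (e0 e1 e2 : F4 → G) : Prop where
  l0 : Lab D x e0
  l1 : Lab D x e1
  l2 : Lab D x e2
  t0 : e0 0 ∈ T D x y
  t1 : e1 0 ∈ T D x y
  t2 : e2 0 ∈ T D x y
  a01 : ∀ α, Act (uu x e0 α) e1 α
  a02 : ∀ α, Act (uu x e0 α) e2 α
  a10 : ∀ α, Act (uu x e1 α) e0 α
  a20 : ∀ α, Act (uu x e2 α) e0 α
  a12 : ∀ α, Act (uu x e1 α) e2 (w * α)
  a21 : ∀ α, Act (uu x e2 α) e1 (v * α)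

theorem two_cases : ∀ p q : F4, p ≠ 0 → p + 1 ≠ 0 → q ≠ 0 → q + w ≠ 0 → p + q ≠ 0 →
    (p + q) + v ≠ 0 → (p = w ∧ q = v) ∨ (p = v ∧ q = 1) := by
  decide

theorem v_eq : (v : F4) = 1 + w := by decide

/-- an additive map is determined by its values at `1` and `w` -/
theorem lin_eq {θ : F4 → F4} (hadd : ∀ α β, θ (α + β) = θ α + θ β) {c : F4}
    (h1 : θ 1 = c) (hw : θ w = c * w) : ∀ γ, θ γ = c * γ := by
  have h0 : θ 0 = 0 := by
    have := hadd 0 0
    rw [add_zero] at this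
    rw [this, f4_add_self]
  have hv : θ v = c * v := by
    rw [v_eq, hadd, h1, hw]; ring
  intro γ
  match γ with
  | .o => show θ 0 = c * 0; rw [h0, mul_zero]
  | .i => show θ 1 = c * 1; rw [h1, mul_one]
  | .w => exact hw
  | .v => exact hv

theorem adj_w : ∀ a b : F4, (∀ c, B a c = B (w * c) b) → a = v * b := by decide

theorem adj_v : ∀ a b : F4, (∀ c, B a c = B (v * c) b) → a = w * b := by decide

section Main

variable {x y : G} (K : Ctx D x y)

include K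

/-- add a class to a given one -/
theorem base_add (h4 : ∀ a, In D x a → (V D x a).ncard = 4) {e0 : F4 → G} (l0 : Lab D x e0)
    (h0 : e0 0 ∈ T D x y) {c1 : G}
    (h1 : c1 ∈ T D x y) (hne : e0 0 ≠ c1) : ∃ e1 : F4 → G, e1 0 = c1 ∧
      Lab D x e1 ∧ (∀ α, Act (uu x e0 α) e1 α) ∧ (∀ α, Act (uu x e1 α) e0 α) := by
  have := K.fin
  have hI1 := K.mem_T_In h1
  obtain ⟨f, hf, lf⟩ := exists_lab hI1 (h4 _ hI1)
  have hnc : ¬ Commute (e0 0) (f 0) := by rw [hf]; exact K.not_commute_T h0 h1 hne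
  obtain ⟨θ, hθ, hadd, hne'⟩ := exists_theta K l0 lf hnc
  obtain ⟨l1, h10, hact⟩ := relabel lf hθ hadd hne'
  refine ⟨fun γ => f (θ γ), h10.trans hf, l1, hact, ?_⟩
  intro β
  obtain ⟨δ, hδ⟩ := l0.act_N K (l1.uu_mem_N β)
  have h2 : δ = β := B_swap δ β (fun α => swap_act K l0 l1 hact hδ α)
  rw [← h2]
  rw [h2] at hδ ⊢
  exact hδ

theorem base_three (h4 : ∀ a, In D x a → (V D x a).ncard = 4) {c0 c1 c2 : G} (h0 : c0 ∈ T D x y)
    (h1 : c1 ∈ T D x y) (h2 : c2 ∈ T D x y) (h01 : c0 ≠ c1) (h02 : c0 ≠ c2) (h12 : c1 ≠ c2)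
    (h3 : c2 ≠ cc c1 c0) : ∃ e0 e1 e2 : F4 → G, Base9 D x y e0 e1 e2 ∧ e0 0 = c0 := by
  obtain ⟨e0, e1, rfl, rfl, l0, l1, a01, a10⟩ := base_two K h4 h0 h1 h01
  obtain ⟨e2, rfl, l2, a02, a20⟩ := base_add K h4 l0 h0 h2 h02
  have hnc12 : ¬ Commute (e1 0) (e2 0) := K.not_commute_T h1 h2 h12
  obtain ⟨θ, hθ, hadd, hne⟩ := exists_theta K l1 l2 hnc12
  -- the third class
  have l3 := lab_third K l0 l1
  have hc3 : cc (e1 0) (e0 0) ∈ T D x y := K.cc_mem_T h1 h0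
  have hnc32 : ¬ Commute (cc (e1 0) (e0 0)) (e2 0) := K.not_commute_T hc3 h2 h3.symm
  obtain ⟨θ', hθ', hadd', hne'⟩ := exists_theta K l3 l2 hnc32
  have hθ3 : ∀ γ, γ ≠ 0 → θ γ + γ ≠ 0 := by
    intro γ hγ
    have e1' : Act (uu x (fun γ => cc (e1 0) (e0 γ)) γ) e2 (0 + θ γ + γ) := by
      rw [uu_third K l1 a01 hγ hγ]
      exact (l2.act_x.mul (hθ γ)).mul (a02 γ)
    rw [zero_add] at e1'
    rw [← Act.unique l2.inj (hθ' γ) e1']
    exact hne' γ hγ
  have hv : θ v = θ 1 + θ w := by rw [v_eq, hadd]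
  have hcase := two_cases (θ 1) (θ w) (hne 1 (by decide)) (hθ3 1 (by decide)) (hne w (by decide))
    (hθ3 w (by decide)) (by rw [← hv]; exact hne v (by decide))
    (by rw [← hv]; exact hθ3 v (by decide))
  rcases hcase with ⟨hp, hq⟩ | ⟨hp, hq⟩
  · have hw : ∀ γ, θ γ = w * γ := lin_eq hadd hp (by rw [hq]; decide)
    have a12 : ∀ α, Act (uu x e1 α) e2 (w * α) := by
      intro α; rw [← hw]; exact hθ α
    have a21 : ∀ α, Act (uu x e2 α) e1 (v * α) := by
      intro β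
      obtain ⟨δ, hδ⟩ := l1.act_N K (l2.uu_mem_N β)
      have h5 : δ = v * β := adj_w δ β (fun α => swap_act K l1 l2 a12 hδ α)
      rw [← h5]; exact hδ
    exact ⟨e0, e1, e2, ⟨l0, l1, l2, h0, h1, h2, a01, a02, a10, a20, a12, a21⟩, rfl⟩
  · have hw : ∀ γ, θ γ = v * γ := lin_eq hadd hp (by rw [hq]; decide)
    have a12 : ∀ α, Act (uu x e1 α) e2 (v * α) := by
      intro α; rw [← hw]; exact hθ α
    have a21 : ∀ α, Act (uu x e2 α) e1 (w * α) := by
      intro β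
      obtain ⟨δ, hδ⟩ := l1.act_N K (l2.uu_mem_N β)
      have h5 : δ = w * β := adj_v δ β (fun α => swap_act K l1 l2 a12 hδ α)
      rw [← h5]; exact hδ
    exact ⟨e0, e2, e1, ⟨l0, l2, l1, h0, h2, h1, a02, a01, a20, a10, a21, a12⟩, rfl⟩

end Main

end Cfsg.Agent.SporadicStructure.FSolBase9
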