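import Cfsg.Agent.SporadicStructure.FSolHyp
import Cfsg.Agent.SporadicStructure.FSolModel
import Cfsg.Agent.Fischer920.PsuEnd

set_option autoImplicit false

/-!
# A 3-transposition group with the commuting graph `adj9` is `PSU(5,2)` (for S1614)
-/

namespace Cfsg.Agent.SporadicStructure.FSolEnd9

open Cfsg Cfsg.Agent.SporadicStructure.FischerSpace Cfsg.Agent.SporadicStructure.FSolModel
open Cfsg.Agent.SporadicStructure.FSolHyp
open Cfsg.Agent.Lib.FieldFour Cfsg.Agent.Fischer920.PsuEnd

/-- `0` or `1` -/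
def bit (ε : Bool) : F4 := if ε then 1 else 0

theorem bit_xor (a b : Bool) : bit (xor a b) = bit a + bit b := by revert a b; decide

theorem bit_B (a b : F4) : bit (B a b) = a * fr b + b * fr a := by revert a b; decide

theorem fr_add (a b : F4) : fr (a + b) = fr a + fr b := by revert a b; decide

theorem fr_mul (a b : F4) : fr (a * b) = fr a * fr b := by revert a b; decide

theorem fr_fr (a : F4) : fr (fr a) = a := by revert a; decide

theorem fr_bit (a : Bool) : fr (bit a) = bit a := by revert a; decide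

theorem fr_eq (a : F4) : fr a = a ^ 2 := by revert a; decide

theorem add_self (a : F4) : a + a = 0 := by revert a; decide

theorem eq_iff_add (a b : F4) : a = b ↔ a + b = 0 := by revert a b; decide

/-- the Hermitian form on `F4³` -/
def H9 (a b d a' b' d' : F4) : F4 :=
  a * (fr b' + fr d') + b * (fr a' + F4.w * fr d') + d * (fr a' + F4.v * fr b')

/-- the model space -/
abbrev V9 : Type := F4 × F4 × F4 × F4 × F4

/-- the Hermitian form on the model space -/
def h9 (u v : V9) : F4 :=
  u.1 * fr v.2.1 + u.2.1 * fr v.1 +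
    H9 u.2.2.1 u.2.2.2.1 u.2.2.2.2 v.2.2.1 v.2.2.2.1 v.2.2.2.2

/-- the quadratic correction -/
def phi9 (a b d : F4) : F4 := d * fr b * F4.v + b * fr a + d * fr a

/-- the vector of a label -/
def vec9 : L9 → V9
  | .x => (1, 0, 0, 0, 0)
  | .e k g => (fr g, 0, (cf k).1, (cf k).2.1, (cf k).2.2)
  | .a ε al be de => (bit ε + phi9 al be de, 1, al, be, de)

theorem S9_iff (ε : Bool) (a b d : F4) : S9 ε a b d = true ↔ bit ε + phi9 a b d = 0 := by
  revert ε a b d
  decide +kernel

theorem H9_cf (k l : Fin 9) : (k == l) = true ↔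
    H9 (cf k).1 (cf k).2.1 (cf k).2.2 (cf l).1 (cf l).2.1 (cf l).2.2 = 0 := by
  revert k l
  decide +kernel

theorem lam_iff (a b d a' b' d' g : F4) :
    g = F4.add (F4.mul (fr a) (F4.add b' d'))
      (F4.add (F4.mul (fr b) (F4.add a' (F4.mul .v d')))
        (F4.mul (fr d) (F4.add a' (F4.mul .w b')))) ↔ fr g + H9 a b d a' b' d' = 0 := by
  have e1 : F4.add (F4.mul (fr a) (F4.add b' d'))
      (F4.add (F4.mul (fr b) (F4.add a' (F4.mul .v d')))
        (F4.mul (fr d) (F4.add a' (F4.mul .w b')))) = fr (H9 a b d a' b' d') := by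
    show fr a * (b' + d') + (fr b * (a' + F4.v * d') + fr d * (a' + F4.w * b')) = _
    unfold H9
    simp only [fr_add, fr_mul, fr_fr]
    show _ = fr a * (b' + d') + fr b * (a' + F4.v * d') + fr d * (a' + F4.w * b')
    ring
  rw [e1]
  constructor
  · intro h
    rw [h, fr_fr, add_self]
  · intro h
    rw [← eq_iff_add] at h
    rw [← h, fr_fr]

theorem key_identity (ε ε' : Bool) (a b d a' b' d' : F4) :
    bit (xor (xor ε ε') (xor (B (a + a') b') (xor (B (a + a') d')
          (B (F4.w * (b + b')) d')))) + phi9 (a + a') (b + b') (d + d') =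
    (bit ε + phi9 a b d) * 1 + 1 * fr (bit ε' + phi9 a' b' d') + H9 a b d a' b' d' := by
  simp only [bit_xor, bit_B, fr_add, fr_mul, fr_fr, fr_bit, phi9, H9]
  have hw : fr F4.w = F4.v := rfl
  have hv : fr F4.v = F4.w := rfl
  rw [hw, hv]
  rw [eq_iff_add]
  have h2 : (2 : F4) = 0 := rfl
  ring_nf
  simp only [h2, mul_zero, add_zero]

theorem H9_swap (a b d a' b' d' : F4) : H9 a' b' d' a b d = fr (H9 a b d a' b' d') := by
  unfold H9
  simp only [fr_add, fr_mul, fr_fr]
  show _ = fr a * (b' + d') + fr b * (a' + F4.v * d') + fr d * (a' + F4.w * b')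
  ring

theorem h9_swap (u v : V9) : h9 v u = fr (h9 u v) := by
  unfold h9
  rw [H9_swap]
  simp only [fr_add, fr_mul, fr_fr]
  ring

theorem h9_eq_zero_swap {u v : V9} : h9 v u = 0 ↔ h9 u v = 0 := by
  rw [h9_swap]
  generalize h9 u v = x
  revert x
  decide

theorem fr_zero : fr (0 : F4) = 0 := rfl

theorem fr_one : fr (1 : F4) = 1 := rfl

theorem adj9_iff (l m : L9) : adj9 l m = true ↔ h9 (vec9 l) (vec9 m) = 0 := by
  have hea : ∀ (k : Fin 9) (g : F4) (ε : Bool) (a b d : F4),
      (g == lam9 k a b d) = true ↔ h9 (vec9 (.e k g)) (vec9 (.a ε a b d)) = 0 := by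
    intro k g ε a b d
    rw [beq_iff_eq]
    unfold lam9
    rw [lam_iff]
    simp only [h9, vec9, fr_one, mul_one, zero_mul, add_zero]
  cases l with
  | x =>
    cases m with
    | x => exact iff_of_true rfl (by decide)
    | e k g => 
      apply iff_of_true rfl
      simp only [h9, vec9, H9, fr_zero, mul_zero, zero_mul, add_zero]
    | a ε a b d =>
      apply iff_of_false (by simp [adj9])
      simp only [h9, vec9, H9, fr_one, mul_one, zero_mul, add_zero]
      exact one_ne_zero
  | e k g =>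
    cases m with
    | x =>
      apply iff_of_true rfl
      simp only [h9, vec9, H9, fr_zero, mul_zero, zero_mul, add_zero]
    | e l g' =>
      show (k == l) = true ↔ _
      rw [H9_cf]
      simp only [h9, vec9, fr_zero, mul_zero, zero_mul, add_zero, zero_add]
    | a ε a b d => exact hea k g ε a b d
  | a ε a b d =>
    cases m with
    | x =>
      apply iff_of_false (by simp [adj9])
      simp only [h9, vec9, H9, fr_zero, fr_one, mul_one, mul_zero, add_zero, zero_add]
      exact one_ne_zero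
    | e k g => 
      rw [h9_eq_zero_swap]
      exact hea k g ε a b d
    | a ε' a' b' d' =>
      show S9 _ _ _ _ = true ↔ _
      rw [S9_iff]
      have h := key_identity ε ε' a b d a' b' d'
      simp only [h9, vec9, fr_one, ← h]
      exact Iff.rfl

/-! ### the model space -/

theorem hermSp9 : HermSp F4 V9 h9 := by
  refine ⟨?_, ?_, ?_, ?_⟩
  · intro u u' v
    simp only [h9, H9, Prod.fst_add, Prod.snd_add]
    ring
  · intro c u v
    simp only [h9, H9, Prod.smul_fst, Prod.smul_snd, smul_eq_mul]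
    ring
  · intro u v
    rw [h9_swap, fr_eq]
  · rintro ⟨u0, u1, a, b, d⟩ hu
    have h1 := hu (1, 0, 0, 0, 0)
    have h2 := hu (0, 1, 0, 0, 0)
    have h3 := hu (0, 0, 1, 0, 0)
    have h4 := hu (0, 0, 0, 1, 0)
    have h5 := hu (0, 0, 0, 0, 1)
    simp only [h9, H9, fr_zero, fr_one, mul_one, mul_zero, add_zero, zero_add] at h1 h2 h3 h4 h5
    subst h1
    subst h2
    have : a = 0 ∧ b = 0 ∧ d = 0 := by
      clear hu
      revert a b d
      decide
    rw [this.1, this.2.1, this.2.2]
    rfl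

theorem finrank_V9 : Module.finrank F4 V9 = 5 := by
  simp [V9, Module.finrank_prod]

theorem vec9_ne_zero (l : L9) : vec9 l ≠ 0 := by
  intro h
  cases l with
  | x => exact one_ne_zero (congrArg Prod.fst h)
  | e k g =>
    have h1 : ∀ k : Fin 9, ¬ ((cf k).1 = 0 ∧ (cf k).2.1 = 0 ∧ (cf k).2.2 = 0) := by decide
    exact h1 k ⟨congrArg (fun x => x.2.2.1) h, congrArg (fun x => x.2.2.2.1) h,
      congrArg (fun x => x.2.2.2.2) h⟩
  | a ε a b d => exact one_ne_zero (congrArg (fun x => x.2.1) h)

theorem adj9_refl (l : L9) : adj9 l l = true := by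
  cases l with
  | x => rfl
  | e k g => show (k == k) = true; simp
  | a ε a b d =>
    rw [adj9_iff]
    revert ε a b d
    decide

theorem cf_ne (c : F4) (k : Fin 9) : c ≠ 0 →
    ¬ (0 = c * (cf k).1 ∧ 0 = c * (cf k).2.1 ∧ 0 = c * (cf k).2.2) := by
  revert c k
  decide +kernel

theorem cf_inj (c : F4) (k l : Fin 9) (h1 : (cf k).1 = c * (cf l).1)
    (h2 : (cf k).2.1 = c * (cf l).2.1) (h3 : (cf k).2.2 = c * (cf l).2.2) : k = l ∧ c = 1 := by
  revert c k l
  decide +kernel

theorem fr_inj {a b : F4} (h : fr a = fr b) : a = b := by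
  rw [← fr_fr a, h, fr_fr]

theorem bit_inj {a b : Bool} (h : bit a = bit b) : a = b := by
  revert a b
  decide

theorem vec9_inj (l m : L9) (c : F4) (h : vec9 l = c • vec9 m) : l = m := by
  have hc : c ≠ 0 := by
    rintro rfl
    rw [zero_smul] at h
    exact vec9_ne_zero l h
  cases l with
  | x =>
    cases m with
    | x => rfl
    | e k g =>
      exfalso
      exact cf_ne c k hc ⟨congrArg (fun x : V9 => x.2.2.1) h,
        congrArg (fun x : V9 => x.2.2.2.1) h, congrArg (fun x : V9 => x.2.2.2.2) h⟩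
    | a ε a b d =>
      exfalso
      have h1 : (0 : F4) = c * 1 := congrArg (fun x : V9 => x.2.1) h
      rw [mul_one] at h1
      exact hc h1.symm
  | e k g =>
    cases m with
    | x =>
      exfalso
      have h1 : (cf k).1 = c * 0 := congrArg (fun x : V9 => x.2.2.1) h
      have h2 : (cf k).2.1 = c * 0 := congrArg (fun x : V9 => x.2.2.2.1) h
      have h3 : (cf k).2.2 = c * 0 := congrArg (fun x : V9 => x.2.2.2.2) h
      rw [mul_zero] at h1 h2 h3
      exact cf_ne 1 k one_ne_zero ⟨by rw [h1, mul_zero], by rw [h2, mul_zero],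
        by rw [h3, mul_zero]⟩
    | e l g' =>
      have h1 : (cf k).1 = c * (cf l).1 := congrArg (fun x : V9 => x.2.2.1) h
      have h2 : (cf k).2.1 = c * (cf l).2.1 := congrArg (fun x : V9 => x.2.2.2.1) h
      have h3 : (cf k).2.2 = c * (cf l).2.2 := congrArg (fun x : V9 => x.2.2.2.2) h
      obtain ⟨rfl, rfl⟩ := cf_inj c k l h1 h2 h3
      have h4 : fr g = 1 * fr g' := congrArg (fun x : V9 => x.1) h
      rw [one_mul] at h4
      rw [fr_inj h4]
    | a ε a b d =>
      exfalso
      have h1 : (0 : F4) = c * 1 := congrArg (fun x : V9 => x.2.1) h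
      rw [mul_one] at h1
      exact hc h1.symm
  | a ε a b d =>
    cases m with
    | x =>
      exfalso
      have h1 : (1 : F4) = c * 0 := congrArg (fun x : V9 => x.2.1) h
      rw [mul_zero] at h1
      exact one_ne_zero h1
    | e k g =>
      exfalso
      have h1 : (1 : F4) = c * 0 := congrArg (fun x : V9 => x.2.1) h
      rw [mul_zero] at h1
      exact one_ne_zero h1
    | a ε' a' b' d' =>
      have h0 : (1 : F4) = c * 1 := congrArg (fun x : V9 => x.2.1) h
      rw [mul_one] at h0
      subst h0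
      rw [one_smul] at h
      have h1 : a = a' := congrArg (fun x : V9 => x.2.2.1) h
      have h2 : b = b' := congrArg (fun x : V9 => x.2.2.2.1) h
      have h3 : d = d' := congrArg (fun x : V9 => x.2.2.2.2) h
      subst h1
      subst h2
      subst h3
      have h4 : bit ε + phi9 a b d = bit ε' + phi9 a b d := congrArg (fun x : V9 => x.1) h
      rw [bit_inj (add_right_cancel h4)]

theorem H9_self (a b d : F4) : H9 a b d a b d = phi9 a b d + fr (phi9 a b d) := by
  revert a b d
  decide

theorem exists_cf (a b d : F4) (h : H9 a b d a b d = 0) (hne : ¬ (a = 0 ∧ b = 0 ∧ d = 0)) :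
    ∃ (c : F4) (k : Fin 9), a = c * (cf k).1 ∧ b = c * (cf k).2.1 ∧ d = c * (cf k).2.2 := by
  revert a b d
  decide +kernel

theorem fixed_iff (x : F4) (h : x + fr x = 0) : ∃ ε : Bool, x = bit ε := by
  revert x
  decide

theorem vec9_surj (v : V9) (hv : v ≠ 0) (h : h9 v v = 0) : ∃ (l : L9) (c : F4), v = c • vec9 l := by
  obtain ⟨u0, u1, a, b, d⟩ := v
  by_cases hu : u1 = 0
  · subst hu
    have h1 : H9 a b d a b d = 0 := by
      simp only [h9, fr_zero, mul_zero, zero_mul, zero_add] at h
      exact h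
    by_cases hm : a = 0 ∧ b = 0 ∧ d = 0
    · obtain ⟨rfl, rfl, rfl⟩ := hm
      refine ⟨.x, u0, ?_⟩
      simp [vec9]
    · obtain ⟨c, k, rfl, rfl, rfl⟩ := exists_cf a b d h1 hm
      have hc : c ≠ 0 := by
        rintro rfl
        exact hm ⟨zero_mul _, zero_mul _, zero_mul _⟩
      refine ⟨.e k (fr (c⁻¹ * u0)), c, ?_⟩
      simp only [vec9, fr_fr, Prod.smul_mk, smul_eq_mul, mul_zero, mul_inv_cancel_left₀ hc]
  · have h2 : (u1⁻¹ * u0) + fr (u1⁻¹ * u0) + H9 (u1⁻¹ * a) (u1⁻¹ * b) (u1⁻¹ * d)
        (u1⁻¹ * a) (u1⁻¹ * b) (u1⁻¹ * d) = 0 := by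
      have h3 := hermSp9.smul_left (u1⁻¹) (u0, u1, a, b, d) (u1⁻¹ • (u0, u1, a, b, d))
      have h4 : h9 (u0, u1, a, b, d) (u1⁻¹ • (u0, u1, a, b, d)) = 0 := by
        rw [h9_swap, hermSp9.smul_left, h, mul_zero, fr_zero]
      rw [h4, mul_zero] at h3
      simp only [h9, Prod.smul_mk, smul_eq_mul, inv_mul_cancel₀ hu, fr_one, one_mul, mul_one] at h3
      exact h3
    rw [H9_self] at h2
    obtain ⟨ε, hε⟩ := fixed_iff (u1⁻¹ * u0 + phi9 (u1⁻¹ * a) (u1⁻¹ * b) (u1⁻¹ * d)) (by
      rw [fr_add, ← h2]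
      ring)
    refine ⟨.a ε (u1⁻¹ * a) (u1⁻¹ * b) (u1⁻¹ * d), u1, ?_⟩
    have h4 : bit ε + phi9 (u1⁻¹ * a) (u1⁻¹ * b) (u1⁻¹ * d) = u1⁻¹ * u0 := by
      rw [← hε, add_assoc, add_self, add_zero]
    simp only [vec9, h4, Prod.smul_mk, smul_eq_mul, mul_one, mul_inv_cancel_left₀ hu]

/-! ### hyperbolic lines -/

theorem lam9_inj (a b d a' b' d' : F4) (h : ∀ k, lam9 k a b d = lam9 k a' b' d') :
    a = a' ∧ b = b' ∧ d = d' := by
  have e0 : ∀ a b d, lam9 0 a b d = b + d := by decide
  have e1 : ∀ a b d, lam9 1 a b d = a + F4.v * d := by decide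
  have e2 : ∀ a b d, lam9 2 a b d = a + F4.w * b := by decide
  have h0 := h 0
  have h1 := h 1
  have h2 := h 2
  rw [e0, e0] at h0
  rw [e1, e1] at h1
  rw [e2, e2] at h2
  have hvw : F4.v + F4.w = 1 := rfl
  have h3 : d = d' := by
    linear_combination F4.w * h0 + h1 - h2 - hvw * (d - d')
  subst h3
  exact ⟨add_right_cancel h1, add_right_cancel h0, rfl⟩

theorem hyp9 (m : L9) (hm : adj9 .x m = false) : ∃ t, ∀ n,
    (∀ z, adj9 z .x = true → adj9 z m = true → adj9 z n = true) → n = .x ∨ n = m ∨ n = t := by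
  cases m with
  | x => exact absurd hm (by decide)
  | e k g => exact absurd hm (by simp [adj9])
  | a ε a b d =>
    refine ⟨.a (!ε) a b d, ?_⟩
    intro n hn
    have h1 : ∀ k, adj9 (.e k (lam9 k a b d)) n = true := by
      intro k
      apply hn _ rfl
      show (_ == _) = true
      rw [beq_self_eq_true]
    cases n with
    | x => left; rfl
    | e k g =>
      exfalso
      have h2 := h1 (k + 1)
      have h3 : (k + 1 == k) = true := h2
      revert h3
      clear h2 h1 hn hm
      revert k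
      decide
    | a ε' a' b' d' =>
      have h2 : a = a' ∧ b = b' ∧ d = d' := by
        apply lam9_inj
        intro k
        have h3 : (lam9 k a b d == lam9 k a' b' d') = true := h1 k
        exact beq_iff_eq.1 h3
      obtain ⟨rfl, rfl, rfl⟩ := h2
      right
      cases ε <;> cases ε' <;> simp

/-- **The end of the case with nine classes.** -/
theorem psu_five {G : Type*} [Group G] {D : Set G} (h₁ : FData D)
    (hz : Subgroup.center G = ⊥) (Psi : L9 → G) (hinj : Function.Injective Psi)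
    (hrange : Set.range Psi = D)
    (hadj : ∀ l m, Commute (Psi l) (Psi m) ↔ adj9 l m = true) :
    Nonempty (G ≃* Cfsg.PSU 5 F4 2) := by
  have hyp := hyp_of_labels h₁ Psi hrange adj9 hadj .x hyp9
  have : Nonempty L9 := ⟨.x⟩
  have hinv : ∀ l, Function.invFun Psi (Psi l) = l := Function.leftInverse_invFun hinj
  obtain ⟨e, _⟩ := exists_equiv_psu h₁ hz hyp F4.card hermSp9 finrank_V9 (by norm_num)
    (fun g => vec9 (Function.invFun Psi g))
    (by
      intro a _
      exact vec9_ne_zero _)
    (by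
      intro a _
      exact (adj9_iff _ _).1 (adj9_refl _))
    (by
      intro a ha b hb
      rw [← hrange] at ha hb
      obtain ⟨l, rfl⟩ := ha
      obtain ⟨m, rfl⟩ := hb
      rw [hinv, hinv, hadj, adj9_iff])
    (by
      intro a ha b hb c hc
      rw [← hrange] at ha hb
      obtain ⟨l, rfl⟩ := ha
      obtain ⟨m, rfl⟩ := hb
      rw [hinv, hinv] at hc
      rw [vec9_inj _ _ _ hc])
    (by
      intro v hv h
      obtain ⟨l, c, hc⟩ := vec9_surj v hv h
      refine ⟨Psi l, ?_, c, ?_⟩
      · rw [← hrange]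
        exact ⟨l, rfl⟩
      · rw [hinv]
        exact hc)
  exact ⟨e⟩

end Cfsg.Agent.SporadicStructure.FSolEnd9
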