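import Mathlib
import Cfsg.Agent.SporadicStructure.FSolBase9
import Cfsg.Agent.SporadicStructure.FSolEnd9

set_option autoImplicit false
set_option linter.unusedSectionVars false

/-!
# 3-transposition groups of rank one: more than three classes of size four, `PSU(5,2)` (for S1614)
-/

namespace Cfsg.Agent.SporadicStructure.FSolNine

open Cfsg Cfsg.Agent.SporadicStructure.FischerSpace Cfsg.Agent.SporadicStructure.FischerPrimitive
open Cfsg.Agent.SporadicStructure.FischerRank3 Cfsg.Agent.SporadicStructure.FSolBase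
open Cfsg.Agent.SporadicStructure.FSolLines Cfsg.Agent.SporadicStructure.FSolPlane
open Cfsg.Agent.SporadicStructure.FSolTrans Cfsg.Agent.SporadicStructure.FSolReduce
open Cfsg.Agent.SporadicStructure.FSolCtx Cfsg.Agent.SporadicStructure.FSolModel
open Cfsg.Agent.SporadicStructure.FSolLab Cfsg.Agent.SporadicStructure.FSolForm
open Cfsg.Agent.SporadicStructure.FSolFinish Cfsg.Agent.SporadicStructure.FSolThree
open Cfsg.Agent.SporadicStructure.FSolBase9
open Cfsg.Agent.Lib.FieldFour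

variable {G : Type*} [Group G] {D : Set G}

/-- third class -/
def tc (e f : F4 → G) : F4 → G := fun γ => cc (f 0) (e γ)

/-- the nine labelled classes -/
def e9 (e0 e1 e2 : F4 → G) : Fin 9 → F4 → G
  | 0 => e0
  | 1 => e1
  | 2 => e2
  | 3 => tc e0 e1
  | 4 => tc e0 e2
  | 5 => tc e1 e2
  | 6 => tc (tc e0 e1) e2
  | 7 => tc (tc e0 e2) e1
  | 8 => fun γ => tc (tc e1 e2) e0 (w * γ)

abbrev P9 := Bool × F4 × F4 × F4

/-- parametrisation of `N` -/
def F9 (x : G) (e0 e1 e2 : F4 → G) (p : P9) : G :=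
  xp x p.1 * uu x e0 p.2.1 * uu x e1 p.2.2.1 * uu x e2 p.2.2.2

/-- `m⁻¹ n` -/
def dv9 (m n : P9) : P9 :=
  (xor (xor n.1 m.1) (xor (B (n.2.1 + m.2.1) m.2.2.1) (xor (B (n.2.1 + m.2.1) m.2.2.2)
    (B (w * (n.2.2.1 + m.2.2.1)) m.2.2.2))),
    n.2.1 + m.2.1, n.2.2.1 + m.2.2.1, n.2.2.2 + m.2.2.2)

/-- parameters of `u_k(γ)` -/
def uc9 (k : Fin 9) (γ : F4) : P9 := (sg k, (cf k).1 * γ, (cf k).2.1 * γ, (cf k).2.2 * γ)

abbrev z9 : P9 := (false, 0, 0, 0)

/-- product -/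
def ml9 (m n : P9) : P9 := dv9 (dv9 m z9) n

set_option maxRecDepth 10000 in
theorem S9_iff : ∀ p : P9, S9 p.1 p.2.1 p.2.2.1 p.2.2.2 = true ↔
    p = z9 ∨ ∃ k γ, γ ≠ 0 ∧ p = uc9 k γ := by
  decide +kernel

/-- additive map with given values at `1, w` -/
def lin (p q : F4) : F4 → F4
  | .o => 0
  | .i => p
  | .w => q
  | .v => p + q

set_option maxRecDepth 10000 in
theorem exhaust : ∀ p q r t : F4, ∃ k : Fin 9, ∃ γ : F4, γ ≠ 0 ∧
    (cf k).1 * γ + lin p q ((cf k).2.1 * γ) + lin r t ((cf k).2.2 * γ) = 0 := by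
  decide +kernel

theorem eq_lin {θ : F4 → F4} (hadd : ∀ α β, θ (α + β) = θ α + θ β) : ∀ γ, θ γ = lin (θ 1) (θ w) γ := by
  have h0 : θ 0 = 0 := by
    have := hadd 0 0
    rw [add_zero] at this
    rw [this, f4_add_self]
  have hv : θ v = θ 1 + θ w := by
    rw [v_eq, hadd]
  intro γ
  match γ with
  | .o => exact h0
  | .i => rfl
  | .w => rfl
  | .v => exact hv

theorem lam9_0 : ∀ α β δ : F4, lam9 0 α β δ = β + δ := by decide
theorem lam9_1 : ∀ α β δ : F4, lam9 1 α β δ = α + v * δ := by decide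
theorem lam9_2 : ∀ α β δ : F4, lam9 2 α β δ = α + w * β := by decide
theorem lam9_3 : ∀ α β δ : F4, lam9 3 α β δ = lam9 0 α β δ + lam9 1 α β δ := by decide
theorem lam9_4 : ∀ α β δ : F4, lam9 4 α β δ = lam9 0 α β δ + lam9 2 α β δ := by decide
theorem lam9_5 : ∀ α β δ : F4, lam9 5 α β δ = lam9 1 α β δ + v * lam9 2 α β δ := by decide
theorem lam9_6 : ∀ α β δ : F4, lam9 6 α β δ = lam9 3 α β δ + w * lam9 2 α β δ := by decide
theorem lam9_7 : ∀ α β δ : F4, lam9 7 α β δ = lam9 4 α β δ + v * lam9 1 α β δ := by decide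
theorem lam9_8 : ∀ α β δ : F4, lam9 8 α β δ = v * (lam9 5 α β δ + w * lam9 0 α β δ) := by decide

theorem B_id : ∀ a b γ : F4, B (a + b) γ = xor (B a γ) (B b γ) := by decide
theorem B_w : ∀ a b γ : F4, B (a + v * b) γ = xor (B a γ) (B b (w * γ)) := by decide
theorem B_v : ∀ a b γ : F4, B (a + w * b) γ = xor (B a γ) (B b (v * γ)) := by decide

theorem B_vw : ∀ a b : F4, B (v * a) b = B (w * b) a := by decide

section Main

variable {x y : G} (K : Ctx D x y) {e0 e1 e2 : F4 → G} (b : Base9 D x y e0 e1 e2)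

include K b

theorem hdv (m n : P9) : (F9 x e0 e1 e2 m)⁻¹ * F9 x e0 e1 e2 n = F9 x e0 e1 e2 (dv9 m n) := by
  obtain ⟨ε', α', β', δ'⟩ := m
  obtain ⟨ε, α, β, δ⟩ := n
  have l0 := b.l0
  have l1 := b.l1
  have l2 := b.l2
  simp only [F9, dv9]
  have i1 : (xp x ε')⁻¹ = xp x ε' := inv_eq_of_mul_eq_one_left (xp_xp K ε')
  rw [mul_inv_rev, mul_inv_rev, mul_inv_rev, l2.uu_inv K, l1.uu_inv K, l0.uu_inv K, i1]
  have c0 : ∀ t, uu x e0 α' * xp x t = xp x t * uu x e0 α' := fun t => xp_comm' (l0.uu_comm_x _) t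
  have c1 : ∀ t, uu x e1 β' * xp x t = xp x t * uu x e1 β' := fun t => xp_comm' (l1.uu_comm_x _) t
  have c2 : ∀ t, uu x e2 δ' * xp x t = xp x t * uu x e2 δ' := fun t => xp_comm' (l2.uu_comm_x _) t
  have c3 : ∀ t γ, uu x e0 γ * xp x t = xp x t * uu x e0 γ := fun t γ => xp_comm' (l0.uu_comm_x _) t
  have r10 := comm_rule K l0 (l1.uu_comm_x β') (b.a10 β') (α + α')
  have r20 := comm_rule K l0 (l2.uu_comm_x δ') (b.a20 δ') (α + α')
  have r21 := comm_rule K l1 (l2.uu_comm_x δ') (b.a21 δ') (β + β')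
  calc uu x e2 δ' * (uu x e1 β' * (uu x e0 α' * xp x ε')) *
        (xp x ε * uu x e0 α * uu x e1 β * uu x e2 δ)
      = uu x e2 δ' * (uu x e1 β' * (uu x e0 α' * (xp x ε' * xp x ε))) * uu x e0 α *
          uu x e1 β * uu x e2 δ := by simp only [mul_assoc]
    _ = uu x e2 δ' * (uu x e1 β' * xp x (xor ε ε')) * (uu x e0 α' * uu x e0 α) *
          uu x e1 β * uu x e2 δ := by
        rw [xp_mul K, Bool.xor_comm ε' ε, c0]; simp only [mul_assoc]
    _ = (uu x e2 δ' * xp x (xor ε ε')) * (uu x e1 β' * uu x e0 (α + α')) *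
          uu x e1 β * uu x e2 δ := by
        rw [c1, ← l0.uu_add K, add_comm α' α]; simp only [mul_assoc]
    _ = xp x (xor ε ε') * (uu x e2 δ' * xp x (B β' (α + α'))) * uu x e0 (α + α') *
          (uu x e1 β' * uu x e1 β) * uu x e2 δ := by
        rw [c2, r10]; simp only [mul_assoc]
    _ = xp x (xor ε ε') * xp x (B β' (α + α')) * (uu x e2 δ' * uu x e0 (α + α')) *
          uu x e1 (β + β') * uu x e2 δ := by
        rw [c2, ← l1.uu_add K, add_comm β' β]; simp only [mul_assoc]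
    _ = xp x (xor ε ε') * xp x (B β' (α + α')) * xp x (B δ' (α + α')) * uu x e0 (α + α') *
          (uu x e2 δ' * uu x e1 (β + β')) * uu x e2 δ := by
        rw [r20]; simp only [mul_assoc]
    _ = xp x (xor ε ε') * xp x (B β' (α + α')) * xp x (B δ' (α + α')) * (uu x e0 (α + α') *
          xp x (B (v * δ') (β + β'))) * uu x e1 (β + β') * (uu x e2 δ' * uu x e2 δ) := by
        rw [r21]; simp only [mul_assoc]
    _ = xp x (xor ε ε') * xp x (B β' (α + α')) * xp x (B δ' (α + α')) *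
          xp x (B (v * δ') (β + β')) * uu x e0 (α + α') * uu x e1 (β + β') *
          uu x e2 (δ + δ') := by
        rw [c3, ← l2.uu_add K, add_comm δ' δ]; simp only [mul_assoc]
    _ = _ := by
        rw [xp_mul K, xp_mul K, xp_mul K, B_symm β', B_symm δ', B_vw δ']
        simp only [Bool.xor_assoc]

theorem hact0 (p : P9) : Act (F9 x e0 e1 e2 p) e0 (lam9 0 p.2.1 p.2.2.1 p.2.2.2) := by
  have h3 := (((b.l0.act_xp p.1).mul (b.l0.act_self p.2.1)).mul (b.a10 p.2.2.1)).mul (b.a20 p.2.2.2)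
  rw [zero_add, zero_add] at h3
  rw [lam9_0]
  exact h3

theorem hact1 (p : P9) : Act (F9 x e0 e1 e2 p) e1 (lam9 1 p.2.1 p.2.2.1 p.2.2.2) := by
  have h3 := (((b.l1.act_xp p.1).mul (b.a01 p.2.1)).mul (b.l1.act_self p.2.2.1)).mul (b.a21 p.2.2.2)
  rw [zero_add, add_zero] at h3
  rw [lam9_1]
  exact h3

theorem hact2 (p : P9) : Act (F9 x e0 e1 e2 p) e2 (lam9 2 p.2.1 p.2.2.1 p.2.2.2) := by
  have h3 := (((b.l2.act_xp p.1).mul (b.a02 p.2.1)).mul (b.a12 p.2.2.1)).mul (b.l2.act_self p.2.2.2)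
  rw [zero_add, add_zero] at h3
  rw [lam9_2]
  exact h3

theorem hFN (p : P9) : F9 x e0 e1 e2 p ∈ N D x :=
    mul_mem (mul_mem (mul_mem (xp_mem_N _) (b.l0.uu_mem_N _)) (b.l1.uu_mem_N _)) (b.l2.uu_mem_N _)

theorem hz : F9 x e0 e1 e2 z9 = 1 := by
  simp only [F9, uu_zero, mul_one]; rfl

theorem hml (m n : P9) : F9 x e0 e1 e2 m * F9 x e0 e1 e2 n = F9 x e0 e1 e2 (ml9 m n) := by
  unfold ml9
  rw [← hdv K b, ← hdv K b, hz K b, mul_one, inv_inv]

theorem hFone (p : P9) : F9 x e0 e1 e2 p = 1 ↔ p = z9 := by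
  constructor
  · intro hp
    have k0 := hact0 K b p
    have k1 := hact1 K b p
    have k2 := hact2 K b p
    rw [hp] at k0 k1 k2
    have m0 := Act.unique b.l0.inj k0 (Act.one _)
    have m1 := Act.unique b.l1.inj k1 (Act.one _)
    have m2 := Act.unique b.l2.inj k2 (Act.one _)
    have key : ∀ α β δ : F4, lam9 0 α β δ = 0 → lam9 1 α β δ = 0 → lam9 2 α β δ = 0 →
        α = 0 ∧ β = 0 ∧ δ = 0 := by decide
    obtain ⟨ε, α, β, δ⟩ := p
    obtain ⟨rfl, rfl, rfl⟩ := key α β δ m0 m1 m2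
    simp only [F9, uu_zero, mul_one] at hp
    have : ε = false := xp_inj K (x := x) (by rw [hp]; rfl)
    rw [this]
  · rintro rfl
    exact hz K b

theorem hFinj : Function.Injective (F9 x e0 e1 e2) := by
  intro p q hpq
  have h5 : F9 x e0 e1 e2 (dv9 q p) = 1 := by rw [← hdv K b, hpq, inv_mul_cancel]
  rw [hFone K b] at h5
  obtain ⟨ε, α, β, δ⟩ := p
  obtain ⟨ε', α', β', δ'⟩ := q
  revert h5
  clear hpq
  simp only [dv9, Prod.mk.injEq]
  rintro ⟨m1, m2, m3, m4⟩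
  have n2 : α = α' := by
    by_contra hc; exact f4_add_ne _ _ hc m2
  have n3 : β = β' := by
    by_contra hc; exact f4_add_ne _ _ hc m3
  have n4 : δ = δ' := by
    by_contra hc; exact f4_add_ne _ _ hc m4
  subst n2 n3 n4
  refine ⟨?_, rfl, rfl, rfl⟩
  rw [f4_add_self, f4_add_self, B_zero_left, B_zero_left, mul_zero, B_zero_left] at m1
  revert m1; cases ε <;> cases ε' <;> decide

theorem F9_x : F9 x e0 e1 e2 (true, 0, 0, 0) = x := by
  simp only [F9, uu_zero, mul_one]; rfl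

theorem F9_0 (γ : F4) : F9 x e0 e1 e2 (false, γ, 0, 0) = uu x e0 γ := by
  simp only [F9, uu_zero, mul_one, xp_false, one_mul]

theorem F9_1 (γ : F4) : F9 x e0 e1 e2 (false, 0, γ, 0) = uu x e1 γ := by
  simp only [F9, uu_zero, mul_one, xp_false, one_mul]

theorem F9_2 (γ : F4) : F9 x e0 e1 e2 (false, 0, 0, γ) = uu x e2 γ := by
  simp only [F9, uu_zero, mul_one, xp_false, one_mul]

end Main

theorem uc9_3 : ∀ γ : F4, γ ≠ 0 → ml9 (ml9 (true, 0, 0, 0) (false, 0, γ, 0)) (false, γ, 0, 0) = uc9 3 γ := by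
  decide
theorem uc9_4 : ∀ γ : F4, γ ≠ 0 → ml9 (ml9 (true, 0, 0, 0) (false, 0, 0, γ)) (false, γ, 0, 0) = uc9 4 γ := by
  decide
theorem uc9_5 : ∀ γ : F4, γ ≠ 0 → ml9 (ml9 (true, 0, 0, 0) (false, 0, 0, w * γ)) (false, 0, γ, 0) = uc9 5 γ := by
  decide
theorem uc9_6 : ∀ γ : F4, γ ≠ 0 → ml9 (ml9 (true, 0, 0, 0) (false, 0, 0, v * γ)) (uc9 3 γ) = uc9 6 γ := by
  decide
theorem uc9_7 : ∀ γ : F4, γ ≠ 0 → ml9 (ml9 (true, 0, 0, 0) (false, 0, w * γ, 0)) (uc9 4 γ) = uc9 7 γ := by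
  decide
theorem uc9_8 : ∀ γ : F4, γ ≠ 0 →
    ml9 (ml9 (true, 0, 0, 0) (false, v * (w * γ), 0, 0)) (uc9 5 (w * γ)) = uc9 8 γ := by
  decide

end Cfsg.Agent.SporadicStructure.FSolNine
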