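import Mathlib
import Cfsg.Agent.SporadicStructure.FSolNine

set_option autoImplicit false
set_option linter.unusedSectionVars false

/-!
# 3-transposition groups of rank one: more than three classes of size four, conclusion (for S1614)
-/

namespace Cfsg.Agent.SporadicStructure.FSolNineEnd

open Cfsg Cfsg.Agent.SporadicStructure.FischerSpace Cfsg.Agent.SporadicStructure.FischerPrimitive
open Cfsg.Agent.SporadicStructure.FischerRank3 Cfsg.Agent.SporadicStructure.FSolBase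
open Cfsg.Agent.SporadicStructure.FSolLines Cfsg.Agent.SporadicStructure.FSolPlane
open Cfsg.Agent.SporadicStructure.FSolTrans Cfsg.Agent.SporadicStructure.FSolReduce
open Cfsg.Agent.SporadicStructure.FSolCtx Cfsg.Agent.SporadicStructure.FSolModel
open Cfsg.Agent.SporadicStructure.FSolLab Cfsg.Agent.SporadicStructure.FSolForm
open Cfsg.Agent.SporadicStructure.FSolFinish Cfsg.Agent.SporadicStructure.FSolThree
open Cfsg.Agent.SporadicStructure.FSolBase9 Cfsg.Agent.SporadicStructure.FSolNine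
open Cfsg.Agent.Lib.FieldFour

variable {G : Type*} [Group G] {D : Set G}

theorem w_ne : ∀ γ : F4, γ ≠ 0 → w * γ ≠ 0 := by decide
theorem v_ne : ∀ γ : F4, γ ≠ 0 → v * γ ≠ 0 := by decide
theorem w_inj : ∀ a b : F4, w * a = w * b → a = b := by decide
theorem wv : ∀ a : F4, w * (v * a) = a := by decide
theorem vw : ∀ a : F4, v * (w * a) = a := by decide

/-- relabelling by `w` -/
theorem lab_w {x : G} {f : F4 → G} (l : Lab D x f) : Lab D x (fun γ => f (w * γ)) := by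
  have h0 : f (w * 0) = f 0 := rfl
  refine ⟨l.In_e _, fun γ => ?_, fun a b hab => ?_, fun c hc => ?_⟩
  · show f (w * γ) ∈ V D x (f (w * 0))
    rw [h0]; exact l.mem _
  · exact w_inj a b (l.inj hab)
  · change c ∈ V D x (f (w * 0)) at hc
    rw [h0] at hc
    obtain ⟨γ, hγ⟩ := l.surj c hc
    refine ⟨v * γ, ?_⟩
    show f (w * (v * γ)) = c
    rw [wv, hγ]

theorem uu_w {x : G} {f : F4 → G} {γ : F4} (hγ : γ ≠ 0) :
    uu x (fun γ => f (w * γ)) γ = uu x f (w * γ) := by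
  rw [uu_ne hγ, uu_ne (w_ne γ hγ)]
  rfl

theorem act_w {n : G} {f : F4 → G} {δ : F4} (hδ : Act n f δ) :
    Act n (fun γ => f (w * γ)) (v * δ) := by
  intro γ
  show cc n (f (w * γ)) = f (w * (γ + v * δ))
  rw [hδ, mul_add, wv]

/-- the value of `lam9` -/
def lm (k : Fin 9) (p : P9) : F4 := lam9 k p.2.1 p.2.2.1 p.2.2.2

section Main

variable {x y : G} (K : Ctx D x y) {e0 e1 e2 : F4 → G} (b : Base9 D x y e0 e1 e2)

include K b

theorem theta_of_uc {k l : Fin 9} {e f : F4 → G} {c : F4}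
    (hu : ∀ γ, γ ≠ 0 → uu x e γ = F9 x e0 e1 e2 (uc9 k γ))
    (hf : ∀ p, Act (F9 x e0 e1 e2 p) f (lm l p)) (hc : ∀ γ, γ ≠ 0 → lm l (uc9 k γ) = c * γ) :
    ∀ γ, Act (uu x e γ) f (c * γ) := by
  intro γ
  by_cases hγ : γ = 0
  · rw [hγ, uu_zero, mul_zero]; exact Act.one f
  · rw [hu γ hγ, ← hc γ hγ]; exact hf _

/-- everything about one class -/
structure Cls (D : Set G) (x : G) (e0 e1 e2 : F4 → G) (k : Fin 9) (e : F4 → G) : Prop where
  lab : Lab D x e
  uu_eq : ∀ γ, γ ≠ 0 → uu x e γ = F9 x e0 e1 e2 (uc9 k γ)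
  act : ∀ p, Act (F9 x e0 e1 e2 p) e (lm k p)

theorem cls0 : Cls D x e0 e1 e2 0 e0 := by
  refine ⟨b.l0, fun γ _ => ?_, fun p => hact0 K b p⟩
  rw [← F9_0 K b γ]
  congr 1

theorem cls1 : Cls D x e0 e1 e2 1 e1 := by
  refine ⟨b.l1, fun γ _ => ?_, fun p => hact1 K b p⟩
  rw [← F9_1 K b γ]
  congr 1

theorem cls2 : Cls D x e0 e1 e2 2 e2 := by
  refine ⟨b.l2, fun γ _ => ?_, fun p => hact2 K b p⟩
  rw [← F9_2 K b γ]
  congr 1

/-- generic third class -/
theorem cls_third {k l m : Fin 9} {e f : F4 → G} (A : Cls D x e0 e1 e2 k e)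
    (A' : Cls D x e0 e1 e2 l f) {c : F4} (hc : ∀ γ, γ ≠ 0 → lm l (uc9 k γ) = c * γ)
    (hc0 : ∀ γ : F4, γ ≠ 0 → c * γ ≠ 0)
    (hu : ∀ γ, γ ≠ 0 → ml9 (ml9 (true, 0, 0, 0) (uc9 l (c * γ))) (uc9 k γ) = uc9 m γ)
    (hB : ∀ p γ, B (lm m p) γ = xor (B (lm k p) γ) (B (lm l p) (c * γ))) :
    Cls D x e0 e1 e2 m (tc e f) := by
  have hθ := theta_of_uc K b A.uu_eq A'.act hc
  refine ⟨lab_third K A.lab A'.lab, ?_, ?_⟩
  · intro γ hγ
    have h1 := uu_third K A'.lab hθ hγ (hc0 γ hγ)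
    show uu x (fun γ => cc (f 0) (e γ)) γ = _
    rw [h1, A'.uu_eq _ (hc0 γ hγ), A.uu_eq γ hγ, ← hu γ hγ, ← hml K b, ← hml K b, F9_x K b]
  · intro p
    exact act_third K A.lab A'.lab hθ hc0 (hFN K b p) (A.act p) (A'.act p) (fun γ _ => hB p γ)

theorem cls3 : Cls D x e0 e1 e2 3 (tc e0 e1) :=
  cls_third K b (cls0 K b) (cls1 K b) (c := 1) (by decide) (by decide) (by decide)
    (fun p γ => by
      rw [one_mul]; unfold lm; rw [lam9_3, B_id])

theorem cls4 : Cls D x e0 e1 e2 4 (tc e0 e2) :=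
  cls_third K b (cls0 K b) (cls2 K b) (c := 1) (by decide) (by decide) (by decide)
    (fun p γ => by
      rw [one_mul]; unfold lm; rw [lam9_4, B_id])

theorem cls5 : Cls D x e0 e1 e2 5 (tc e1 e2) :=
  cls_third K b (cls1 K b) (cls2 K b) (c := w) (by decide) (by decide) (by decide)
    (fun p γ => by unfold lm; rw [lam9_5, B_w])

theorem cls6 : Cls D x e0 e1 e2 6 (tc (tc e0 e1) e2) :=
  cls_third K b (cls3 K b) (cls2 K b) (c := v) (by decide) (by decide) (by decide)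
    (fun p γ => by unfold lm; rw [lam9_6, B_v])

theorem cls7 : Cls D x e0 e1 e2 7 (tc (tc e0 e2) e1) :=
  cls_third K b (cls4 K b) (cls1 K b) (c := w) (by decide) (by decide) (by decide)
    (fun p γ => by unfold lm; rw [lam9_7, B_w])

theorem cls8 : Cls D x e0 e1 e2 8 (fun γ => tc (tc e1 e2) e0 (w * γ)) := by
  have A := cls5 K b
  have A' := cls0 K b
  have hθ := theta_of_uc K b (c := v) A.uu_eq A'.act (by decide)
  have lk := lab_third K A.lab A'.lab
  refine ⟨lab_w lk, ?_, ?_⟩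
  · intro γ hγ
    have hwγ := w_ne γ hγ
    have h1 := uu_third K A'.lab hθ hwγ (v_ne _ hwγ)
    rw [uu_w hγ]
    show uu x (fun γ => cc (e0 0) (tc e1 e2 γ)) (w * γ) = _
    rw [h1, A.uu_eq _ hwγ, ← uc9_8 γ hγ, ← hml K b, ← hml K b, F9_x K b, F9_0 K b]
  · intro p
    have h2 := act_third K A.lab A'.lab hθ v_ne (hFN K b p) (A.act p) (A'.act p)
      (δ := lm 5 p + w * lm 0 p) (fun γ _ => B_v _ _ _)
    have h3 := act_w h2
    have h4 : lm 8 p = v * (lm 5 p + w * lm 0 p) := lam9_8 _ _ _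
    rw [h4]
    exact h3

theorem cls (k : Fin 9) : Cls D x e0 e1 e2 k (e9 e0 e1 e2 k) := by
  match k with
  | 0 => exact cls0 K b
  | 1 => exact cls1 K b
  | 2 => exact cls2 K b
  | 3 => exact cls3 K b
  | 4 => exact cls4 K b
  | 5 => exact cls5 K b
  | 6 => exact cls6 K b
  | 7 => exact cls7 K b
  | 8 => exact cls8 K b

theorem hT (k : Fin 9) : e9 e0 e1 e2 k 0 ∈ T D x y := by
  have m3 := K.cc_mem_T b.t1 b.t0
  have m4 := K.cc_mem_T b.t2 b.t0
  have m5 := K.cc_mem_T b.t2 b.t1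
  match k with
  | 0 => exact b.t0
  | 1 => exact b.t1
  | 2 => exact b.t2
  | 3 => exact m3
  | 4 => exact m4
  | 5 => exact m5
  | 6 => exact K.cc_mem_T b.t2 m3
  | 7 => exact K.cc_mem_T b.t1 m4
  | 8 => exact K.cc_mem_T b.t0 m5

theorem hsurj (h4 : ∀ a, In D x a → (V D x a).ncard = 4) :
    ∀ c ∈ T D x y, ∃ k, e9 e0 e1 e2 k 0 = c := by
  intro c hc
  by_contra hno
  push Not at hno
  obtain ⟨f, rfl, lf, a0f, -⟩ := base_add K h4 b.l0 b.t0 hc (hno 0)
  have hnc : ∀ k, ¬ Commute (e9 e0 e1 e2 k 0) (f 0) := fun k =>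
    K.not_commute_T (hT K b k) hc (hno k)
  obtain ⟨μ, hμ, hμadd, -⟩ := exists_theta K b.l1 lf (hnc 1)
  obtain ⟨ν, hν, hνadd, -⟩ := exists_theta K b.l2 lf (hnc 2)
  obtain ⟨k, γ, hγ, hz⟩ := exhaust (μ 1) (μ w) (ν 1) (ν w)
  obtain ⟨θ, hθ, -, hθ0⟩ := exists_theta K (cls K b k).lab lf (hnc k)
  apply hθ0 γ hγ
  have h1 := hθ γ
  rw [(cls K b k).uu_eq γ hγ] at h1
  have h2 : Act (F9 x e0 e1 e2 (uc9 k γ)) f (0 + (cf k).1 * γ + μ ((cf k).2.1 * γ) +
      ν ((cf k).2.2 * γ)) :=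
    (((lf.act_xp _).mul (a0f _)).mul (hμ _)).mul (hν _)
  rw [Act.unique lf.inj h1 h2, zero_add, eq_lin hμadd, eq_lin hνadd, hz]

theorem data (h4 : ∀ a, In D x a → (V D x a).ncard = 4) :
    Data D x y (0 : F4) (e9 e0 e1 e2) (F9 x e0 e1 e2) lm dv9
      (fun p => S9 p.1 p.2.1 p.2.2.1 p.2.2.2 = true) := by
  have C := cls K b
  have hcs := hsurj K b h4
  refine
    { e_V := fun k γ => (C k).lab.mem γ
      e_T := hT K b
      e_inj := fun k => (C k).lab.inj
      e_surj := fun k => (C k).lab.surj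
      c_surj := hcs
      c_inj := ?_
      F_mem := hFN K b
      F_surj := ?_
      F_inj := hFinj K b
      F_dv := hdv K b
      F_lam := ?_
      F_one := ?_
      S_iff := ?_ }
  · intro k l hkl
    by_contra hne'
    have h6 : Act (F9 x e0 e1 e2 (uc9 k 1)) (e9 e0 e1 e2 k) 0 := by
      rw [← (C k).uu_eq 1 (by decide)]
      exact (C k).lab.act_self 1
    have h7 := (C l).act (uc9 k 1)
    have h8 := h6 0
    have h9 := h7 0
    rw [zero_add, hkl] at h8
    have h10 := (C l).lab.inj (h9.symm.trans h8)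
    revert h10 hne'
    clear h6 h7 h8 h9 hkl
    revert k l
    decide +kernel
  · apply F_surj K (F9 x e0 e1 e2) dv9 (hdv K b) (fun k => (C k).lab)
      ⟨(true, 0, 0, 0), F9_x K b⟩ ?_ hcs
    intro k γ
    by_cases hγ : γ = 0
    · refine ⟨z9, ?_⟩
      rw [hγ, uu_zero, hz K b]
    · exact ⟨uc9 k γ, ((C k).uu_eq γ hγ).symm⟩
  · intro k p
    have := (C k).act p 0
    rwa [zero_add] at this
  · intro p hp
    have key : ∀ α β δ : F4, lam9 0 α β δ = 0 → lam9 1 α β δ = 0 → lam9 2 α β δ = 0 →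
        α = 0 ∧ β = 0 ∧ δ = 0 := by decide
    have m0 := hp 0
    have m1 := hp 1
    have m2 := hp 2
    obtain ⟨ε, α, β, δ⟩ := p
    obtain ⟨rfl, rfl, rfl⟩ := key α β δ m0 m1 m2
    cases ε
    · left; exact hz K b
    · right; exact F9_x K b
  · intro p
    rw [S9_iff, hFone K b]
    apply or_congr Iff.rfl
    constructor
    · rintro ⟨k, γ, hγ, rfl⟩
      exact ⟨k, γ, hγ, by rw [← (C k).uu_eq γ hγ, uu_ne hγ]⟩
    · rintro ⟨k, γ, hγ, hp⟩
      refine ⟨k, γ, hγ, hFinj K b ?_⟩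
      rw [hp, ← (C k).uu_eq γ hγ, uu_ne hγ]

end Main

section Final

variable {x y : G} (K : Ctx D x y)

include K

/-- **more than three classes of size four** -/
theorem nine (h4 : ∀ a, In D x a → (V D x a).ncard = 4) {c0 c1 c2 : G} (h0 : c0 ∈ T D x y)
    (h1 : c1 ∈ T D x y) (h2 : c2 ∈ T D x y) (h01 : c0 ≠ c1) (h02 : c0 ≠ c2) (h12 : c1 ≠ c2)
    (h3 : c2 ≠ cc c1 c0) : Nonempty (G ≃* Cfsg.PSU 5 F4 2) := by
  obtain ⟨e0, e1, e2, b, -⟩ := base_three K h4 h0 h1 h2 h01 h02 h12 h3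
  have A := data K b h4
  let Psi : L9 → G := fun l => match l with
    | .x => x
    | .e k γ => e9 e0 e1 e2 k γ
    | .a ε α β δ => cc (F9 x e0 e1 e2 (ε, α, β, δ)) y
  have hxe : ∀ k γ, x ≠ e9 e0 e1 e2 k γ := fun k γ h5 => (A.In_e k γ).2.1 h5.symm
  have hxa : ∀ p, x ≠ cc (F9 x e0 e1 e2 p) y := fun p h5 =>
    A.not_comm_x K p (by rw [← h5])
  have hea : ∀ k γ p, e9 e0 e1 e2 k γ ≠ cc (F9 x e0 e1 e2 p) y := fun k γ p h5 =>
    A.not_comm_x K p (by rw [← h5]; exact A.comm_x_e K k γ)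
  refine FSolEnd9.psu_five K.h (center_eq_bot K.hsol) Psi ?_ ?_ ?_
  · intro l m hlm
    cases l with
    | x => cases m with
      | x => rfl
      | e k γ => exact absurd hlm (hxe k γ)
      | a ε α β δ => exact absurd hlm (hxa _)
    | e k γ => cases m with
      | x => exact absurd hlm.symm (hxe k γ)
      | e k' γ' =>
        have hkk : k = k' := (A.comm_e_e K k k' γ γ').1 (by
          change e9 e0 e1 e2 k γ = e9 e0 e1 e2 k' γ' at hlm
          rw [hlm])
        subst hkk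
        rw [A.e_inj k hlm]
      | a ε α β δ => exact absurd hlm (hea _ _ _)
    | a ε α β δ => cases m with
      | x => exact absurd hlm.symm (hxa _)
      | e k γ => exact absurd hlm.symm (hea _ _ _)
      | a ε' α' β' δ' =>
        have := A.a_inj K hlm
        simp only [Prod.mk.injEq] at this
        obtain ⟨rfl, rfl, rfl, rfl⟩ := this
        rfl
  · ext d
    constructor
    · rintro ⟨l, rfl⟩
      cases l with
      | x => exact K.hx
      | e k γ => exact (A.In_e k γ).1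
      | a ε α β δ => exact ccm K.h _ K.hy
    · intro hd
      rcases A.cover K hd with rfl | ⟨k, γ, rfl⟩ | ⟨⟨ε, α, β, δ⟩, rfl⟩
      · exact ⟨.x, rfl⟩
      · exact ⟨.e k γ, rfl⟩
      · exact ⟨.a ε α β δ, rfl⟩
  · intro l m
    cases l with
    | x => cases m with
      | x => exact iff_of_true (Commute.refl x) rfl
      | e k γ => exact iff_of_true (A.comm_x_e K k γ) rfl
      | a ε α β δ => exact iff_of_false (A.not_comm_x K _) Bool.false_ne_true
    | e k γ => cases m with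
      | x => exact iff_of_true (A.comm_x_e K k γ).symm rfl
      | e k' γ' =>
        show Commute (e9 e0 e1 e2 k γ) (e9 e0 e1 e2 k' γ') ↔ (k == k') = true
        rw [A.comm_e_e K, beq_iff_eq]
      | a ε α β δ =>
        show Commute (e9 e0 e1 e2 k γ) (cc (F9 x e0 e1 e2 (ε, α, β, δ)) y) ↔
          (γ == lam9 k α β δ) = true
        rw [A.comm_e_a K, beq_iff_eq]
        rfl
    | a ε α β δ => cases m with
      | x => exact iff_of_false (fun h5 => A.not_comm_x K _ h5.symm) Bool.false_ne_true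
      | e k γ =>
        show Commute (cc (F9 x e0 e1 e2 (ε, α, β, δ)) y) (e9 e0 e1 e2 k γ) ↔
          (γ == lam9 k α β δ) = true
        rw [Commute.symm_iff, A.comm_e_a K, beq_iff_eq]
        rfl
      | a ε' α' β' δ' =>
        show Commute (cc (F9 x e0 e1 e2 (ε, α, β, δ)) y) (cc (F9 x e0 e1 e2 (ε', α', β', δ')) y) ↔ _
        rw [A.comm_a_a K]
        rfl

end Final

end Cfsg.Agent.SporadicStructure.FSolNineEnd
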