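import Cfsg.Agent.SporadicStructure.FSolHyp
import Cfsg.Agent.SporadicStructure.FSolModel
import Cfsg.Agent.Fischer920.RackIso

set_option autoImplicit false

/-!
# A 3-transposition group with the commuting graph `adj2` is the symmetric group of degree 6 (for S1614)
-/

namespace Cfsg.Agent.SporadicStructure.FSolEnd2

open Cfsg Cfsg.Agent.SporadicStructure.FischerSpace Cfsg.Agent.SporadicStructure.FSolModel
open Cfsg.Agent.SporadicStructure.FSolHyp

deriving instance Fintype for L2

/-- the two points moved by the transposition with the given label -/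
def pt : L2 → Fin 6 × Fin 6
  | .x => (0, 1)
  | .e 0 false => (4, 5)
  | .e 0 true => (2, 3)
  | .e 1 false => (3, 5)
  | .e 1 true => (2, 4)
  | .e 2 false => (3, 4)
  | .e 2 true => (2, 5)
  | .a ε p q => (if ε then 0 else 1,
      match p, q with
      | false, false => 2
      | false, true => 4
      | true, false => 3
      | true, true => 5)

/-- the transposition with the given label -/
def tr (l : L2) : Equiv.Perm (Fin 6) := Equiv.swap (pt l).1 (pt l).2

theorem pt_ne (l : L2) : (pt l).1 ≠ (pt l).2 := by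
  revert l
  decide

theorem exists_pt (i j : Fin 6) (h : i ≠ j) : ∃ l : L2, pt l = (i, j) ∨ pt l = (j, i) := by
  revert i j
  decide

theorem tr_inj : Function.Injective tr := by
  intro l m
  revert l m
  decide +kernel

theorem adj2_iff (l m : L2) : tr l * tr m = tr m * tr l ↔ adj2 l m = true := by
  revert l m
  decide +kernel

theorem braid (l m : L2) : tr l * tr m = tr m * tr l ∨ tr l * tr m * tr l = tr m * tr l * tr m := by
  revert l m
  decide +kernel

theorem isSwap_iff (σ : Equiv.Perm (Fin 6)) : σ.IsSwap ↔ ∃ l, tr l = σ := by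
  constructor
  · rintro ⟨i, j, hij, rfl⟩
    obtain ⟨l, h | h⟩ := exists_pt i j hij
    · exact ⟨l, by rw [tr, h]⟩
    · exact ⟨l, by rw [tr, h]; exact Equiv.swap_comm _ _⟩
  · rintro ⟨l, rfl⟩
    exact ⟨_, _, pt_ne l, rfl⟩

theorem fdata_swap : FData {σ : Equiv.Perm (Fin 6) | σ.IsSwap} := by
  refine ⟨?_, ?_, ?_, ?_, ?_, ?_, ?_⟩
  · rintro _ ⟨i, j, _, rfl⟩
    exact Equiv.swap_mul_self i j
  · rintro _ ⟨i, j, hij, rfl⟩ h
    exact hij (Equiv.swap_eq_one_iff.1 h)
  · rintro g _ ⟨i, j, hij, rfl⟩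
    refine ⟨g i, g j, fun h => hij (g.injective h), ?_⟩
    rw [Equiv.mul_swap_eq_swap_mul, mul_inv_cancel_right]
  · intro x hx y hy hxy
    obtain ⟨l, rfl⟩ := (isSwap_iff x).1 hx
    obtain ⟨m, rfl⟩ := (isSwap_iff y).1 hy
    rcases braid l m with h | h
    · exact absurd h hxy
    · exact h
  · rintro _ ⟨i, j, hij, rfl⟩ _ ⟨i', j', hij', rfl⟩
    exact isConj_iff.1 (Equiv.Perm.isConj_swap hij hij')
  · exact Equiv.Perm.closure_isSwap
  · exact ⟨Equiv.swap 0 1, 0, 1, by decide, rfl⟩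

theorem center_eq_bot : Subgroup.center (Equiv.Perm (Fin 6)) = ⊥ := by
  rw [eq_bot_iff]
  intro σ hσ
  rw [Subgroup.mem_center_iff] at hσ
  rw [Subgroup.mem_bot]
  ext1 i
  by_contra hne
  have hk : ∀ i j : Fin 6, ∃ k, k ≠ i ∧ k ≠ j := by decide
  replace hne : σ i ≠ i := hne
  obtain ⟨k, hki, hkj⟩ := hk i (σ i)
  have h1 : Equiv.swap i k (σ i) = σ (Equiv.swap i k i) :=
    congrArg (fun τ : Equiv.Perm (Fin 6) => τ i) (hσ (Equiv.swap i k))
  rw [Equiv.swap_apply_left, Equiv.swap_apply_of_ne_of_ne hne (Ne.symm hkj)] at h1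
  exact hki (σ.injective h1).symm

theorem hyp2 (m : L2) (hm : adj2 .x m = false) : ∃ t, ∀ n,
    (∀ z, adj2 z .x = true → adj2 z m = true → adj2 z n = true) → n = .x ∨ n = m ∨ n = t := by
  revert m
  decide +kernel

/-- **The end of the case with two elements in the classes.** -/
theorem symm_six {G : Type*} [Group G] {D : Set G} (h₁ : FData D)
    (hz : Subgroup.center G = ⊥) (Psi : L2 → G) (hinj : Function.Injective Psi)
    (hrange : Set.range Psi = D)
    (hadj : ∀ l m, Commute (Psi l) (Psi m) ↔ adj2 l m = true) :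
    Nonempty (G ≃* Equiv.Perm (Fin 6)) := by
  have hyp := hyp_of_labels h₁ Psi hrange adj2 hadj .x hyp2
  have hmem : ∀ l, Psi l ∈ D := fun l => by rw [← hrange]; exact ⟨l, rfl⟩
  have h1 : Function.Bijective (fun l : L2 => (⟨Psi l, hmem l⟩ : ↥D)) := by
    constructor
    · intro l m h
      exact hinj (congrArg Subtype.val h)
    · rintro ⟨g, hg⟩
      rw [← hrange] at hg
      obtain ⟨l, rfl⟩ := hg
      exact ⟨l, rfl⟩
  have h2 : Function.Bijective
      (fun l : L2 => (⟨tr l, (isSwap_iff _).2 ⟨l, rfl⟩⟩ : ↥{σ : Equiv.Perm (Fin 6) | σ.IsSwap})) := by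
    constructor
    · intro l m h
      exact tr_inj (congrArg Subtype.val h)
    · rintro ⟨g, hg⟩
      obtain ⟨l, rfl⟩ := (isSwap_iff _).1 hg
      exact ⟨l, rfl⟩
  let E1 := Equiv.ofBijective _ h1
  let E2 := Equiv.ofBijective _ h2
  have hφ : ∀ a b : ↥D, Commute (a : G) b ↔
      Commute ((E1.symm.trans E2 a : ↥{σ : Equiv.Perm (Fin 6) | σ.IsSwap}) : Equiv.Perm (Fin 6))
        ((E1.symm.trans E2 b : ↥{σ : Equiv.Perm (Fin 6) | σ.IsSwap}) : Equiv.Perm (Fin 6)) := by
    intro a b
    obtain ⟨l, rfl⟩ := E1.surjective a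
    obtain ⟨m, rfl⟩ := E1.surjective b
    rw [Equiv.trans_apply, Equiv.trans_apply, Equiv.symm_apply_apply, Equiv.symm_apply_apply]
    show Commute (Psi l) (Psi m) ↔ tr l * tr m = tr m * tr l
    rw [hadj, adj2_iff]
  obtain ⟨e, _⟩ := Cfsg.Agent.Fischer920.RackIso.exists_equiv h₁ fdata_swap hz hyp
    (E1.symm.trans E2) hφ
  exact ⟨e.trans ((QuotientGroup.quotientMulEquivOfEq center_eq_bot).trans
    QuotientGroup.quotientBot)⟩

end Cfsg.Agent.SporadicStructure.FSolEnd2
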