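import Cfsg.Agent.SporadicStructure.FSolFinish
import Cfsg.Agent.SporadicStructure.FSolEnd2

set_option autoImplicit false

/-!
# 3-transposition groups of rank one: lines with three points (for S1614)
-/

namespace Cfsg.Agent.SporadicStructure.FSolTwo

open Cfsg Cfsg.Agent.SporadicStructure.FischerSpace Cfsg.Agent.SporadicStructure.FischerPrimitive
open Cfsg.Agent.SporadicStructure.FischerRank3 Cfsg.Agent.SporadicStructure.FSolBase
open Cfsg.Agent.SporadicStructure.FSolLines Cfsg.Agent.SporadicStructure.FSolPlane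
open Cfsg.Agent.SporadicStructure.FSolTrans Cfsg.Agent.SporadicStructure.FSolReduce
open Cfsg.Agent.SporadicStructure.FSolCtx Cfsg.Agent.SporadicStructure.FSolFinish
open Cfsg.Agent.SporadicStructure.FSolModel

variable {G : Type*} [Group G] {D : Set G}

/-- the other member of the class of `c` -/
noncomputable def pr (D : Set G) (x c : G) : G :=
  haveI : Nonempty G := ⟨1⟩
  Classical.epsilon (fun b => b ∈ V D x c ∧ b ≠ c)

/-- the product of the two members of the class of `c` -/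
noncomputable def t (D : Set G) (x c : G) : G := c * pr D x c

variable {x y : G} (K : Ctx D x y) (h2 : ∀ a, In D x a → (V D x a).ncard = 2)

include K h2

omit K in
theorem pr_spec {c : G} (hc : In D x c) : pr D x c ∈ V D x c ∧ pr D x c ≠ c := by
  have h3 : ∃ b, b ∈ V D x c ∧ b ≠ c := by
    obtain ⟨u, v, huv, hV⟩ := Set.ncard_eq_two.1 (h2 c hc)
    by_cases huc : u = c
    · refine ⟨v, by rw [hV]; simp, ?_⟩
      rintro rfl
      exact huv huc
    · exact ⟨u, by rw [hV]; simp, huc⟩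
  have : Nonempty G := ⟨1⟩
  exact Classical.epsilon_spec h3

omit K in
theorem V_eq {c : G} (hc : In D x c) : V D x c = {c, pr D x c} := by
  obtain ⟨h3, h4⟩ := pr_spec h2 hc
  obtain ⟨u, v, huv, hV⟩ := Set.ncard_eq_two.1 (h2 c hc)
  have h5 : c ∈ V D x c := self_mem_V hc
  rw [hV] at h3 h5 ⊢
  simp only [Set.mem_insert_iff, Set.mem_singleton_iff] at h3 h5
  rcases h3 with h3 | h3 <;> rcases h5 with h5 | h5
  · exact absurd (h3.trans h5.symm) h4
  · rw [h3, h5]
    exact Set.pair_comm u v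
  · rw [h3, h5]
  · exact absurd (h3.trans h5.symm) h4

omit K in
theorem eq_pr {c b : G} (hc : In D x c) (hb : b ∈ V D x c) (hne : b ≠ c) : b = pr D x c := by
  rw [V_eq h2 hc] at hb
  simp only [Set.mem_insert_iff, Set.mem_singleton_iff] at hb
  rcases hb with h3 | h3
  · exact absurd h3 hne
  · exact h3

omit K in
theorem comm_pr {c : G} (hc : In D x c) : Commute c (pr D x c) :=
  V_comm_V (self_mem_V hc) (pr_spec h2 hc).1

omit K in
theorem t_mem_N {c : G} (hc : In D x c) : t D x c ∈ N D x := mul_mem_N hc (pr_spec h2 hc).1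

theorem t_sq {c : G} (hc : In D x c) : t D x c * t D x c = 1 := by
  have h3 := comm_pr h2 hc
  unfold t
  calc c * pr D x c * (c * pr D x c) = c * (pr D x c * c) * pr D x c := by group
    _ = (c * c) * (pr D x c * pr D x c) := by rw [← h3.eq]; group
    _ = 1 := by rw [K.h.sq c hc.1, K.h.sq _ (pr_spec h2 hc).1.1.1, one_mul]

omit K in
theorem t_fix {c b : G} (hc : In D x c) (hb : b ∈ V D x c) : cc (t D x c) b = b := by
  apply cc_of_commute
  unfold t
  exact (V_comm_V (self_mem_V hc) hb).mul_left (V_comm_V (pr_spec h2 hc).1 hb)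

theorem t_move {c c' : G} (hc : c ∈ T D x y) (hc' : c' ∈ T D x y) (hne : c ≠ c') :
    cc (t D x c) c' = pr D x c' := by
  have hcI := K.mem_T_In hc
  have hcI' := K.mem_T_In hc'
  obtain ⟨h3, h4⟩ := pr_spec h2 hcI
  apply eq_pr h2 hcI' (cc_mem_V K.h hcI h3 hcI')
  intro h5
  have h6 := K.not_commute_T hc hc' hne
  have h7 : ¬ Commute (pr D x c) c' := fun h8 =>
    h6 (((V_commute h3 hcI'.1 hcI'.2.2.symm).2 h8.symm).symm)
  exact h4 (eq_of_cc_fix K.h hcI.1 h3.1.1 hcI'.1 h6 h7 h5).symm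

theorem t_move' {c c' : G} (hc : c ∈ T D x y) (hc' : c' ∈ T D x y) (hne : c ≠ c') :
    cc (t D x c) (pr D x c') = c' := by
  have h3 := t_move K h2 hc hc' hne
  rw [← h3, ← cc_mul, t_sq K h2 (K.mem_T_In hc), cc_one]

theorem t_comm {c c' : G} (hc : c ∈ T D x y) (hc' : c' ∈ T D x y) :
    Commute (t D x c) (t D x c') := by
  by_cases hne : c = c'
  · rw [hne]
  · rw [← cc_eq_iff]
    have h3 : cc (t D x c) (t D x c') = cc (t D x c) c' * cc (t D x c) (pr D x c') :=
      cc_map_mul _ _ _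
    rw [h3, t_move K h2 hc hc' hne, t_move' K h2 hc hc' hne,
      (comm_pr h2 (K.mem_T_In hc')).symm.eq]
    rfl

theorem t_third {c c' : G} (hc : c ∈ T D x y) (hc' : c' ∈ T D x y) (hne : c ≠ c') :
    t D x (cc c c') = t D x c * t D x c' := by
  have hcI := K.mem_T_In hc
  have hcI' := K.mem_T_In hc'
  have h3 := K.cc_mem_T hc hc'
  have h4 : pr D x (cc c c') = cc c (pr D x c') := by
    symm
    apply eq_pr h2 (K.mem_T_In h3)
    · exact (V_cc' K.h hcI.2.2.symm).2 (pr_spec h2 hcI').1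
    · intro h5
      rw [cc_inj] at h5
      exact (pr_spec h2 hcI').2 h5
  have h5 : t D x (cc c c') = cc c (t D x c') := by
    show cc c c' * pr D x (cc c c') = cc c (c' * pr D x c')
    rw [h4, cc_map_mul]
  rw [h5]
  have h6 := t_move K h2 hc' hc (Ne.symm hne)
  -- `t' c t' = pr c`
  have h7 : t D x c' * c = pr D x c * t D x c' := by
    rw [cc_def, mul_inv_eq_iff_eq_mul] at h6
    exact h6
  show c * t D x c' * c⁻¹ = c * pr D x c * t D x c'
  rw [K.h.inv_eq hcI.1, mul_assoc, h7, mul_assoc]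

theorem t_inj {c c' : G} (hc : c ∈ T D x y) (hc' : c' ∈ T D x y) (h : t D x c = t D x c') :
    c = c' := by
  by_contra hne
  have h3 := t_move K h2 hc hc' hne
  rw [h, t_fix h2 (K.mem_T_In hc') (self_mem_V (K.mem_T_In hc'))] at h3
  exact (pr_spec h2 (K.mem_T_In hc')).2 h3.symm

/-- `T D x y` has only three members -/
theorem mem_three {c₁ c₂ c₃ : G} (h1 : c₁ ∈ T D x y) (h2' : c₂ ∈ T D x y) (h3 : c₃ ∈ T D x y)
    (h12 : c₁ ≠ c₂) : c₃ = c₁ ∨ c₃ = c₂ ∨ c₃ = cc c₁ c₂ := by
  by_contra hcon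
  simp only [not_or] at hcon
  obtain ⟨h31, h32, h3c⟩ := hcon
  have n12 := K.not_commute_T h1 h2' h12
  have n13 := K.not_commute_T h1 h3 (Ne.symm h31)
  have n23 := K.not_commute_T h2' h3 (Ne.symm h32)
  have m12 := K.cc_mem_T h1 h2'
  have m13 := K.cc_mem_T h1 h3
  have hne1 : cc c₁ c₂ ≠ c₃ := Ne.symm h3c
  have hne2 : cc c₁ c₃ ≠ c₂ := by
    intro h4
    apply h3c
    rw [← h4, cc_cc_self K.h h1.1]
  have e1 : t D x (cc (cc c₁ c₂) c₃) = t D x (cc (cc c₁ c₃) c₂) := by
    rw [t_third K h2 m12 h3 hne1, t_third K h2 m13 h2' hne2, t_third K h2 h1 h2' h12,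
      t_third K h2 h1 h3 (Ne.symm h31), mul_assoc, mul_assoc, (t_comm K h2 h2' h3).eq]
  have e2 := t_inj K h2 (K.cc_mem_T m12 h3) (K.cc_mem_T m13 h2') e1
  have e3 : cc (cc c₁ c₂) c₃ = cc c₃ (cc c₁ c₂) :=
    third K.h m12.1 h3.1 (K.not_commute_T m12 h3 hne1)
  have e4 : cc (cc c₁ c₃) c₂ = cc c₂ (cc c₁ c₃) :=
    third K.h m13.1 h2'.1 (K.not_commute_T m13 h2' hne2)
  have e5 : cc c₁ c₂ = cc c₂ c₁ := third K.h h1.1 h2'.1 n12
  have e6 : cc c₁ c₃ = cc c₃ c₁ := third K.h h1.1 h3.1 n13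
  rw [e3, e4, e5, e6, ← cc_mul, ← cc_mul] at e2
  -- `c₁` is fixed by `(c₂ c₃)⁻¹ (c₃ c₂) = (c₃ c₂)²`
  have e7 : cc (c₃ * c₂ * (c₃ * c₂)) c₁ = c₁ := by
    have h4 : c₃ * c₂ * (c₃ * c₂) = (c₂ * c₃)⁻¹ * (c₃ * c₂) := by
      rw [mul_inv_rev, K.h.inv_eq h3.1, K.h.inv_eq h2'.1]
    rw [h4, cc_mul, e2, cc_inv_cc]
  have e8 : c₃ * c₂ * (c₃ * c₂) = c₂ * c₃ := by
    have hb := K.h.braid c₃ h3.1 c₂ h2'.1 (fun h => n23 h.symm)
    calc c₃ * c₂ * (c₃ * c₂) = (c₃ * c₂ * c₃) * c₂ := by simp only [mul_assoc]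
      _ = c₂ * c₃ * (c₂ * c₂) := by rw [hb]; simp only [mul_assoc]
      _ = c₂ * c₃ := by rw [K.h.sq c₂ h2'.1, mul_one]
  rw [e8] at e7
  exact h32 (eq_of_cc_fix K.h h2'.1 h3.1 h1.1 (fun h => n12 h.symm) (fun h => n13 h.symm) e7).symm

omit h2 in
/-- there are two different members of `T D x y` -/
theorem exists_two : ∃ c₁ c₂, c₁ ∈ T D x y ∧ c₂ ∈ T D x y ∧ c₁ ≠ c₂ := by
  have := K.fin
  obtain ⟨x', a', _, hx', ha', _⟩ := K.hτ
  obtain ⟨g, hg⟩ := K.h.single x' hx' x K.hx
  have ha : In D x (cc g a') := by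
    have := (In_cc K.h g (x := x') (a := a')).2 ha'
    rwa [show cc g x' = x from hg] at this
  obtain ⟨w, hw, haw⟩ := exists_nc K.h K.hsol K.hperf K.hx ha
  obtain ⟨c₁, hc₁, _, h3⟩ := K.exists_c ha
  obtain ⟨c₂, hc₂, _, h4⟩ := K.exists_c hw
  refine ⟨c₁, c₂, hc₁, hc₂, ?_⟩
  rintro rfl
  apply haw
  have h5 : V D x (cc g a') = V D x w := by
    rw [V_eq_of_mem h3, V_eq_of_mem h4]
  have h6 : w ∈ V D x (cc g a') := by rw [h5]; exact self_mem_V hw
  exact V_comm_V (self_mem_V ha) h6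

omit K h2 in
/-- powers of `g` with exponent `0` or `1` -/
def pw (g : G) (b : Bool) : G := if b then g else 1

omit K h2 in
theorem pw_mem {H : Subgroup G} {g : G} (hg : g ∈ H) (b : Bool) : pw g b ∈ H := by
  cases b
  · exact one_mem H
  · exact hg

omit K h2 in
theorem pw_comm {g k : G} (hg : Commute g k) (b c : Bool) : Commute (pw g b) (pw k c) := by
  cases b <;> cases c <;> simp [pw, hg]

omit K h2 in
theorem pw_mul {g : G} (hg : g * g = 1) (b c : Bool) : pw g b * pw g c = pw g (xor b c) := by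
  cases b <;> cases c <;> simp [pw, hg]

omit K h2 in
theorem pw_inv {g : G} (hg : g * g = 1) (b : Bool) : (pw g b)⁻¹ = pw g b := by
  cases b
  · simp [pw]
  · exact inv_eq_of_mul_eq_one_left hg

/-- the elements of `N` -/
def FF (x t₀ t₁ : G) (p : Bool × Bool × Bool) : G := pw x p.1 * (pw t₀ p.2.1 * pw t₁ p.2.2)

/-- xor of the parameters -/
def dv (p q : Bool × Bool × Bool) : Bool × Bool × Bool :=
  (xor p.1 q.1, xor p.2.1 q.2.1, xor p.2.2 q.2.2)

omit K h2 in
theorem FF_mul {x t₀ t₁ : G} (hx : x * x = 1) (h0 : t₀ * t₀ = 1) (h1 : t₁ * t₁ = 1)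
    (hx0 : Commute x t₀) (hx1 : Commute x t₁) (h01 : Commute t₀ t₁) (p q : Bool × Bool × Bool) :
    FF x t₀ t₁ p * FF x t₀ t₁ q = FF x t₀ t₁ (dv p q) := by
  unfold FF dv
  simp only
  rw [← pw_mul hx, ← pw_mul h0, ← pw_mul h1]
  have e1 : pw t₀ p.2.1 * pw t₁ p.2.2 * pw x q.1 = pw x q.1 * (pw t₀ p.2.1 * pw t₁ p.2.2) :=
    ((pw_comm hx0 _ _).mul_right (pw_comm hx1 _ _)).symm.eq
  have e2 : pw t₁ p.2.2 * pw t₀ q.2.1 = pw t₀ q.2.1 * pw t₁ p.2.2 := (pw_comm h01 _ _).symm.eq
  calc pw x p.1 * (pw t₀ p.2.1 * pw t₁ p.2.2) * (pw x q.1 * (pw t₀ q.2.1 * pw t₁ q.2.2))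
      = pw x p.1 * (pw t₀ p.2.1 * pw t₁ p.2.2 * pw x q.1) * (pw t₀ q.2.1 * pw t₁ q.2.2) := by
        simp only [mul_assoc]
    _ = pw x p.1 * pw x q.1 * (pw t₀ p.2.1 * (pw t₁ p.2.2 * pw t₀ q.2.1) * pw t₁ q.2.2) := by
        rw [e1]; simp only [mul_assoc]
    _ = _ := by rw [e2]; simp only [mul_assoc]

omit K h2 in
theorem FF_inv {x t₀ t₁ : G} (hx : x * x = 1) (h0 : t₀ * t₀ = 1) (h1 : t₁ * t₁ = 1)
    (hx0 : Commute x t₀) (hx1 : Commute x t₁) (h01 : Commute t₀ t₁) (p : Bool × Bool × Bool) :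
    (FF x t₀ t₁ p)⁻¹ = FF x t₀ t₁ p := by
  apply inv_eq_of_mul_eq_one_left
  rw [FF_mul hx h0 h1 hx0 hx1 h01]
  simp [FF, dv, pw]

/-- the labelled members commuting with `x` -/
noncomputable def ee (D : Set G) (x c₀ c₁ : G) (k : Fin 3) (b : Bool) : G :=
  let c := match k with
    | 0 => c₀
    | 1 => c₁
    | 2 => cc c₀ c₁
  if b then pr D x c else c

theorem data {c₀ c₁ : G} (h0 : c₀ ∈ T D x y) (h1 : c₁ ∈ T D x y) (h01 : c₀ ≠ c₁) :
    Data D x y false (ee D x c₀ c₁) (FF x (t D x c₀) (t D x c₁)) (fun k p => lam2 k p.2.1 p.2.2)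
      dv (fun p => S2 p.1 p.2.1 p.2.2 = true) := by
  have h3 : cc c₀ c₁ ∈ T D x y := K.cc_mem_T h0 h1
  have n01 := K.not_commute_T h0 h1 h01
  have h02 : c₀ ≠ cc c₀ c₁ := by
    intro h
    have h' : cc c₀ c₀ = cc c₀ c₁ := by rw [cc_self]; exact h
    exact h01 (cc_inj.1 h')
  have h12 : c₁ ≠ cc c₀ c₁ := by
    intro h
    exact n01 (cc_eq_iff.1 h.symm)
  have i0 := K.mem_T_In h0
  have i1 := K.mem_T_In h1
  have i2 := K.mem_T_In h3
  have s0 := t_sq K h2 i0
  have s1 := t_sq K h2 i1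
  have sx := K.h.sq x K.hx
  have cx0 : Commute x (t D x c₀) := (commute_N (t_mem_N h2 i0)).symm
  have cx1 : Commute x (t D x c₁) := (commute_N (t_mem_N h2 i1)).symm
  have c01 : Commute (t D x c₀) (t D x c₁) := t_comm K h2 h0 h1
  have hmul := FF_mul sx s0 s1 cx0 cx1 c01
  have hinv := FF_inv sx s0 s1 cx0 cx1 c01
  have heT : ∀ k, ee D x c₀ c₁ k false ∈ T D x y := by
    intro k
    fin_cases k
    · exact h0
    · exact h1
    · exact h3
  have heF : ∀ k, ee D x c₀ c₁ k true = pr D x (ee D x c₀ c₁ k false) := by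
    intro k
    fin_cases k <;> rfl
  have a00 : cc (t D x c₀) c₀ = c₀ := t_fix h2 i0 (self_mem_V i0)
  have a01 : cc (t D x c₀) c₁ = pr D x c₁ := t_move K h2 h0 h1 h01
  have a02 : cc (t D x c₀) (cc c₀ c₁) = pr D x (cc c₀ c₁) := t_move K h2 h0 h3 h02
  have a02' : cc (t D x c₀) (pr D x (cc c₀ c₁)) = cc c₀ c₁ := t_move' K h2 h0 h3 h02
  have a10 : cc (t D x c₁) c₀ = pr D x c₀ := t_move K h2 h1 h0 h01.symm
  have a10' : cc (t D x c₀) (pr D x c₀) = pr D x c₀ := t_fix h2 i0 (pr_spec h2 i0).1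
  have a11 : cc (t D x c₁) c₁ = c₁ := t_fix h2 i1 (self_mem_V i1)
  have a12 : cc (t D x c₁) (cc c₀ c₁) = pr D x (cc c₀ c₁) := t_move K h2 h1 h3 h12
  have b0 : cc x c₀ = c₀ := cc_of_commute i0.2.2
  have b1 : cc x c₁ = c₁ := cc_of_commute i1.2.2
  have b2 : cc x (cc c₀ c₁) = cc c₀ c₁ := cc_of_commute i2.2.2
  have b0' : cc x (pr D x c₀) = pr D x c₀ := cc_of_commute (pr_spec h2 i0).1.1.2.2
  have b1' : cc x (pr D x c₁) = pr D x c₁ := cc_of_commute (pr_spec h2 i1).1.1.2.2
  have b2' : cc x (pr D x (cc c₀ c₁)) = pr D x (cc c₀ c₁) :=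
    cc_of_commute (pr_spec h2 i2).1.1.2.2
  have hl0 : ∀ p : Bool × Bool × Bool, cc (FF x (t D x c₀) (t D x c₁) p) c₀
      = if p.2.2 then pr D x c₀ else c₀ := by
    rintro ⟨_ | _, _ | _, _ | _⟩ <;> simp [FF, pw, cc_mul, cc_one, a00, a10, a10', b0, b0']
  have hl1 : ∀ p : Bool × Bool × Bool, cc (FF x (t D x c₀) (t D x c₁) p) c₁
      = if p.2.1 then pr D x c₁ else c₁ := by
    rintro ⟨_ | _, _ | _, _ | _⟩ <;> simp [FF, pw, cc_mul, cc_one, a01, a11, b1, b1']
  have hl2 : ∀ p : Bool × Bool × Bool, cc (FF x (t D x c₀) (t D x c₁) p) (cc c₀ c₁)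
      = if xor p.2.1 p.2.2 then pr D x (cc c₀ c₁) else cc c₀ c₁ := by
    rintro ⟨_ | _, _ | _, _ | _⟩ <;>
      simp [FF, pw, cc_mul (G := G) _ (t D x c₁), cc_mul (G := G) x, cc_one, a02, a02', a12, b2, b2']
  have hinj : ∀ p, FF x (t D x c₀) (t D x c₁) p = 1 → p = (false, false, false) := by
    intro p hp
    have e0 := hl0 p
    have e1 := hl1 p
    rw [hp, cc_one] at e0 e1
    obtain ⟨ε, a, b⟩ := p
    have hb : b = false := by
      cases b
      · rfl
      · exact absurd e0.symm (pr_spec h2 i0).2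
    have ha : a = false := by
      cases a
      · rfl
      · exact absurd e1.symm (pr_spec h2 i1).2
    subst ha
    subst hb
    cases ε
    · rfl
    · exfalso
      apply K.h.ne_one x K.hx
      simpa [FF, pw] using hp
  have hinj' : Function.Injective (FF x (t D x c₀) (t D x c₁)) := by
    intro p q hpq
    have h4 : FF x (t D x c₀) (t D x c₁) (dv p q) = 1 := by
      rw [← hmul, hpq, mul_eq_one_iff_eq_inv, hinv]
    have h5 := hinj _ h4
    have h6 : ∀ p q : Bool × Bool × Bool, dv p q = (false, false, false) → p = q := by decide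
    exact h6 p q h5
  have hS : ∀ k : Fin 3, x * ee D x c₀ c₁ k false * ee D x c₀ c₁ k true
      = FF x (t D x c₀) (t D x c₁) (true, k != 1, k != 0) := by
    intro k
    fin_cases k
    · simp [FF, pw, ee, t, mul_assoc]
    · simp [FF, pw, ee, t, mul_assoc]
    · have h4 := t_third K h2 h0 h1 h01
      show x * cc c₀ c₁ * pr D x (cc c₀ c₁) = x * (t D x c₀ * t D x c₁)
      rw [← h4, mul_assoc]
      rfl
  have hlam : ∀ (k : Fin 3) (p : Bool × Bool × Bool),
      cc (FF x (t D x c₀) (t D x c₁) p) (ee D x c₀ c₁ k false)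
        = ee D x c₀ c₁ k (lam2 k p.2.1 p.2.2) := by
    intro k p
    fin_cases k
    · exact hl0 p
    · exact hl1 p
    · exact hl2 p
  refine ⟨?_, heT, ?_, ?_, ?_, ?_, ?_, ?_, ?_, ?_, hlam, ?_, ?_⟩
  · intro k γ
    cases γ
    · exact self_mem_V (K.mem_T_In (heT k))
    · rw [heF]
      exact (pr_spec h2 (K.mem_T_In (heT k))).1
  · intro k γ δ h
    have h4 := (pr_spec h2 (K.mem_T_In (heT k))).2
    cases γ <;> cases δ
    · rfl
    · rw [heF] at h; exact absurd h.symm h4
    · rw [heF] at h; exact absurd h h4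
    · rfl
  · intro k b hb
    rw [V_eq h2 (K.mem_T_In (heT k))] at hb
    rcases hb with hb | hb
    · exact ⟨false, hb.symm⟩
    · exact ⟨true, by rw [heF]; exact hb.symm⟩
  · intro c hc
    rcases mem_three K h2 h0 h1 hc h01 with h | h | h
    · exact ⟨0, h.symm⟩
    · exact ⟨1, h.symm⟩
    · exact ⟨2, h.symm⟩
  · intro k l h
    fin_cases k <;> fin_cases l
    · rfl
    · exact absurd h h01
    · exact absurd h h02
    · exact absurd h h01.symm
    · rfl
    · exact absurd h h12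
    · exact absurd h h02.symm
    · exact absurd h h12.symm
    · rfl
  · intro p
    exact mul_mem (pw_mem (x_mem_N D x) _) (mul_mem (pw_mem (t_mem_N h2 i0) _)
      (pw_mem (t_mem_N h2 i1) _))
  · intro n hn
    unfold N at hn
    induction hn using Subgroup.closure_induction with
    | mem z hz =>
      rcases hz with rfl | ⟨a, b, ha, hb, rfl⟩
      · exact ⟨(true, false, false), by simp [FF, pw]⟩
      · obtain ⟨c, hc, hac, hca⟩ := K.exists_c ha
        rw [V_eq_of_mem hca] at hb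
        have hcI := K.mem_T_In hc
        have hab : a * b = 1 ∨ a * b = t D x c := by
          have hcc := K.h.sq c hcI.1
          have hpp := K.h.sq _ (pr_spec h2 hcI).1.1.1
          rw [V_eq h2 hcI] at hac hb
          rcases hac with rfl | rfl <;> rcases hb with rfl | rfl
          · exact Or.inl hcc
          · exact Or.inr rfl
          · exact Or.inr (comm_pr h2 hcI).symm.eq
          · exact Or.inl hpp
        rcases hab with hab | hab
        · exact ⟨(false, false, false), by rw [hab]; simp [FF, pw]⟩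
        · rw [hab]
          rcases mem_three K h2 h0 h1 hc h01 with h | h | h
          · exact ⟨(false, true, false), by rw [h]; simp [FF, pw]⟩
          · exact ⟨(false, false, true), by rw [h]; simp [FF, pw]⟩
          · exact ⟨(false, true, true), by rw [h, t_third K h2 h0 h1 h01]; simp [FF, pw]⟩
    | one => exact ⟨(false, false, false), by simp [FF, pw]⟩
    | mul a b _ _ iha ihb =>
      obtain ⟨p, rfl⟩ := iha
      obtain ⟨q, rfl⟩ := ihb
      exact ⟨dv p q, (hmul p q).symm⟩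
    | inv a _ iha =>
      obtain ⟨p, rfl⟩ := iha
      exact ⟨p, (hinv p).symm⟩
  · exact hinj'
  · intro m n
    rw [hinv, hmul]
  · intro p hp
    have e0 : p.2.2 = false := hp 0
    have e1 : p.2.1 = false := hp 1
    obtain ⟨ε, a, b⟩ := p
    simp only at e0 e1
    subst e0
    subst e1
    cases ε <;> simp [FF, pw]
  · intro p
    constructor
    · intro hp
      have h4 : p = (false, false, false) ∨ ∃ k : Fin 3, p = (true, k != 1, k != 0) := by
        revert hp
        revert p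
        decide
      rcases h4 with rfl | ⟨k, rfl⟩
      · left; simp [FF, pw]
      · right
        exact ⟨k, true, by decide, (hS k).symm⟩
    · rintro (h4 | ⟨k, γ, hγ, h4⟩)
      · rw [hinj p h4]; decide
      · cases γ
        · exact absurd rfl hγ
        · rw [hS k] at h4
          rw [hinj' h4]
          have h5 : ∀ k : Fin 3, S2 true (k != 1) (k != 0) = true := by decide
          exact h5 k

/-- **The case of lines with three points.** -/
theorem symm_six_of_two : Nonempty (G ≃* Equiv.Perm (Fin 6)) := by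
  obtain ⟨c₀, c₁, h0, h1, h01⟩ := exists_two K
  have A := data K h2 h0 h1 h01
  have hcen : Subgroup.center G = ⊥ := FischerPrimitive.center_eq_bot K.hsol
  let Psi : L2 → G := fun l => match l with
    | .x => x
    | .e k γ => ee D x c₀ c₁ k γ
    | .a ε p q => cc (FF x (t D x c₀) (t D x c₁) (ε, p, q)) y
  have hadj : ∀ l m, Commute (Psi l) (Psi m) ↔ adj2 l m = true := by
    intro l m
    cases l with
    | x =>
      cases m with
      | x => exact iff_of_true (Commute.refl x) rfl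
      | e k γ => exact iff_of_true (A.comm_x_e K k γ) rfl
      | a ε p q => exact iff_of_false (A.not_comm_x K _) (by simp [adj2])
    | e k γ =>
      cases m with
      | x => exact iff_of_true (A.comm_x_e K k γ).symm rfl
      | e l δ =>
        show _ ↔ (k == l) = true
        rw [beq_iff_eq]
        exact A.comm_e_e K k l γ δ
      | a ε p q =>
        show _ ↔ (γ == lam2 k p q) = true
        rw [beq_iff_eq]
        exact A.comm_e_a K k γ _
    | a ε p q =>
      cases m with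
      | x => exact iff_of_false (fun h => A.not_comm_x K _ h.symm) (by simp [adj2])
      | e k γ =>
        show _ ↔ (γ == lam2 k p q) = true
        rw [beq_iff_eq, Commute.symm_iff]
        exact A.comm_e_a K k γ _
      | a ε' p' q' =>
        show _ ↔ S2 (xor ε ε') (xor p p') (xor q q') = true
        have h3 := A.comm_a_a K (ε, p, q) (ε', p', q')
        rw [show xor ε ε' = xor ε' ε from Bool.xor_comm _ _,
          show xor p p' = xor p' p from Bool.xor_comm _ _,
          show xor q q' = xor q' q from Bool.xor_comm _ _]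
        exact h3
  have hmem : ∀ l, Psi l ∈ D := by
    intro l
    cases l with
    | x => exact K.hx
    | e k γ => exact (A.In_e k γ).1
    | a ε p q => exact ccm K.h _ K.hy
  apply FSolEnd2.symm_six K.h hcen Psi _ _ hadj
  · intro l m hlm
    cases l with
    | x =>
      cases m with
      | x => rfl
      | e k γ => exact absurd hlm.symm (A.In_e k γ).2.1
      | a ε p q =>
        exfalso
        apply A.not_comm_x K (ε, p, q)
        have h3 : x = cc (FF x (t D x c₀) (t D x c₁) (ε, p, q)) y := hlm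
        rw [← h3]
    | e k γ =>
      cases m with
      | x => exact absurd hlm (A.In_e k γ).2.1
      | e l δ =>
        have h3 : ee D x c₀ c₁ k γ = ee D x c₀ c₁ l δ := hlm
        have h4 : k = l := by
          rw [← A.comm_e_e K k l γ δ, h3]
        subst h4
        rw [A.e_inj k h3]
      | a ε p q =>
        exfalso
        apply A.not_comm_x K (ε, p, q)
        have h3 : ee D x c₀ c₁ k γ = cc (FF x (t D x c₀) (t D x c₁) (ε, p, q)) y := hlm
        rw [← h3]
        exact A.comm_x_e K k γ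
    | a ε p q =>
      cases m with
      | x =>
        exfalso
        apply A.not_comm_x K (ε, p, q)
        have h3 : cc (FF x (t D x c₀) (t D x c₁) (ε, p, q)) y = x := hlm
        rw [h3]
      | e k γ =>
        exfalso
        apply A.not_comm_x K (ε, p, q)
        have h3 : cc (FF x (t D x c₀) (t D x c₁) (ε, p, q)) y = ee D x c₀ c₁ k γ := hlm
        rw [h3]
        exact A.comm_x_e K k γ
      | a ε' p' q' =>
        have h3 := A.a_inj K (show cc (FF x (t D x c₀) (t D x c₁) (ε, p, q)) y =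
          cc (FF x (t D x c₀) (t D x c₁) (ε', p', q')) y from hlm)
        simp only [Prod.mk.injEq] at h3
        rw [h3.1, h3.2.1, h3.2.2]
  · apply Set.Subset.antisymm
    · rintro _ ⟨l, rfl⟩
      exact hmem l
    · intro d hd
      rcases A.cover K hd with rfl | ⟨k, γ, rfl⟩ | ⟨⟨ε, p, q⟩, rfl⟩
      · exact ⟨.x, rfl⟩
      · exact ⟨.e k γ, rfl⟩
      · exact ⟨.a ε p q, rfl⟩

end Cfsg.Agent.SporadicStructure.FSolTwo
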