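import Cfsg.Agent.SporadicStructure.M24IndexData

/-!
# Subgroups of `M24` of index 759, 276, 1771 and 253: conclusion
-/

set_option autoImplicit false
open scoped Pointwise
open Cfsg MulAction

namespace Cfsg.Agent.SporadicStructure.M24IndexMain

open Cfsg.Agent.SporadicA.GolayBase Cfsg.Agent.SporadicA.GolayPerm
open Cfsg.Agent.SporadicStructure.M24El Cfsg.Agent.SporadicStructure.M24IndexAbs
open Cfsg.Agent.SporadicStructure.M24IndexData
open Cfsg.Agent.SporadicStructure.M23Index253 (exists_map card_golayPt exists_conj_le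
  eq_of_le_of_index)

theorem card24 : Fintype.card GolayPt = 24 := by simp

/-- Homogeneity from 5-transitivity. -/
theorem exists_smul_eq_finset (h5 : IsMultiplyPretransitive M24 GolayPt 5) {n : ℕ} (hn : n ≤ 5)
    {s t : Finset GolayPt} (hs : s.card = n) (ht : t.card = n) : ∃ g : M24, g • s = t := by
  have es := s.equivFinOfCardEq hs
  have et := t.equivFinOfCardEq ht
  obtain ⟨g, hg⟩ := exists_map h5 hn (fun i => ((es.symm i : s) : GolayPt))
    (fun i => ((et.symm i : t) : GolayPt))
    (fun i j hij => es.symm.injective (Subtype.ext hij))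
    (fun i j hij => et.symm.injective (Subtype.ext hij))
  refine ⟨g, ?_⟩
  apply Finset.eq_of_subset_of_card_le
  · intro y hy
    obtain ⟨x, hx, rfl⟩ := Finset.mem_smul_finset.1 hy
    have h1 := hg (es ⟨x, hx⟩)
    simp only [Equiv.symm_apply_apply] at h1
    rw [h1]
    exact (et.symm _).2
  · rw [Finset.card_smul_finset, hs, ht]

/-- An element of prime order at least 5 of `M24` fixes at most four points. -/
theorem fixBound (hcard : Nat.card M24 = 244823040)
    (h5 : IsMultiplyPretransitive M24 GolayPt 5) : FixBound M24 GolayPt := by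
  intro p hp hp5 g hg1 hgp
  have : Fact p.Prime := ⟨hp⟩
  by_contra hcon
  push Not at hcon
  obtain ⟨s, hs, hs5⟩ := Finset.exists_subset_card_eq (show 5 ≤ _ from hcon)
  have hs5' : (s : Set GolayPt).ncard = 5 := by rw [Set.ncard_coe_finset, hs5]
  have h1 := h5.index_of_fixingSubgroup_mul hs5'
  rw [card_golayPt] at h1
  have h2 : (fixingSubgroup M24 (s : Set GolayPt)).index = 24 * 23 * 22 * 21 * 20 := by
    apply Nat.eq_of_mul_eq_mul_right (Nat.factorial_pos (24 - 5))
    rw [h1]
    decide +kernel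
  have h3 := (fixingSubgroup M24 (s : Set GolayPt)).card_mul_index
  rw [h2, hcard] at h3
  have h6 : Nat.card (fixingSubgroup M24 (s : Set GolayPt)) = 48 := by omega
  have h7 : g ∈ fixingSubgroup M24 (s : Set GolayPt) := by
    rw [mem_fixingSubgroup_iff]
    intro y hy
    exact (Finset.mem_filter.1 (hs (Finset.mem_coe.1 hy))).2
  have h8 : orderOf (⟨g, h7⟩ : fixingSubgroup M24 (s : Set GolayPt)) ∣
      Nat.card (fixingSubgroup M24 (s : Set GolayPt)) := orderOf_dvd_natCard _
  have h9 : orderOf g = p := orderOf_eq_prime hgp hg1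
  rw [Subgroup.orderOf_mk, h9, h6] at h8
  have h10 : p ∣ 2 ^ 4 * 3 := by simpa using h8
  rcases (Nat.Prime.dvd_mul hp).1 h10 with h11 | h11
  · have h12 := (Nat.prime_dvd_prime_iff_eq hp Nat.prime_two).1 (hp.dvd_of_dvd_pow h11)
    omega
  · have h12 := (Nat.prime_dvd_prime_iff_eq hp Nat.prime_three).1 h11
    omega

/-! ### Indices of the stabilisers -/

theorem index_octad (htr : ∀ o o' : Finset GolayPt, o ∈ octads → o' ∈ octads →
    ∃ g : M24, g • o = o') (h759 : octads.ncard = 759) {o : Finset GolayPt} (ho : o ∈ octads) :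
    (stabilizer M24 o).index = 759 := by
  rw [index_stabilizer, ← h759]
  congr 1
  ext t
  rw [mem_orbit_iff]
  constructor
  · rintro ⟨g, rfl⟩
    exact (smul_mem_octads g.2).2 ho
  · intro ht
    exact htr o t ho ht

theorem index_duad (h5 : IsMultiplyPretransitive M24 GolayPt 5) {s : Finset GolayPt}
    (hs : s.card = 2) : (stabilizer M24 s).index = 276 := by
  have h : orbit M24 s = ((Finset.univ.powersetCard 2 : Finset (Finset GolayPt)) :
      Set (Finset GolayPt)) := by
    ext t
    rw [mem_orbit_iff, Finset.mem_coe, Finset.mem_powersetCard]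
    constructor
    · rintro ⟨g, rfl⟩
      exact ⟨Finset.subset_univ _, by rw [Finset.card_smul_finset, hs]⟩
    · rintro ⟨-, ht⟩
      exact exists_smul_eq_finset h5 (by norm_num) hs ht
  rw [index_stabilizer, h, Set.ncard_coe_finset, Finset.card_powersetCard, Finset.card_univ,
    card24]
  decide

theorem smul_mem_sextets (g : M24) {X : Finset (Finset GolayPt)} (hX : X ∈ sextets) :
    g • X ∈ sextets := by
  obtain ⟨h1, h2, h3⟩ := hX
  refine ⟨?_, ?_, ?_⟩
  · rw [Finset.card_smul_finset, h1]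
  · intro t ht
    obtain ⟨u, hu, rfl⟩ := Finset.mem_smul_finset.1 ht
    rw [Finset.card_smul_finset, h2 u hu]
  · intro t ht u hu htu
    obtain ⟨t', ht', rfl⟩ := Finset.mem_smul_finset.1 ht
    obtain ⟨u', hu', rfl⟩ := Finset.mem_smul_finset.1 hu
    rw [← Finset.smul_finset_union]
    refine (smul_mem_octads g.2).2 (h3 t' ht' u' hu' ?_)
    rintro rfl
    exact htu rfl

theorem index_sextet (h5 : IsMultiplyPretransitive M24 GolayPt 5)
    (hsx : (∀ t : Finset GolayPt, t.card = 4 → ∃! X : Finset (Finset GolayPt),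
      X ∈ sextets ∧ t ∈ X) ∧ sextets.ncard = 1771) {X : Finset (Finset GolayPt)}
    (hX : X ∈ sextets) : (stabilizer M24 X).index = 1771 := by
  rw [index_stabilizer, ← hsx.2]
  congr 1
  ext Y
  rw [mem_orbit_iff]
  constructor
  · rintro ⟨g, rfl⟩
    exact smul_mem_sextets g hX
  · intro hY
    obtain ⟨t, ht⟩ : X.Nonempty := by
      rw [← Finset.card_pos, hX.1]; norm_num
    obtain ⟨u, hu⟩ : Y.Nonempty := by
      rw [← Finset.card_pos, hY.1]; norm_num
    obtain ⟨g, hg⟩ := exists_smul_eq_finset h5 (by norm_num) (hX.2.1 t ht) (hY.2.1 u hu)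
    refine ⟨g, ?_⟩
    obtain ⟨Z, -, hZ⟩ := hsx.1 u (hY.2.1 u hu)
    rw [hZ Y ⟨hY, hu⟩]
    apply hZ
    refine ⟨smul_mem_sextets g hX, ?_⟩
    rw [← hg]
    exact Finset.smul_mem_smul_finset ht

/-! ### Subgroups of odd index -/

theorem odd_index (hcard : Nat.card M24 = 244823040)
    (h5 : IsMultiplyPretransitive M24 GolayPt 5) (H : Subgroup M24) (hodd : ¬ 2 ∣ H.index)
    (h5' : 5 ∣ Nat.card H) (h11 : ¬ 11 ∣ Nat.card H) (h23 : ¬ 23 ∣ Nat.card H) :
    (∃ o ∈ octads, H ≤ stabilizer M24 o) ∨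
      (¬ 7 ∣ Nat.card H ∧ ∃ X ∈ sextets, H ≤ stabilizer M24 X) := by
  have : Fact (Nat.Prime 2) := ⟨Nat.prime_two⟩
  obtain ⟨g, hg⟩ := exists_conj_le H M24IndexData.S 2 isPGroup_S hodd
  -- the conjugate of `H` containing `S`
  let e : M24 ≃* M24 := MulAut.conj g
  let H' : Subgroup M24 := H.map e.toMonoidHom
  have hmem : ∀ {x : M24}, x ∈ H' ↔ g⁻¹ * x * g ∈ H := by
    intro x
    constructor
    · rintro ⟨y, hy, rfl⟩
      have : g⁻¹ * (e.toMonoidHom y) * g = y := by
        show g⁻¹ * (g * y * g⁻¹) * g = y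
        group
      rw [this]
      exact hy
    · intro hx
      refine ⟨_, hx, ?_⟩
      show g * (g⁻¹ * x * g) * g⁻¹ = x
      group
  have hcard' : Nat.card H' = Nat.card H :=
    Subgroup.card_map_of_injective e.injective
  have hSH : M24IndexData.S ≤ H' := fun r hr => hmem.2 (hg r hr)
  have hconj : ∀ h ∈ H, g * h * g⁻¹ ∈ H' := by
    intro h hh
    rw [hmem]
    have : g⁻¹ * (g * h * g⁻¹) * g = h := by group
    rw [this]
    exact hh
  rcases M24IndexAbs.main card24 (fixBound hcard h5) loc H' hSH (by rwa [hcard'])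
    (by rwa [hcard']) (by rwa [hcard']) with h1 | ⟨h7, X, hX6, hX4, hXu, hXH⟩
  · left
    refine ⟨g⁻¹ • (fin mT ∪ fin mT'), ?_, ?_⟩
    · exact (smul_mem_octads (g⁻¹).2).2 octad_mem
    · intro h hh
      rw [mem_stabilizer_iff, eq_inv_smul_iff, ← mul_smul, ← mul_smul]
      exact h1 _ (hconj h hh)
  · right
    refine ⟨by rwa [← hcard'], g⁻¹ • X, ?_, ?_⟩
    · apply smul_mem_sextets
      refine ⟨hX6, hX4, ?_⟩
      intro t ht u hu htu
      obtain ⟨h, -, hh⟩ := hXu t ht u hu htu
      rw [hh]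
      exact (smul_mem_octads h.2).2 octad_mem
    · intro h hh
      rw [mem_stabilizer_iff, eq_inv_smul_iff, ← mul_smul, ← mul_smul]
      apply Finset.eq_of_subset_of_card_le
      · intro C hC
        obtain ⟨D, hD, rfl⟩ := Finset.mem_smul_finset.1 hC
        exact hXH _ (hconj h hh) D hD
      · rw [Finset.card_smul_finset]

theorem main (hcard : Nat.card M24 = 244823040)
    (h5 : IsMultiplyPretransitive M24 GolayPt 5)
    (htr : ∀ o o' : Finset GolayPt, o ∈ octads → o' ∈ octads → ∃ g : M24, g • o = o')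
    (h759 : octads.ncard = 759)
    (hsx : (∀ t : Finset GolayPt, t.card = 4 → ∃! X : Finset (Finset GolayPt),
      X ∈ sextets ∧ t ∈ X) ∧ sextets.ncard = 1771) :
    (∀ H : Subgroup M24, H.index = 759 → ∃ o ∈ octads, H = stabilizer M24 o) ∧
    (∀ H : Subgroup M24, H.index = 276 → ∃ s : Finset GolayPt, s.card = 2 ∧
      H = stabilizer M24 s) ∧
    (∀ H : Subgroup M24, H.index = 1771 → ∃ X ∈ sextets, H = stabilizer M24 X) ∧
    ∀ H : Subgroup M24, H.index ≠ 253 := by
  have hcm : ∀ H : Subgroup M24, Nat.card H * H.index = 244823040 := by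
    intro H
    rw [H.card_mul_index, hcard]
  refine ⟨?_, ?_, ?_, ?_⟩
  · intro H hH
    have h1 := hcm H
    rw [hH] at h1
    have h2 : Nat.card H = 322560 := by omega
    rcases odd_index hcard h5 H (by rw [hH]; norm_num) (by rw [h2]; norm_num)
      (by rw [h2]; norm_num) (by rw [h2]; norm_num) with ⟨o, ho, hle⟩ | ⟨h7, -⟩
    · exact ⟨o, ho, eq_of_le_of_index hle (by rw [hH, index_octad htr h759 ho])⟩
    · exact absurd (by rw [h2]; norm_num) h7
  · intro H hH
    have h1 := hcm H
    rw [hH] at h1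
    have h2 : Nat.card H = 887040 := by omega
    obtain ⟨s, hs, hst⟩ := exists_pair card24 (fixBound hcard h5) H h2
    refine ⟨s, hs, eq_of_le_of_index (fun h hh => ?_) (by rw [hH, index_duad h5 hs])⟩
    exact hst h hh
  · intro H hH
    have h1 := hcm H
    rw [hH] at h1
    have h2 : Nat.card H = 138240 := by omega
    rcases odd_index hcard h5 H (by rw [hH]; norm_num) (by rw [h2]; norm_num)
      (by rw [h2]; norm_num) (by rw [h2]; norm_num) with ⟨o, ho, hle⟩ | ⟨-, X, hX, hle⟩
    · exfalso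
      have h3 := Subgroup.index_dvd_of_le hle
      rw [hH, index_octad htr h759 ho] at h3
      norm_num at h3
    · exact ⟨X, hX, eq_of_le_of_index hle (by rw [hH, index_sextet h5 hsx hX])⟩
  · intro H hH
    have h1 := hcm H
    rw [hH] at h1
    have h2 : Nat.card H = 967680 := by omega
    rcases odd_index hcard h5 H (by rw [hH]; norm_num) (by rw [h2]; norm_num)
      (by rw [h2]; norm_num) (by rw [h2]; norm_num) with ⟨o, ho, hle⟩ | ⟨h7, -⟩
    · have h3 := Subgroup.index_dvd_of_le hle
      rw [hH, index_octad htr h759 ho] at h3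
      norm_num at h3
    · exact absurd (by rw [h2]; norm_num) h7

end Cfsg.Agent.SporadicStructure.M24IndexMain
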