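import Cfsg.Agent.SporadicStructure.MonoSigns

/-!
# Numbers of vectors of sum of squares 32 orthogonal to `(4, 4, 0^22)`, by shape
-/

set_option autoImplicit false
open scoped Pointwise
open Cfsg

namespace Cfsg.Agent.SporadicStructure.MonoCounts

open Cfsg.Agent.SporadicA.GolayBase Cfsg.Agent.SporadicA.GolayPerm
open Cfsg.Agent.SporadicStructure.MinShapes Cfsg.Agent.SporadicStructure.MonoPerms
open Cfsg.Agent.SporadicStructure.MonoSigns

/-! ### Counting by binary splitting -/

/-- The number of `i` with `s ≤ i < s + 2 ^ k` and `p i`. -/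
def cnt : ℕ → ℕ → (ℕ → Bool) → ℕ
  | 0, s, p => cond (p s) 1 0
  | k + 1, s, p => cnt k s p + cnt k (s + 2 ^ k) p

theorem cnt_eq (k : ℕ) : ∀ (s : ℕ) (p : ℕ → Bool),
    cnt k s p = ((Finset.Ico s (s + 2 ^ k)).filter (fun i => p i = true)).card := by
  induction k with
  | zero =>
    intro s p
    have h : Finset.Ico s (s + 2 ^ 0) = {s} := by
      ext i; simp only [Finset.mem_Ico, Finset.mem_singleton]; omega
    rw [h, Finset.filter_singleton]
    cases hp : p s <;> simp [cnt, hp]
  | succ k ih =>
    intro s p
    rw [cnt, ih, ih]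
    have h2 : Finset.Ico s (s + 2 ^ (k + 1)) =
        Finset.Ico s (s + 2 ^ k) ∪ Finset.Ico (s + 2 ^ k) (s + 2 ^ k + 2 ^ k) := by
      ext i
      simp only [Finset.mem_Ico, Finset.mem_union, pow_succ]
      omega
    rw [h2, Finset.filter_union, Finset.card_union_of_disjoint]
    apply Finset.disjoint_filter_filter
    rw [Finset.disjoint_left]
    intro i
    simp only [Finset.mem_Ico]
    omega

theorem ncard_code (p : ℕ → Bool) :
    {d : Finset GolayPt | d ∈ SC ∧ p (maskOf d) = true}.ncard = cnt 12 0 (fun i => p (enc i)) := by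
  rw [cnt_eq]
  have h : {d : Finset GolayPt | d ∈ SC ∧ p (maskOf d) = true} =
      (fun i => fin (enc i)) '' (((Finset.Ico 0 (0 + 2 ^ 12)).filter
        (fun i => p (enc i) = true) : Finset ℕ) : Set ℕ) := by
    ext d
    simp only [Set.mem_ofPred_eq, Set.mem_image, Finset.coe_filter, Finset.mem_Ico]
    constructor
    · rintro ⟨h1, h2⟩
      obtain ⟨i, hi, hd⟩ := isCode_iff_exists.1 ((mem_supports_iff d).1 h1)
      refine ⟨i, ⟨⟨Nat.zero_le _, by omega⟩, by rw [← hd]; exact h2⟩, ?_⟩
      rw [← hd, fin_maskOf]
    · rintro ⟨i, ⟨-, h2⟩, rfl⟩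
      refine ⟨(fin_mem_supports_iff (enc_lt i)).2 (isCode_enc i), ?_⟩
      rw [maskOf_fin (enc_lt i)]
      exact h2
  rw [h, Set.ncard_image_of_injOn, Set.ncard_coe_finset]
  intro i hi j hj hij
  simp only [Finset.coe_filter, Finset.mem_Ico, Set.mem_ofPred_eq] at hi hj
  exact enc_injOn (by omega) (by omega) (fin_injective (enc_lt i) (enc_lt j) hij)

theorem ncard_octads (p : ℕ → Bool) :
    {d : Finset GolayPt | d ∈ octads ∧ p (maskOf d) = true}.ncard =
      cnt 12 0 (fun i => force (enc i) fun m => Nat.beq (popcount m) 8 && p m) := by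
  have h := ncard_code (fun m => Nat.beq (popcount m) 8 && p m)
  simp only [force_eq]
  rw [← h]
  congr 1
  ext d
  simp only [Set.mem_ofPred_eq, Bool.and_eq_true, Nat.beq_eq, mem_octads_iff, mem_supports_iff,
    and_assoc]

theorem ncard_octads_in :
    {O : Finset GolayPt | O ∈ octads ∧ (none ∈ O ∧ some 0 ∈ O)}.ncard = 77 := by
  have h := ncard_octads (fun m => m.testBit 23 && m.testBit 0)
  have h2 : cnt 12 0 (fun i => force (enc i) fun m =>
      Nat.beq (popcount m) 8 && (m.testBit 23 && m.testBit 0)) = 77 := by decide +kernel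
  rw [h2] at h
  rw [← h]
  congr 1
  ext O
  simp only [Set.mem_ofPred_eq, mem_iff_testBit, Bool.and_eq_true]
  exact Iff.rfl

theorem ncard_octads_out :
    {O : Finset GolayPt | O ∈ octads ∧ (none ∉ O ∧ some 0 ∉ O)}.ncard = 330 := by
  have h := ncard_octads (fun m => !m.testBit 23 && !m.testBit 0)
  have h2 : cnt 12 0 (fun i => force (enc i) fun m =>
      Nat.beq (popcount m) 8 && (!m.testBit 23 && !m.testBit 0)) = 330 := by decide +kernel
  rw [h2] at h
  rw [← h]
  congr 1
  ext O
  simp only [Set.mem_ofPred_eq, mem_iff_testBit, Bool.and_eq_true, Bool.not_eq_true,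
    Bool.not_eq_true']
  exact Iff.rfl

theorem ncard_code_split :
    {d : Finset GolayPt | d ∈ SC ∧ (none ∈ d ↔ some 0 ∉ d)}.ncard = 2048 := by
  have h := ncard_code (fun m => m.testBit 23 ^^ m.testBit 0)
  have h2 : cnt 12 0 (fun i => (enc i).testBit 23 ^^ (enc i).testBit 0) = 2048 := by decide +kernel
  rw [h2] at h
  rw [← h]
  congr 1
  ext O
  simp only [Set.mem_ofPred_eq, mem_iff_testBit]
  have e1 : idx none = 23 := rfl
  have e2 : idx (some 0) = 0 := rfl
  rw [e1, e2]
  cases (maskOf O).testBit 23 <;> cases (maskOf O).testBit 0 <;> simp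

/-! ### Subsets of given parity -/

theorem card_even_sub {α : Type*} [DecidableEq α] (Q : Finset α) (q : α) (hq : q ∈ Q) :
    (Q.powerset.filter fun S => Even S.card).card = 2 ^ (Q.card - 1) := by
  rw [← Finset.card_erase_of_mem hq, ← Finset.card_powerset]
  refine Finset.card_bij' (fun S _ => S.erase q)
    (fun U _ => if Even U.card then U else insert q U) ?_ ?_ ?_ ?_
  · intro S hS
    rw [Finset.mem_filter, Finset.mem_powerset] at hS
    rw [Finset.mem_powerset]
    exact Finset.erase_subset_erase q hS.1
  · intro U hU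
    rw [Finset.mem_powerset] at hU
    rw [Finset.mem_filter, Finset.mem_powerset]
    have hqU : q ∉ U := fun h => Finset.notMem_erase q Q (hU h)
    split_ifs with h
    · exact ⟨hU.trans (Finset.erase_subset _ _), h⟩
    · refine ⟨Finset.insert_subset hq (hU.trans (Finset.erase_subset _ _)), ?_⟩
      rw [Finset.card_insert_of_notMem hqU, Nat.even_add_one]
      exact h
  · intro S hS
    rw [Finset.mem_filter, Finset.mem_powerset] at hS
    by_cases hqS : q ∈ S
    · have h1 : ¬ Even (S.erase q).card := by
        rw [Finset.card_erase_of_mem hqS]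
        have h2 : 0 < S.card := Finset.card_pos.2 ⟨q, hqS⟩
        have h3 := hS.2
        rw [Nat.even_iff] at *
        omega
      rw [if_neg h1, Finset.insert_erase hqS]
    · rw [Finset.erase_eq_of_notMem hqS, if_pos hS.2]
  · intro U hU
    rw [Finset.mem_powerset] at hU
    have hqU : q ∉ U := fun h => Finset.notMem_erase q Q (hU h)
    split_ifs with h
    · exact Finset.erase_eq_of_notMem hqU
    · exact Finset.erase_insert hqU

theorem card_odd_sub {α : Type*} [DecidableEq α] (Q : Finset α) (q : α) (hq : q ∈ Q) :
    (Q.powerset.filter fun S => ¬ Even S.card).card = 2 ^ (Q.card - 1) := by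
  have h := Finset.card_filter_add_card_filter_not (s := Q.powerset) (fun S => Even S.card)
  rw [card_even_sub Q q hq, Finset.card_powerset] at h
  have h1 : 2 ^ Q.card = 2 * 2 ^ (Q.card - 1) := by
    rw [← pow_succ']
    congr 1
    have : 0 < Q.card := Finset.card_pos.2 ⟨q, hq⟩
    omega
  omega

theorem card_split_sub {α : Type*} [DecidableEq α] (O : Finset α) (a b q : α) (hab : a ≠ b)
    (ha : a ∈ O) (hb : b ∈ O) (hq : q ∈ O) (hqa : q ≠ a) (hqb : q ≠ b) :
    (O.powerset.filter fun S => Even S.card ∧ (a ∈ S ↔ b ∉ S)).card = 2 ^ (O.card - 2) := by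
  have hQ : ((O \ {a, b}).powerset.filter fun S => ¬ Even S.card).card =
      2 ^ ((O \ {a, b}).card - 1) := card_odd_sub _ q (by simp [hq, hqa, hqb])
  have hc : (O \ {a, b}).card = O.card - 2 := by
    rw [Finset.card_sdiff_of_subset (by
      intro x hx
      rcases (by simpa using hx : x = a ∨ x = b) with rfl | rfl
      · exact ha
      · exact hb), Finset.card_pair hab]
  have h3 : 3 ≤ O.card := by
    have : ({a, b, q} : Finset α) ⊆ O := by
      intro x hx
      rcases (by simpa using hx : x = a ∨ x = b ∨ x = q) with rfl | rfl | rfl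
      · exact ha
      · exact hb
      · exact hq
    calc 3 = ({a, b, q} : Finset α).card := by
          rw [Finset.card_eq_three.2 ⟨a, b, q, hab, hqa.symm, hqb.symm, rfl⟩]
      _ ≤ O.card := Finset.card_le_card this
  have h4 : 2 ^ (O.card - 2) =
      (((O \ {a, b}).powerset.filter fun S => ¬ Even S.card) ×ˢ (Finset.univ : Finset Bool)).card := by
    rw [Finset.card_product, hQ, hc, Finset.card_univ, Fintype.card_bool, ← pow_succ]
    congr 1
    omega
  rw [h4]
  symm
  refine Finset.card_bij' (fun z _ => insert (if z.2 then a else b) z.1)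
    (fun S _ => (S \ {a, b}, decide (a ∈ S))) ?_ ?_ ?_ ?_
  · rintro ⟨U, e⟩ hz
    rw [Finset.mem_product, Finset.mem_filter, Finset.mem_powerset] at hz
    obtain ⟨⟨hU, hUo⟩, -⟩ := hz
    have haU : a ∉ U := fun h => by have := hU h; simp at this
    have hbU : b ∉ U := fun h => by have := hU h; simp at this
    rw [Finset.mem_filter, Finset.mem_powerset]
    refine ⟨Finset.insert_subset ?_ (hU.trans Finset.sdiff_subset), ?_, ?_⟩
    · cases e
      · exact hb
      · exact ha
    · rw [Finset.card_insert_of_notMem (by cases e <;> simp [haU, hbU]), Nat.even_add_one]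
      exact hUo
    · cases e
      · simp [haU, hbU, hab]
      · simp [hbU, hab.symm]
  · intro S hS
    rw [Finset.mem_filter, Finset.mem_powerset] at hS
    obtain ⟨hS, he, hab'⟩ := hS
    rw [Finset.mem_product, Finset.mem_filter, Finset.mem_powerset]
    refine ⟨⟨Finset.sdiff_subset_sdiff hS (Finset.Subset.refl _), ?_⟩, Finset.mem_univ _⟩
    by_cases haS : a ∈ S
    · have hbS : b ∉ S := hab'.1 haS
      have h5 : S \ {a, b} = S.erase a := by
        ext x
        simp only [Finset.mem_sdiff, Finset.mem_insert, Finset.mem_singleton, Finset.mem_erase]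
        constructor
        · rintro ⟨h, h'⟩; exact ⟨fun e => h' (Or.inl e), h⟩
        · rintro ⟨h, h'⟩
          refine ⟨h', ?_⟩
          rintro (e | e)
          · exact h e
          · exact hbS (e ▸ h')
      have h6 : 0 < S.card := Finset.card_pos.2 ⟨a, haS⟩
      show ¬ Even (S \ {a, b}).card
      rw [h5, Finset.card_erase_of_mem haS]
      rw [Nat.even_iff] at *
      omega
    · have hbS : b ∈ S := by
        by_contra h
        exact haS (hab'.2 h)
      have h5 : S \ {a, b} = S.erase b := by
        ext x
        simp only [Finset.mem_sdiff, Finset.mem_insert, Finset.mem_singleton, Finset.mem_erase]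
        constructor
        · rintro ⟨h, h'⟩; exact ⟨fun e => h' (Or.inr e), h⟩
        · rintro ⟨h, h'⟩
          refine ⟨h', ?_⟩
          rintro (e | e)
          · exact haS (e ▸ h')
          · exact h e
      have h6 : 0 < S.card := Finset.card_pos.2 ⟨b, hbS⟩
      show ¬ Even (S \ {a, b}).card
      rw [h5, Finset.card_erase_of_mem hbS]
      rw [Nat.even_iff] at *
      omega
  · rintro ⟨U, e⟩ hz
    rw [Finset.mem_product, Finset.mem_filter, Finset.mem_powerset] at hz
    obtain ⟨⟨hU, hUo⟩, -⟩ := hz
    have haU : a ∉ U := fun h => by have := hU h; simp at this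
    have hbU : b ∉ U := fun h => by have := hU h; simp at this
    ext1
    · ext x
      simp only [Finset.mem_sdiff, Finset.mem_insert, Finset.mem_singleton]
      constructor
      · rintro ⟨h | h, h'⟩
        · cases e
          · exact absurd (Or.inr h) h'
          · exact absurd (Or.inl h) h'
        · exact h
      · intro h
        refine ⟨Or.inr h, ?_⟩
        rintro (rfl | rfl)
        · exact haU h
        · exact hbU h
    · cases e
      · simp [haU, hab]
      · simp
  · intro S hS
    rw [Finset.mem_filter, Finset.mem_powerset] at hS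
    obtain ⟨hS, he, hab'⟩ := hS
    ext x
    by_cases haS : a ∈ S
    · have hbS : b ∉ S := hab'.1 haS
      simp only [haS, decide_true, if_true, Finset.mem_insert, Finset.mem_sdiff,
        Finset.mem_singleton]
      constructor
      · rintro (rfl | h)
        · exact haS
        · exact h.1
      · intro h
        by_cases hxa : x = a
        · exact Or.inl hxa
        · refine Or.inr ⟨h, ?_⟩
          rintro (e | e)
          · exact hxa e
          · exact hbS (e ▸ h)
    · have hbS : b ∈ S := by
        by_contra h
        exact haS (hab'.2 h)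
      simp only [haS, decide_false, Finset.mem_insert, Finset.mem_sdiff,
        Finset.mem_singleton]
      constructor
      · rintro (h | h)
        · simp only [Bool.false_eq_true, if_false] at h
          rw [h]; exact hbS
        · exact h.1
      · intro h
        by_cases hxb : x = b
        · left; simpa using hxb
        · refine Or.inr ⟨h, ?_⟩
          rintro (e | e)
          · exact haS (e ▸ h)
          · exact hxb e

end Cfsg.Agent.SporadicStructure.MonoCounts
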