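import Cfsg.Prelude.Def_SporadicCombinatorics
import Cfsg.Agent.SporadicA.GolayBase
import Cfsg.Agent.SporadicA.GolayPerm
import Cfsg.Agent.SporadicA.M24Chain

/-!
`M24` is simply transitive on frames (octad, 6 distinct points of it in order, 1 point outside).

* `rigid_of_run`: kernel-checked octad certificates showing that an element of `M24` fixing certain
  points is trivial;
* `rigid_base`: an element of `M24` fixing `none, 0, 1, 2, 3, 5, 4` is trivial;
* `exists_to_base`: every frame can be mapped to the standard frame by an element of `K`;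
* `exists_unique_frame_map`: simple transitivity;
* `K_eq_M24`: `M24` is generated by the shift, `projInv`, `cubeTwist`;
* `exists_fix_octad_map`: the pointwise stabiliser of an octad is transitive on the other points.
-/

set_option autoImplicit false

namespace Cfsg.Agent.SporadicStructure.M24Frame

open scoped Pointwise
open Cfsg Equiv
open Cfsg.Agent.SporadicA.GolayBase Cfsg.Agent.SporadicA

/-- A member of `M24` mapping at least 5 points of an octad `o` into an octad `o'` maps `o` to
`o'`. -/
theorem smul_octad_eq_of_five {g : Perm GolayPt} (hg : g ∈ M24) {o o' : Finset GolayPt}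
    (ho : o ∈ octads) (ho' : o' ∈ octads)
    {s : Finset GolayPt} (hs : s ⊆ o) (h5 : 5 ≤ s.card) (h : ∀ z ∈ s, g z ∈ o') : g • o = o' := by
  apply octad_unique ((GolayPerm.smul_mem_octads hg).2 ho) ho'
  calc 5 ≤ s.card := h5
    _ = (g • s).card := (Finset.card_smul_finset _ _).symm
    _ ≤ (g • o ∩ o').card := by
      apply Finset.card_le_card
      intro y hy
      obtain ⟨x, hx, rfl⟩ := Finset.mem_smul_finset.1 hy
      rw [Finset.mem_inter]
      exact ⟨Finset.smul_mem_smul_finset (hs hx), h x hx⟩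

/-! ### Rigidity certificates -/

/-- mask test for octads -/
def isOct (m : ℕ) : Bool := isCode m && Nat.beq (popcount m) 8

theorem fin_mem_octads_of_isOct {m : ℕ} (h : isOct m = true) : fin m ∈ octads := by
  unfold isOct at h
  rw [Bool.and_eq_true, Nat.beq_eq] at h
  have hm := isCode_lt h.1
  exact (fin_mem_octads_iff hm).2 h

/-- One step: two octads (masks) having at least 5 points among the fixed points `f`, whose
intersection adds the single point `i` to `f`. -/
def stepOK (f o₁ o₂ i : ℕ) : Bool :=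
  isOct o₁ && isOct o₂ && Nat.ble 5 (popcount (o₁ &&& f)) && Nat.ble 5 (popcount (o₂ &&& f)) &&
    Nat.beq ((o₁ &&& o₂) ||| f) (f ||| (1 <<< i)) && Nat.blt i 24

/-- Run a certificate, starting with the fixed points `f`; at the end every point is fixed. -/
def run : ℕ → List (ℕ × ℕ × ℕ) → Bool
  | f, [] => Nat.beq f 16777215
  | f, s :: l => stepOK f s.1 s.2.1 s.2.2 && run (f ||| (1 <<< s.2.2)) l

theorem mem_stab_of_fix {g : Perm GolayPt} (hg : g ∈ M24) {f o : ℕ} (ho : isOct o = true)
    (h5 : 5 ≤ popcount (o &&& f)) (hf : ∀ p ∈ fin f, g p = p) : g • fin o = fin o := by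
  have hoct := fin_mem_octads_of_isOct ho
  apply smul_octad_eq_of_five hg hoct hoct (s := fin (o &&& f))
  · rw [fin_and]; exact Finset.inter_subset_left
  · rw [card_fin]; exact h5
  · intro z hz
    rw [fin_and, Finset.mem_inter] at hz
    rw [hf z hz.2]
    exact hz.1

theorem mem_of_smul_eq {g : Perm GolayPt} {s : Finset GolayPt} (h : g • s = s) {p : GolayPt}
    (hp : p ∈ s) : g p ∈ s := by
  have : g • p ∈ g • s := Finset.smul_mem_smul_finset hp
  rwa [h] at this

theorem fin_singleton {i : ℕ} (hi : i < 24) : fin (1 <<< i) = {pt i} := by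
  ext p
  rw [mem_fin, Finset.mem_singleton, Nat.one_shiftLeft, Nat.testBit_two_pow]
  rw [decide_eq_true_iff]
  constructor
  · rintro rfl
    rw [pt_idx]
  · rintro rfl
    rw [idx_pt hi]

theorem fix_step {g : Perm GolayPt} (hg : g ∈ M24) {f o₁ o₂ i : ℕ}
    (hs : stepOK f o₁ o₂ i = true) (hf : ∀ p ∈ fin f, g p = p) :
    ∀ p ∈ fin (f ||| (1 <<< i)), g p = p := by
  unfold stepOK at hs
  simp only [Bool.and_eq_true, Nat.ble_eq, Nat.beq_eq] at hs
  obtain ⟨⟨⟨⟨⟨h1, h2⟩, h3⟩, h4⟩, h5⟩, h6⟩ := hs
  have hi : i < 24 := by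
    rw [Nat.blt_eq] at h6
    exact h6
  have e1 := mem_stab_of_fix hg h1 h3 hf
  have e2 := mem_stab_of_fix hg h2 h4 hf
  intro p hp
  rw [fin_or, fin_singleton hi, Finset.mem_union, Finset.mem_singleton] at hp
  rcases hp with hp | rfl
  · exact hf p hp
  · -- the new point
    by_cases hpf : pt i ∈ fin f
    · exact hf _ hpf
    have hmem : pt i ∈ fin ((o₁ &&& o₂) ||| f) := by
      rw [h5, fin_or, fin_singleton hi, Finset.mem_union, Finset.mem_singleton]
      exact Or.inr rfl
    rw [fin_or, Finset.mem_union] at hmem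
    have hmem' : pt i ∈ fin (o₁ &&& o₂) := hmem.resolve_right hpf
    rw [fin_and, Finset.mem_inter] at hmem'
    have hg' : g (pt i) ∈ fin ((o₁ &&& o₂) ||| f) := by
      rw [fin_or, fin_and, Finset.mem_union, Finset.mem_inter]
      exact Or.inl ⟨mem_of_smul_eq e1 hmem'.1, mem_of_smul_eq e2 hmem'.2⟩
    rw [h5, fin_or, fin_singleton hi, Finset.mem_union, Finset.mem_singleton] at hg'
    rcases hg' with h | h
    · exact g.injective (hf _ h)
    · exact h

theorem rigid_of_run {g : Perm GolayPt} (hg : g ∈ M24) : ∀ (l : List (ℕ × ℕ × ℕ)) (f : ℕ),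
    run f l = true → (∀ p ∈ fin f, g p = p) → g = 1
  | [], f, h, hf => by
    unfold run at h
    rw [Nat.beq_eq] at h
    subst h
    ext p
    rw [hf p (by revert p; decide +kernel)]
    rfl
  | s :: l, f, h, hf => by
    unfold run at h
    rw [Bool.and_eq_true] at h
    exact rigid_of_run hg l _ h.2 (fix_step hg h.1 hf)

/-- certificate for the standard base -/
def baseCert : List (ℕ × ℕ × ℕ) :=
  [(12656663, 8663097, 13), (3416079, 9543722, 20), (3416079, 11538486, 21),
   (3416079, 3416079, 18), (11538486, 11538486, 12), (9347075, 13938692, 15),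
   (13938692, 13938692, 22), (1413139, 1413139, 16), (10825794, 10825794, 6),
   (13062145, 4845570, 14), (13062145, 13062145, 17), (4845570, 4845570, 19),
   (2019456, 2019456, 7), (4038912, 4038912, 8), (8077824, 8077824, 9), (11654144, 11654144, 10),
   (14919680, 14919680, 11)]

/-- mask of the base points `none, 0, 1, 2, 3, 5, 4` -/
def baseMask : ℕ := 8388671

theorem run_baseCert : run baseMask baseCert = true := by decide +kernel

theorem rigid_base {g : Perm GolayPt} (hg : g ∈ M24) (h0 : g none = none)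
    (h1 : g (some 0) = some 0) (h2 : g (some 1) = some 1) (h3 : g (some 2) = some 2)
    (h4 : g (some 3) = some 3) (h5 : g (some 5) = some 5) (h6 : g (some 4) = some 4) : g = 1 := by
  apply rigid_of_run hg _ _ run_baseCert
  intro p hp
  have h : p = none ∨ p = some 0 ∨ p = some 1 ∨ p = some 2 ∨ p = some 3 ∨ p = some 5 ∨
      p = some 4 := by
    revert p; decide +kernel
  rcases h with rfl | rfl | rfl | rfl | rfl | rfl | rfl <;> assumption

/-! ### The standard frame -/

/-- the standard octad -/
def stdOctad : Finset GolayPt :=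
  {none, some 0, some 1, some 2, some 3, some 5, some 14, some 17}

theorem stdOctad_mem : stdOctad ∈ octads := by
  have h : stdOctad = fin 8536111 := by decide +kernel
  rw [h]
  exact fin_mem_octads_of_isOct (by decide +kernel)

/-- the six points of the standard octad in the standard frame -/
def base6 : Fin 6 → GolayPt := ![none, some 0, some 1, some 2, some 3, some 5]

theorem base6_mem (i : Fin 6) : base6 i ∈ stdOctad := by revert i; decide +kernel

theorem base6_injective : Function.Injective base6 := by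
  unfold Function.Injective
  decide +kernel

theorem four_notMem : (some 4 : GolayPt) ∉ stdOctad := by decide +kernel

theorem base6_zero : base6 0 = none := rfl
theorem base6_one : base6 1 = some 0 := rfl
theorem base6_two : base6 2 = some 1 := rfl
theorem base6_three : base6 3 = some 2 := rfl
theorem base6_four : base6 4 = some 3 := rfl
theorem base6_five : base6 5 = some 5 := rfl

theorem rigid_base6 {g : Perm GolayPt} (hg : g ∈ M24) (h : ∀ i, g (base6 i) = base6 i)
    (h4 : g (some 4) = some 4) : g = 1 :=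
  rigid_base hg (h 0) (h 1) (h 2) (h 3) (h 4) (h 5) h4

theorem smul_eq_std {g : Perm GolayPt} (hg : g ∈ M24) {o : Finset GolayPt} (ho : o ∈ octads)
    {a : Fin 6 → GolayPt} (ha : Function.Injective a) (hao : ∀ i, a i ∈ o)
    (h : ∀ i : Fin 5, g (a i.castSucc) = base6 i.castSucc) : g • o = stdOctad := by
  apply smul_octad_eq_of_five hg ho stdOctad_mem
    (s := Finset.univ.image fun i : Fin 5 => a i.castSucc)
  · intro z hz
    obtain ⟨i, _, rfl⟩ := Finset.mem_image.1 hz
    exact hao _
  · rw [Finset.card_image_of_injective]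
    · simp
    · exact ha.comp (Fin.castSucc_injective 5)
  · intro z hz
    obtain ⟨i, _, rfl⟩ := Finset.mem_image.1 hz
    rw [h]
    exact base6_mem _

theorem mem_of_smul_eq' {g : Perm GolayPt} {o o' : Finset GolayPt} (h : g • o = o')
    (p : GolayPt) : g p ∈ o' ↔ p ∈ o := by
  rw [← h]
  exact Finset.smul_mem_smul_finset_iff g

theorem inv_apply_eq' {g : Perm GolayPt} {x y : GolayPt} (h : g x = y) : g⁻¹ y = x := by
  rw [Perm.inv_eq_iff_eq, h]

theorem exists_to_base {o : Finset GolayPt} (ho : o ∈ octads) {a : Fin 6 → GolayPt}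
    (ha : Function.Injective a) (hao : ∀ i, a i ∈ o) {p : GolayPt} (hp : p ∉ o) :
    ∃ h ∈ M24Chain.K, (∀ i, h (a i) = base6 i) ∧ h p = some 4 ∧ h • o = stdOctad := by
  obtain ⟨h, hK, e0, e1, e2, e3, e4⟩ := M24Chain.exists_map_five (fun i => a i.castSucc)
    (ha.comp (Fin.castSucc_injective 5))
  have hM := M24Chain.K_le_M24 hK
  have hh : ∀ i : Fin 5, h (a i.castSucc) = base6 i.castSucc := by
    intro i
    fin_cases i
    · exact e0
    · exact e1
    · exact e2
    · exact e3
    · exact e4
  have hho := smul_eq_std hM ho ha hao hh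
  have h5mem : h (a 5) ∈ stdOctad := (mem_of_smul_eq' hho _).2 (hao 5)
  have h5ne : ∀ i : Fin 5, h (a 5) ≠ base6 i.castSucc := by
    intro i hi
    rw [← hh i] at hi
    have := ha (h.injective hi)
    have h2 : ∀ i : Fin 5, (5 : Fin 6) ≠ i.castSucc := by decide
    exact h2 i this
  have h5 : h (a 5) = some 5 ∨ h (a 5) = some 14 ∨ h (a 5) = some 17 := by
    have n0 := h5ne 0
    have n1 := h5ne 1
    have n2 := h5ne 2
    have n3 := h5ne 3
    have n4 := h5ne 4
    generalize h (a 5) = q at *
    revert h5mem n0 n1 n2 n3 n4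
    clear * -
    revert q
    decide +kernel
  obtain ⟨g5, m5, f0, f1, f2, f3, f4, f5⟩ := M24Chain.L5 _ h5
  let h' := g5⁻¹ * h
  have hK' : h' ∈ M24Chain.K := mul_mem (inv_mem m5) hK
  have hM' := M24Chain.K_le_M24 hK'
  have hh5 : ∀ i : Fin 5, h' (a i.castSucc) = base6 i.castSucc := by
    intro i
    show g5⁻¹ (h (a i.castSucc)) = _
    rw [hh]
    apply inv_apply_eq'
    fin_cases i
    · exact f0
    · exact f1
    · exact f2
    · exact f3
    · exact f4
  have hh55 : h' (a 5) = some 5 := by
    show g5⁻¹ (h (a 5)) = _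
    exact inv_apply_eq' f5
  have hho' := smul_eq_std hM' ho ha hao hh5
  have hp' : h' p ∉ stdOctad := fun hc => hp ((mem_of_smul_eq' hho' _).1 hc)
  obtain ⟨g6, m6, k0, k1, k2, k3, k4, k5, k6⟩ := M24Chain.L6 (h' p) hp'
  let h'' := g6⁻¹ * h'
  have hK'' : h'' ∈ M24Chain.K := mul_mem (inv_mem m6) hK'
  have hh6 : ∀ i : Fin 5, h'' (a i.castSucc) = base6 i.castSucc := by
    intro i
    show g6⁻¹ (h' (a i.castSucc)) = _
    rw [hh5]
    apply inv_apply_eq'
    fin_cases i
    · exact k0
    · exact k1
    · exact k2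
    · exact k3
    · exact k4
  have hh65 : h'' (a 5) = some 5 := by
    show g6⁻¹ (h' (a 5)) = _
    rw [hh55]
    exact inv_apply_eq' k5
  refine ⟨h'', hK'', ?_, ?_, smul_eq_std (M24Chain.K_le_M24 hK'') ho ha hao hh6⟩
  · intro i
    refine Fin.lastCases ?_ (fun j => hh6 j) i
    exact hh65
  · show g6⁻¹ (h' p) = some 4
    exact inv_apply_eq' k6

/-- Simple transitivity of `M24` on frames. -/
theorem exists_unique_frame_map {o o' : Finset GolayPt} (ho : o ∈ octads) (ho' : o' ∈ octads)
    {a a' : Fin 6 → GolayPt} (ha : Function.Injective a) (ha' : Function.Injective a')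
    (hao : ∀ i, a i ∈ o) (hao' : ∀ i, a' i ∈ o') {p p' : GolayPt} (hp : p ∉ o) (hp' : p' ∉ o') :
    ∃! g : Perm GolayPt, g ∈ M24 ∧ (∀ i, g (a i) = a' i) ∧ g p = p' := by
  obtain ⟨h, hK, e1, e2, _⟩ := exists_to_base ho ha hao hp
  obtain ⟨h', hK', e1', e2', _⟩ := exists_to_base ho' ha' hao' hp'
  have hM := M24Chain.K_le_M24 hK
  have hM' := M24Chain.K_le_M24 hK'
  refine ⟨h'⁻¹ * h, ⟨mul_mem (inv_mem hM') hM, ?_, ?_⟩, ?_⟩
  · intro i
    rw [Perm.mul_apply, e1]
    exact inv_apply_eq' (e1' i)
  · rw [Perm.mul_apply, e2]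
    exact inv_apply_eq' e2'
  · rintro g ⟨hg, g1, g2⟩
    have key : h' * g * h⁻¹ = 1 := by
      apply rigid_base6 (mul_mem (mul_mem hM' hg) (inv_mem hM))
      · intro i
        rw [Perm.mul_apply, Perm.mul_apply, inv_apply_eq' (e1 i), g1, e1']
      · rw [Perm.mul_apply, Perm.mul_apply, inv_apply_eq' e2, g2, e2']
    rw [mul_inv_eq_one] at key
    rw [← key, inv_mul_cancel_left]

/-- An element of `M24` fixing six points of an octad and a point outside is trivial. -/
theorem eq_one_of_fix_frame {g : Perm GolayPt} (hg : g ∈ M24) {o : Finset GolayPt}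
    (ho : o ∈ octads) {s : Finset GolayPt} (hs : s ⊆ o) (h6 : 6 ≤ s.card)
    (hfix : ∀ z ∈ s, g z = z) {p : GolayPt} (hp : p ∉ o) (hgp : g p = p) : g = 1 := by
  obtain ⟨s', hs', h6'⟩ := Finset.exists_subset_card_eq h6
  let e : Fin 6 ≃ ↥s' := (Fintype.equivFinOfCardEq (by rw [Fintype.card_coe, h6'])).symm
  let a : Fin 6 → GolayPt := fun i => (e i : GolayPt)
  have ha : Function.Injective a := Subtype.val_injective.comp e.injective
  have hao : ∀ i, a i ∈ o := fun i => hs (hs' (e i).2)
  obtain ⟨u, _, hu⟩ := exists_unique_frame_map ho ho ha ha hao hao hp hp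
  rw [hu g ⟨hg, fun i => hfix _ (hs' (e i).2), hgp⟩,
    hu 1 ⟨M24.one_mem, fun i => rfl, rfl⟩]

/-- Every octad contains six distinct points. -/
theorem exists_six {o : Finset GolayPt} (ho : o ∈ octads) :
    ∃ a : Fin 6 → GolayPt, Function.Injective a ∧ ∀ i, a i ∈ o := by
  obtain ⟨s', hs', h6'⟩ := Finset.exists_subset_card_eq (s := o) (n := 6)
    (by rw [octad_card ho]; norm_num)
  let e : Fin 6 ≃ ↥s' := (Fintype.equivFinOfCardEq (by rw [Fintype.card_coe, h6'])).symm
  exact ⟨fun i => (e i : GolayPt), Subtype.val_injective.comp e.injective,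
    fun i => hs' (e i).2⟩

/-- `M24` is generated by the shift, `projInv` and `cubeTwist`. -/
theorem K_eq_M24 : M24Chain.K = M24 := by
  apply le_antisymm M24Chain.K_le_M24
  intro g hg
  obtain ⟨h, hK, e1, e2, _⟩ := exists_to_base (o := g • stdOctad)
    ((GolayPerm.smul_mem_octads hg).2 stdOctad_mem) (a := fun i => g (base6 i))
    (g.injective.comp base6_injective)
    (fun i => (Finset.smul_mem_smul_finset_iff g).2 (base6_mem i)) (p := g (some 4))
    (fun hc => four_notMem ((Finset.smul_mem_smul_finset_iff g).1 hc))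
  have key : h * g = 1 := rigid_base6 (mul_mem (M24Chain.K_le_M24 hK) hg) e1 e2
  rw [eq_inv_of_mul_eq_one_right key]
  exact inv_mem hK

/-- `M24` is transitive on octads; moreover a point outside can be prescribed. -/
theorem exists_smul_octad {o o' : Finset GolayPt} (ho : o ∈ octads) (ho' : o' ∈ octads)
    {p p' : GolayPt} (hp : p ∉ o) (hp' : p' ∉ o') : ∃ g ∈ M24, g • o = o' ∧ g p = p' := by
  obtain ⟨a, ha, hao⟩ := exists_six ho
  obtain ⟨a', ha', hao'⟩ := exists_six ho'
  obtain ⟨g, ⟨hg, h1, h2⟩, _⟩ := exists_unique_frame_map ho ho' ha ha' hao hao' hp hp'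
  refine ⟨g, hg, ?_, h2⟩
  apply smul_octad_eq_of_five hg ho ho' (s := Finset.univ.image a)
  · intro z hz
    obtain ⟨i, _, rfl⟩ := Finset.mem_image.1 hz
    exact hao _
  · rw [Finset.card_image_of_injective _ ha]
    simp
  · intro z hz
    obtain ⟨i, _, rfl⟩ := Finset.mem_image.1 hz
    rw [h1]
    exact hao' _

/-! ### The pointwise stabiliser of an octad -/

/-- indices of the points of the standard octad -/
def octList : List ℕ := [23, 0, 1, 2, 3, 5, 14, 17]

theorem octfix_check : ∀ x ∈ M24Chain.allowed.getD 6 [],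
    (∀ i ∈ (M24Chain.W.getD 6 []).getD x [], i < 40 ∧
      ∀ b ∈ octList, (M24Chain.T.getD i []).getD b 0 = b) ∧
      M24Chain.evalW ((M24Chain.W.getD 6 []).getD x []) 4 = x := by
  decide +kernel

theorem exists_fix_std (p : GolayPt) (hp : p ∉ stdOctad) :
    ∃ g ∈ M24, (∀ x ∈ stdOctad, g x = x) ∧ g (some 4) = p := by
  have hp' : M24Gens.pidx p ∈ M24Chain.allowed.getD 6 [] := by revert p; decide +kernel
  obtain ⟨h1, h2⟩ := octfix_check _ hp'
  obtain ⟨g, hg, hg1, hg2⟩ := M24Chain.word_spec octList _ h1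
  refine ⟨g, M24Chain.K_le_M24 hg, ?_, M24Gens.pidx_injective ?_⟩
  · intro x hx
    apply hg2
    revert x
    decide +kernel
  · rw [hg1]
    exact h2

/-- The pointwise stabiliser of an octad is transitive on the other points. -/
theorem exists_fix_octad_map {o : Finset GolayPt} (ho : o ∈ octads) {p q : GolayPt}
    (hp : p ∉ o) (hq : q ∉ o) : ∃ g ∈ M24, (∀ x ∈ o, g x = x) ∧ g p = q := by
  obtain ⟨h, hh, h1, h2⟩ := exists_smul_octad ho stdOctad_mem hp four_notMem
  obtain ⟨g, hg, g1, g2⟩ := exists_fix_std (h q) (fun hc => hq ((mem_of_smul_eq' h1 q).1 hc))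
  refine ⟨h⁻¹ * g * h, mul_mem (mul_mem (inv_mem hh) hg) hh, ?_, ?_⟩
  · intro x hx
    rw [Perm.mul_apply, Perm.mul_apply, g1 _ ((mem_of_smul_eq' h1 x).2 hx)]
    exact inv_apply_eq' rfl
  · rw [Perm.mul_apply, Perm.mul_apply, h2, g2]
    exact inv_apply_eq' rfl

end Cfsg.Agent.SporadicStructure.M24Frame
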