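import Cfsg.Agent.SporadicStructure.OctadStabM24
import Cfsg.Agent.SporadicStructure.M24Frame

/-!
The hypotheses of `OctadStabAbs` hold for `M24`, every octad and every point outside it; so the
octad stabiliser has the structure `2^4 : A8` (see `OctadStabAbs`).
-/

set_option autoImplicit false

namespace Cfsg.Agent.SporadicStructure.OctadStabFinal

open scoped Pointwise
open Cfsg Equiv

theorem mapHyp : OctadStabM24.MapHyp :=
  fun _ _ ho ho' _ _ ha ha' hao hao' _ _ hp hp' =>
    M24Frame.exists_unique_frame_map ho ho' ha ha' hao hao' hp hp'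

theorem hyp {o : Finset GolayPt} (ho : o ∈ octads) {p : GolayPt} (hp : p ∉ o) :
    OctadStabAbs.Hyp M24 o p where
  card := SporadicA.GolayBase.octad_card ho
  hp := hp
  hK := fun _ hq => M24Frame.exists_fix_octad_map ho hq hp
  hR := fun _ hg _ hgp _ hs h6 hfix =>
    M24Frame.eq_one_of_fix_frame hg ho hs h6.ge hfix hp hgp
  hT := fun s hs h5 x hx y hy hxs hys =>
    OctadStabM24.hT mapHyp ho hp s hs h5 x hx y hy hxs hys

end Cfsg.Agent.SporadicStructure.OctadStabFinal
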