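import Cfsg.Agent.SporadicA.GolayPerm

/-!
# Elements of the group `Cfsg.M24` given by packed permutations

`el P` is the element of `M24` (as a group) packed in the natural number `P`, provided the
Boolean check `ok P` succeeds; `prodW gl w` is the packed product of the word `w` in the list `gl`.
-/

set_option autoImplicit false

namespace Cfsg.Agent.SporadicStructure.M24El

open Cfsg Cfsg.Agent.SporadicA.GolayBase Cfsg.Agent.SporadicA.GolayPerm
open scoped Pointwise

/-- Whether `P` packs a permutation in `M24`. -/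
def ok (P : ℕ) : Bool := isPerm P && isAut P

theorem ok_iff {P : ℕ} : ok P = true ↔ isPerm P = true ∧ isAut P = true := by
  unfold ok
  rw [Bool.and_eq_true]

open Classical in
/-- The element of `M24` packed in `P`. -/
noncomputable def el (P : ℕ) : M24 :=
  if h : isPerm P = true ∧ isAut P = true then ⟨permOf P h.1, permOf_mem_M24 h.1 h.2⟩ else 1

theorem coe_el {P : ℕ} (h : ok P = true) : (el P : Equiv.Perm GolayPt) = permOf P (ok_iff.1 h).1 := by
  unfold el
  rw [dif_pos (ok_iff.1 h)]

theorem coe_smul_pt (g : M24) (p : GolayPt) : g • p = (g : Equiv.Perm GolayPt) p := rfl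

theorem coe_smul_finset (g : M24) (s : Finset GolayPt) :
    g • s = (g : Equiv.Perm GolayPt) • s := rfl

theorem el_smul_pt {P : ℕ} (h : ok P = true) (p : GolayPt) : el P • p = pt (papp P (idx p)) := by
  rw [coe_smul_pt, coe_el h, permOf_apply]

theorem idx_el_smul {P : ℕ} (h : ok P = true) (p : GolayPt) :
    idx (el P • p) = papp P (idx p) := by
  rw [coe_smul_pt, coe_el h, idx_permOf]

theorem el_smul_fin {P : ℕ} (h : ok P = true) (m : ℕ) : el P • fin m = fin (pimg P m) := by
  rw [coe_smul_finset, coe_el h, smul_fin]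

theorem ok_pcomp {P Q : ℕ} (hP : ok P = true) (hQ : ok Q = true) : ok (pcomp P Q) = true := by
  have h1 := ok_iff.1 hP
  have h2 := ok_iff.1 hQ
  refine ok_iff.2 ⟨isPerm_pcomp h1.1 h2.1, ?_⟩
  apply isAut_of_mem_M24 (isPerm_pcomp h1.1 h2.1)
  rw [permOf_pcomp h1.1 h2.1]
  exact M24.mul_mem (permOf_mem_M24 h1.1 h1.2) (permOf_mem_M24 h2.1 h2.2)

theorem el_pcomp {P Q : ℕ} (hP : ok P = true) (hQ : ok Q = true) :
    el (pcomp P Q) = el P * el Q := by
  apply Subtype.ext
  rw [Subgroup.coe_mul, coe_el (ok_pcomp hP hQ), coe_el hP, coe_el hQ, permOf_pcomp]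

/-- The packed identity. -/
def idP : ℕ := 984818244535754528103549039458486304

theorem ok_idP : ok idP = true := by decide +kernel

theorem el_idP : el idP = 1 := by
  apply Subtype.ext
  rw [coe_el ok_idP]
  ext1 p
  rw [permOf_apply, Subgroup.coe_one, Equiv.Perm.one_apply]
  have h : ∀ i, i < 24 → papp idP i = i := by decide +kernel
  rw [h _ (idx_lt p), pt_idx]

/-- The packed product of a word in the list `gl`. -/
def prodW (gl : List ℕ) : List ℕ → ℕ
  | [] => idP
  | i :: w => pcomp (gl.getD i idP) (prodW gl w)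

theorem ok_getD {gl : List ℕ} (h : ∀ P ∈ gl, ok P = true) (i : ℕ) :
    ok (gl.getD i idP) = true := by
  by_cases hi : i < gl.length
  · rw [List.getD_eq_getElem _ _ hi]
    exact h _ (List.getElem_mem hi)
  · rw [List.getD_eq_default _ _ (by omega)]
    exact ok_idP

theorem ok_prodW {gl : List ℕ} (h : ∀ P ∈ gl, ok P = true) (w : List ℕ) :
    ok (prodW gl w) = true := by
  induction w with
  | nil => exact ok_idP
  | cons i w ih => exact ok_pcomp (ok_getD h i) ih

theorem el_prodW {gl : List ℕ} (h : ∀ P ∈ gl, ok P = true) (w : List ℕ) :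
    el (prodW gl w) = (w.map fun i => el (gl.getD i idP)).prod := by
  induction w with
  | nil => exact el_idP
  | cons i w ih =>
    show el (pcomp _ _) = _
    rw [el_pcomp (ok_getD h i) (ok_prodW h w), ih, List.map_cons, List.prod_cons]

/-- A word in elements of a subgroup lies in the subgroup. -/
theorem el_prodW_mem {gl : List ℕ} (h : ∀ P ∈ gl, ok P = true) {K : Subgroup M24} {w : List ℕ}
    (hK : ∀ i ∈ w, el (gl.getD i idP) ∈ K) : el (prodW gl w) ∈ K := by
  rw [el_prodW h]
  apply K.list_prod_mem
  intro x hx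
  obtain ⟨i, hi, rfl⟩ := List.mem_map.1 hx
  exact hK i hi

/-- The subgroup generated by the first `k` elements of the list. -/
noncomputable def sub (gl : List ℕ) (k : ℕ) : Subgroup M24 :=
  Subgroup.closure {g | ∃ j < k, g = el (gl.getD j idP)}

theorem mem_sub {gl : List ℕ} {k j : ℕ} (hj : j < k) : el (gl.getD j idP) ∈ sub gl k :=
  Subgroup.subset_closure ⟨j, hj, rfl⟩

/-- Normal series certificate: the `k`-th element has order dividing 2 and normalises the
subgroup generated by the previous ones, the conjugates being given by words. -/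
def cert (gl : List ℕ) (c : List (List (List ℕ))) (k : ℕ) : Bool :=
  Nat.beq (pcomp (gl.getD k idP) (gl.getD k idP)) idP &&
  (List.range k).all fun j =>
    (((c.getD k []).getD j []).all fun i => Nat.blt i k) &&
    Nat.beq (pcomp (gl.getD k idP) (gl.getD j idP))
      (pcomp (prodW gl ((c.getD k []).getD j [])) (gl.getD k idP))

theorem isPGroup_sub {gl : List ℕ} (h : ∀ P ∈ gl, ok P = true) (c : List (List (List ℕ)))
    (n : ℕ) (hc : ∀ k < n, cert gl c k = true) : IsPGroup 2 (sub gl n) := by
  induction n with
  | zero =>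
    have : sub gl 0 = ⊥ := by
      unfold sub
      rw [Subgroup.closure_eq_bot_iff]
      rintro g ⟨j, hj, -⟩
      omega
    rw [this]
    exact IsPGroup.of_bot
  | succ k ih =>
    have ih' := ih fun j hj => hc j (by omega)
    have hk := hc k (by omega)
    unfold cert at hk
    rw [Bool.and_eq_true] at hk
    obtain ⟨hk1, hk2⟩ := hk
    have hsq : el (gl.getD k idP) * el (gl.getD k idP) = 1 := by
      rw [← el_pcomp (ok_getD h k) (ok_getD h k), Nat.eq_of_beq_eq_true hk1, el_idP]
    have hnorm : ∀ j < k, el (gl.getD k idP) * el (gl.getD j idP) * (el (gl.getD k idP))⁻¹ ∈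
        sub gl k := by
      intro j hj
      have h1 := List.all_eq_true.1 hk2 j (List.mem_range.2 hj)
      rw [Bool.and_eq_true] at h1
      have h2 := Nat.eq_of_beq_eq_true h1.2
      have h3 := congrArg el h2
      rw [el_pcomp (ok_getD h k) (ok_getD h j), el_pcomp (ok_prodW h _) (ok_getD h k)] at h3
      rw [h3, mul_inv_cancel_right]
      apply el_prodW_mem h
      intro i hi
      exact mem_sub (Nat.blt_eq.mp (List.all_eq_true.1 h1.1 i hi))
    have hz : IsPGroup 2 (Subgroup.zpowers (el (gl.getD k idP))) := by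
      rintro ⟨x, hx⟩
      refine ⟨1, ?_⟩
      obtain ⟨m, rfl⟩ := Subgroup.mem_zpowers_iff.1 hx
      apply Subtype.ext
      show (el (gl.getD k idP) ^ m) ^ (2 ^ 1) = 1
      rw [pow_one, ← zpow_natCast, ← zpow_mul, mul_comm, zpow_mul]
      have : el (gl.getD k idP) ^ ((2 : ℕ) : ℤ) = 1 := by
        rw [zpow_natCast, pow_two, hsq]
      rw [this, one_zpow]
    have hle : Subgroup.zpowers (el (gl.getD k idP)) ≤ Subgroup.normalizer (sub gl k : Set M24) := by
      rw [Subgroup.zpowers_le]
      apply Subgroup.mem_normalizer_fintype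
      intro x hx
      have h4 : (sub gl k).map (MulAut.conj (el (gl.getD k idP))).toMonoidHom ≤ sub gl k := by
        unfold sub
        rw [MonoidHom.map_closure, Subgroup.closure_le]
        rintro _ ⟨_, ⟨j, hj, rfl⟩, rfl⟩
        exact hnorm j hj
      exact h4 (Subgroup.mem_map_of_mem _ hx)
    have hsup : sub gl (k + 1) = Subgroup.zpowers (el (gl.getD k idP)) ⊔ sub gl k := by
      apply le_antisymm
      · unfold sub
        rw [Subgroup.closure_le]
        rintro _ ⟨j, hj, rfl⟩
        rcases Nat.lt_succ_iff_lt_or_eq.1 hj with h5 | rfl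
        · exact Subgroup.mem_sup_right (mem_sub h5)
        · exact Subgroup.mem_sup_left (Subgroup.mem_zpowers _)
      · apply sup_le
        · rw [Subgroup.zpowers_le]
          exact mem_sub (Nat.lt_succ_self k)
        · unfold sub
          apply Subgroup.closure_mono
          rintro _ ⟨j, hj, rfl⟩
          exact ⟨j, by omega, rfl⟩
    rw [hsup]
    exact hz.to_sup_of_normal_right' ih' hle

end Cfsg.Agent.SporadicStructure.M24El
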