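import Cfsg.Agent.SporadicStructure.LeechBase

set_option autoImplicit false
open Cfsg

/-!
The length-24 code is self-orthogonal and doubly even (directly from its generators).
-/

namespace Cfsg.Agent.SporadicStructure.GolayEven

open Cfsg.Agent.SporadicStructure.LeechBase

/-- Bit mask of the squares modulo 23. -/
def sqMask : Nat := 2^0+2^1+2^2+2^3+2^4+2^6+2^8+2^9+2^12+2^13+2^16+2^18

theorem sq_iff : ∀ x : ZMod 23, (∃ r : ZMod 23, x = r ^ 2) ↔ sqMask.testBit x.val = true := by
  decide +kernel

theorem sq_iff' (x t : ZMod 23) :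
    (∃ r : ZMod 23, x = r ^ 2 + t) ↔ sqMask.testBit (x - t).val = true := by
  rw [← sq_iff]
  constructor
  · rintro ⟨r, hr⟩; exact ⟨r, by rw [hr]; ring⟩
  · rintro ⟨r, hr⟩; exact ⟨r, by rw [← hr]; ring⟩

/-- Boolean version of `qrWord`. -/
def qf (t : ZMod 23) : GolayPt → Bool
  | none => false
  | some x => sqMask.testBit (x - t).val

theorem qrWord_eq (t : ZMod 23) (p : GolayPt) : qrWord t p = if qf t p = true then 1 else 0 := by
  cases p with
  | none => rfl
  | some x =>
    show (if ∃ r : ZMod 23, x = r ^ 2 + t then (1 : ZMod 2) else 0) = _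
    simp only [qf, ← sq_iff']

theorem support₂_qrWord (t : ZMod 23) :
    support₂ (qrWord t) = Finset.univ.filter fun p => qf t p = true := by
  ext p
  rw [mem_support₂_iff_one, qrWord_eq, Finset.mem_filter]
  by_cases h : qf t p = true <;> simp [h]

set_option maxRecDepth 100000 in
theorem gen_dot : ∀ s t : ZMod 23,
    ((Finset.univ.filter fun p => qf s p = true) ∩
      (Finset.univ.filter fun p => qf t p = true)).card % 2 = 0 := by
  decide +kernel

set_option maxRecDepth 100000 in
theorem gen_wt : ∀ s : ZMod 23, (Finset.univ.filter fun p => qf s p = true).card = 12 := by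
  decide +kernel

/-- The standard bilinear form. -/
def dot₂ (v w : GolayPt → ZMod 2) : ZMod 2 := ∑ p, v p * w p

theorem dot₂_eq (v w : GolayPt → ZMod 2) :
    dot₂ v w = (((support₂ v ∩ support₂ w).card : ℕ) : ZMod 2) := by
  rw [dot₂, Finset.card_eq_sum_ones, Nat.cast_sum]
  rw [← Finset.sum_subset (Finset.subset_univ (support₂ v ∩ support₂ w))]
  · apply Finset.sum_congr rfl
    intro p hp
    rw [Finset.mem_inter, mem_support₂_iff_one, mem_support₂_iff_one] at hp
    simp [hp.1, hp.2]
  · intro p _ hp
    rw [Finset.mem_inter, mem_support₂, mem_support₂] at hp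
    by_cases h : v p = 0
    · simp [h]
    · by_cases h' : w p = 0
      · simp [h']
      · exact absurd ⟨h, h'⟩ hp

theorem dot₂_add_left (u v w : GolayPt → ZMod 2) : dot₂ (u + v) w = dot₂ u w + dot₂ v w := by
  simp only [dot₂, Pi.add_apply, add_mul, Finset.sum_add_distrib]

theorem dot₂_smul_left (c : ZMod 2) (v w : GolayPt → ZMod 2) : dot₂ (c • v) w = c * dot₂ v w := by
  simp only [dot₂, Pi.smul_apply, smul_eq_mul, mul_assoc, Finset.mul_sum]

theorem dot₂_comm (v w : GolayPt → ZMod 2) : dot₂ v w = dot₂ w v := by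
  simp only [dot₂, mul_comm]

theorem dot₂_zero_left (w : GolayPt → ZMod 2) : dot₂ 0 w = 0 := by
  simp [dot₂]

theorem support₂_one : support₂ (1 : GolayPt → ZMod 2) = Finset.univ := by
  ext p; simp [mem_support₂]

theorem dot₂_generators (v w : GolayPt → ZMod 2) (hv : v ∈ Set.range qrWord ∪ {1})
    (hw : w ∈ Set.range qrWord ∪ ({1} : Set (GolayPt → ZMod 2))) : dot₂ v w = 0 := by
  rw [dot₂_eq]
  have key : 2 ∣ (support₂ v ∩ support₂ w).card := by
    rcases hv with ⟨s, rfl⟩ | rfl <;> rcases hw with ⟨t, rfl⟩ | rfl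
    · rw [support₂_qrWord, support₂_qrWord]
      exact Nat.dvd_of_mod_eq_zero (gen_dot s t)
    · rw [support₂_one, Finset.inter_univ, support₂_qrWord, gen_wt]; norm_num
    · rw [support₂_one, Finset.univ_inter, support₂_qrWord, gen_wt]; norm_num
    · rw [support₂_one, Finset.inter_univ, Finset.card_univ]; decide
  exact (ZMod.natCast_eq_zero_iff _ _).2 key

/-- The code is self-orthogonal. -/
theorem dot₂_eq_zero {v w : GolayPt → ZMod 2} (hv : v ∈ golayCode) (hw : w ∈ golayCode) :
    dot₂ v w = 0 := by
  refine Submodule.span_induction (p := fun v _ => dot₂ v w = 0) ?_ ?_ ?_ ?_ hv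
  · intro x hx
    rw [dot₂_comm]
    refine Submodule.span_induction (p := fun v _ => dot₂ v x = 0) ?_ ?_ ?_ ?_ hw
    · intro y hy; exact dot₂_generators y x hy hx
    · exact dot₂_zero_left x
    · intro a b _ _ ha hb; rw [dot₂_add_left, ha, hb, add_zero]
    · intro c a _ ha; rw [dot₂_smul_left, ha, mul_zero]
  · exact dot₂_zero_left w
  · intro a b _ _ ha hb; rw [dot₂_add_left, ha, hb, add_zero]
  · intro c a _ ha; rw [dot₂_smul_left, ha, mul_zero]

/-- Any two code words have an even number of common nonzero coordinates. -/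
theorem two_dvd_card_inter {v w : GolayPt → ZMod 2} (hv : v ∈ golayCode) (hw : w ∈ golayCode) :
    2 ∣ (support₂ v ∩ support₂ w).card := by
  have := dot₂_eq_zero hv hw
  rw [dot₂_eq] at this
  exact (ZMod.natCast_eq_zero_iff _ _).1 this

theorem support₂_add (v w : GolayPt → ZMod 2) :
    support₂ (v + w) = symmDiff (support₂ v) (support₂ w) := by
  ext p
  rw [Finset.mem_symmDiff, mem_support₂_iff_one, mem_support₂_iff_one, mem_support₂_iff_one,
    Pi.add_apply]
  rcases zmod2_cases (v p) with h | h <;> rcases zmod2_cases (w p) with h' | h' <;>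
    rw [h, h'] <;> decide

theorem card_symmDiff (s t : Finset GolayPt) :
    (symmDiff s t).card + 2 * (s ∩ t).card = s.card + t.card := by
  have h1 : symmDiff s t = (s \ t) ∪ (t \ s) := rfl
  have h2 : Disjoint (s \ t) (t \ s) := by
    rw [Finset.disjoint_left]; intro a ha hb
    simp only [Finset.mem_sdiff] at ha hb; exact ha.2 hb.1
  rw [h1, Finset.card_union_of_disjoint h2]
  have h3 := Finset.card_sdiff_add_card_inter s t
  have h4 := Finset.card_sdiff_add_card_inter t s
  rw [Finset.inter_comm t s] at h4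
  omega

/-- The code is doubly even. -/
theorem four_dvd_card {w : GolayPt → ZMod 2} (hw : w ∈ golayCode) : 4 ∣ (support₂ w).card := by
  refine Submodule.span_induction (p := fun w _ => 4 ∣ (support₂ w).card) ?_ ?_ ?_ ?_ hw
  · rintro x (⟨s, rfl⟩ | rfl)
    · rw [support₂_qrWord, gen_wt]; norm_num
    · rw [support₂_one, Finset.card_univ]; decide
  · have : support₂ (0 : GolayPt → ZMod 2) = ∅ := by ext p; simp [mem_support₂]
    rw [this]; simp
  · intro a b ha hb h4a h4b
    rw [support₂_add]
    have h1 := card_symmDiff (support₂ a) (support₂ b)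
    have h2 := two_dvd_card_inter ha hb
    omega
  · intro c a _ ha
    rcases zmod2_cases c with rfl | rfl
    · have : support₂ ((0 : ZMod 2) • a) = ∅ := by ext p; simp [mem_support₂]
      rw [this]; simp
    · rw [one_smul]; exact ha

theorem four_dvd_card_of_mem_supports {s : Finset GolayPt}
    (hs : s ∈ supports (golayCode : Set (GolayPt → ZMod 2))) : 4 ∣ s.card := by
  obtain ⟨w, hw, rfl⟩ := hs
  exact four_dvd_card hw

end Cfsg.Agent.SporadicStructure.GolayEven
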