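import Mathlib
import Cfsg.Prelude.Def_SporadicCombinatorics

/-!
Sextets of the length-24 code.  Every lemma takes the Steiner property of the octads
(`IsSteinerSystem 5 8 octads`, statement S0363) as a hypothesis, so this file depends on nothing.
-/

set_option autoImplicit false

namespace Cfsg.Agent.SporadicStructure.Sextet

open Cfsg Finset

theorem mem_support₂ {α : Type*} [Fintype α] (w : α → ZMod 2) (a : α) :
    a ∈ support₂ w ↔ w a ≠ 0 := by
  show a ∈ Finset.univ.filter (fun a => w a ≠ 0) ↔ _
  simp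

theorem zmod2_add_ne_zero :
    ∀ a b : ZMod 2, a + b ≠ 0 ↔ (a ≠ 0 ∧ ¬ b ≠ 0) ∨ (b ≠ 0 ∧ ¬ a ≠ 0) := by
  decide

theorem symmDiff_mem_supports {b c : Finset GolayPt}
    (hb : b ∈ supports (golayCode : Set (GolayPt → ZMod 2)))
    (hc : c ∈ supports (golayCode : Set (GolayPt → ZMod 2))) :
    symmDiff b c ∈ supports (golayCode : Set (GolayPt → ZMod 2)) := by
  obtain ⟨v, hv, rfl⟩ := hb
  obtain ⟨w, hw, rfl⟩ := hc
  refine ⟨v + w, golayCode.add_mem hv hw, ?_⟩
  ext a
  rw [mem_support₂, Finset.mem_symmDiff, mem_support₂, mem_support₂]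
  exact zmod2_add_ne_zero (v a) (w a)

theorem card_golayPt : Fintype.card GolayPt = 24 := by
  simp [GolayPt, ZMod.card]

/-- Two distinct octads containing a 4-set `t` meet exactly in `t`. -/
theorem inter_eq (hSt : IsSteinerSystem 5 8 octads) {t o o' : Finset GolayPt} (ht : t.card = 4)
    (ho : o ∈ octads) (ho' : o' ∈ octads) (hto : t ⊆ o) (hto' : t ⊆ o') (hne : o ≠ o') :
    o ∩ o' = t := by
  by_contra hcon
  have hsub : t ⊆ o ∩ o' := subset_inter hto hto'
  have hlt : t.card < (o ∩ o').card := card_lt_card (hsub.ssubset_of_ne (Ne.symm hcon))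
  obtain ⟨s, hs, hs5⟩ := Finset.exists_subset_card_eq (show 5 ≤ (o ∩ o').card by omega)
  exact hne ((hSt.2 s hs5).unique ⟨ho, hs.trans inter_subset_left⟩
    ⟨ho', hs.trans inter_subset_right⟩)

open Classical in
/-- The sextet through a tetrad `t`: `t` itself and the complements of `t` in the octads
containing `t`. -/
noncomputable def sextetOf (t : Finset GolayPt) : Finset (Finset GolayPt) :=
  Finset.univ.filter fun u => u = t ∨ (Disjoint t u ∧ t ∪ u ∈ octads)

theorem mem_sextetOf {t u : Finset GolayPt} :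
    u ∈ sextetOf t ↔ u = t ∨ (Disjoint t u ∧ t ∪ u ∈ octads) := by
  classical
  show u ∈ Finset.univ.filter _ ↔ _
  simp

theorem self_mem_sextetOf (t : Finset GolayPt) : t ∈ sextetOf t := mem_sextetOf.2 (Or.inl rfl)

theorem card_of_mem_sextetOf {t u : Finset GolayPt} (ht : t.card = 4) (hu : u ∈ sextetOf t) :
    u.card = 4 := by
  rcases mem_sextetOf.1 hu with rfl | ⟨hd, ho⟩
  · exact ht
  · have h8 : (t ∪ u).card = 8 := ho.2
    rw [card_union_of_disjoint hd] at h8
    omega

/-- Distinct members of `sextetOf t` are disjoint and unite to an octad. -/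
theorem pair_sextetOf (hSt : IsSteinerSystem 5 8 octads) {t u v : Finset GolayPt}
    (ht : t.card = 4) (hu : u ∈ sextetOf t) (hv : v ∈ sextetOf t) (hne : u ≠ v) :
    Disjoint u v ∧ u ∪ v ∈ octads := by
  have hucard := card_of_mem_sextetOf ht hu
  have hvcard := card_of_mem_sextetOf ht hv
  rcases mem_sextetOf.1 hu with hu' | ⟨hdu, hou⟩
  · rcases mem_sextetOf.1 hv with hv' | ⟨hdv, hov⟩
    · exact absurd (hu'.trans hv'.symm) hne
    · rw [hu']; exact ⟨hdv, hov⟩
  · rcases mem_sextetOf.1 hv with hv' | ⟨hdv, hov⟩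
    · rw [hv']; exact ⟨hdu.symm, by rw [union_comm]; exact hou⟩
    · have hne' : t ∪ u ≠ t ∪ v := by
        intro h
        apply hne
        have h1 : (t ∪ u) \ t = (t ∪ v) \ t := by rw [h]
        rwa [union_sdiff_cancel_left hdu, union_sdiff_cancel_left hdv] at h1
      have hint := inter_eq hSt ht hou hov subset_union_left subset_union_left hne'
      have hdisj : Disjoint u v := by
        rw [disjoint_left]
        intro x hxu hxv
        have hx : x ∈ (t ∪ u) ∩ (t ∪ v) :=
          mem_inter.2 ⟨mem_union_right _ hxu, mem_union_right _ hxv⟩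
        rw [hint] at hx
        exact (disjoint_left.1 hdu hx) hxu
      have hsd : symmDiff (t ∪ u) (t ∪ v) = u ∪ v := by
        ext x
        rw [mem_symmDiff]
        simp only [mem_union]
        have h1 : x ∈ t → x ∉ u := fun h => disjoint_left.1 hdu h
        have h2 : x ∈ t → x ∉ v := fun h => disjoint_left.1 hdv h
        have h3 : x ∈ u → x ∉ v := fun h => disjoint_left.1 hdisj h
        tauto
      refine ⟨hdisj, ?_, ?_⟩
      · rw [← hsd]; exact symmDiff_mem_supports hou.1 hov.1
      · rw [card_union_of_disjoint hdisj]; omega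

/-- Every point lies in a member of `sextetOf t`. -/
theorem exists_mem_sextetOf (hSt : IsSteinerSystem 5 8 octads) {t : Finset GolayPt}
    (ht : t.card = 4) (x : GolayPt) : ∃ u ∈ sextetOf t, x ∈ u := by
  by_cases hx : x ∈ t
  · exact ⟨t, self_mem_sextetOf t, hx⟩
  · obtain ⟨o, ⟨ho, hto⟩, -⟩ := hSt.2 (insert x t) (by rw [card_insert_of_notMem hx, ht])
    have h1 : t ⊆ o := (subset_insert x t).trans hto
    refine ⟨o \ t, mem_sextetOf.2 (Or.inr ⟨disjoint_sdiff, ?_⟩), ?_⟩
    · rw [union_sdiff_of_subset h1]; exact ho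
    · exact mem_sdiff.2 ⟨hto (mem_insert_self x t), hx⟩

theorem card_sextetOf (hSt : IsSteinerSystem 5 8 octads) {t : Finset GolayPt}
    (ht : t.card = 4) : (sextetOf t).card = 6 := by
  classical
  have h1 : (sextetOf t).biUnion id = Finset.univ := by
    ext x
    simp only [mem_biUnion, id, mem_univ, iff_true]
    exact exists_mem_sextetOf hSt ht x
  have h2 : ((sextetOf t).biUnion id).card = ∑ u ∈ sextetOf t, (id u).card := by
    apply card_biUnion
    intro u hu v hv huv
    exact (pair_sextetOf hSt ht hu hv huv).1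
  rw [h1, card_univ, card_golayPt] at h2
  have h3 : ∑ u ∈ sextetOf t, (id u).card = ∑ u ∈ sextetOf t, 4 := by
    apply sum_congr rfl
    intro u hu
    exact card_of_mem_sextetOf ht hu
  rw [h3, sum_const, smul_eq_mul] at h2
  omega

theorem sextetOf_mem_sextets (hSt : IsSteinerSystem 5 8 octads) {t : Finset GolayPt}
    (ht : t.card = 4) : sextetOf t ∈ sextets :=
  ⟨card_sextetOf hSt ht, fun _ hu => card_of_mem_sextetOf ht hu,
    fun _ hu _ hv huv => (pair_sextetOf hSt ht hu hv huv).2⟩

/-- A sextet is determined by any of its tetrads. -/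
theorem eq_sextetOf (hSt : IsSteinerSystem 5 8 octads) {S : Finset (Finset GolayPt)}
    (hS : S ∈ sextets) {t : Finset GolayPt} (ht : t ∈ S) : S = sextetOf t := by
  have ht4 : t.card = 4 := hS.2.1 t ht
  apply eq_of_subset_of_card_le
  · intro u hu
    rw [mem_sextetOf]
    by_cases h : u = t
    · exact Or.inl h
    · right
      have hu4 : u.card = 4 := hS.2.1 u hu
      have ho := hS.2.2 t ht u hu (Ne.symm h)
      refine ⟨?_, ho⟩
      have h8 : (t ∪ u).card = 8 := ho.2
      rw [← card_union_eq_card_add_card]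
      omega
  · rw [card_sextetOf hSt ht4, hS.1]

theorem card_tetrad {S : Finset (Finset GolayPt)} (hS : S ∈ sextets) {t : Finset GolayPt}
    (ht : t ∈ S) : t.card = 4 := hS.2.1 t ht

theorem disjoint_of_mem {S : Finset (Finset GolayPt)} (hS : S ∈ sextets)
    {t u : Finset GolayPt} (ht : t ∈ S) (hu : u ∈ S) (hne : t ≠ u) : Disjoint t u := by
  have h8 : (t ∪ u).card = 8 := (hS.2.2 t ht u hu hne).2
  have h1 := hS.2.1 t ht
  have h2 := hS.2.1 u hu
  rw [← card_union_eq_card_add_card]
  omega

/-- The tetrads of a sextet cover the 24 points. -/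
theorem exists_mem_of_sextet {S : Finset (Finset GolayPt)} (hS : S ∈ sextets) (x : GolayPt) :
    ∃ t ∈ S, x ∈ t := by
  classical
  have h2 : (S.biUnion id).card = ∑ u ∈ S, (id u).card := by
    apply card_biUnion
    intro u hu v hv huv
    exact disjoint_of_mem hS hu hv huv
  have h3 : ∑ u ∈ S, (id u).card = ∑ u ∈ S, 4 :=
    sum_congr rfl fun u hu => hS.2.1 u hu
  rw [h3, sum_const, smul_eq_mul, hS.1] at h2
  have h4 : S.biUnion id = Finset.univ := by
    rw [← card_eq_iff_eq_univ, h2, card_golayPt]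
  have := mem_univ x
  rw [← h4, mem_biUnion] at this
  exact this

theorem exists_unique_sextet (hSt : IsSteinerSystem 5 8 octads) (t : Finset GolayPt)
    (ht : t.card = 4) : ∃! S : Finset (Finset GolayPt), S ∈ sextets ∧ t ∈ S :=
  ⟨sextetOf t, ⟨sextetOf_mem_sextets hSt ht, self_mem_sextetOf t⟩,
    fun _ hS => eq_sextetOf hSt hS.1 hS.2⟩

theorem ncard_sextets (hSt : IsSteinerSystem 5 8 octads) : sextets.ncard = 1771 := by
  classical
  have hfin : sextets.Finite := Set.toFinite _
  rw [Set.ncard_eq_toFinset_card _ hfin]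
  have h1 : hfin.toFinset.biUnion id = powersetCard 4 (Finset.univ : Finset GolayPt) := by
    ext t
    simp only [mem_biUnion, Set.Finite.mem_toFinset, id, mem_powersetCard, subset_univ, true_and]
    constructor
    · rintro ⟨S, hS, ht⟩
      exact hS.2.1 t ht
    · intro ht
      exact ⟨sextetOf t, sextetOf_mem_sextets hSt ht, self_mem_sextetOf t⟩
  have h2 : (hfin.toFinset.biUnion id).card = ∑ S ∈ hfin.toFinset, (id S).card := by
    apply card_biUnion
    intro S hS T hT hne
    show Disjoint S T
    rw [Finset.disjoint_left]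
    intro t htS htT
    rw [mem_coe, Set.Finite.mem_toFinset] at hS hT
    exact hne ((eq_sextetOf hSt hS htS).trans (eq_sextetOf hSt hT htT).symm)
  have h3 : ∑ S ∈ hfin.toFinset, (id S).card = ∑ S ∈ hfin.toFinset, 6 := by
    apply sum_congr rfl
    intro S hS
    rw [Set.Finite.mem_toFinset] at hS
    exact hS.1
  rw [h1, h3, card_powersetCard, card_univ, card_golayPt, sum_const, smul_eq_mul] at h2
  have h4 : Nat.choose 24 4 = 10626 := by decide
  rw [h4] at h2
  omega

end Cfsg.Agent.SporadicStructure.Sextet
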