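import Cfsg.Agent.SporadicStructure.Co0Base
import Cfsg.Agent.SporadicA.GolayPerm

/-!
# The three shapes of the vectors of sum of squares 32 in the rank-24 lattice
-/

set_option autoImplicit false
open scoped Pointwise
open Cfsg

namespace Cfsg.Agent.SporadicStructure.MinShapes

open Cfsg.Agent.SporadicStructure.LeechBase

/-- The vector with coordinate `-c` on `S ∩ T`, `c` on `T \ S` and `0` off `T`. -/
def vec (c : ℤ) (T S : Finset GolayPt) : GolayPt → ℤ :=
  fun i => if i ∈ T then (if i ∈ S then -c else c) else 0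

/-- The vector `(-3 at j, 1 elsewhere)` with the signs changed on `d`. -/
def odd (j : GolayPt) (d : Finset GolayPt) : GolayPt → ℤ :=
  fun i => if i ∈ d then -(if i = j then -3 else 1) else (if i = j then -3 else 1)

theorem card_pt : (Finset.univ : Finset GolayPt).card = 24 := by decide

theorem exists_of_sum_eq_one {f : GolayPt → ℤ} (h0 : ∀ i, 0 ≤ f i) (h : ∑ i, f i = 1) :
    ∃ j, f j = 1 ∧ ∀ i, i ≠ j → f i = 0 := by
  have h1 : ∃ j, f j ≠ 0 := by
    by_contra hne
    push Not at hne
    rw [Finset.sum_eq_zero (fun i _ => hne i)] at h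
    exact absurd h (by norm_num)
  obtain ⟨j, hj⟩ := h1
  have hj1 : 1 ≤ f j := by have := h0 j; omega
  have h2 := Finset.add_sum_erase Finset.univ f (Finset.mem_univ j)
  have h3 : 0 ≤ ∑ i ∈ Finset.univ.erase j, f i := Finset.sum_nonneg fun i _ => h0 i
  have h4 : ∑ i ∈ Finset.univ.erase j, f i = 0 := by omega
  have h5 := (Finset.sum_eq_zero_iff_of_nonneg fun i _ => h0 i).1 h4
  exact ⟨j, by omega, fun i hi => h5 i (Finset.mem_erase.2 ⟨hi, Finset.mem_univ i⟩)⟩

/-- Even vectors of sum of squares 32. -/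
theorem even_case {x : GolayPt → ℤ} (hx : x ∈ leechLattice) (hn : sqNorm x = 32)
    (he : ∀ i, x i ≡ 0 [ZMOD 2]) :
    (∃ T S : Finset GolayPt, T.card = 2 ∧ S ⊆ T ∧ x = vec 4 T S) ∨
    (∃ O S : Finset GolayPt, O ∈ octads ∧ S ⊆ O ∧ Even S.card ∧ x = vec 2 O S) := by
  rw [mem_leechLattice_iff_mem_leechSet] at hx
  obtain ⟨m, hm, hs, hk⟩ := hx
  have hm2 : m % 2 = 0 := by
    have h1 := hm none
    have h2 := he none
    unfold Int.ModEq at h1 h2
    omega
  have hy : ∀ i, ∃ y : ℤ, x i = 2 * y := by
    intro i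
    have := he i
    exact ⟨x i / 2, by unfold Int.ModEq at this; omega⟩
  choose y hy using hy
  have hsum : ∑ i, x i = 2 * ∑ i, y i := by
    rw [Finset.mul_sum]
    exact Finset.sum_congr rfl fun i _ => hy i
  have hs4 : (∑ i, y i) % 4 = 0 := by
    rw [hsum] at hs
    unfold Int.ModEq at hs
    omega
  have hsq : ∑ i, y i ^ 2 = 8 := by
    have : sqNorm x = 4 * ∑ i, y i ^ 2 := by
      rw [sqNorm, Finset.mul_sum]
      refine Finset.sum_congr rfl fun i _ => ?_
      rw [hy i]; ring
    rw [hn] at this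
    omega
  have hc := hk 2
  set c := Finset.univ.filter fun i => x i ≡ 2 [ZMOD 4] with hcdef
  have hmemc : ∀ i, i ∈ c ↔ y i % 2 = 1 := by
    intro i
    rw [hcdef, Finset.mem_filter, hy i]
    unfold Int.ModEq
    constructor
    · rintro ⟨-, h⟩; omega
    · intro h; exact ⟨Finset.mem_univ i, by omega⟩
  have hge : ∀ i, 0 ≤ y i ^ 2 - (if i ∈ c then 1 else 0) := by
    intro i
    split_ifs with h
    · have h1 : y i ≠ 0 := by
        intro h0
        have := (hmemc i).1 h
        omega
      have : 0 < y i ^ 2 := by positivity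
      omega
    · have : 0 ≤ y i ^ 2 := by positivity
      omega
  have hsumc : ∑ i, (if i ∈ c then (1 : ℤ) else 0) = c.card := by
    rw [Finset.sum_ite_mem, Finset.univ_inter]; simp
  have hle : (c.card : ℤ) ≤ 8 := by
    have := Finset.sum_nonneg (s := Finset.univ) fun i _ => hge i
    rw [Finset.sum_sub_distrib, hsq, hsumc] at this
    omega
  have hcard : c.card = 0 ∨ c.card = 8 := by
    rcases Cfsg.Agent.SporadicA.GolayBase.card_of_mem_supports hc with h | h | h | h | h <;> omega
  rcases hcard with h0 | h8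
  · -- all coordinates divisible by 4
    left
    rw [Finset.card_eq_zero] at h0
    have hu : ∀ i, ∃ u : ℤ, y i = 2 * u := by
      intro i
      have h1 : i ∉ c := by rw [h0]; simp
      rw [hmemc] at h1
      exact ⟨y i / 2, by omega⟩
    choose u hu using hu
    have hsu : ∑ i, u i ^ 2 = 2 := by
      have : ∑ i, y i ^ 2 = 4 * ∑ i, u i ^ 2 := by
        rw [Finset.mul_sum]
        refine Finset.sum_congr rfl fun i _ => ?_
        rw [hu i]; ring
      omega
    have hle2 : ∀ i, u i ^ 2 ≤ 2 := by
      intro i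
      rw [← hsu]
      exact Finset.single_le_sum (f := fun i => u i ^ 2) (fun j _ => sq_nonneg (u j))
        (Finset.mem_univ i)
    have hval : ∀ i, u i = 0 ∨ u i = 1 ∨ u i = -1 := by
      intro i
      have h1 := hle2 i
      have h2 : -1 ≤ u i := by nlinarith
      have h3 : u i ≤ 1 := by nlinarith
      omega
    refine ⟨Finset.univ.filter fun i => u i ≠ 0, Finset.univ.filter fun i => u i = -1, ?_, ?_, ?_⟩
    · have h1 : ∑ i, u i ^ 2 = ∑ i, if i ∈ Finset.univ.filter (fun i => u i ≠ 0) then (1 : ℤ) else 0 := by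
        refine Finset.sum_congr rfl fun i _ => ?_
        rcases hval i with h | h | h <;> simp [h]
      rw [Finset.sum_ite_mem, Finset.univ_inter, hsu] at h1
      simp only [Finset.sum_const, nsmul_eq_mul, mul_one] at h1
      exact_mod_cast h1.symm
    · intro i hi
      rw [Finset.mem_filter] at hi ⊢
      exact ⟨Finset.mem_univ i, by rw [hi.2]; norm_num⟩
    · funext i
      simp only [vec, Finset.mem_filter, Finset.mem_univ, true_and]
      rw [hy i, hu i]
      rcases hval i with h | h | h <;> simp [h]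
  · right
    have hzero : ∑ i, (y i ^ 2 - (if i ∈ c then 1 else 0)) = 0 := by
      rw [Finset.sum_sub_distrib, hsq, hsumc, h8]; norm_num
    have hz := (Finset.sum_eq_zero_iff_of_nonneg fun i _ => hge i).1 hzero
    have hval : ∀ i, (i ∈ c → y i = 1 ∨ y i = -1) ∧ (i ∉ c → y i = 0) := by
      intro i
      have h1 := hz i (Finset.mem_univ i)
      constructor
      · intro hi
        rw [if_pos hi] at h1
        have h2 : -1 ≤ y i := by nlinarith
        have h3 : y i ≤ 1 := by nlinarith
        have h4 : y i ≠ 0 := by intro h; rw [h] at h1; norm_num at h1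
        omega
      · intro hi
        rw [if_neg hi, sub_zero] at h1
        exact pow_eq_zero_iff (two_ne_zero) |>.1 h1
    refine ⟨c, c.filter fun i => y i = -1, ⟨hc, h8⟩, Finset.filter_subset _ _, ?_, ?_⟩
    · have h1 : ∑ i, y i = c.card - 2 * ((c.filter fun i => y i = -1).card : ℤ) := by
        have h2 : ∀ i, y i = (if i ∈ c then 1 else 0) -
            2 * (if i ∈ c.filter (fun i => y i = -1) then 1 else 0) := by
          intro i
          by_cases hi : i ∈ c
          · rcases (hval i).1 hi with h | h <;> simp [hi, h]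
          · simp [hi, (hval i).2 hi]
        rw [Finset.sum_congr rfl fun i _ => h2 i, Finset.sum_sub_distrib, ← Finset.mul_sum, hsumc,
          Finset.sum_ite_mem, Finset.univ_inter]
        simp
      rw [h8] at h1
      rw [Nat.even_iff]
      omega
    · funext i
      simp only [vec, Finset.mem_filter]
      by_cases hi : i ∈ c
      · rcases (hval i).1 hi with h | h <;> simp [hi, hy i, h]
      · simp [hi, hy i, (hval i).2 hi]

/-- Odd vectors of sum of squares 32. -/
theorem odd_case {x : GolayPt → ℤ} (hx : x ∈ leechLattice) (hn : sqNorm x = 32)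
    (ho : ∀ i, x i ≡ 1 [ZMOD 2]) :
    ∃ (j : GolayPt) (d : Finset GolayPt), d ∈ supports (golayCode : Set (GolayPt → ZMod 2)) ∧
      x = odd j d := by
  rw [mem_leechLattice_iff_mem_leechSet] at hx
  obtain ⟨m, hm, hs, hk⟩ := hx
  have hc := hk 3
  have hodd : ∀ i, x i % 2 = 1 := by
    intro i
    have := ho i
    unfold Int.ModEq at this
    omega
  have ht : ∀ i, ∃ t : ℤ, 0 ≤ t ∧ x i ^ 2 - 1 = 8 * t := by
    intro i
    obtain ⟨k, hk⟩ : ∃ k : ℤ, x i = 2 * k + 1 := ⟨x i / 2, by have := hodd i; omega⟩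
    obtain ⟨l, hl⟩ : ∃ l : ℤ, k * (k + 1) = 2 * l := by
      obtain ⟨l, hl⟩ := Int.even_mul_succ_self k
      exact ⟨l, by rw [hl]; ring⟩
    refine ⟨l, ?_, ?_⟩
    · have : 0 ≤ k * (k + 1) := by
        rcases le_or_gt 0 k with h | h
        · positivity
        · nlinarith
      omega
    · rw [hk]; linear_combination 4 * hl
  choose t ht0 ht using ht
  have hsum : ∑ i, t i = 1 := by
    have h1 : ∑ i, (x i ^ 2 - 1) = 8 * ∑ i, t i := by
      rw [Finset.mul_sum]
      exact Finset.sum_congr rfl fun i _ => ht i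
    have h2 : ∑ i, (x i ^ 2 - 1) = 32 - 24 := by
      rw [Finset.sum_sub_distrib]
      rw [sqNorm] at hn
      rw [hn, Finset.sum_const, card_pt]
      norm_num
    omega
  obtain ⟨j, hj, hne⟩ := exists_of_sum_eq_one ht0 hsum
  refine ⟨j, _, hc, ?_⟩
  funext i
  simp only [odd, Finset.mem_filter, Finset.mem_univ, true_and]
  have h1 := ht i
  have h2 := hodd i
  by_cases hij : i = j
  · subst hij
    rw [hj] at h1
    have h3 : -3 ≤ x i := by nlinarith
    have h4 : x i ≤ 3 := by nlinarith
    have h5 : x i = 3 ∨ x i = -3 := by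
      have h6 : x i ≠ 1 := by intro h; rw [h] at h1; norm_num at h1
      have h7 : x i ≠ -1 := by intro h; rw [h] at h1; norm_num at h1
      omega
    rcases h5 with h | h
    · rw [h]; simp
    · rw [h, if_neg (by decide)]; simp
  · rw [hne i hij] at h1
    have h3 : -1 ≤ x i := by nlinarith
    have h4 : x i ≤ 1 := by nlinarith
    have h5 : x i = 1 ∨ x i = -1 := by omega
    rcases h5 with h | h
    · rw [h, if_neg (by decide)]; simp [hij]
    · rw [h, if_pos (by decide)]; simp [hij]

theorem parity_cases {x : GolayPt → ℤ} (hx : x ∈ leechLattice) :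
    (∀ i, x i ≡ 0 [ZMOD 2]) ∨ (∀ i, x i ≡ 1 [ZMOD 2]) := by
  rw [mem_leechLattice_iff_mem_leechSet] at hx
  obtain ⟨m, hm, hs, hk⟩ := hx
  rcases Int.emod_two_eq_zero_or_one m with h | h
  · left
    intro i
    exact (hm i).trans h
  · right
    intro i
    exact (hm i).trans h

/-- The three shapes of the minimal vectors. -/
theorem cases {x : GolayPt → ℤ} (hx : x ∈ leechLattice) (hn : sqNorm x = 32) :
    (∃ T S : Finset GolayPt, T.card = 2 ∧ S ⊆ T ∧ x = vec 4 T S) ∨
    (∃ O S : Finset GolayPt, O ∈ octads ∧ S ⊆ O ∧ Even S.card ∧ x = vec 2 O S) ∨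
    (∃ (j : GolayPt) (d : Finset GolayPt), d ∈ supports (golayCode : Set (GolayPt → ZMod 2)) ∧
      x = odd j d) := by
  rcases parity_cases hx with h | h
  · rcases even_case hx hn h with h | h
    · exact Or.inl h
    · exact Or.inr (Or.inl h)
  · exact Or.inr (Or.inr (odd_case hx hn h))

end Cfsg.Agent.SporadicStructure.MinShapes
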