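import Cfsg.Prelude.Def_SporadicCombinatorics

set_option autoImplicit false
open Cfsg

/-!
Base layer for the rank-24 lattice `Cfsg.leechLattice`.
-/

namespace Cfsg.Agent.SporadicStructure.LeechBase

/-! ### words over `ZMod 2` and their supports -/

theorem mem_support₂ {α : Type*} [Fintype α] (w : α → ZMod 2) (a : α) :
    a ∈ support₂ w ↔ w a ≠ 0 := by
  simp [support₂]

theorem zmod2_cases (a : ZMod 2) : a = 0 ∨ a = 1 := by
  revert a; decide

theorem mem_support₂_iff_one {α : Type*} [Fintype α] (w : α → ZMod 2) (a : α) :
    a ∈ support₂ w ↔ w a = 1 := by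
  rw [mem_support₂]
  rcases zmod2_cases (w a) with h | h <;> simp [h]

theorem support₂_inj {α : Type*} [Fintype α] {v w : α → ZMod 2} (h : support₂ v = support₂ w) :
    v = w := by
  funext a
  have := congrArg (fun s => a ∈ s) h
  simp only [mem_support₂_iff_one, eq_iff_iff] at this
  rcases zmod2_cases (v a) with hv | hv <;> rcases zmod2_cases (w a) with hw | hw <;>
    simp_all

/-- The binary word with a given support. -/
def ind (s : Finset GolayPt) : GolayPt → ZMod 2 := fun i => if i ∈ s then 1 else 0

theorem support₂_ind (s : Finset GolayPt) : support₂ (ind s) = s := by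
  ext a
  simp [mem_support₂, ind]

theorem ind_support₂ (w : GolayPt → ZMod 2) : ind (support₂ w) = w :=
  support₂_inj (support₂_ind _)

theorem mem_supports_iff_ind (s : Finset GolayPt) :
    s ∈ supports (golayCode : Set (GolayPt → ZMod 2)) ↔ ind s ∈ golayCode := by
  constructor
  · rintro ⟨w, hw, rfl⟩
    rw [ind_support₂]; exact hw
  · intro h
    exact ⟨ind s, h, support₂_ind s⟩

theorem support₂_mem_supports (w : GolayPt → ZMod 2) :
    support₂ w ∈ supports (golayCode : Set (GolayPt → ZMod 2)) ↔ w ∈ golayCode := by
  rw [mem_supports_iff_ind, ind_support₂]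

theorem one_mem_golayCode : (1 : GolayPt → ZMod 2) ∈ golayCode :=
  Submodule.subset_span (Set.mem_union_right _ rfl)

/-! ### reduction of integer vectors modulo 2 -/

/-- Reduction modulo 2 of an integer vector. -/
def red (z : GolayPt → ℤ) : GolayPt → ZMod 2 := fun i => (z i : ZMod 2)

theorem red_apply (z : GolayPt → ℤ) (i : GolayPt) : red z i = (z i : ZMod 2) := rfl

theorem red_add (y z : GolayPt → ℤ) : red (y + z) = red y + red z := by
  funext i; simp [red]

theorem red_neg (z : GolayPt → ℤ) : red (-z) = -red z := by
  funext i; simp [red]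

theorem red_sub (y z : GolayPt → ℤ) : red (y - z) = red y - red z := by
  funext i; simp [red]

theorem mem_support₂_red (z : GolayPt → ℤ) (i : GolayPt) :
    i ∈ support₂ (red z) ↔ z i ≡ 1 [ZMOD 2] := by
  rw [mem_support₂_iff_one, red_apply]
  have h := ZMod.intCast_eq_intCast_iff (z i) 1 2
  rw [Int.cast_one] at h
  exact h

/-! ### the normal form `x = m + 2 z` of the vectors of the lattice -/

theorem mem_leechSet_iff (x : GolayPt → ℤ) : x ∈ leechSet ↔
    ∃ (m : ℤ) (z : GolayPt → ℤ), red z ∈ golayCode ∧ (∑ i, z i ≡ 2 * m [ZMOD 4]) ∧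
      ∀ i, x i = m + 2 * z i := by
  constructor
  · rintro ⟨m, hm, hsum, hk⟩
    have hz : ∀ i, ∃ z : ℤ, x i = m + 2 * z := fun i => by
      obtain ⟨t, ht⟩ := (hm i).symm.dvd
      exact ⟨t, by linarith⟩
    choose z hz using hz
    refine ⟨m, z, ?_, ?_, hz⟩
    · have h := hk (m + 2)
      rw [mem_supports_iff_ind] at h
      convert h using 1
      apply support₂_inj
      rw [support₂_ind]
      ext i
      rw [mem_support₂_red, Finset.mem_filter, hz i]
      simp only [Finset.mem_univ, true_and]
      constructor
      · intro h1
        have := h1.dvd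
        rw [Int.modEq_iff_dvd]
        omega
      · intro h1
        have := h1.dvd
        rw [Int.modEq_iff_dvd]
        omega
    · have h1 : ∑ i, x i = 24 * m + 2 * ∑ i, z i := by
        simp only [hz, Finset.sum_add_distrib, ← Finset.mul_sum]
        simp
      rw [h1] at hsum
      have := hsum.dvd
      rw [Int.modEq_iff_dvd]
      omega
  · rintro ⟨m, z, hz, hsum, hx⟩
    refine ⟨m, fun i => ?_, ?_, fun k => ?_⟩
    · rw [hx i, Int.modEq_iff_dvd]; omega
    · have h1 : ∑ i, x i = 24 * m + 2 * ∑ i, z i := by
        simp only [hx, Finset.sum_add_distrib, ← Finset.mul_sum]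
        simp
      rw [h1]
      have := hsum.dvd
      rw [Int.modEq_iff_dvd]
      omega
    · rw [mem_supports_iff_ind]
      rcases (show k % 4 = m % 4 ∨ k % 4 = (m + 2) % 4 ∨ (k - m) % 2 = 1 by omega) with h | h | h
      · have : ind (Finset.univ.filter fun i => x i ≡ k [ZMOD 4]) = 1 + red z := by
          funext i
          simp only [ind, Finset.mem_filter, Finset.mem_univ, true_and, hx i, Pi.add_apply, Pi.one_apply]
          by_cases hi : z i ≡ 1 [ZMOD 2]
          · have h0 : i ∈ support₂ (red z) := (mem_support₂_red z i).2 hi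
            rw [mem_support₂_iff_one] at h0
            rw [h0, if_neg]
            · decide
            · intro h2
              have a1 := h2.dvd
              have a2 := hi.dvd
              omega
          · have h0 : ¬ i ∈ support₂ (red z) := fun h' => hi ((mem_support₂_red z i).1 h')
            rw [mem_support₂, not_not] at h0
            rw [h0, if_pos, add_zero]
            rw [Int.modEq_iff_dvd] at hi ⊢
            omega
        rw [this]
        exact Submodule.add_mem _ one_mem_golayCode hz
      · have : ind (Finset.univ.filter fun i => x i ≡ k [ZMOD 4]) = red z := by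
          apply support₂_inj
          rw [support₂_ind]
          ext i
          rw [mem_support₂_red, Finset.mem_filter, hx i]
          simp only [Finset.mem_univ, true_and, Int.modEq_iff_dvd]
          omega
        rw [this]; exact hz
      · have : ind (Finset.univ.filter fun i => x i ≡ k [ZMOD 4]) = 0 := by
          apply support₂_inj
          rw [support₂_ind]
          ext i
          rw [mem_support₂, Finset.mem_filter, hx i]
          simp only [Finset.mem_univ, true_and, Int.modEq_iff_dvd, Pi.zero_apply, ne_eq, not_true_eq_false,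
            iff_false]
          omega
        rw [this]; exact Submodule.zero_mem _

/-- `leechSet` as an additive subgroup. -/
def leechSubgroup : AddSubgroup (GolayPt → ℤ) where
  carrier := leechSet
  zero_mem' := by
    show (0 : GolayPt → ℤ) ∈ leechSet
    rw [mem_leechSet_iff]
    refine ⟨0, 0, ?_, ?_, ?_⟩
    · have : red 0 = 0 := by funext i; simp [red]
      rw [this]; exact Submodule.zero_mem _
    · simp
    · simp
  add_mem' := by
    intro x y hx hy
    change x ∈ leechSet at hx
    change y ∈ leechSet at hy
    change x + y ∈ leechSet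
    rw [mem_leechSet_iff] at hx hy ⊢
    obtain ⟨m, z, hz, hs, h⟩ := hx
    obtain ⟨m', z', hz', hs', h'⟩ := hy
    refine ⟨m + m', z + z', ?_, ?_, ?_⟩
    · rw [red_add]; exact Submodule.add_mem _ hz hz'
    · simp only [Pi.add_apply, Finset.sum_add_distrib, mul_add]
      exact hs.add hs'
    · intro i
      simp only [Pi.add_apply, h i, h' i]; ring
  neg_mem' := by
    intro x hx
    change x ∈ leechSet at hx
    change -x ∈ leechSet
    rw [mem_leechSet_iff] at hx ⊢
    obtain ⟨m, z, hz, hs, h⟩ := hx
    refine ⟨-m, -z, ?_, ?_, ?_⟩
    · rw [red_neg]; exact Submodule.neg_mem _ hz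
    · simp only [Pi.neg_apply, Finset.sum_neg_distrib, mul_neg]
      exact hs.neg
    · intro i
      simp only [Pi.neg_apply, h i]; ring

theorem leechLattice_eq : leechLattice = leechSubgroup := by
  apply le_antisymm
  · exact (AddSubgroup.closure_le _).2 (fun x hx => hx)
  · exact fun x hx => AddSubgroup.subset_closure hx

/-- Membership in the lattice is membership in the generating set: the latter is already closed. -/
theorem mem_leechLattice_iff_mem_leechSet (x : GolayPt → ℤ) : x ∈ leechLattice ↔ x ∈ leechSet := by
  rw [leechLattice_eq]; exact Iff.rfl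

/-- Normal form of the vectors of the lattice. -/
theorem mem_leech_iff (x : GolayPt → ℤ) : x ∈ leechLattice ↔
    ∃ (m : ℤ) (z : GolayPt → ℤ), red z ∈ golayCode ∧ (∑ i, z i ≡ 2 * m [ZMOD 4]) ∧
      ∀ i, x i = m + 2 * z i := by
  rw [mem_leechLattice_iff_mem_leechSet, mem_leechSet_iff]

end Cfsg.Agent.SporadicStructure.LeechBase
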