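import Cfsg.Agent.SporadicStructure.CrossMax

/-!
# The order 23 argument and the conclusion
-/

set_option autoImplicit false
open scoped Pointwise
open Cfsg

namespace Cfsg.Agent.SporadicStructure.CrossMaxEnd

open Cfsg.Agent.SporadicA.GolayBase Cfsg.Agent.SporadicA.GolayPerm
open Cfsg.Agent.SporadicStructure.MinShapes Cfsg.Agent.SporadicStructure.MonoPerms
open Cfsg.Agent.SporadicStructure.MonoSigns Cfsg.Agent.SporadicStructure.MonoTypes
open Cfsg.Agent.SporadicStructure.Co0Base Cfsg.Agent.SporadicStructure.MonoOrbits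
open Cfsg.Agent.SporadicStructure.CrossCrit Cfsg.Agent.SporadicStructure.CrossMax
open Cfsg.Agent.SporadicA.Co0Basic (tau tau_mem)

/-! ### The types are disjoint -/

theorem val_T0 {x : GolayPt → ℤ} (hx : x ∈ T0) : x none = 4 ∨ x none = -4 := by
  rcases hx with rfl | rfl
  · left; decide
  · right; decide

theorem val_T1 {x : GolayPt → ℤ} (hx : x ∈ T1) : x none = 0 ∧ ∀ i, (4 : ℤ) ∣ x i := by
  obtain ⟨T, S, ⟨-, hn, -⟩, -, rfl⟩ := hx
  refine ⟨by rw [vec_apply, if_neg hn], fun i => ?_⟩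
  rw [vec_apply]
  split_ifs <;> norm_num

theorem val_T2 {x : GolayPt → ℤ} (hx : x ∈ T2) : x none = 2 ∨ x none = -2 := by
  obtain ⟨T, S, ⟨-, hn, -⟩, -, rfl⟩ := hx
  rw [vec_apply, if_pos hn]
  split_ifs <;> norm_num

theorem val_T3 {x : GolayPt → ℤ} (hx : x ∈ T3) : x none = 0 ∧ ∃ i, ¬ (4 : ℤ) ∣ x i := by
  obtain ⟨O, S, ⟨hO, hn, -⟩, -, rfl⟩ := hx
  refine ⟨by rw [vec_apply, if_neg hn], ?_⟩
  obtain ⟨i, hi⟩ : O.Nonempty := by
    rw [← Finset.card_pos, octad_card hO]; norm_num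
  refine ⟨i, ?_⟩
  rw [vec_apply, if_pos hi]
  split_ifs <;> norm_num

theorem val_T4 {x : GolayPt → ℤ} (hx : x ∈ T4) : x none = 1 ∨ x none = -1 := by
  obtain ⟨j, d, ⟨hj, -⟩, -, rfl⟩ := hx
  rw [odd_apply, if_neg (Ne.symm hj)]
  split_ifs <;> norm_num

theorem finite_T (T : Set (GolayPt → ℤ)) (n : ℕ) (h : T.ncard = n) (hn : n ≠ 0) : T.Finite :=
  Set.finite_of_ncard_ne_zero (by rw [h]; exact hn)

theorem mem_T1 : ∀ x ∈ T1, x ∈ leechLattice := by
  rintro x ⟨T, S, ⟨hT, -, -⟩, hS, rfl⟩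
  exact vec_four_mem hT hS

theorem mem_T2 : ∀ x ∈ T2, x ∈ leechLattice := by
  rintro x ⟨T, S, ⟨hT, -, -⟩, ⟨hS, he, -⟩, rfl⟩
  exact vec_two_mem hT hS he

theorem mem_T3 : ∀ x ∈ T3, x ∈ leechLattice := by
  rintro x ⟨T, S, ⟨hT, -, -⟩, ⟨hS, he⟩, rfl⟩
  exact vec_two_mem hT hS he

theorem mem_T4 : ∀ x ∈ T4, x ∈ leechLattice := by
  rintro x ⟨j, d, -, ⟨hd, -⟩, rfl⟩
  exact odd_mem hd

section
variable (K : Subgroup ↥Co0)

theorem Wf_eq : Wf K = (Wf K ∩ T0) ∪ ((Wf K ∩ T1) ∪ ((Wf K ∩ T2) ∪ ((Wf K ∩ T3) ∪ (Wf K ∩ T4)))) := by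
  ext x
  constructor
  · intro hx
    rcases Wf_sub K hx with h | h | h | h | h
    · exact Or.inl ⟨hx, h⟩
    · exact Or.inr (Or.inl ⟨hx, h⟩)
    · exact Or.inr (Or.inr (Or.inl ⟨hx, h⟩))
    · exact Or.inr (Or.inr (Or.inr (Or.inl ⟨hx, h⟩)))
    · exact Or.inr (Or.inr (Or.inr (Or.inr ⟨hx, h⟩)))
  · rintro (h | h | h | h | h) <;> exact h.1

theorem fin0 : T0.Finite := finite_T T0 _ T0_ncard (by norm_num)
theorem fin1 : T1.Finite := finite_T T1 _ ncard_T1 (by norm_num)
theorem fin2 : T2.Finite := finite_T T2 _ ncard_T2 (by norm_num)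
theorem fin3 : T3.Finite := finite_T T3 _ ncard_T3 (by norm_num)
theorem fin4 : T4.Finite := finite_T T4 _ ncard_T4 (by norm_num)

theorem Wf_finite : (Wf K).Finite := by
  rw [Wf_eq]
  exact (fin0.inter_of_right _).union ((fin1.inter_of_right _).union
    ((fin2.inter_of_right _).union ((fin3.inter_of_right _).union (fin4.inter_of_right _))))

theorem ncard_Wf : (Wf K).ncard = (Wf K ∩ T0).ncard + ((Wf K ∩ T1).ncard + ((Wf K ∩ T2).ncard +
    ((Wf K ∩ T3).ncard + (Wf K ∩ T4).ncard))) := by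
  have f0 := fin0.inter_of_right (Wf K)
  have f1 := fin1.inter_of_right (Wf K)
  have f2 := fin2.inter_of_right (Wf K)
  have f3 := fin3.inter_of_right (Wf K)
  have f4 := fin4.inter_of_right (Wf K)
  conv_lhs => rw [Wf_eq]
  rw [Set.ncard_union_eq _ f0 (f1.union (f2.union (f3.union f4))),
    Set.ncard_union_eq _ f1 (f2.union (f3.union f4)), Set.ncard_union_eq _ f2 (f3.union f4),
    Set.ncard_union_eq _ f3 f4]
  · rw [Set.disjoint_left]
    rintro x ⟨-, h3⟩ ⟨-, h4⟩
    have a := val_T3 h3; have b := val_T4 h4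
    omega
  · rw [Set.disjoint_left]
    rintro x ⟨-, h2⟩ (⟨-, h⟩ | ⟨-, h⟩)
    · have a := val_T2 h2; have b := val_T3 h; omega
    · have a := val_T2 h2; have b := val_T4 h; omega
  · rw [Set.disjoint_left]
    rintro x ⟨-, h1⟩ (⟨-, h⟩ | ⟨-, h⟩ | ⟨-, h⟩)
    · have a := val_T1 h1; have b := val_T2 h; omega
    · have a := val_T1 h1
      obtain ⟨-, i, hi⟩ := val_T3 h
      exact hi (a.2 i)
    · have a := val_T1 h1; have b := val_T4 h; omega
  · rw [Set.disjoint_left]
    rintro x ⟨-, h0⟩ (⟨-, h⟩ | ⟨-, h⟩ | ⟨-, h⟩ | ⟨-, h⟩)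
    · have a := val_T0 h0; have b := val_T1 h; omega
    · have a := val_T0 h0; have b := val_T2 h; omega
    · have a := val_T0 h0; have b := val_T3 h; omega
    · have a := val_T0 h0; have b := val_T4 h; omega

theorem ncard_W : (W K).ncard = (Wf K).ncard := by
  rw [Wf, Set.ncard_image_of_injective _ Subtype.val_injective]

theorem W_finite : (W K).Finite := by
  have h := Wf_finite K
  exact Set.Finite.of_finite_image h (Subtype.val_injective.injOn)

variable (hM : ∀ (σ : Equiv.Perm GolayPt) (hσ : σ ∈ M24) (c : Finset GolayPt) (hc : c ∈ SC),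
  monomial σ hσ c hc ∈ K)

include hM in
/-- If 23 divides the size of the orbit, then the orbit is everything. -/
theorem all_of_dvd (h23 : 23 ∣ (W K).ncard) (w : leechLattice)
    (hn : sqNorm (w : GolayPt → ℤ) = 32)
    (hd : dotInt (w : GolayPt → ℤ) (v0 : GolayPt → ℤ) = 0) : w ∈ W K := by
  rw [ncard_W, ncard_Wf, T0_sub K hM, T0_ncard] at h23
  have d1 := dichotomy K T1 mem_T1 ⟨_, r1_mem⟩ (orbT1 K hM)
  have d2 := dichotomy K T2 mem_T2 ⟨_, r2_mem⟩ (orbT2 K hM)
  have d3 := dichotomy K T3 mem_T3 ⟨_, r3_mem⟩ (orbT3 K hM)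
  have d4 := dichotomy K T4 mem_T4 ⟨_, r4_mem⟩ (orbT4 K hM)
  have key : Wf K ∩ T1 = T1 ∧ Wf K ∩ T2 = T2 ∧ Wf K ∩ T3 = T3 ∧ Wf K ∩ T4 = T4 := by
    rcases d1 with h1 | h1 <;> rcases d2 with h2 | h2 <;> rcases d3 with h3 | h3 <;>
      rcases d4 with h4 | h4 <;>
      rw [h1, h2, h3, h4] at h23 <;>
      simp only [ncard_T1, ncard_T2, ncard_T3, ncard_T4, Set.ncard_empty] at h23 <;>
      first
        | exact ⟨h1, h2, h3, h4⟩
        | (exfalso; revert h23; decide)
  have hw : (w : GolayPt → ℤ) ∈ Wf K := by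
    rcases classify hn hd with h | h | h | h | h
    · rw [← T0_sub K hM] at h; exact h.1
    · rw [← key.1] at h; exact h.1
    · rw [← key.2.1] at h; exact h.1
    · rw [← key.2.2.1] at h; exact h.1
    · rw [← key.2.2.2] at h; exact h.1
  obtain ⟨w', hw', he⟩ := hw
  have : w' = w := Subtype.ext he
  rwa [this] at hw'

/-! ### The element of order 23 -/

/-- The translation as an element of `Co0`. -/
def tt : ↥Co0 := monomial tau tau_mem ∅ empty_mem

theorem tt_coe (v : leechLattice) : ((tt • v : leechLattice) : GolayPt → ℤ) =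
    fun i => (v : GolayPt → ℤ) (tau.symm i) := by
  show signedPerm tau ∅ (v : GolayPt → ℤ) = _
  funext i
  rw [signedPerm_apply, if_neg (by simp)]

theorem tt_pow_coe (n : ℕ) (v : leechLattice) : ((tt ^ n • v : leechLattice) : GolayPt → ℤ) =
    fun i => (v : GolayPt → ℤ) ((tau.symm ^ n) i) := by
  induction n with
  | zero => rw [pow_zero, one_smul]; rfl
  | succ n ih =>
    rw [pow_succ', mul_smul, tt_coe, ih]
    funext i
    rw [pow_succ, Equiv.Perm.mul_apply]

theorem tau_pow : ∀ i : GolayPt, (tau.symm ^ 23) i = i := by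
  decide +kernel

theorem tt_pow : tt ^ 23 = 1 := by
  apply co0_ext
  intro v
  apply Subtype.ext
  rw [tt_pow_coe, one_smul]
  funext i
  rw [tau_pow]

theorem tt_o0 : tt • o0 = o0 := by
  apply Subtype.ext
  show signedPerm tau ∅ (odd none ∅) = odd none ∅
  rw [signedPerm_odd, show (∅ : Finset GolayPt) = ⊥ from rfl, bot_symmDiff,
    show (⊥ : Finset GolayPt) = ∅ from rfl, Finset.smul_finset_empty]
  rfl

/-- A fixed vector of norm 32 of the element of order 23 is not orthogonal to `(-3, 1^23)`. -/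
theorem no_fixed (w : leechLattice) (hn : sqNorm (w : GolayPt → ℤ) = 32)
    (hd : dotInt (w : GolayPt → ℤ) (o0 : GolayPt → ℤ) = 0) : tt • w ≠ w := by
  intro hfix
  set x := (w : GolayPt → ℤ) with hx
  have h1 : ∀ i, x (tau.symm i) = x i := by
    intro i
    have := congrArg (fun u : leechLattice => (u : GolayPt → ℤ) i) hfix
    simp only [tt_coe] at this
    exact this
  have h2 : ∀ a : ZMod 23, x (some (a + 1)) = x (some a) := by
    intro a
    have h3 := h1 (some (a + 1))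
    have h4 : tau.symm (some (a + 1)) = some a := by
      rw [Equiv.symm_apply_eq]; rfl
    rw [h4] at h3
    exact h3.symm
  have h5 : ∀ n : ℕ, x (some (n : ZMod 23)) = x (some 0) := by
    intro n
    induction n with
    | zero => rw [Nat.cast_zero]
    | succ n ih => rw [Nat.cast_succ, h2, ih]
  have h6 : ∀ a : ZMod 23, x (some a) = x (some 0) := by
    intro a
    have := h5 a.val
    rwa [ZMod.natCast_val, ZMod.cast_id] at this
  have e1 : sqNorm x = x none ^ 2 + 23 * x (some 0) ^ 2 := by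
    rw [sqNorm, Fintype.sum_option, Finset.sum_congr rfl fun a _ => by rw [h6 a], Finset.sum_const,
      Finset.card_univ, ZMod.card]
    simp
  have e2 : dotInt x (o0 : GolayPt → ℤ) = -3 * x none + 23 * x (some 0) := by
    show dotInt x (odd none ∅) = _
    rw [dotInt, Fintype.sum_option]
    have h7 : ∀ a : ZMod 23, x (some a) * odd none ∅ (some a) = x (some 0) := by
      intro a
      rw [odd_apply, if_neg (by simp), if_neg (by simp), h6 a, mul_one]
    rw [Finset.sum_congr rfl fun a _ => h7 a, Finset.sum_const, Finset.card_univ, ZMod.card,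
      odd_apply, if_neg (by simp), if_pos rfl]
    simp
    ring
  rw [e1] at hn
  rw [e2] at hd
  generalize x none = α at hn hd
  generalize x (some 0) = β at hn hd
  have hβ : β = 0 ∨ β = 1 ∨ β = -1 := by
    have : -1 ≤ β := by nlinarith [sq_nonneg α]
    have : β ≤ 1 := by nlinarith [sq_nonneg α]
    omega
  rcases hβ with rfl | rfl | rfl
  · have : α = 0 := by omega
    subst this
    norm_num at hn
  · omega
  · omega

include hM in
theorem dvd_ncard (htr : ∀ v : leechLattice, sqNorm (v : GolayPt → ℤ) = 32 → Rel K v0 v) :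
    23 ∣ (W K).ncard := by
  classical
  have hno : sqNorm (o0 : GolayPt → ℤ) = 32 := by
    show sqNorm (odd none ∅) = 32
    decide +kernel
  obtain ⟨k0, hk0, hk⟩ := htr o0 hno
  set W' : Set leechLattice := (fun w => k0 • w) '' W K with hW'
  have hcard : W'.ncard = (W K).ncard :=
    Set.ncard_image_of_injective _ (MulAction.injective k0)
  have hfin : W'.Finite := (W_finite K).image _
  have hspec : ∀ w ∈ W', ∃ k ∈ K, k • v0 = o0 ∧ k • w0 = w := by
    rintro _ ⟨w, ⟨k, hkK, h1, h2⟩, rfl⟩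
    exact ⟨k0 * k, K.mul_mem hk0 hkK, by rw [mul_smul, h1, hk], by
      show (k0 * k) • w0 = k0 • w
      rw [mul_smul, h2]⟩
  have hspec' : ∀ w, (∃ k ∈ K, k • v0 = o0 ∧ k • w0 = w) → w ∈ W' := by
    rintro w ⟨k, hkK, h1, h2⟩
    refine ⟨k0⁻¹ • w, ⟨k0⁻¹ * k, K.mul_mem (K.inv_mem hk0) hkK, ?_, ?_⟩, smul_inv_smul _ _⟩
    · rw [mul_smul, h1, inv_smul_eq_iff, hk]
    · rw [mul_smul, h2]
  have htt : tt ∈ K := hM _ _ _ _
  have hmap : ∀ w ∈ W', tt • w ∈ W' := by
    intro w hw
    obtain ⟨k, hkK, h1, h2⟩ := hspec w hw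
    exact hspec' _ ⟨tt * k, K.mul_mem htt hkK, by rw [mul_smul, h1, tt_o0], by rw [mul_smul, h2]⟩
  haveI : Fintype W' := hfin.fintype
  let f : Function.End W' := fun w => ⟨tt • (w : leechLattice), hmap w w.2⟩
  have hfpow : ∀ (n : ℕ) (w : W'), (((f ^ n) w : W') : leechLattice) = tt ^ n • (w : leechLattice) := by
    intro n
    induction n with
    | zero => intro w; rw [pow_zero, pow_zero, one_smul]; rfl
    | succ n ih =>
      intro w
      rw [pow_succ', pow_succ', mul_smul, ← ih w]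
      rfl
  have hf : f ^ 23 ^ 1 = 1 := by
    funext w
    apply Subtype.ext
    rw [hfpow, pow_one, tt_pow, one_smul]
    rfl
  haveI : Fact (Nat.Prime 23) := ⟨by norm_num⟩
  have hmod := Equiv.Perm.card_fixedPoints_modEq hf
  have hempty : IsEmpty (Function.fixedPoints f) := by
    constructor
    rintro ⟨w, hw⟩
    obtain ⟨k, hkK, h1, h2⟩ := hspec w w.2
    apply no_fixed (w : leechLattice) _ _ (congrArg Subtype.val hw)
    · rw [← h2, co0_sqNorm, norm_w0]
    · rw [← h2, ← h1, co0_dotInt, dot_w0_v0]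
  rw [Fintype.card_eq_zero (α := Function.fixedPoints f)] at hmod
  rw [← hcard, Set.ncard_eq_toFinset_card' W', Set.toFinset_card]
  exact (Nat.modEq_zero_iff_dvd).1 hmod

include hM in
/-- The conclusion: if `K` moves the cross then `K` is everything. -/
theorem eq_top (hne : ∃ k ∈ K, ∃ x, InCross x ∧ ¬ InCross (k • x))
    (hH : ∀ g : ↥Co0, (∀ x, InCross x → InCross (g • x)) → g ∈ K) : K = ⊤ := by
  have htr := trans32 K hM hne
  have h23 := dvd_ncard K hM htr
  rw [eq_top_iff]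
  intro g _
  obtain ⟨k, hk, hkg⟩ := htr (g • v0) (by rw [co0_sqNorm, norm_v0])
  set g1 := k⁻¹ * g with hg1
  have h1 : g1 • v0 = v0 := by rw [hg1, mul_smul, ← hkg, inv_smul_smul]
  have h2 : g1 • w0 ∈ W K := by
    apply all_of_dvd K hM h23
    · rw [co0_sqNorm, norm_w0]
    · have := co0_dotInt g1 w0 v0
      rw [h1] at this
      rw [this, dot_w0_v0]
  obtain ⟨k', hk', h3, h4⟩ := h2
  set g2 := k'⁻¹ * g1 with hg2
  have h5 : g2 • v0 = v0 := by rw [hg2, mul_smul, h1, inv_smul_eq_iff, h3]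
  have h6 : g2 • w0 = w0 := by rw [hg2, mul_smul, ← h4, inv_smul_smul]
  have h7 : g2 ∈ K := by
    apply hH
    intro x hx
    apply smul_mem_of_two g2 _ x hx
    intro v hv i
    -- the coordinate of `g2⁻¹ • v` at `none` is that of `v`
    have e0 : ∀ u : leechLattice, 8 * (u : GolayPt → ℤ) none =
        dotInt (v0 : GolayPt → ℤ) (u : GolayPt → ℤ) + dotInt (w0 : GolayPt → ℤ) (u : GolayPt → ℤ) := by
      intro u
      have a1 := dot_v0 (u : GolayPt → ℤ)
      rw [CrossMax.dot_comm] at a1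
      have a2 : dotInt (u : GolayPt → ℤ) (w0 : GolayPt → ℤ) =
          4 * ((u : GolayPt → ℤ) none - (u : GolayPt → ℤ) (some 0)) := by
        show dotInt (u : GolayPt → ℤ) (vec 4 {none, some 0} {some 0}) = _
        rw [dot_vec _ _ (by simp), Finset.sum_pair (by decide), Finset.sum_singleton]
        ring
      rw [CrossMax.dot_comm] at a2
      rw [a1, a2]; ring
    have e1 := e0 (g2⁻¹ • v)
    rw [← dot_smul_left, ← dot_smul_left, h5, h6, ← e0] at e1
    have e2 : ((g2⁻¹ • v : leechLattice) : GolayPt → ℤ) none = (v : GolayPt → ℤ) none := by omega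
    have e3 := hv.coord none
    rcases parity_cases (g2⁻¹ • v : leechLattice).2 with hp | hp
    · have := hp i
      unfold Int.ModEq at this
      omega
    · exfalso
      have := hp none
      unfold Int.ModEq at this
      rw [e2] at this
      omega
  have h8 : g = k * (k' * g2) := by
    rw [hg2, hg1]; group
  rw [h8]
  exact K.mul_mem hk (K.mul_mem hk' h7)

end

end Cfsg.Agent.SporadicStructure.CrossMaxEnd
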