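import Cfsg.Agent.SporadicStructure.McLMain

/-!
Given transitivity of `Co0` on the vectors of sum of squares 64: every minimal vector can be moved to `(4, 4, 0²²)`, and
for minimal `v`, `w` with product −8 there is a minimal `x` with `v·x = 0`, `w·x = 16`.
-/

set_option autoImplicit false
open Cfsg

namespace Cfsg.Agent.SporadicStructure.McLExists

open Cfsg.Agent.SporadicStructure.McLMain
open Cfsg.Agent.Leech.FrameTriplesOf Cfsg.Agent.Leech.FrameAux
open Cfsg.Agent.SporadicStructure.LeechBase Cfsg.Agent.SporadicStructure.GolayEven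

/-- The lattice vector `4 e_i + 4 s e_j`. -/
def ff (i j : GolayPt) (s : ℤ) (hs : s = 1 ∨ s = -1) : leechLattice :=
  ⟨Pi.single i 4 + Pi.single j (4 * s), four_four_mem i j s hs⟩

theorem dot_ff (x : GolayPt → ℤ) (i j : GolayPt) (s : ℤ) (hs : s = 1 ∨ s = -1) :
    dotInt x (ff i j s hs : GolayPt → ℤ) = 4 * (x i + s * x j) := by
  show dotInt x (Pi.single i 4 + Pi.single j (4 * s)) = _
  rw [dot_add_right, dot_single_right, dot_single_right]
  ring

theorem sqNorm_ff (i j : GolayPt) (hij : i ≠ j) (s : ℤ) (hs : s = 1 ∨ s = -1) :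
    sqNorm (ff i j s hs : GolayPt → ℤ) = 32 := by
  rw [← dot_self, dot_ff]
  show 4 * ((Pi.single i 4 + Pi.single j (4 * s) : GolayPt → ℤ) i +
    s * (Pi.single i 4 + Pi.single j (4 * s) : GolayPt → ℤ) j) = 32
  rw [Pi.add_apply, Pi.add_apply, Pi.single_eq_same, Pi.single_eq_same, Pi.single_eq_of_ne hij,
    Pi.single_eq_of_ne hij.symm]
  rcases hs with rfl | rfl <;> norm_num

theorem sq_le_of_sqNorm (x : GolayPt → ℤ) (i : GolayPt) : x i ^ 2 ≤ sqNorm x :=
  Finset.single_le_sum (f := fun i => x i ^ 2) (fun _ _ => sq_nonneg _) (Finset.mem_univ i)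

/-- Every minimal vector is orthogonal to some `4 e_i ± 4 e_j`. -/
theorem exists_orth (v : leechLattice) (hv : sqNorm (v : GolayPt → ℤ) = 32) :
    ∃ x : leechLattice, sqNorm (x : GolayPt → ℤ) = 32 ∧ dotInt (v : GolayPt → ℤ) (x : GolayPt → ℤ) = 0 := by
  have hb : ∀ i, ((v : GolayPt → ℤ) i).natAbs < 6 := by
    intro i
    have h1 := sq_le_of_sqNorm (v : GolayPt → ℤ) i
    rw [hv] at h1
    have h2 : |(v : GolayPt → ℤ) i| < 6 := by
      by_contra hcon
      push Not at hcon
      nlinarith [sq_abs ((v : GolayPt → ℤ) i)]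
    rw [abs_lt] at h2
    omega
  obtain ⟨i, -, j, -, hij, h⟩ := Finset.exists_ne_map_eq_of_card_lt_of_maps_to
    (s := (Finset.univ : Finset GolayPt)) (t := Finset.range 6)
    (by rw [Finset.card_range, Finset.card_univ]; decide)
    (f := fun i => ((v : GolayPt → ℤ) i).natAbs)
    (fun i _ => Finset.mem_coe.2 (Finset.mem_range.2 (hb i)))
  rcases Int.natAbs_eq_natAbs_iff.1 h with h | h
  · refine ⟨ff i j (-1) (Or.inr rfl), sqNorm_ff i j hij _ _, ?_⟩
    rw [dot_ff, h]; ring
  · refine ⟨ff i j 1 (Or.inl rfl), sqNorm_ff i j hij _ _, ?_⟩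
    rw [dot_ff, h]; ring

theorem exists_std_vec (hT : Trans64) (v : leechLattice) (hv : sqNorm (v : GolayPt → ℤ) = 32) :
    ∃ g : Co0, ((g • v : leechLattice) : GolayPt → ℤ) = vec3 4 4 0 := by
  obtain ⟨x, hx, hvx⟩ := exists_orth v hv
  obtain ⟨g, h, -⟩ := orth_pair_of hT v x hv hx hvx
  exact ⟨g, h⟩

theorem of_ff (w : leechLattice) (i j : GolayPt) (hij : i ≠ j) (s : ℤ) (hs : s = 1 ∨ s = -1)
    (h0 : vec3 4 4 0 i + s * vec3 4 4 0 j = 0)
    (h4 : (w : GolayPt → ℤ) i + s * (w : GolayPt → ℤ) j = 4 ∨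
      (w : GolayPt → ℤ) i + s * (w : GolayPt → ℤ) j = -4) :
    ∃ x : leechLattice, sqNorm (x : GolayPt → ℤ) = 32 ∧ dotInt (vec3 4 4 0) (x : GolayPt → ℤ) = 0 ∧
      dotInt (w : GolayPt → ℤ) (x : GolayPt → ℤ) = 16 := by
  rcases h4 with h4 | h4
  · refine ⟨ff i j s hs, sqNorm_ff i j hij s hs, ?_, ?_⟩
    · rw [dot_ff, h0]; norm_num
    · rw [dot_ff, h4]; norm_num
  · refine ⟨-ff i j s hs, ?_, ?_, ?_⟩
    · rw [← dot_self, AddSubgroup.coe_neg, dot_neg_left, dot_comm, dot_neg_left, neg_neg, dot_self]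
      exact sqNorm_ff i j hij s hs
    · rw [dot_comm, AddSubgroup.coe_neg, dot_neg_left, dot_comm, dot_ff, h0]; norm_num
    · rw [dot_comm, AddSubgroup.coe_neg, dot_neg_left, dot_comm, dot_ff, h4]; norm_num

theorem vec3_rest {p : GolayPt} (h1 : p ≠ none) (h2 : p ≠ some 0) : vec3 4 4 0 p = 0 :=
  vec3_other _ _ _ h1 h2

/-- The existence for `v = (4, 4, 0²²)`. -/
theorem exists_point_std (w : leechLattice) (hw : sqNorm (w : GolayPt → ℤ) = 32)
    (h2 : (w : GolayPt → ℤ) none + (w : GolayPt → ℤ) (some 0) = -2) :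
    ∃ x : leechLattice, sqNorm (x : GolayPt → ℤ) = 32 ∧ dotInt (vec3 4 4 0) (x : GolayPt → ℤ) = 0 ∧
      dotInt (w : GolayPt → ℤ) (x : GolayPt → ℤ) = 16 := by
  by_cases hev : (2 : ℤ) ∣ (w : GolayPt → ℤ) none
  · -- even coordinates
    obtain ⟨z, hz, -, h⟩ := even_form w.2 hev
    have hsum : ∑ k, z k ^ 2 = 8 := by
      have h1 : sqNorm (w : GolayPt → ℤ) = 4 * ∑ k, z k ^ 2 := by
        rw [sqNorm_def, Finset.mul_sum]
        exact Finset.sum_congr rfl fun k _ => by rw [h k]; ring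
      omega
    have hle : ∀ k, z k ^ 2 ≤ 8 := fun k => by
      rw [← hsum]
      exact Finset.single_le_sum (f := fun i => z i ^ 2) (fun _ _ => sq_nonneg _) (Finset.mem_univ k)
    have hmem : ∀ k, k ∈ support₂ (red z) ↔ z k % 2 = 1 := by
      intro k
      rw [mem_support₂, red_apply, Ne, ZMod.intCast_zmod_eq_zero_iff_dvd]
      omega
    have hodd : ∀ k, k ∈ support₂ (red z) → z k = 1 ∨ z k = -1 := by
      intro k hk
      rw [hmem] at hk
      have h1 := hle k
      have h2 : |z k| < 3 := by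
        by_contra hcon
        push Not at hcon
        nlinarith [sq_abs (z k)]
      rw [abs_lt] at h2
      omega
    have hne : (support₂ (red z)).Nonempty := by
      have h3 := h none
      have h4 := h (some 0)
      by_cases h5 : z none % 2 = 1
      · exact ⟨none, (hmem _).2 h5⟩
      · exact ⟨some 0, (hmem _).2 (by omega)⟩
    have hcard : 8 ≤ (support₂ (red z)).card := by
      have h2 := SporadicA.GolayBase.card_of_mem_supports
        (s := support₂ (red z)) ((support₂_mem_supports _).2 hz)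
      have h3 : 0 < (support₂ (red z)).card := Finset.card_pos.2 hne
      omega
    have hcard2 : 1 < (((support₂ (red z)).erase none).erase (some 0)).card := by
      have h1 := Finset.pred_card_le_card_erase (s := support₂ (red z)) (a := none)
      have h2 := Finset.pred_card_le_card_erase (s := (support₂ (red z)).erase none) (a := some 0)
      omega
    obtain ⟨i, hi, j, hj, hij⟩ := Finset.one_lt_card.1 hcard2
    rw [Finset.mem_erase, Finset.mem_erase] at hi hj
    have zi := hodd i hi.2.2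
    have zj := hodd j hj.2.2
    refine of_ff w i j hij (z i * z j) (by rcases zi with a | a <;> rcases zj with b | b <;> simp [a, b]) ?_ ?_
    · rw [vec3_rest hi.2.1 hi.1, vec3_rest hj.2.1 hj.1]; ring
    · rw [h i, h j]
      rcases zi with a | a <;> rcases zj with b | b <;> simp [a, b]
  · -- odd coordinates
    have hodd : ∀ i, ¬ (2 : ℤ) ∣ (w : GolayPt → ℤ) i := fun i => odd_of_odd w.2 hev i
    have hsum : ∑ i ∈ (Finset.univ : Finset GolayPt), (((w : GolayPt → ℤ) i) ^ 2 - 1) = 8 := by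
      rw [Finset.sum_sub_distrib, Finset.sum_const, Finset.card_univ]
      have h1 : ∑ i : GolayPt, ((w : GolayPt → ℤ) i) ^ 2 = 32 := hw
      rw [h1]
      rfl
    have hterm : ∀ p ∈ (Finset.univ : Finset GolayPt), ((w : GolayPt → ℤ) p) ^ 2 - 1 = 0 ∨
        8 ≤ ((w : GolayPt → ℤ) p) ^ 2 - 1 := by
      intro p _
      have h1 := hodd p
      rcases McLClassify.odd_sq ((w : GolayPt → ℤ) p) (by omega) with h | h | h <;> omega
    obtain ⟨k, -, hk, hrest⟩ := McLClassify.exists_unique_of_sum (by norm_num) hterm hsum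
    have hk' : (w : GolayPt → ℤ) k = 3 ∨ (w : GolayPt → ℤ) k = -3 :=
      McLClassify.eq_of_sq_nine (by omega)
    have hr : ∀ p, p ≠ k → (w : GolayPt → ℤ) p = 1 ∨ (w : GolayPt → ℤ) p = -1 := by
      intro p hp
      exact sq_eq_one_iff.1 (by linarith [hrest p (Finset.mem_univ p) hp])
    have hn0 : (none : GolayPt) ≠ some 0 := by simp
    by_cases hkn : k = none
    · subst hkn
      have h3 := hr (some 0) hn0.symm
      refine of_ff w none (some 0) hn0 (-1) (Or.inr rfl) ?_ ?_
      · rw [vec3_none, vec3_zero]; norm_num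
      · omega
    by_cases hk0 : k = some 0
    · subst hk0
      have h3 := hr none hn0
      refine of_ff w none (some 0) hn0 (-1) (Or.inr rfl) ?_ ?_
      · rw [vec3_none, vec3_zero]; norm_num
      · omega
    -- a further position
    have hj : ∀ k : GolayPt, ∃ j : GolayPt, j ≠ none ∧ j ≠ some 0 ∧ j ≠ k := by decide
    obtain ⟨j, hj1, hj2, hj3⟩ := hj k
    have h3 := hr j hj3
    have h0 : ∀ s : ℤ, vec3 4 4 0 k + s * vec3 4 4 0 j = 0 := fun s => by
      rw [vec3_rest hkn hk0, vec3_rest hj1 hj2]; ring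
    rcases hk' with a | a <;> rcases h3 with b | b
    · exact of_ff w k j hj3.symm 1 (Or.inl rfl) (h0 _) (by rw [a, b]; norm_num)
    · exact of_ff w k j hj3.symm (-1) (Or.inr rfl) (h0 _) (by rw [a, b]; norm_num)
    · exact of_ff w k j hj3.symm (-1) (Or.inr rfl) (h0 _) (by rw [a, b]; norm_num)
    · exact of_ff w k j hj3.symm 1 (Or.inl rfl) (h0 _) (by rw [a, b]; norm_num)

/-- The configuration is never empty. -/
theorem exists_point (hT : Trans64) (v w : leechLattice) (hv : sqNorm (v : GolayPt → ℤ) = 32)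
    (hw : sqNorm (w : GolayPt → ℤ) = 32) (hvw : dotInt (v : GolayPt → ℤ) (w : GolayPt → ℤ) = -8) :
    (S v w).Nonempty := by
  obtain ⟨g, hg⟩ := exists_std_vec hT v hv
  have h1 : dotInt ((g • w : leechLattice) : GolayPt → ℤ) ((g • v : leechLattice) : GolayPt → ℤ) = -8 := by
    rw [co0_dot, dot_comm]; exact hvw
  rw [hg, dot_vec3_zero] at h1
  obtain ⟨x, hx1, hx2, hx3⟩ := exists_point_std (g • w) (by rw [co0_sqNorm]; exact hw) (by linarith)
  refine ⟨g⁻¹ • x, ?_, ?_, ?_⟩
  · rw [co0_sqNorm]; exact hx1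
  · rw [← co0_dot g, smul_inv_smul, hg]; exact hx2
  · rw [← co0_dot g, smul_inv_smul]; exact hx3

end Cfsg.Agent.SporadicStructure.McLExists
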