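import Cfsg.Agent.SporadicStructure.SRGSteiner

/-!
The stabiliser of the extra vertex in the automorphism group of the point-block graph of a family
`B` of subsets is isomorphic to the automorphism group of `B`.
-/

set_option autoImplicit false

namespace Cfsg.Agent.SporadicStructure.PBGAut

open Cfsg Finset
open Cfsg.Agent.SporadicStructure.SRGSteiner
open scoped Pointwise

variable {α : Type*} [DecidableEq α] {B : Set (Finset α)}

theorem image_eq_of_mem_setSystemAut {σ : Equiv.Perm α} (hσ : σ ∈ Cfsg.setSystemAut B) :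
    (fun b : Finset α => b.image σ) '' B = B :=
  MulAction.mem_stabilizer_iff.1 hσ

theorem mem_setSystemAut_of_image_eq {σ : Equiv.Perm α}
    (hσ : (fun b : Finset α => b.image σ) '' B = B) : σ ∈ Cfsg.setSystemAut B :=
  MulAction.mem_stabilizer_iff.2 hσ

/-- Automorphisms of the point-block graph fixing the extra vertex come from automorphisms of the
set system. -/
theorem exists_perm_of_fix_none [Finite α]
    (φ : pointBlockGraph B ≃g pointBlockGraph B) (hφ : φ none = none) :
    ∃ σ : Cfsg.setSystemAut B, (∀ a : α, φ (some (Sum.inl a)) = some (Sum.inl ((σ : Equiv.Perm α) a))) ∧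
      ∀ b : B, ∃ c : B, φ (some (Sum.inr b)) = some (Sum.inr c) ∧
        (c : Finset α) = (b : Finset α).image (σ : Equiv.Perm α) := by
  have hs : ∀ a : α, ∃ a' : α, φ (some (Sum.inl a)) = some (Sum.inl a') := by
    intro a
    have h1 : (pointBlockGraph B).Adj (φ none) (φ (some (Sum.inl a))) :=
      φ.map_rel_iff.2 (adj_none_inl a)
    rw [hφ] at h1
    rcases h2 : φ (some (Sum.inl a)) with _ | a' | b
    · rw [h2] at h1; exact (SimpleGraph.irrefl _ h1).elim
    · exact ⟨a', rfl⟩
    · rw [h2] at h1; exact (not_adj_none_inr _ h1).elim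
  have ht : ∀ b : B, ∃ c : B, φ (some (Sum.inr b)) = some (Sum.inr c) := by
    intro b
    rcases h2 : φ (some (Sum.inr b)) with _ | a' | c
    · have h3 : φ (some (Sum.inr b)) = φ none := by rw [h2, hφ]
      have h4 := φ.injective h3
      simp at h4
    · have h1 : (pointBlockGraph B).Adj (φ none) (φ (some (Sum.inr b))) := by
        rw [hφ, h2]; exact adj_none_inl _
      exact (not_adj_none_inr _ (φ.map_rel_iff.1 h1)).elim
    · exact ⟨c, rfl⟩
  choose s hs using hs
  choose t ht using ht
  have hsinj : Function.Injective s := by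
    intro a a' h
    have h1 : φ (some (Sum.inl a)) = φ (some (Sum.inl a')) := by rw [hs, hs, h]
    exact Sum.inl_injective (Option.some_injective _ (φ.injective h1))
  have htinj : Function.Injective t := by
    intro b b' h
    have h1 : φ (some (Sum.inr b)) = φ (some (Sum.inr b')) := by rw [ht, ht, h]
    exact Sum.inr_injective (Option.some_injective _ (φ.injective h1))
  have hsbij : Function.Bijective s := Finite.injective_iff_bijective.1 hsinj
  have htsurj : Function.Surjective t := Finite.injective_iff_surjective.1 htinj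
  have hmem : ∀ (a : α) (b : B), s a ∈ ((t b : B) : Finset α) ↔ a ∈ (b : Finset α) := by
    intro a b
    rw [← adj_inl_inr (s a) (t b), ← adj_inl_inr a b, ← hs, ← ht]
    exact φ.map_rel_iff
  have himg : ∀ b : B, ((t b : B) : Finset α) = (b : Finset α).image s := by
    intro b
    ext c
    obtain ⟨a, rfl⟩ := hsbij.2 c
    rw [hmem, Finset.mem_image]
    constructor
    · intro h; exact ⟨a, h, rfl⟩
    · rintro ⟨a', ha', h⟩
      rwa [← hsinj h]
  have hB : (fun b : Finset α => b.image (Equiv.ofBijective s hsbij)) '' B = B := by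
    ext c
    constructor
    · rintro ⟨b, hb, rfl⟩
      have h1 := himg ⟨b, hb⟩
      show b.image s ∈ B
      rw [← h1]
      exact (t ⟨b, hb⟩).2
    · intro hc
      obtain ⟨b, hb⟩ := htsurj ⟨c, hc⟩
      refine ⟨b, b.2, ?_⟩
      show (b : Finset α).image s = c
      rw [← himg b, hb]
  refine ⟨⟨Equiv.ofBijective s hsbij, mem_setSystemAut_of_image_eq hB⟩, hs, fun b => ⟨t b, ht b, himg b⟩⟩

/-- The stabiliser of the extra vertex has the order of the automorphism group of the system. -/
theorem card_stabilizer_none [Finite α] :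
    Nat.card (MulAction.stabilizer (pointBlockGraph B ≃g pointBlockGraph B)
      (none : Option (α ⊕ B))) = Nat.card (Cfsg.setSystemAut B) := by
  have hf : ∀ σ : Cfsg.setSystemAut B, ∃ f : B ≃ B, ∀ b : B,
      ((f b : B) : Finset α) = (b : Finset α).image (σ : Equiv.Perm α) := fun σ =>
    exists_blockEquiv (σ : Equiv.Perm α) (image_eq_of_mem_setSystemAut σ.2)
  choose f hf using hf
  symm
  refine Nat.card_congr (Equiv.ofBijective (fun σ : Cfsg.setSystemAut B =>
    (⟨isoOfEquiv (σ : Equiv.Perm α) (f σ) (hf σ), isoOfEquiv_none _ _ _⟩ :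
      MulAction.stabilizer (pointBlockGraph B ≃g pointBlockGraph B)
      (none : Option (α ⊕ B)))) ⟨?_, ?_⟩)
  · intro σ τ h
    have h1 : isoOfEquiv (σ : Equiv.Perm α) (f σ) (hf σ) =
        isoOfEquiv (τ : Equiv.Perm α) (f τ) (hf τ) := congrArg Subtype.val h
    apply Subtype.ext
    apply Equiv.ext
    intro a
    have h2 := DFunLike.congr_fun h1 (some (Sum.inl a))
    rw [isoOfEquiv_inl, isoOfEquiv_inl] at h2
    exact Sum.inl_injective (Option.some_injective _ h2)
  · rintro ⟨φ, hφ⟩
    have hφ' : φ none = none := MulAction.mem_stabilizer_iff.1 hφ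
    obtain ⟨σ, h1, h2⟩ := exists_perm_of_fix_none φ hφ'
    refine ⟨σ, Subtype.ext ?_⟩
    apply RelIso.ext
    rintro (_ | a | b)
    · show none = φ none
      rw [hφ']
    · show some (Sum.inl ((σ : Equiv.Perm α) a)) = φ (some (Sum.inl a))
      rw [h1]
    · show some (Sum.inr (f σ b)) = φ (some (Sum.inr b))
      obtain ⟨c, hc, hc'⟩ := h2 b
      rw [hc]
      congr 2
      apply Subtype.ext
      rw [hf σ b, hc']

end Cfsg.Agent.SporadicStructure.PBGAut
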