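import Cfsg.Agent.SporadicStructure.DuadsM22
import Cfsg.Agent.SporadicA.M24Chain
import Cfsg.Agent.SporadicA.GolayBase

set_option autoImplicit false
open scoped Pointwise
open Cfsg

/-! `M24` is transitive on the pairs (six distinct points of an octad, a point outside it). -/

namespace Cfsg.Agent.SporadicStructure.SevenTuple

open Cfsg.Agent.SporadicA

/-- the octad through the first five base points -/
def O0 : Finset GolayPt := {none, some 0, some 1, some 2, some 3, some 5, some 14, some 17}

theorem O0_eq : GolayBase.fin 8536111 = O0 := by decide +kernel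

theorem O0_mem : O0 ∈ octads := by
  rw [← O0_eq, GolayBase.fin_mem_octads_iff (by norm_num)]
  decide +kernel

theorem smul_mem_octads {σ : Equiv.Perm GolayPt} (hσ : σ ∈ M24) {s : Finset GolayPt}
    (hs : s ∈ octads) : σ • s ∈ octads := by
  refine ⟨?_, ?_⟩
  · have h : σ • (supports (golayCode : Set (GolayPt → ZMod 2))) =
        supports (golayCode : Set (GolayPt → ZMod 2)) := hσ
    rw [← h]
    exact Set.smul_mem_smul_set hs.1
  · rw [Finset.card_smul_finset]; exact hs.2

/-- Any admissible 7-tuple is an image of the standard one. -/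
theorem exists_map_std (a : Fin 6 → GolayPt) (u : GolayPt) (o : Finset GolayPt) (ho : o ∈ octads)
    (ha : Function.Injective a) (hao : ∀ i, a i ∈ o) (hu : u ∉ o) :
    ∃ g : Equiv.Perm GolayPt, g ∈ M24 ∧
      (∀ i, g (a i) = (![none, some 0, some 1, some 2, some 3, some 5] : Fin 6 → GolayPt) i) ∧
      g u = some 4 := by
  obtain ⟨h, hK, h0, h1, h2, h3, h4⟩ := M24Chain.exists_map_five (fun i => a i.castSucc)
    (fun i j hij => Fin.castSucc_injective _ (ha hij))
  have hM := M24Chain.K_le_M24 hK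
  have e0 : h (a 0) = none := h0
  have e1 : h (a 1) = some 0 := h1
  have e2 : h (a 2) = some 1 := h2
  have e3 : h (a 3) = some 2 := h3
  have e4 : h (a 4) = some 3 := h4
  -- the image octad is O0
  have hmem : ∀ i, h (a i) ∈ h • o := fun i => Finset.smul_mem_smul_finset (hao i)
  have hO : h • o = O0 := by
    apply GolayBase.octad_unique (smul_mem_octads hM ho) O0_mem
    have hsub : ({none, some 0, some 1, some 2, some 3} : Finset GolayPt) ⊆ (h • o) ∩ O0 := by
      intro x hx
      rw [Finset.mem_inter]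
      simp only [Finset.mem_insert, Finset.mem_singleton] at hx
      rcases hx with rfl | rfl | rfl | rfl | rfl
      · exact ⟨e0 ▸ hmem 0, by decide⟩
      · exact ⟨e1 ▸ hmem 1, by decide⟩
      · exact ⟨e2 ▸ hmem 2, by decide⟩
      · exact ⟨e3 ▸ hmem 3, by decide⟩
      · exact ⟨e4 ▸ hmem 4, by decide⟩
    have := Finset.card_le_card hsub
    have h5 : ({none, some 0, some 1, some 2, some 3} : Finset GolayPt).card = 5 := by decide
    omega
  have hne : ∀ i : Fin 6, i ≠ 5 → h (a 5) ≠ h (a i) := by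
    intro i hi hc
    exact hi (ha (h.injective hc)).symm
  have h5 : h (a 5) = some 5 ∨ h (a 5) = some 14 ∨ h (a 5) = some 17 := by
    have hm := hmem 5
    rw [hO] at hm
    have n0 := hne 0 (by decide)
    have n1 := hne 1 (by decide)
    have n2 := hne 2 (by decide)
    have n3 := hne 3 (by decide)
    have n4 := hne 4 (by decide)
    rw [e0] at n0
    rw [e1] at n1
    rw [e2] at n2
    rw [e3] at n3
    rw [e4] at n4
    simp only [O0, Finset.mem_insert, Finset.mem_singleton] at hm
    rcases hm with hm | hm | hm | hm | hm | hm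
    · exact absurd hm n0
    · exact absurd hm n1
    · exact absurd hm n2
    · exact absurd hm n3
    · exact absurd hm n4
    · exact hm
  obtain ⟨k, kK, k0, k1, k2, k3, k4, k5⟩ := M24Chain.L5 _ h5
  have kM := M24Chain.K_le_M24 kK
  -- the point outside
  have hkO : k • O0 = O0 := by
    apply GolayBase.octad_unique (smul_mem_octads kM O0_mem) O0_mem
    have hsub : ({none, some 0, some 1, some 2, some 3} : Finset GolayPt) ⊆ (k • O0) ∩ O0 := by
      intro x hx
      rw [Finset.mem_inter]
      simp only [Finset.mem_insert, Finset.mem_singleton] at hx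
      rcases hx with rfl | rfl | rfl | rfl | rfl
      · exact ⟨by
          have := Finset.smul_mem_smul_finset (a := k) (show (none : GolayPt) ∈ O0 by decide)
          rwa [Equiv.Perm.smul_def, k0] at this, by decide⟩
      · exact ⟨by
          have := Finset.smul_mem_smul_finset (a := k) (show (some 0 : GolayPt) ∈ O0 by decide)
          rwa [Equiv.Perm.smul_def, k1] at this, by decide⟩
      · exact ⟨by
          have := Finset.smul_mem_smul_finset (a := k) (show (some 1 : GolayPt) ∈ O0 by decide)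
          rwa [Equiv.Perm.smul_def, k2] at this, by decide⟩
      · exact ⟨by
          have := Finset.smul_mem_smul_finset (a := k) (show (some 2 : GolayPt) ∈ O0 by decide)
          rwa [Equiv.Perm.smul_def, k3] at this, by decide⟩
      · exact ⟨by
          have := Finset.smul_mem_smul_finset (a := k) (show (some 3 : GolayPt) ∈ O0 by decide)
          rwa [Equiv.Perm.smul_def, k4] at this, by decide⟩
    have := Finset.card_le_card hsub
    have h5 : ({none, some 0, some 1, some 2, some 3} : Finset GolayPt).card = 5 := by decide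
    omega
  have hku : k⁻¹ (h u) ∉ O0 := by
    intro hc
    apply hu
    have h6 : k • (k⁻¹ (h u)) ∈ k • O0 := Finset.smul_mem_smul_finset hc
    rw [Equiv.Perm.smul_def, M24Chain.apply_inv, hkO, ← hO] at h6
    have h7 := (Finset.smul_mem_smul_finset_iff (a := h) (b := u) (s := o)).1 h6
    exact h7
  obtain ⟨l, lK, l0, l1, l2, l3, l4, l5, l6⟩ := M24Chain.L6 _ hku
  have lM := M24Chain.K_le_M24 lK
  refine ⟨l⁻¹ * k⁻¹ * h, mul_mem (mul_mem (inv_mem lM) (inv_mem kM)) hM, ?_, ?_⟩
  · intro i
    fin_cases i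
    · show l⁻¹ (k⁻¹ (h (a 0))) = none
      rw [e0, Equiv.Perm.inv_eq_iff_eq, l0, Equiv.Perm.inv_eq_iff_eq, k0]
    · show l⁻¹ (k⁻¹ (h (a 1))) = some 0
      rw [e1, Equiv.Perm.inv_eq_iff_eq, l1, Equiv.Perm.inv_eq_iff_eq, k1]
    · show l⁻¹ (k⁻¹ (h (a 2))) = some 1
      rw [e2, Equiv.Perm.inv_eq_iff_eq, l2, Equiv.Perm.inv_eq_iff_eq, k2]
    · show l⁻¹ (k⁻¹ (h (a 3))) = some 2
      rw [e3, Equiv.Perm.inv_eq_iff_eq, l3, Equiv.Perm.inv_eq_iff_eq, k3]
    · show l⁻¹ (k⁻¹ (h (a 4))) = some 3
      rw [e4, Equiv.Perm.inv_eq_iff_eq, l4, Equiv.Perm.inv_eq_iff_eq, k4]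
    · show l⁻¹ (k⁻¹ (h (a 5))) = some 5
      rw [Equiv.Perm.inv_eq_iff_eq, l5, Equiv.Perm.inv_eq_iff_eq, k5]
  · show l⁻¹ (k⁻¹ (h u)) = some 4
    rw [Equiv.Perm.inv_eq_iff_eq, l6]

theorem tr7 : DuadsM22.Tr7 := by
  intro a b u v o o' ho ho' ha hb hao hbo hu hv
  obtain ⟨g, hg, hg1, hg2⟩ := exists_map_std a u o ho ha hao hu
  obtain ⟨h, hh, hh1, hh2⟩ := exists_map_std b v o' ho' hb hbo hv
  refine ⟨h⁻¹ * g, mul_mem (inv_mem hh) hg, fun i => ?_, ?_⟩
  · rw [Equiv.Perm.mul_apply, hg1, Equiv.Perm.inv_eq_iff_eq, hh1]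
  · rw [Equiv.Perm.mul_apply, hg2, Equiv.Perm.inv_eq_iff_eq, hh2]

end Cfsg.Agent.SporadicStructure.SevenTuple
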