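import Cfsg.Agent.Golay.OctadList

/-!
Transitivity of the two-point stabiliser `M22` of `M24` on the 330 octads avoiding the two points, on the 462 flags
(octad through both points, further point of it) and on the 1232 flags (octad through exactly one of the two points,
further point of it). Kernel-checked walks in Schreier graphs.
-/

set_option autoImplicit false
open scoped Pointwise
open Cfsg

namespace Cfsg.Agent.SporadicStructure.M22Flags

open Cfsg.Agent.Golay.Orbit Cfsg.Agent.Golay.Walk Cfsg.Agent.Golay.OctadList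

/-- `chain gens w m L`: applying successively the generators with indices in `w` to `m` gives the masks `L` -/
def chain (gens : List (List ℕ)) : List ℕ → ℕ → List ℕ → Bool
  | [], _, [] => true
  | i :: w, m, m' :: L => Nat.beq (act (gens.getD i []) m) m' && chain gens w m' L
  | _, _, _ => false

theorem walk_of_chain (gens : List (List ℕ)) (w : List ℕ) (m : ℕ) (L : List ℕ)
    (h : chain gens w m L = true) : walk gens w m = m :: L := by
  induction w generalizing m L with
  | nil =>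
    cases L with
    | nil => rfl
    | cons a L => exact absurd h (by simp [chain])
  | cons i w ih =>
    cases L with
    | nil => exact absurd h (by simp [chain])
    | cons a L =>
      have h' : (Nat.beq (act (gens.getD i []) m) a && chain gens w a L) = true := h
      rw [Bool.and_eq_true] at h'
      have h1 := Nat.eq_of_beq_eq_true h'.1
      show m :: walk gens w (act (gens.getD i []) m) = _
      rw [h1, ih _ _ h'.2]

/-- tables of two generators of `M22` and their inverses -/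
def gens : List (List ℕ) := [
  [1, 65536, 131072, 16, 32, 8, 2, 256, 4194304, 524288, 4, 16384, 4096, 8192, 32768, 2048, 64,
    1024, 262144, 1048576, 512, 2097152, 128, 8388608],
  [1, 8192, 64, 16384, 131072, 262144, 8, 2, 524288, 1048576, 2097152, 2048, 4194304, 65536, 4,
    32768, 128, 512, 4096, 256, 16, 1024, 32, 8388608],
  [1, 64, 1024, 32, 8, 16, 65536, 4194304, 128, 1048576, 131072, 32768, 4096, 8192, 2048, 16384,
    2, 4, 262144, 512, 524288, 2097152, 256, 8388608],
  [1, 128, 16384, 64, 1048576, 4194304, 4, 65536, 524288, 131072, 2097152, 2048, 262144, 2, 8,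
    32768, 8192, 16, 32, 256, 512, 1024, 4096, 8388608]]

/-- the masks of the two fixed points -/
def fixed : List ℕ := [8388608, 1]

/-- walk on the 330 octads avoiding both points -/
def wA : List ℕ := [3, 3, 0, 1, 0, 1, 1, 1, 0, 3, 3, 3, 0, 0, 1, 1, 1, 2, 2, 1, 1, 0, 1, 1, 1, 0, 1, 2, 1, 0, 1, 1,
  0, 1, 2, 1, 1, 1, 2, 2, 3, 2, 3, 0, 3, 0, 3, 3, 3, 0, 0, 2, 1, 1, 2, 1, 0, 0, 3, 0, 0, 1, 2, 2,
  3, 3, 0, 0, 0, 3, 2, 2, 1, 2, 3, 2, 1, 0, 0, 3, 0, 1, 1, 0, 0, 3, 2, 1, 0, 1, 2, 3, 0, 0, 1, 2,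
  2, 3, 0, 3, 2, 2, 3, 0, 3, 2, 3, 3, 3, 0, 3, 3, 3, 2, 1, 0, 0, 1, 0, 0, 1, 1, 2, 2, 1, 0, 0, 2,
  1, 1, 0, 0, 1, 0, 0, 1, 1, 1, 0, 1, 0, 1, 0, 0, 1, 1, 2, 1, 1, 1, 0, 1, 2, 2, 1, 0, 1, 1, 0, 1,
  1, 2, 1, 2, 3, 3, 3, 0, 3, 0, 3, 3, 3, 2, 3, 3, 0, 3, 2, 1, 0, 1, 1, 1, 2, 1, 2, 2, 1, 2, 1, 2,
  1, 2, 1, 1, 1, 2, 3, 3, 3, 2, 2, 1, 1, 1, 0, 1, 2, 2, 3, 3, 3, 0, 0, 1, 0, 1, 0, 3, 0, 1, 1, 0,
  0, 1, 1, 0, 1, 2, 3, 2, 3, 0, 1, 1, 2, 2, 3, 0, 3, 2, 3, 1, 2, 3, 2, 3, 3, 3, 2, 2, 1, 2, 3, 2,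
  3, 3, 3, 2, 1, 0, 0, 3, 3, 3, 2, 1, 1, 0, 3, 2, 3, 2, 2, 3, 0, 1, 1, 1, 1, 0, 3, 2, 2, 3, 0, 0,
  3, 2, 1, 2, 2, 3, 2, 1, 0, 3, 3, 3, 2, 3, 3, 3, 0, 3, 1, 0, 1, 2, 1, 2, 3, 3, 0, 0, 1, 1, 1, 2,
  1, 1, 1, 2, 2, 3, 1, 1, 0, 3, 3, 0, 0, 3, 0, 3, 3, 2, 3, 0, 1, 0, 3, 3, 3, 0, 1, 1, 2, 3, 3, 0,
  1, 0, 0, 1, 2, 3, 2, 3, 2, 3, 0, 1, 2, 3, 0, 1, 1, 0, 1, 1, 1, 2]

/-- the masks visited by `wA` -/
def LA : List ℕ := [5785794, 72588, 4870480, 4850476, 5899416, 2245426, 1975812, 3216208, 6820450, 4593028,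
  2969648, 5514536, 4465308, 926128, 987906, 5780352, 5833010, 525274, 5309160, 1327290, 421910,
  504864, 6656640, 5280930, 6594610, 2435240, 351362, 4626498, 4241960, 555160, 4409606, 535268,
  1728778, 615188, 1060490, 3237906, 208020, 2296514, 7438406, 2704706, 2631052, 6432416,
  6493202, 2168036, 6644740, 2531524, 115766, 7397512, 104010, 596054, 1265762, 596054, 4336072,
  608810, 1084018, 1484824, 290352, 843820, 4243818, 4294810, 84464, 919694, 4490852, 1525008,
  3678776, 5375810, 4785798, 1769924, 5375810, 2757268, 7345676, 3806496, 7079696, 3539848,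
  722544, 1245726, 1204944, 567074, 5842956, 31554, 4845570, 4301220, 884962, 1378634, 4538962,
  1192108, 4731956, 6750560, 6554826, 2126890, 2242672, 5508118, 475812, 951624, 2675464,
  3168928, 7903248, 1351424, 5003780, 416040, 301236, 4510744, 3444840, 2365978, 1445088,
  5210132, 1110320, 6062602, 168928, 4726026, 2890176, 855332, 6842656, 2141072, 1805314,
  1134148, 705094, 1090380, 4860434, 1664160, 2425238, 668866, 4403780, 1127686, 6889680,
  3154402, 6365962, 3154402, 861210, 2322816, 6337856, 6305926, 4271202, 90318, 237906, 762504,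
  1164162, 1613974, 1256224, 1903248, 1852256, 1839388, 5640752, 792232, 7622914, 4731956,
  145176, 8077824, 1050548, 4063314, 3474978, 3421328, 7221256, 2372388, 6100032, 1315526,
  5255258, 4415544, 42232, 2605066, 63108, 5405696, 6359604, 3179802, 3704512, 2328324, 2810896,
  3189796, 6344194, 2738308, 126216, 2664522, 36294, 4441280, 2207772, 1369154, 371206, 190626,
  4253780, 231532, 150618, 2255372, 1134148, 3147996, 6915112, 2409888, 6703248, 6588684, 580704,
  252432, 5409412, 5817604, 2654580, 2180760, 3294342, 2106966, 3351624, 2826278, 4220306,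
  3739786, 337856, 5709954, 4989254, 602472, 5063048, 545190, 5476616, 4768432, 5262104, 1608104,
  4819776, 702724, 837906, 5621792, 314056, 1103886, 252432, 5409412, 675712, 2820376, 7357552,
  2491452, 2512448, 2921478, 3610628, 4202192, 7473194, 2180760, 3294342, 6949956, 2120980,
  2268296, 2460752, 2377830, 277580, 6379592, 2201890, 2150610, 1410188, 396116, 1722420, 560668,
  3328320, 560668, 1230376, 6455896, 3227948, 4744776, 2232654, 804052, 4656648, 1474854, 832080,
  1405448, 402026, 1384564, 5268006, 4346506, 463064, 4526126, 4485344, 307594, 4536592, 1849378,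
  4459426, 4921504, 4231958, 5939296, 361272, 4982904, 5249380, 628112, 4038912, 2908802,
  7612992, 138790, 742412, 6308804, 1573998, 2384216, 742412, 1217620, 3457556, 3951624, 3050016,
  4361520, 4213932, 180636, 1687640, 608810, 1337732, 5024896, 4645632, 692282, 21116, 5652556,
  427666, 3375280, 5350928, 3322370, 3698756, 280334, 2769128, 4261212, 4325622, 5329044,
  4325622, 198058, 2908802, 7612992, 1121336, 692282, 5538256, 1675812, 1710664, 1594898,
  7479572, 722544, 3539848, 8126628, 267634, 7221256, 4282144, 1186194, 4755660, 381252, 4755660,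
  4243818, 4294810, 1161408, 371206, 1009728, 1369154, 2130606, 2820376, 1584464, 3672838,
  3704512, 2328324, 6949956, 2101096, 6832158, 1070536, 2949708, 157028, 4367374, 2220640,
  1410188, 5129250, 6295992, 6100032, 1315526, 5255258, 78514, 602472, 5063048, 4459426, 4921504,
  4231958, 2019456, 5003780, 416040, 4510744, 6475812, 2120980, 3951624, 3457556, 1217620,
  6455896, 2624690, 2501890, 2702848, 7409024, 6979970]

/-- walk on the 77 octads through both points -/
def wB : List ℕ := [0, 0, 3, 0, 0, 1, 2, 2, 1, 1, 1, 0, 3, 0, 3, 3, 3, 2, 2, 1, 1, 1, 3, 2, 1, 0, 3, 3, 3, 2, 1, 2,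
  3, 3, 0, 1, 1, 0, 1, 1, 0, 1, 0, 3, 3, 2, 1, 0, 0, 3, 2, 1, 1, 1, 1, 2, 3, 2, 2, 3, 2, 3, 2, 3,
  0, 0, 3, 3, 2, 3, 0, 1, 3, 2, 3, 0, 0, 3, 1, 2, 3, 0, 0, 1, 2, 3]

/-- the masks visited by `wB` -/
def LB : List ℕ := [8536111, 8619033, 11575377, 10496547, 11100169, 8471941, 12717187, 12747077, 8946281, 9748745,
  8966165, 9607201, 12880401, 9193633, 12650793, 13121601, 8657159, 8688833, 13062145, 12587685,
  13893731, 8663097, 13893731, 9240913, 9048457, 13636881, 12325377, 8783649, 15335473, 10486557,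
  10110017, 9112069, 8546577, 9963547, 9519665, 9830549, 8524371, 8983587, 14950785, 8983587,
  9506893, 12599513, 8421811, 14254209, 8499969, 9465987, 12656663, 8593633, 8398155, 11010247,
  14747201, 11535529, 10765331, 10630149, 14747201, 11731203, 8922769, 13771273, 9969957,
  13124355, 9440193, 9112069, 9471495, 10666625, 11046145, 15747077, 8412681, 10881097, 10846245,
  12641313, 8431757, 8505411, 8431757, 12641313, 14716939, 10557585, 10506593, 13370381,
  10506593, 10557585, 9776129, 8675909, 9347075, 8499969, 9465987, 8716939]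

/-- walk on the 176 octads through `some 0` but not `none` -/
def wC : List ℕ := [2, 2, 1, 0, 0, 3, 0, 0, 1, 1, 0, 0, 3, 2, 2, 1, 1, 0, 0, 3, 3, 3, 2, 2, 1, 1, 2, 1, 1, 0, 0, 1,
  1, 0, 0, 1, 0, 0, 3, 3, 2, 2, 3, 0, 0, 2, 1, 2, 2, 3, 3, 3, 0, 3, 0, 1, 0, 1, 0, 0, 3, 3, 3, 2,
  2, 3, 0, 0, 1, 2, 2, 3, 2, 3, 3, 3, 2, 2, 0, 1, 2, 2, 3, 0, 0, 3, 0, 3, 3, 0, 3, 2, 3, 3, 3, 2,
  3, 2, 2, 3, 2, 2, 1, 2, 2, 3, 3, 0, 1, 3, 0, 3, 2, 3, 0, 3, 0, 3, 3, 0, 0, 3, 0, 1, 0, 1, 2, 2,
  1, 2, 2, 3, 3, 0, 0, 1, 2, 1, 0, 0, 0, 1, 0, 3, 0, 3, 3, 3, 0, 0, 3, 0, 1, 2, 1, 2, 2, 3, 2, 3,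
  0, 0, 1, 1, 0, 0, 3, 2, 1, 0, 1, 0, 1, 1, 0, 1, 2, 0, 1, 0, 0, 0, 1, 2, 1, 2, 1, 1, 2, 3, 0, 0,
  1, 0, 0, 1, 0, 3, 2, 2, 0, 1]

/-- the masks visited by `wC` -/
def LC : List ℕ := [4330601, 201013, 5112513, 1836419, 5571333, 684577, 1618953, 1063445, 5441617, 133817, 542009,
  5275709, 5296705, 1661185, 563843, 5286147, 632881, 1075305, 57883, 1212619, 99029, 1302533,
  551943, 175681, 3246601, 1100945, 4900873, 52005, 1869893, 1460739, 902657, 3182981, 4752467,
  1116327, 213833, 1589901, 1737489, 5770785, 6429441, 924689, 430605, 1332261, 6570537, 2916505,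
  3410225, 2916505, 185603, 153797, 4299781, 2422785, 298027, 6326497, 2115979, 593097, 1065303,
  663645, 1188915, 2564625, 2892897, 3416079, 18147, 6488205, 95313, 210955, 45159, 4505735,
  493953, 4476225, 2627629, 2135601, 3297305, 1312345, 2031657, 4203377, 5902343, 283537,
  5511305, 5017889, 5511305, 4216883, 39257, 118953, 4563017, 272595, 352547, 4726955, 1122713,
  1647171, 140167, 4924673, 2634003, 2110153, 459847, 2121909, 5325835, 657763, 4721045, 4229001,
  5390753, 4788761, 1053483, 1577201, 4587803, 262637, 4523185, 7417889, 4470275, 864389,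
  4264387, 864389, 1454401, 786999, 1312345, 3277413, 2754059, 2229713, 6292775, 6837377,
  2430217, 6557781, 2494627, 4523185, 262637, 806987, 1413139, 4370577, 4223245, 15777, 7145475,
  2392899, 3489985, 75309, 6447171, 2204803, 2173253, 593097, 4424227, 1352353, 797449, 6053905,
  1352353, 1413139, 334433, 4597797, 418953, 2162811, 5252293, 2183687, 2854977, 3152963,
  2363013, 3031301, 530245, 1250945, 7340691, 7864649, 2687905, 4924673, 140167, 737427, 1148257,
  4196943, 1075305, 346141, 442481, 298027, 6326497, 6406417, 689317, 1182989, 2640465, 3719203,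
  304405, 2854977, 3152963, 6302745, 2269481, 6302745, 2313249, 2147405, 2263063, 2313249,
  2363013, 7767041, 2135601, 3297305, 4343317, 3277413, 3736597, 3172097, 6857221, 3811457,
  69395, 4800613, 1212619, 57883, 632881, 5286147, 582081, 4287105, 582081, 622863]

/-- generators of the stabiliser of a base octad through both points -/
def gensB : List (List ℕ) := [
  [1, 65536, 2048, 32768, 16, 64, 4, 524288, 262144, 4194304, 32, 1024, 8192, 2097152, 16384,
    256, 128, 2, 1048576, 131072, 8, 512, 4096, 8388608],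
  [1, 262144, 1024, 524288, 2048, 4, 64, 4096, 256, 2097152, 16, 32, 131072, 65536, 4194304, 2,
    1048576, 8, 512, 128, 16384, 32768, 8192, 8388608]]

def wBp : List ℕ := [1, 1, 1, 1, 0]

def LBp : List ℕ := [1024, 16, 2048, 32, 64]

/-- generator of a transitive subgroup of the stabiliser of a base octad through one of the points -/
def gensC : List (List ℕ) := [
  [1, 128, 8, 4096, 4, 131072, 16384, 16, 1048576, 65536, 2, 32, 1024, 8192, 524288, 262144,
    2048, 256, 2097152, 4194304, 512, 64, 32768, 8388608]]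

def wCp : List ℕ := [0, 0, 0, 0, 0, 0]

def LCp : List ℕ := [128, 16, 4, 8, 4096, 1024]

theorem reps : Reps (stab fixed) gens := reps_stab fixed gens (by decide +kernel)

theorem repsB : Reps (stab [8388608, 1, 8391797]) gensB := reps_stab _ gensB (by decide +kernel)

theorem repsC : Reps (stab [8388608, 1, 5279]) gensC := reps_stab _ gensC (by decide +kernel)

theorem walkA : walk gens wA 10558 = 10558 :: LA := walk_of_chain _ _ _ _ (by decide +kernel)

theorem walkB : walk gens wB 8391797 = 8391797 :: LB := walk_of_chain _ _ _ _ (by decide +kernel)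

theorem walkC : walk gens wC 5279 = 5279 :: LC := walk_of_chain _ _ _ _ (by decide +kernel)

theorem walkBp : walk gensB wBp 4 = 4 :: LBp := walk_of_chain _ _ _ _ (by decide +kernel)

theorem walkCp : walk gensC wCp 2 = 2 :: LCp := walk_of_chain _ _ _ _ (by decide +kernel)

theorem checkA : octadMasks.all (fun m => m.testBit 23 || m.testBit 0 || memB (10558 :: LA) m) = true := by
  decide +kernel

theorem checkB : octadMasks.all (fun m => !(m.testBit 23) || !(m.testBit 0) || memB (8391797 :: LB) m) = true := by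
  decide +kernel

theorem checkC : octadMasks.all (fun m => m.testBit 23 || !(m.testBit 0) || memB (5279 :: LC) m) = true := by
  decide +kernel

theorem checkBp : ∀ p : GolayPt, p ∈ fin 8391797 → p ≠ none → p ≠ some 0 →
    memB (4 :: LBp) (2 ^ idx p) = true := by
  intro p hp
  rw [mem_fin] at hp
  revert p
  decide +kernel

theorem checkCp : ∀ p : GolayPt, p ∈ fin 5279 → p ≠ some 0 →
    memB (2 :: LCp) (2 ^ idx p) = true := by
  intro p hp
  rw [mem_fin] at hp
  revert p
  decide +kernel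

theorem octadB : fin 8391797 ∈ octads := (mem_octads _).2 ⟨8391797, mem_of_memB _ _ (by decide +kernel), rfl⟩

theorem octadC : fin 5279 ∈ octads := (mem_octads _).2 ⟨5279, mem_of_memB _ _ (by decide +kernel), rfl⟩

theorem apply_of_smul_fin_two_pow {g : Equiv.Perm GolayPt} {p q : GolayPt}
    (h : g • fin (2 ^ idx p) = fin (2 ^ idx q)) : g p = q := by
  rw [fin_two_pow, fin_two_pow, Finset.smul_finset_singleton, Finset.singleton_inj] at h
  exact h

theorem fixes_none {l : List ℕ} {g : Equiv.Perm GolayPt} (hg : g ∈ stab (8388608 :: l)) : g none = none := by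
  have := ((mem_stab _ g).1 hg).2 8388608 (by simp)
  exact apply_of_smul_fin_two_pow (p := none) (q := none) this

theorem fixes_zero {a : ℕ} {l : List ℕ} {g : Equiv.Perm GolayPt} (hg : g ∈ stab (a :: 1 :: l)) :
    g (some 0) = some 0 := by
  have := ((mem_stab _ g).1 hg).2 1 (by simp)
  exact apply_of_smul_fin_two_pow (p := some 0) (q := some 0) this

theorem testBit_none {m : ℕ} (h : none ∈ fin m) : m.testBit 23 = true := (mem_fin m none).1 h

theorem testBit_zero' {m : ℕ} (h : some 0 ∈ fin m) : m.testBit 0 = true := (mem_fin m (some 0)).1 h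

theorem testBit_none_false {m : ℕ} (h : none ∉ fin m) : m.testBit 23 = false := by
  rw [mem_fin] at h
  exact Bool.eq_false_iff.2 h

theorem testBit_zero_false {m : ℕ} (h : some 0 ∉ fin m) : m.testBit 0 = false := by
  rw [mem_fin] at h
  exact Bool.eq_false_iff.2 h

/-- `M22` is transitive on the octads avoiding both points. -/
theorem exists_map_A {O O' : Finset GolayPt} (hO : O ∈ octads) (hO' : O' ∈ octads)
    (h1 : none ∉ O) (h2 : some 0 ∉ O) (h1' : none ∉ O') (h2' : some 0 ∉ O') :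
    ∃ g ∈ M24, g none = none ∧ g (some 0) = some 0 ∧ g • O = O' := by
  have key : ∀ O ∈ octads, none ∉ O → some 0 ∉ O → ∃ m ∈ walk gens wA 10558, O = fin m := by
    intro O hO h1 h2
    obtain ⟨m, hm, rfl⟩ := (mem_octads O).1 hO
    refine ⟨m, ?_, rfl⟩
    have h := List.all_eq_true.1 checkA m hm
    rw [testBit_none_false h1, testBit_zero_false h2, Bool.false_or, Bool.false_or] at h
    rw [walkA]
    exact mem_of_memB _ _ h
  obtain ⟨m, hm, rfl⟩ := key O hO h1 h2
  obtain ⟨m', hm', rfl⟩ := key O' hO' h1' h2'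
  obtain ⟨g, hg, h⟩ := exists_of_mem_walk₂ reps wA (by decide +kernel) 10558 m m' hm hm'
  exact ⟨g, ((mem_stab _ g).1 hg).1, fixes_none hg, fixes_zero hg, h⟩

/-- `M22` is transitive on the octads through both points. -/
theorem exists_map_B {O O' : Finset GolayPt} (hO : O ∈ octads) (hO' : O' ∈ octads)
    (h1 : none ∈ O) (h2 : some 0 ∈ O) (h1' : none ∈ O') (h2' : some 0 ∈ O') :
    ∃ g ∈ M24, g none = none ∧ g (some 0) = some 0 ∧ g • O = O' := by
  have key : ∀ O ∈ octads, none ∈ O → some 0 ∈ O → ∃ m ∈ walk gens wB 8391797, O = fin m := by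
    intro O hO h1 h2
    obtain ⟨m, hm, rfl⟩ := (mem_octads O).1 hO
    refine ⟨m, ?_, rfl⟩
    have h := List.all_eq_true.1 checkB m hm
    rw [testBit_none h1, testBit_zero' h2, Bool.not_true, Bool.false_or, Bool.false_or] at h
    rw [walkB]
    exact mem_of_memB _ _ h
  obtain ⟨m, hm, rfl⟩ := key O hO h1 h2
  obtain ⟨m', hm', rfl⟩ := key O' hO' h1' h2'
  obtain ⟨g, hg, h⟩ := exists_of_mem_walk₂ reps wB (by decide +kernel) 8391797 m m' hm hm'
  exact ⟨g, ((mem_stab _ g).1 hg).1, fixes_none hg, fixes_zero hg, h⟩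

/-- `M22` is transitive on the octads through `some 0` but not `none`. -/
theorem exists_map_C {O O' : Finset GolayPt} (hO : O ∈ octads) (hO' : O' ∈ octads)
    (h1 : none ∉ O) (h2 : some 0 ∈ O) (h1' : none ∉ O') (h2' : some 0 ∈ O') :
    ∃ g ∈ M24, g none = none ∧ g (some 0) = some 0 ∧ g • O = O' := by
  have key : ∀ O ∈ octads, none ∉ O → some 0 ∈ O → ∃ m ∈ walk gens wC 5279, O = fin m := by
    intro O hO h1 h2
    obtain ⟨m, hm, rfl⟩ := (mem_octads O).1 hO
    refine ⟨m, ?_, rfl⟩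
    have h := List.all_eq_true.1 checkC m hm
    rw [testBit_none_false h1, testBit_zero' h2, Bool.not_true, Bool.false_or, Bool.false_or] at h
    rw [walkC]
    exact mem_of_memB _ _ h
  obtain ⟨m, hm, rfl⟩ := key O hO h1 h2
  obtain ⟨m', hm', rfl⟩ := key O' hO' h1' h2'
  obtain ⟨g, hg, h⟩ := exists_of_mem_walk₂ reps wC (by decide +kernel) 5279 m m' hm hm'
  exact ⟨g, ((mem_stab _ g).1 hg).1, fixes_none hg, fixes_zero hg, h⟩

theorem apply_eq_iff_of_fix {g : Equiv.Perm GolayPt} {p q : GolayPt} (h : g p = p) : g q = p ↔ q = p := by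
  constructor
  · intro h'; exact g.injective (by rw [h', h])
  · rintro rfl; exact h

/-- `M22` is transitive on the 462 flags (octad through both points, further point of it). -/
theorem exists_map_flag_B {O O' : Finset GolayPt} {i i' : GolayPt} (hO : O ∈ octads) (hO' : O' ∈ octads)
    (h1 : none ∈ O) (h2 : some 0 ∈ O) (h1' : none ∈ O') (h2' : some 0 ∈ O')
    (hi : i ∈ O) (hi1 : i ≠ none) (hi2 : i ≠ some 0)
    (hi' : i' ∈ O') (hi1' : i' ≠ none) (hi2' : i' ≠ some 0) :
    ∃ g ∈ M24, g none = none ∧ g (some 0) = some 0 ∧ g • O = O' ∧ g i = i' := by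
  obtain ⟨g, hg, g1, g2, g3⟩ := exists_map_B hO octadB h1 h2
    (by rw [mem_fin]; decide +kernel) (by rw [mem_fin]; decide +kernel)
  obtain ⟨k, hk, k1, k2, k3⟩ := exists_map_B hO' octadB h1' h2'
    (by rw [mem_fin]; decide +kernel) (by rw [mem_fin]; decide +kernel)
  have m1 : 2 ^ idx (g i) ∈ walk gensB wBp 4 := by
    rw [walkBp]
    refine mem_of_memB _ _ (checkBp (g i) ?_ (by rwa [Ne, apply_eq_iff_of_fix g1])
      (by rwa [Ne, apply_eq_iff_of_fix g2]))
    rw [← g3]
    exact Finset.smul_mem_smul_finset hi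
  have m2 : 2 ^ idx (k i') ∈ walk gensB wBp 4 := by
    rw [walkBp]
    refine mem_of_memB _ _ (checkBp (k i') ?_ (by rwa [Ne, apply_eq_iff_of_fix k1])
      (by rwa [Ne, apply_eq_iff_of_fix k2]))
    rw [← k3]
    exact Finset.smul_mem_smul_finset hi'
  obtain ⟨h, hh, h3⟩ := exists_of_mem_walk₂ repsB wBp (by decide +kernel) 4 _ _ m1 m2
  have hh1 := fixes_none hh
  have hh2 := fixes_zero hh
  have hh3 : h • fin 8391797 = fin 8391797 := ((mem_stab _ h).1 hh).2 8391797 (by simp)
  have hh4 := apply_of_smul_fin_two_pow h3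
  refine ⟨k⁻¹ * h * g, mul_mem (mul_mem (inv_mem hk) ((mem_stab _ h).1 hh).1) hg, ?_, ?_, ?_, ?_⟩
  · rw [Equiv.Perm.mul_apply, Equiv.Perm.mul_apply, g1, hh1, Equiv.Perm.inv_eq_iff_eq, k1]
  · rw [Equiv.Perm.mul_apply, Equiv.Perm.mul_apply, g2, hh2, Equiv.Perm.inv_eq_iff_eq, k2]
  · rw [mul_smul, mul_smul, g3, hh3, ← k3, inv_smul_smul]
  · rw [Equiv.Perm.mul_apply, Equiv.Perm.mul_apply, hh4, Equiv.Perm.inv_eq_iff_eq]

/-- `M22` is transitive on the 1232 flags (octad through `some 0` but not `none`, further point of it). -/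
theorem exists_map_flag_C {O O' : Finset GolayPt} {i i' : GolayPt} (hO : O ∈ octads) (hO' : O' ∈ octads)
    (h1 : none ∉ O) (h2 : some 0 ∈ O) (h1' : none ∉ O') (h2' : some 0 ∈ O')
    (hi : i ∈ O) (hi2 : i ≠ some 0) (hi' : i' ∈ O') (hi2' : i' ≠ some 0) :
    ∃ g ∈ M24, g none = none ∧ g (some 0) = some 0 ∧ g • O = O' ∧ g i = i' := by
  obtain ⟨g, hg, g1, g2, g3⟩ := exists_map_C hO octadC h1 h2
    (by rw [mem_fin]; decide +kernel) (by rw [mem_fin]; decide +kernel)
  obtain ⟨k, hk, k1, k2, k3⟩ := exists_map_C hO' octadC h1' h2'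
    (by rw [mem_fin]; decide +kernel) (by rw [mem_fin]; decide +kernel)
  have m1 : 2 ^ idx (g i) ∈ walk gensC wCp 2 := by
    rw [walkCp]
    refine mem_of_memB _ _ (checkCp (g i) ?_ (by rwa [Ne, apply_eq_iff_of_fix g2]))
    rw [← g3]
    exact Finset.smul_mem_smul_finset hi
  have m2 : 2 ^ idx (k i') ∈ walk gensC wCp 2 := by
    rw [walkCp]
    refine mem_of_memB _ _ (checkCp (k i') ?_ (by rwa [Ne, apply_eq_iff_of_fix k2]))
    rw [← k3]
    exact Finset.smul_mem_smul_finset hi'
  obtain ⟨h, hh, h3⟩ := exists_of_mem_walk₂ repsC wCp (by decide +kernel) 2 _ _ m1 m2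
  have hh1 := fixes_none hh
  have hh2 := fixes_zero hh
  have hh3 : h • fin 5279 = fin 5279 := ((mem_stab _ h).1 hh).2 5279 (by simp)
  have hh4 := apply_of_smul_fin_two_pow h3
  refine ⟨k⁻¹ * h * g, mul_mem (mul_mem (inv_mem hk) ((mem_stab _ h).1 hh).1) hg, ?_, ?_, ?_, ?_⟩
  · rw [Equiv.Perm.mul_apply, Equiv.Perm.mul_apply, g1, hh1, Equiv.Perm.inv_eq_iff_eq, k1]
  · rw [Equiv.Perm.mul_apply, Equiv.Perm.mul_apply, g2, hh2, Equiv.Perm.inv_eq_iff_eq, k2]
  · rw [mul_smul, mul_smul, g3, hh3, ← k3, inv_smul_smul]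
  · rw [Equiv.Perm.mul_apply, Equiv.Perm.mul_apply, hh4, Equiv.Perm.inv_eq_iff_eq]

end Cfsg.Agent.SporadicStructure.M22Flags
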