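import Cfsg.Agent.SporadicStructure.M22Hexads

/-!
The two-point stabiliser in `Cfsg.M24` has no subgroup of order 7920 (index 56) and none of
order 2112 (index 210).
-/

set_option autoImplicit false

namespace Cfsg.Agent.SporadicStructure.M22NoIndex

open Cfsg Cfsg.Agent.SporadicA.GolayBase Cfsg.Agent.SporadicStructure.M22Syl11
  Cfsg.Agent.SporadicStructure.M22Hexads
open scoped Pointwise

/-- If a group acts faithfully and stabilises a finite set, the pointwise stabiliser lying in `F`,
then its order divides `|F| |Y|!`. -/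
theorem card_dvd_mul_factorial {α A : Type*} [Finite α] [Group A] [Finite A]
    (φ : A →* Equiv.Perm α) (hφ : Function.Injective φ) (Y : Finset α)
    (hY : ∀ a x, φ a x ∈ Y ↔ x ∈ Y) (F : Subgroup (Equiv.Perm α))
    (hF : ∀ a, (∀ x ∈ Y, φ a x = x) → φ a ∈ F) :
    Nat.card A ∣ Nat.card F * Y.card.factorial := by
  classical
  let ρ : A →* Equiv.Perm {x // x ∈ Y} :=
    { toFun := fun a => (φ a).subtypePerm (hY a)
      map_one' := by ext x; simp
      map_mul' := by intro a b; ext x; simp; rfl }
  have h1 : Nat.card A = Nat.card ρ.ker * Nat.card ρ.range := by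
    rw [← Subgroup.index_ker, Subgroup.card_mul_index]
  rw [h1]
  apply mul_dvd_mul
  · have h2 : ρ.ker.map φ ≤ F := by
      rintro _ ⟨a, ha, rfl⟩
      apply hF
      intro x hx
      have := congrArg (fun e : Equiv.Perm {x // x ∈ Y} => (e ⟨x, hx⟩ : α)) (MonoidHom.mem_ker.mp ha)
      exact this
    have h3 := Subgroup.card_dvd_of_le h2
    rwa [Subgroup.card_map_of_injective hφ] at h3
  · have h4 := Subgroup.card_subgroup_dvd_card ρ.range
    have h5 : Nat.card (Equiv.Perm {x // x ∈ Y}) = Y.card.factorial := by
      rw [Nat.card_perm, Nat.card_eq_fintype_card, Fintype.card_coe]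
    rwa [h5] at h4

theorem mem_smul_iff {k : Equiv.Perm GolayPt} {s : Finset GolayPt} {x : GolayPt} :
    k x ∈ k • s ↔ x ∈ s := by
  rw [← Equiv.Perm.smul_def]
  exact Finset.smul_mem_smul_finset_iff k

/-- The hexads are permuted by `G0`. -/
theorem smul_mem_hex {k : Equiv.Perm GolayPt} (hk : k ∈ G0) {m : ℕ} (hm : m ∈ L5 ++ L1 ++ L3) :
    k • fin m ∈ octads ∧ none ∈ k • fin m ∧ some 0 ∈ k • fin m := by
  obtain ⟨hlt, hc, hp, h0, h23⟩ := T9 m hm
  refine ⟨smul_mem_octads hk.1 ((fin_mem_octads_iff hlt).mpr ⟨hc, hp⟩), ?_, ?_⟩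
  · have : none ∈ fin m := mem_fin.mpr h23
    rw [← mem_smul_iff (k := k), hk.2.1] at this
    exact this
  · have : some 0 ∈ fin m := mem_fin.mpr h0
    rw [← mem_smul_iff (k := k), hk.2.2] at this
    exact this

/-- The octad stabilised in case A. -/
def B : Finset GolayPt := fin 8398155

theorem B_mem : B ∈ octads := by
  rw [B, fin_mem_octads_iff (by norm_num)]
  decide +kernel

theorem caseA (h381 : Nat.card ↥(M24 ⊓ fixingSubgroup (Equiv.Perm GolayPt) (B : Set GolayPt)) = 16)
    (L : Subgroup (Equiv.Perm GolayPt)) (hL : L ≤ G0)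
    (hΔ : ∀ k ∈ L, k • fin sqMask = fin sqMask) (h99 : 99 ∣ Nat.card L) : False := by
  -- the orbit of `B` has at most 11 elements
  have horb : (MulAction.orbit L B).ncard ≤ 11 := by
    have hsub : MulAction.orbit L B ⊆ ((L5.toFinset.image fin : Finset (Finset GolayPt)) :
        Set (Finset GolayPt)) := by
      rintro _ ⟨k, rfl⟩
      have hk := hL k.2
      obtain ⟨h1, h2, h3⟩ := smul_mem_hex hk (m := 8398155) (by decide)
      have h4 : ((k : Equiv.Perm GolayPt) • fin 8398155 ∩ fin sqMask).card = 5 := by
        rw [← hΔ k k.2, ← Finset.smul_finset_inter, Finset.card_smul_finset, ← fin_and, card_fin]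
        exact T8.1 8398155 (by decide)
      set s : Finset GolayPt := (k : Equiv.Perm GolayPt) • fin 8398155 with hs
      have h5 : popcount (maskOf s &&& sqMask) = 5 := by
        rw [← card_fin, fin_and, fin_maskOf, h4]
      have h6 : maskOf s ∈ L5 := by
        rcases mem_lists h1 h2 h3 with h | h | h
        · exact h
        · rw [T8.2.1 _ h] at h5; omega
        · rw [T8.2.2 _ h] at h5; omega
      rw [Finset.mem_coe, Finset.mem_image]
      exact ⟨maskOf s, List.mem_toFinset.mpr h6, fin_maskOf s⟩
    calc (MulAction.orbit L B).ncard ≤ ((L5.toFinset.image fin : Finset (Finset GolayPt)) :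
        Set (Finset GolayPt)).ncard := Set.ncard_le_ncard hsub (Set.toFinite _)
      _ = (L5.toFinset.image fin).card := Set.ncard_coe_finset _
      _ ≤ L5.toFinset.card := Finset.card_image_le
      _ ≤ L5.length := List.toFinset_card_le _
      _ = 11 := rfl
  have hpos : 0 < (MulAction.orbit L B).ncard :=
    (Set.ncard_pos (Set.toFinite _)).mpr ⟨B, MulAction.mem_orbit_self B⟩
  -- the stabiliser
  let φ : ↥(MulAction.stabilizer L B) →* Equiv.Perm GolayPt :=
    L.subtype.comp (MulAction.stabilizer L B).subtype
  have hφ : Function.Injective φ :=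
    (Subgroup.subtype_injective L).comp (Subgroup.subtype_injective _)
  have hB : ∀ a, φ a • B = B := fun a => a.2
  have hG : ∀ a, φ a ∈ G0 := fun a => hL a.1.2
  have hD : ∀ a, φ a • fin sqMask = fin sqMask := fun a => hΔ _ a.1.2
  have hdvd : Nat.card ↥(MulAction.stabilizer L B) ∣ 16 * Nat.factorial 5 := by
    have h := card_dvd_mul_factorial φ hφ (B ∩ fin sqMask)
      (by
        intro a x
        have h1 : φ a • (B ∩ fin sqMask) = B ∩ fin sqMask := by
          rw [Finset.smul_finset_inter, hB, hD]
        have h2 := mem_smul_iff (k := φ a) (s := B ∩ fin sqMask) (x := x)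
        rwa [h1] at h2)
      (M24 ⊓ fixingSubgroup (Equiv.Perm GolayPt) (B : Set GolayPt))
      (by
        intro a ha
        refine ⟨(hG a).1, ?_⟩
        refine (mem_fixingSubgroup_iff (Equiv.Perm GolayPt)).mpr ?_
        intro x hx
        rw [Equiv.Perm.smul_def]
        have hcov : ∀ y : GolayPt, (8398155 : ℕ).testBit (idx y) = true →
            y = none ∨ y = some 0 ∨ sqMask.testBit (idx y) = true ∨ y = some 10 := by
          decide +kernel
        have hxB : x ∈ B := hx
        rcases hcov x (mem_fin.mp hxB) with rfl | rfl | h | rfl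
        · exact (hG a).2.1
        · exact (hG a).2.2
        · exact ha x (Finset.mem_inter.mpr ⟨hxB, mem_fin.mpr h⟩)
        · -- the remaining point
          have h1 : φ a (some 10) ∈ B := by
            have := mem_smul_iff (k := φ a) (s := B) (x := some 10)
            rw [hB] at this
            exact this.mpr hxB
          rcases hcov _ (mem_fin.mp h1) with h | h | h | h
          · rw [← (hG a).2.1] at h
            exact absurd ((φ a).injective h) (by decide)
          · rw [← (hG a).2.2] at h
            exact absurd ((φ a).injective h) (by decide)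
          · exfalso
            have h2 : φ a (some 10) ∈ φ a • fin sqMask := by
              rw [hD]; exact mem_fin.mpr h
            rw [mem_smul_iff, mem_fin] at h2
            exact absurd h2 (by decide +kernel)
          · exact h)
    have hY : (B ∩ fin sqMask).card = 5 := by
      rw [B, ← fin_and, card_fin]
      exact T8.1 8398155 (by decide)
    rw [h381, hY] at h
    exact h
  have hmul := Subgroup.card_mul_index (MulAction.stabilizer L B)
  rw [MulAction.index_stabilizer] at hmul
  generalize Nat.card ↥(MulAction.stabilizer L B) = m at hdvd hmul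
  generalize (MulAction.orbit L B).ncard = n at horb hpos hmul
  rw [← hmul] at h99
  have h5 : Nat.factorial 5 = 120 := rfl
  rw [h5] at hdvd
  -- 99 ∣ m * n, m ∣ 1920, n ≤ 11
  have h33 : 33 ∣ n := by
    have h1 : 99 ∣ 1920 * n := h99.trans (mul_dvd_mul_right hdvd n)
    have h2 : 3 * 33 ∣ 3 * (640 * n) := by
      rw [← mul_assoc]; exact h1
    have h3 : 33 ∣ 640 * n := Nat.dvd_of_mul_dvd_mul_left (by norm_num) h2
    exact (Nat.Coprime.dvd_mul_left (by norm_num : Nat.Coprime 33 640)).mp h3
  have := Nat.le_of_dvd hpos h33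
  omega

/-- A point fixed by no hexad relation: elements of `G0` permute the 22 other points. -/
theorem ne_fixed {k : Equiv.Perm GolayPt} (hk : k ∈ G0) {x : GolayPt}
    (hx : sqMask.testBit (idx x) = true ∨ nsqMask.testBit (idx x) = true) :
    sqMask.testBit (idx (k x)) = true ∨ nsqMask.testBit (idx (k x)) = true := by
  rcases pt_cases (k x) with h | h | h
  · rw [← hk.2.1] at h
    rw [k.injective h] at hx
    exact absurd hx (by decide +kernel)
  · rw [← hk.2.2] at h
    rw [k.injective h] at hx
    exact absurd hx (by decide +kernel)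
  · exact h

theorem maskOf_smul_eq {k : Equiv.Perm GolayPt} {s t : Finset GolayPt}
    (h : k • s = k • t) : s = t := by
  have := congrArg (fun u => k⁻¹ • u) h
  simpa using this

theorem caseB (h381 : Nat.card ↥(M24 ⊓ fixingSubgroup (Equiv.Perm GolayPt) (B : Set GolayPt)) = 16)
    (K : Subgroup (Equiv.Perm GolayPt)) (hK : K ≤ G0) (hf : f11 ∈ K) (ht : cubeTwist ∈ K)
    (hcard : Nat.card K = 7920) : False := by
  by_cases hinv : ∀ k ∈ K, ∀ x, sqMask.testBit (idx x) = true → sqMask.testBit (idx (k x)) = true
  · refine caseA h381 K hK (fun k hk => ?_) (by rw [hcard]; norm_num)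
    apply Finset.eq_of_subset_of_card_le
    · intro y hy
      obtain ⟨x, hx, rfl⟩ := Finset.mem_smul_finset.mp hy
      exact mem_fin.mpr (hinv k hk x (mem_fin.mp hx))
    · rw [Finset.card_smul_finset]
  push Not at hinv
  obtain ⟨k0, hk0, x0, hx0, hkx0⟩ := hinv
  have hkx0' : nsqMask.testBit (idx (k0 x0)) = true :=
    (ne_fixed (hK hk0) (Or.inl hx0)).resolve_left hkx0
  -- the orbit
  set T : Set (Finset GolayPt) := {s | ∃ k ∈ K, k • fin 8398155 = s} with hT
  have hTinv : ∀ k ∈ K, ∀ s ∈ T, k • s ∈ T := by
    rintro k hk _ ⟨k', hk', rfl⟩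
    exact ⟨k * k', K.mul_mem hk hk', mul_smul _ _ _⟩
  have hTinv' : ∀ k ∈ K, ∀ s, k • s ∈ T → s ∈ T := by
    intro k hk s hs
    have := hTinv k⁻¹ (K.inv_mem hk) _ hs
    rwa [inv_smul_smul] at this
  have h5T : ∀ m ∈ L5, fin m ∈ T := fun m hm => exists_L5 hf hm
  have h1T : ∀ m ∈ L1, (fin m ∈ T ↔ fin 9193633 ∈ T) := by
    intro m hm
    obtain ⟨k, hk, h⟩ := exists_L1 hf hm
    rw [← h]
    exact ⟨hTinv' k hk _, hTinv k hk _⟩
  have h3T : ∀ m ∈ L3, (fin m ∈ T ↔ fin 8391797 ∈ T) := by
    intro m hm
    obtain ⟨k, hk, h⟩ := exists_L3 hf ht hm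
    rw [← h]
    exact ⟨hTinv' k hk _, hTinv k hk _⟩
  -- images of hexads
  have hhex : ∀ k ∈ K, ∀ m ∈ L5 ++ L1 ++ L3, ∃ m', k • fin m = fin m' ∧
      (m' ∈ L5 ∨ m' ∈ L1 ∨ m' ∈ L3) := by
    intro k hk m hm
    obtain ⟨h1, h2, h3⟩ := smul_mem_hex (hK hk) hm
    exact ⟨maskOf (k • fin m), (fin_maskOf _).symm, mem_lists h1 h2 h3⟩
  have hmem : ∀ {m : ℕ} {x : GolayPt} (k : Equiv.Perm GolayPt) {m' : ℕ}, k • fin m = fin m' →
      m.testBit (idx x) = true → m'.testBit (idx (k x)) = true := by
    intro m x k m' h hx
    rw [← mem_fin, ← h, mem_smul_iff, mem_fin]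
    exact hx
  have hinj : ∀ {m m' n : ℕ} (k : Equiv.Perm GolayPt), m ∈ L5 ++ L1 ++ L3 → m' ∈ L5 ++ L1 ++ L3 →
      k • fin m = fin n → k • fin m' = fin n → m = m' := by
    intro m m' n k hm hm' h h'
    exact fin_injective (T9 m hm).1 (T9 m' hm').1 (maskOf_smul_eq (h.trans h'.symm))
  by_cases hP1 : fin 9193633 ∈ T
  · by_cases hP3 : fin 8391797 ∈ T
    · -- the orbit has 77 elements
      have hTeq : MulAction.orbit K (fin 8398155) =
          (((L5 ++ L1 ++ L3).toFinset.image fin : Finset (Finset GolayPt)) :
            Set (Finset GolayPt)) := by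
        ext s
        rw [Finset.mem_coe, Finset.mem_image]
        constructor
        · rintro ⟨k, rfl⟩
          obtain ⟨m', h, h'⟩ := hhex k k.2 8398155 (by decide)
          refine ⟨m', ?_, h.symm⟩
          rw [List.mem_toFinset, List.mem_append, List.mem_append]
          tauto
        · rintro ⟨m, hm, rfl⟩
          rw [List.mem_toFinset, List.mem_append, List.mem_append] at hm
          have : fin m ∈ T := by
            rcases hm with (hm | hm) | hm
            · exact h5T m hm
            · exact (h1T m hm).mpr hP1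
            · exact (h3T m hm).mpr hP3
          obtain ⟨k, hk, h⟩ := this
          exact ⟨⟨k, hk⟩, h⟩
      have h77 : (MulAction.orbit K (fin 8398155)).ncard = 77 := by
        rw [hTeq, Set.ncard_coe_finset, Finset.card_image_of_injOn, List.toFinset_card_of_nodup T10]
        · rfl
        · intro a ha b hb hab
          rw [Finset.mem_coe, List.mem_toFinset] at ha hb
          exact fin_injective (T9 a ha).1 (T9 b hb).1 hab
      have h1 := Subgroup.card_mul_index (MulAction.stabilizer K (fin 8398155))
      rw [MulAction.index_stabilizer, h77, hcard] at h1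
      omega
    · -- the orbit is `L5 ∪ L1`
      have hTlist : ∀ s ∈ T, ∃ m ∈ L5 ++ L1, s = fin m := by
        rintro _ ⟨k, hk, rfl⟩
        obtain ⟨m', h, h'⟩ := hhex k hk 8398155 (by decide)
        refine ⟨m', ?_, h⟩
        rcases h' with h' | h' | h'
        · exact List.mem_append_left _ h'
        · exact List.mem_append_right _ h'
        · exfalso
          apply hP3
          rw [← h3T m' h', ← h]
          exact ⟨k, hk, rfl⟩
      have hTmem : ∀ m ∈ L5 ++ L1, fin m ∈ T := by
        intro m hm
        rcases List.mem_append.mp hm with hm | hm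
        · exact h5T m hm
        · exact (h1T m hm).mpr hP1
      -- two points on a common member of `T`
      have hcommon : ∀ k ∈ K, ∀ x y : GolayPt,
          (∃ m ∈ L5 ++ L1, m.testBit (idx (k x)) = true ∧ m.testBit (idx (k y)) = true) →
          ∃ m ∈ L5 ++ L1, m.testBit (idx x) = true ∧ m.testBit (idx y) = true := by
        rintro k hk x y ⟨m, hm, h1, h2⟩
        obtain ⟨m', hm', h'⟩ := hTlist _ (hTinv k⁻¹ (K.inv_mem hk) _ (hTmem m hm))
        refine ⟨m', hm', ?_, ?_⟩
        · have := hmem k⁻¹ h' h1
          rwa [← Equiv.Perm.mul_apply, inv_mul_cancel, Equiv.Perm.one_apply] at this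
        · have := hmem k⁻¹ h' h2
          rwa [← Equiv.Perm.mul_apply, inv_mul_cancel, Equiv.Perm.one_apply] at this
      have hside : ∀ k ∈ K, ∀ x y : GolayPt, sqMask.testBit (idx x) = true →
          sqMask.testBit (idx y) = true → sqMask.testBit (idx (k x)) = true →
          sqMask.testBit (idx (k y)) = true := by
        intro k hk x y hx hy hkx
        obtain ⟨z, hz, hzm⟩ := T7 x y hx hy
        have hkz : nsqMask.testBit (idx (k z)) = true := by
          rcases ne_fixed (hK hk) (Or.inr hz) with h | h
          · exfalso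
            obtain ⟨m, hm, h1, h2⟩ := hcommon k hk z x (T5 _ _ h hkx)
            rw [(hzm m hm h1).1] at h2
            exact absurd h2 (by decide)
          · exact h
        rcases ne_fixed (hK hk) (Or.inl hy) with h | h
        · exact h
        · exfalso
          obtain ⟨m, hm, h1, h2⟩ := hcommon k hk z y (T6 _ _ hkz h)
          rw [(hzm m hm h1).2] at h2
          exact absurd h2 (by decide)
      -- the orbit of the set of squares
      have horb : MulAction.orbit K (fin sqMask) ⊆
          (({fin sqMask, fin nsqMask} : Finset (Finset GolayPt)) : Set (Finset GolayPt)) := by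
        rintro _ ⟨k, rfl⟩
        rw [Finset.mem_coe, Finset.mem_insert, Finset.mem_singleton]
        show (k : Equiv.Perm GolayPt) • fin sqMask = _ ∨
          (k : Equiv.Perm GolayPt) • fin sqMask = _
        have hone : sqMask.testBit (idx (some 1)) = true := by decide +kernel
        rcases ne_fixed (hK k.2) (Or.inl hone) with h | h
        · left
          apply Finset.eq_of_subset_of_card_le
          · intro y hy
            obtain ⟨x, hx, rfl⟩ := Finset.mem_smul_finset.mp hy
            exact mem_fin.mpr (hside k k.2 _ _ hone (mem_fin.mp hx) h)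
          · rw [Finset.card_smul_finset]
        · right
          apply Finset.eq_of_subset_of_card_le
          · intro y hy
            obtain ⟨x, hx, rfl⟩ := Finset.mem_smul_finset.mp hy
            rcases ne_fixed (hK k.2) (Or.inl (mem_fin.mp hx)) with h' | h'
            · have := hside k k.2 _ _ (mem_fin.mp hx) hone h'
              rw [not_both _ this] at h
              exact absurd h (by decide)
            · exact mem_fin.mpr h'
          · rw [Finset.card_smul_finset, card_fin, card_fin]
            decide +kernel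
      have hle : (MulAction.orbit K (fin sqMask)).ncard ≤ 2 := by
        calc (MulAction.orbit K (fin sqMask)).ncard ≤
            (({fin sqMask, fin nsqMask} : Finset (Finset GolayPt)) :
              Set (Finset GolayPt)).ncard := Set.ncard_le_ncard horb (Set.toFinite _)
          _ = ({fin sqMask, fin nsqMask} : Finset (Finset GolayPt)).card := Set.ncard_coe_finset _
          _ ≤ 2 := Finset.card_le_two
      have hpos : 0 < (MulAction.orbit K (fin sqMask)).ncard :=
        (Set.ncard_pos (Set.toFinite _)).mpr ⟨_, MulAction.mem_orbit_self _⟩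
      have hmul := Subgroup.card_mul_index (MulAction.stabilizer K (fin sqMask))
      rw [MulAction.index_stabilizer, hcard] at hmul
      refine caseA h381 ((MulAction.stabilizer K (fin sqMask)).map K.subtype) ?_ ?_ ?_
      · rintro _ ⟨k, -, rfl⟩
        exact hK k.2
      · rintro _ ⟨k, hk, rfl⟩
        exact hk
      · rw [Subgroup.card_map_of_injective (Subgroup.subtype_injective K)]
        generalize Nat.card ↥(MulAction.stabilizer K (fin sqMask)) = m at hmul
        generalize (MulAction.orbit K (fin sqMask)).ncard = n at hle hpos hmul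
        interval_cases n
        · exact ⟨80, by omega⟩
        · exact ⟨40, by omega⟩
  · by_cases hP3 : fin 8391797 ∈ T
    · -- `L1` is invariant
      have hL1inv : ∀ k ∈ K, ∀ m ∈ L1, ∃ m' ∈ L1, k • fin m = fin m' := by
        intro k hk m hm
        obtain ⟨m', h, h'⟩ := hhex k hk m (by simp [hm])
        refine ⟨m', ?_, h⟩
        rcases h' with h' | h' | h'
        · exfalso
          apply hP1
          rw [← h1T m hm]
          exact hTinv' k hk _ (h ▸ h5T m' h')
        · exact h'
        · exfalso
          apply hP1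
          rw [← h1T m hm]
          exact hTinv' k hk _ (h ▸ (h3T m' h').mpr hP3)
      obtain ⟨m, hm, m', hm', h1, h2, hne⟩ := T4 _ hkx0'
      obtain ⟨n, hn, h⟩ := hL1inv k0⁻¹ (K.inv_mem hk0) m hm
      obtain ⟨n', hn', h'⟩ := hL1inv k0⁻¹ (K.inv_mem hk0) m' hm'
      have e1 := hmem k0⁻¹ h h1
      have e2 := hmem k0⁻¹ h' h2
      rw [← Equiv.Perm.mul_apply, inv_mul_cancel, Equiv.Perm.one_apply] at e1 e2
      have := T3 x0 hx0 n hn n' hn' e1 e2
      subst this
      exact hne (hinj k0⁻¹ (by simp [hm]) (by simp [hm']) h h')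
    · -- `L5` is invariant
      have hL5inv : ∀ k ∈ K, ∀ m ∈ L5, ∃ m' ∈ L5, k • fin m = fin m' := by
        intro k hk m hm
        obtain ⟨m', h, h'⟩ := hhex k hk m (by simp [hm])
        refine ⟨m', ?_, h⟩
        have hmT := hTinv k hk _ (h5T m hm)
        rw [h] at hmT
        rcases h' with h' | h' | h'
        · exact h'
        · exact absurd ((h1T m' h').mp hmT) hP1
        · exact absurd ((h3T m' h').mp hmT) hP3
      obtain ⟨m, hm, m', hm', h1, h2, hne⟩ := T2 _ hx0
      obtain ⟨n, hn, h⟩ := hL5inv k0 hk0 m hm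
      obtain ⟨n', hn', h'⟩ := hL5inv k0 hk0 m' hm'
      have := T1 _ hkx0' n hn n' hn' (hmem k0 h h1) (hmem k0 h' h2)
      subst this
      exact hne (hinj k0 (by simp [hm]) (by simp [hm']) h h')

/-- The stabiliser of `none` and `some 0` has no subgroup of order 7920 or 2112. -/
theorem card_ne (h378 : Nat.card G0 = 443520)
    (h381 : Nat.card ↥(M24 ⊓ fixingSubgroup (Equiv.Perm GolayPt) (B : Set GolayPt)) = 16)
    (K : Subgroup (Equiv.Perm GolayPt)) (hK : K ≤ G0) :
    Nat.card K ≠ 7920 ∧ Nat.card K ≠ 2112 := by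
  haveI : Fact (Nat.Prime 11) := ⟨by norm_num⟩
  have key : ∀ n, Nat.card K = n → 11 ∣ n → ∃ K' : Subgroup (Equiv.Perm GolayPt), K' ≤ G0 ∧
      f11 ∈ K' ∧ Nat.card K' = n := by
    intro n hn h11
    obtain ⟨g, hg, hgf⟩ := SylowPrime.exists_conj_mem G0 K hK 11 (by rw [h378]; norm_num) f11
      f11_mem_G0 orderOf_f11 (by rw [hn]; exact h11)
    refine ⟨K.map (MulAut.conj g).toMonoidHom, ?_, hgf, ?_⟩
    · rintro _ ⟨k, hk, rfl⟩
      exact G0.mul_mem (G0.mul_mem hg (hK hk)) (G0.inv_mem hg)
    · rw [Subgroup.card_map_of_injective (MulAut.conj g).injective, hn]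
  constructor
  · intro h
    obtain ⟨K', hK', hf, hc⟩ := key 7920 h (by norm_num)
    obtain ⟨m, n, hmn, hn, h11, h55, hle, -⟩ := SylowPrime.exists_sylow_count K' N0 11
      (by rw [hc]; norm_num) f11 hf orderOf_f11 (fun g hg h => mem_N0_of (hK' hg) h)
    rw [card_N0] at h55 hle
    obtain ⟨c, rfl⟩ := h11
    have hc5 : c ∣ 5 := by
      have : 11 * c ∣ 11 * 5 := h55
      exact Nat.dvd_of_mul_dvd_mul_left (by norm_num) this
    rw [hc] at hmn
    rcases (Nat.dvd_prime (by norm_num)).mp hc5 with rfl | rfl
    · exfalso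
      have : n = 720 := by omega
      subst this
      exact absurd hn (by decide)
    · have hN := hle rfl
      exact caseB h381 K' hK' hf (hN twist_mem_N0) hc
  · intro h
    obtain ⟨K', hK', hf, hc⟩ := key 2112 h (by norm_num)
    obtain ⟨m, n, hmn, hn, h11, h55, hle, -⟩ := SylowPrime.exists_sylow_count K' N0 11
      (by rw [hc]; norm_num) f11 hf orderOf_f11 (fun g hg h => mem_N0_of (hK' hg) h)
    rw [card_N0] at h55
    obtain ⟨c, rfl⟩ := h11
    have hc5 : c ∣ 5 := by
      have : 11 * c ∣ 11 * 5 := h55
      exact Nat.dvd_of_mul_dvd_mul_left (by norm_num) this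
    rw [hc] at hmn
    rcases (Nat.dvd_prime (by norm_num)).mp hc5 with rfl | rfl
    · have : n = 192 := by omega
      subst this
      exact absurd hn (by decide)
    · omega

end Cfsg.Agent.SporadicStructure.M22NoIndex
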