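import Mathlib

/-!
# Orbit sizes and maximality of a stabiliser

* `ncard_eq_of_disjoint_cover`: pure counting: disjoint pieces of known lower size whose lower sizes add up to the
  size of the whole set have exactly these sizes and cover the set;
* `isCoatom_stabilizer_of_orbit_sizes`: if the orbits of `stabilizer G a` on `orbit G a` have sizes `1, c i`, and no
  sum `1 + ∑ i ∈ s, c i` with `s` proper and non-empty divides `1 + ∑ i, c i`, the stabiliser is maximal.
-/

set_option autoImplicit false
open scoped Pointwise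
open MulAction

namespace Cfsg.Agent.SporadicStructure.OrbitSizes

/-- Pure counting: pairwise disjoint subsets `S i` of a finite set `Ω`, with `n i ≤ |S i|` and
`|Ω| ≤ ∑ n i`, have exactly `n i` elements and cover `Ω`. -/
theorem ncard_eq_of_disjoint_cover {α ι : Type*} [Fintype ι] {Ω : Set α} (hΩ : Ω.Finite)
    (S : ι → Set α) (hS : ∀ i, S i ⊆ Ω) (hd : Pairwise fun i j => Disjoint (S i) (S j))
    (n : ι → ℕ) (hn : ∀ i, n i ≤ (S i).ncard) (hΩn : Ω.ncard ≤ ∑ i, n i) :
    (∀ i, (S i).ncard = n i) ∧ Ω = ⋃ i, S i := by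
  classical
  have hSf : ∀ i, (S i).Finite := fun i => hΩ.subset (hS i)
  have hU : (⋃ i, S i).ncard = ∑ i, (S i).ncard := by
    have h1 : (⋃ i, S i) = ((Finset.univ : Finset ι).biUnion fun i => (hSf i).toFinset : Finset α) := by
      ext x
      simp
    rw [h1, Set.ncard_coe_finset, Finset.card_biUnion]
    · refine Finset.sum_congr rfl fun i _ => ?_
      rw [Set.ncard_eq_toFinset_card _ (hSf i)]
    · intro i _ j _ hij
      rw [Function.onFun, Set.Finite.disjoint_toFinset]
      exact hd hij
  have hUsub : (⋃ i, S i) ⊆ Ω := Set.iUnion_subset hS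
  have h2 : ∑ i, n i ≤ ∑ i, (S i).ncard := Finset.sum_le_sum fun i _ => hn i
  have h3 : (⋃ i, S i).ncard ≤ Ω.ncard := Set.ncard_le_ncard hUsub hΩ
  have h4 : ∑ i, n i = ∑ i, (S i).ncard := by omega
  refine ⟨fun i => ?_, ?_⟩
  · exact ((Finset.sum_eq_sum_iff_of_le fun i _ => hn i).1 h4 i (Finset.mem_univ i)).symm
  · exact (Set.eq_of_subset_of_ncard_le hUsub (by omega) hΩ).symm

variable {G α : Type*} [Group G] [MulAction G α]

theorem mem_orbit_subgroup_iff (H : Subgroup G) (a x : α) :
    x ∈ orbit H a ↔ ∃ g ∈ H, g • a = x := by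
  constructor
  · rintro ⟨g, rfl⟩
    exact ⟨g, g.2, rfl⟩
  · rintro ⟨g, hg, rfl⟩
    exact ⟨⟨g, hg⟩, rfl⟩

/-- The size of the orbit of `a` under a subgroup containing the stabiliser of `a`. -/
theorem ncard_orbit_eq_relIndex (H : Subgroup G) (a : α) :
    (orbit H a).ncard = (stabilizer G a).relIndex H := by
  rw [← MulAction.index_stabilizer (G := H) (x := a)]
  rfl

theorem ncard_orbit_dvd (H : Subgroup G) (a : α) (hK : stabilizer G a ≤ H) :
    (orbit H a).ncard * H.index = (orbit G a).ncard := by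
  rw [ncard_orbit_eq_relIndex, Subgroup.relIndex_mul_index hK, MulAction.index_stabilizer]

/-- Maximality of a stabiliser from the sizes of its orbits. -/
theorem isCoatom_stabilizer_of_orbit_sizes {ι : Type*} [Fintype ι] [DecidableEq ι] [Nonempty ι]
    (a : α) (X : ι → α) (c : ι → ℕ)
    (hΩ : orbit G a = {a} ∪ ⋃ i, orbit (stabilizer G a) (X i))
    (hfin : (orbit G a).Finite)
    (ha : ∀ i, X i ≠ a)
    (hd : Pairwise fun i j => Disjoint (orbit (stabilizer G a) (X i)) (orbit (stabilizer G a) (X j)))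
    (hc : ∀ i, (orbit (stabilizer G a) (X i)).ncard = c i)
    (hdvd : ∀ s : Finset ι, (1 + ∑ i ∈ s, c i) ∣ (1 + ∑ i, c i) → s = ∅ ∨ s = Finset.univ) :
    IsCoatom (stabilizer G a) := by
  classical
  set K := stabilizer G a with hKdef
  have hXmem : ∀ i, X i ∈ orbit G a := by
    intro i
    rw [hΩ]
    exact Or.inr (Set.mem_iUnion.2 ⟨i, mem_orbit_self _⟩)
  -- a is not in the other orbits
  have ha' : ∀ i, a ∉ orbit K (X i) := by
    intro i hi
    obtain ⟨⟨g, hg⟩, hgX⟩ := hi
    apply ha i
    have h1 : g • X i = a := hgX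
    have h2 : g • a = a := hg
    rw [← h2] at h1
    exact MulAction.injective g h1
  have hsub : ∀ i, orbit K (X i) ⊆ orbit G a := by
    intro i
    rw [hΩ]
    exact fun x hx => Or.inr (Set.mem_iUnion.2 ⟨i, hx⟩)
  have hKf : ∀ i, (orbit K (X i)).Finite := fun i => hfin.subset (hsub i)
  -- general counting
  have hcount : ∀ s : Finset ι, ({a} ∪ ⋃ i ∈ s, orbit K (X i) : Set α).ncard = 1 + ∑ i ∈ s, c i := by
    intro s
    have h1 : ({a} ∪ ⋃ i ∈ s, orbit K (X i) : Set α) =
        (insert a (s.biUnion fun i => (hKf i).toFinset) : Finset α) := by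
      ext x
      simp
    rw [h1, Set.ncard_coe_finset, Finset.card_insert_of_notMem, Finset.card_biUnion, add_comm]
    · congr 1
      refine Finset.sum_congr rfl fun i _ => ?_
      rw [← hc i, Set.ncard_eq_toFinset_card _ (hKf i)]
    · intro i _ j _ hij
      rw [Function.onFun, Set.Finite.disjoint_toFinset]
      exact hd hij
    · simp only [Finset.mem_biUnion, Set.Finite.mem_toFinset, not_exists, not_and]
      exact fun i _ => ha' i
  have hΩn : (orbit G a).ncard = 1 + ∑ i, c i := by
    rw [hΩ, ← hcount Finset.univ]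
    simp
  constructor
  · intro htop
    obtain ⟨i⟩ := ‹Nonempty ι›
    obtain ⟨g, hg⟩ := hXmem i
    apply ha i
    have h1 : g ∈ K := by rw [htop]; trivial
    have h2 : g • a = a := h1
    rw [← hg]
    exact h2
  · intro H hKH
    have hle : K ≤ H := hKH.le
    set s : Finset ι := Finset.univ.filter fun i => X i ∈ orbit H a with hs
    have horb : orbit H a = {a} ∪ ⋃ i ∈ s, orbit K (X i) := by
      ext x
      constructor
      · intro hx
        have hxG : x ∈ orbit G a := by
          obtain ⟨g, -, rfl⟩ := (mem_orbit_subgroup_iff H a x).1 hx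
          exact mem_orbit a g
        rw [hΩ] at hxG
        rcases hxG with hxa | hxi
        · exact Or.inl hxa
        · right
          obtain ⟨i, hi⟩ := Set.mem_iUnion.1 hxi
          refine Set.mem_iUnion₂.2 ⟨i, ?_, hi⟩
          rw [hs, Finset.mem_filter]
          refine ⟨Finset.mem_univ _, ?_⟩
          obtain ⟨g, hg, hgx⟩ := (mem_orbit_subgroup_iff K (X i) x).1 hi
          obtain ⟨h, hh, hhx⟩ := (mem_orbit_subgroup_iff H a x).1 hx
          refine (mem_orbit_subgroup_iff H a (X i)).2 ⟨g⁻¹ * h, H.mul_mem (H.inv_mem (hle hg)) hh, ?_⟩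
          rw [mul_smul, hhx, ← hgx, inv_smul_smul]
      · rintro (hxa | hxi)
        · rw [Set.mem_singleton_iff] at hxa
          rw [hxa]
          exact mem_orbit_self a
        · obtain ⟨i, hi, hxi⟩ := Set.mem_iUnion₂.1 hxi
          rw [hs, Finset.mem_filter] at hi
          obtain ⟨g, hg, hgx⟩ := (mem_orbit_subgroup_iff K (X i) x).1 hxi
          obtain ⟨h, hh, hhx⟩ := (mem_orbit_subgroup_iff H a (X i)).1 hi.2
          refine (mem_orbit_subgroup_iff H a x).2 ⟨g * h, H.mul_mem (hle hg) hh, ?_⟩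
          rw [mul_smul, hhx, hgx]
    have h1 : (orbit H a).ncard = 1 + ∑ i ∈ s, c i := by rw [horb, hcount]
    have h2 := ncard_orbit_dvd H a hle
    have h3 : (1 + ∑ i ∈ s, c i) ∣ (1 + ∑ i, c i) := by
      rw [← h1, ← hΩn, ← h2]
      exact Dvd.intro _ rfl
    rcases hdvd s h3 with hemp | huniv
    · exfalso
      apply hKH.not_ge
      intro h hh
      have h4 : h • a ∈ orbit H a := (mem_orbit_subgroup_iff H a _).2 ⟨h, hh, rfl⟩
      rw [horb, hemp] at h4
      have h5 : h • a = a := by simpa using h4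
      exact h5
    · rw [← Subgroup.index_eq_one]
      rw [h1, huniv, hΩn] at h2
      have h5 : 0 < 1 + ∑ i, c i := by omega
      exact Nat.eq_of_mul_eq_mul_left h5 (by rw [h2, mul_one])

end Cfsg.Agent.SporadicStructure.OrbitSizes
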