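import Cfsg.Agent.SporadicStructure.TrioCert
import Cfsg.Agent.SporadicStructure.OrbitSizes

/-!
# Trios: invariance under the group of the code, and the number of disjoint pairs
-/

set_option autoImplicit false

namespace Cfsg.Agent.SporadicStructure.TrioInv

open Cfsg Cfsg.Agent.SporadicA.GolayBase Cfsg.Agent.SporadicA.GolayPerm
open Cfsg.Agent.SporadicStructure.TrioCert
open scoped Pointwise

/-- The group of the code permutes the trios. -/
theorem smul_mem_trios {g : Equiv.Perm GolayPt} (hg : g ∈ M24) {T : Finset (Finset GolayPt)}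
    (hT : T ∈ trios) : g • T ∈ trios := by
  obtain ⟨h1, h2, h3⟩ := hT
  refine ⟨by rw [Finset.card_smul_finset]; exact h1, ?_, ?_⟩
  · intro o ho
    obtain ⟨o', ho', rfl⟩ := Finset.mem_smul_finset.1 ho
    exact (smul_mem_octads hg).2 (h2 o' ho')
  · intro o ho p hp hop
    obtain ⟨o', ho', rfl⟩ := Finset.mem_smul_finset.1 ho
    obtain ⟨p', hp', rfl⟩ := Finset.mem_smul_finset.1 hp
    have h4 := h3 o' ho' p' hp' (fun h => hop (by rw [h]))
    rw [Finset.disjoint_left] at h4 ⊢
    intro x hx hx'
    obtain ⟨y, hy, rfl⟩ := Finset.mem_smul_finset.1 hx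
    rw [Finset.smul_mem_smul_finset_iff] at hx'
    exact h4 hy hx'

/-- The number of disjoint pairs in `T × X`. -/
def nd (T X : Finset (Finset GolayPt)) : ℕ :=
  ∑ o ∈ T, ∑ x ∈ X, if Disjoint o x then 1 else 0

theorem sum_smul_finset {β : Type*} [DecidableEq β] [MulAction (Equiv.Perm GolayPt) β]
    (g : Equiv.Perm GolayPt) (T : Finset β) (f : β → ℕ) :
    ∑ o ∈ g • T, f o = ∑ o ∈ T, f (g • o) := by
  rw [Finset.smul_finset_def, Finset.sum_image]
  intro x _ y _ h
  exact MulAction.injective g h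

theorem disjoint_smul_iff (g : Equiv.Perm GolayPt) (s t : Finset GolayPt) :
    Disjoint (g • s) (g • t) ↔ Disjoint s t := by
  rw [Finset.disjoint_left, Finset.disjoint_left]
  constructor
  · intro h x hx hx'
    exact h (Finset.smul_mem_smul_finset (a := g) hx) (Finset.smul_mem_smul_finset hx')
  · intro h x hx hx'
    obtain ⟨y, hy, rfl⟩ := Finset.mem_smul_finset.1 hx
    rw [Finset.smul_mem_smul_finset_iff] at hx'
    exact h hy hx'

theorem nd_smul (g : Equiv.Perm GolayPt) (T X : Finset (Finset GolayPt)) :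
    nd (g • T) (g • X) = nd T X := by
  unfold nd
  rw [sum_smul_finset]
  refine Finset.sum_congr rfl fun o _ => ?_
  rw [sum_smul_finset]
  refine Finset.sum_congr rfl fun x _ => ?_
  simp only [disjoint_smul_iff]

/-- Disjointness of masks. -/
def dj (a b : ℕ) : ℕ := cond (Nat.beq (Nat.land a b) 0) 1 0

theorem fin_zero : fin 0 = ∅ := by
  ext p
  rw [mem_fin, Nat.zero_testBit]
  simp

theorem ite_disjoint {a b : ℕ} (ha : a < 2 ^ 24) :
    (if Disjoint (fin a) (fin b) then 1 else 0) = dj a b := by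
  have h : Disjoint (fin a) (fin b) ↔ Nat.land a b = 0 := by
    rw [Finset.disjoint_iff_inter_eq_empty, ← fin_and, ← fin_zero]
    constructor
    · intro h
      exact fin_injective (lt_of_le_of_lt Nat.and_le_left ha) (by norm_num) h
    · intro h
      exact congrArg fin h
  unfold dj
  cases hb : Nat.beq (Nat.land a b) 0 with
  | true => rw [if_pos (h.2 (Nat.eq_of_beq_eq_true hb)), cond_true]
  | false =>
    rw [if_neg, cond_false]
    intro h'
    rw [h.1 h'] at hb
    exact Bool.noConfusion hb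

theorem sum_tri {a b c : ℕ} (ha : a < 2 ^ 24) (hb : b < a) (hc : c < b)
    (f : Finset GolayPt → ℕ) : ∑ o ∈ tri a b c, f o = f (fin a) + (f (fin b) + f (fin c)) := by
  have key : ∀ x y, x < 2 ^ 24 → y < 2 ^ 24 → (fin x = fin y ↔ x = y) := by
    intro x y hx hy
    exact ⟨fun h => fin_injective hx hy h, fun h => by rw [h]⟩
  unfold tri
  rw [Finset.sum_insert, Finset.sum_insert, Finset.sum_singleton]
  · rw [Finset.mem_singleton, key _ _ (by omega) (by omega)]
    omega
  · rw [Finset.mem_insert, Finset.mem_singleton, key _ _ (by omega) (by omega),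
      key _ _ (by omega) (by omega)]
    omega

theorem card_tri {a b c : ℕ} (ha : a < 2 ^ 24) (hb : b < a) (hc : c < b) :
    (tri a b c).card = 3 := by
  rw [Finset.card_eq_sum_ones, sum_tri ha hb hc]

theorem nd_tri {a b c x y z : ℕ} (ha : a < 2 ^ 24) (hb : b < a) (hc : c < b)
    (hx : x < 2 ^ 24) (hy : y < x) (hz : z < y) :
    nd (tri a b c) (tri x y z) = (dj a x + (dj a y + dj a z)) + ((dj b x + (dj b y + dj b z)) +
      (dj c x + (dj c y + dj c z))) := by
  unfold nd
  rw [sum_tri ha hb hc]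
  rw [sum_tri hx hy hz, sum_tri hx hy hz, sum_tri hx hy hz]
  rw [ite_disjoint ha, ite_disjoint ha, ite_disjoint ha, ite_disjoint (by omega),
    ite_disjoint (by omega), ite_disjoint (by omega), ite_disjoint (by omega),
    ite_disjoint (by omega), ite_disjoint (by omega)]

/-- A trio from masks. -/
theorem tri_mem_trios {a b c : ℕ} (ha : a < 2 ^ 24) (hb : b < a) (hc : c < b)
    (h1 : (isCode a && isCode b && isCode c && Nat.beq (popcount a) 8 && Nat.beq (popcount b) 8 &&
      Nat.beq (popcount c) 8 && Nat.beq (Nat.land a b) 0 && Nat.beq (Nat.land a c) 0 &&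
      Nat.beq (Nat.land b c) 0) = true) : tri a b c ∈ trios := by
  simp only [Bool.and_eq_true, Nat.beq_eq] at h1
  obtain ⟨⟨⟨⟨⟨⟨⟨⟨ca, cb⟩, cc⟩, pa⟩, pb⟩, pc⟩, dab⟩, dac⟩, dbc⟩ := h1
  have dis : ∀ x y : ℕ, Nat.land x y = 0 → Disjoint (fin x) (fin y) := by
    intro x y h
    rw [Finset.disjoint_iff_inter_eq_empty, ← fin_and, ← fin_zero]
    exact congrArg fin h
  refine ⟨card_tri ha hb hc, ?_, ?_⟩
  · intro o ho
    unfold tri at ho
    simp only [Finset.mem_insert, Finset.mem_singleton] at ho
    rcases ho with rfl | rfl | rfl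
    · exact (fin_mem_octads_iff ha).2 ⟨ca, pa⟩
    · exact (fin_mem_octads_iff (by omega)).2 ⟨cb, pb⟩
    · exact (fin_mem_octads_iff (by omega)).2 ⟨cc, pc⟩
  · intro o ho o' ho' hne
    unfold tri at ho ho'
    simp only [Finset.mem_insert, Finset.mem_singleton] at ho ho'
    rcases ho with rfl | rfl | rfl <;> rcases ho' with rfl | rfl | rfl
    · exact absurd rfl hne
    · exact dis _ _ dab
    · exact dis _ _ dac
    · exact (dis _ _ dab).symm
    · exact absurd rfl hne
    · exact dis _ _ dbc
    · exact (dis _ _ dac).symm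
    · exact (dis _ _ dbc).symm
    · exact absurd rfl hne

end Cfsg.Agent.SporadicStructure.TrioInv
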