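import Cfsg.Agent.SporadicStructure.Sextet
import Cfsg.Agent.SporadicA.GolayPerm
import Cfsg.Agent.S0363

/-!
The action of `M24` on sextets: images of sextets, the sextet through a 4-set, equality of the sextets
of two 4-sets congruent modulo the code, and an invariant of pairs of sextets.
-/

set_option autoImplicit false

namespace Cfsg.Agent.SporadicStructure.SextetAction

open Cfsg
open scoped Pointwise
open Cfsg.Agent.SporadicA.GolayBase Cfsg.Agent.SporadicA.GolayPerm
open Cfsg.Agent.SporadicStructure.Sextet (sextetOf mem_sextetOf self_mem_sextetOf)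

theorem smul_mem_sextets {g : Equiv.Perm GolayPt} (hg : g ∈ M24) {S : Finset (Finset GolayPt)}
    (hS : S ∈ sextets) : g • S ∈ sextets := by
  refine ⟨?_, ?_, ?_⟩
  · rw [Finset.card_smul_finset]; exact hS.1
  · intro t ht
    obtain ⟨u, hu, rfl⟩ := Finset.mem_smul_finset.1 ht
    rw [Finset.card_smul_finset]; exact hS.2.1 u hu
  · intro t ht u hu hne
    obtain ⟨t', ht', rfl⟩ := Finset.mem_smul_finset.1 ht
    obtain ⟨u', hu', rfl⟩ := Finset.mem_smul_finset.1 hu
    rw [← Finset.smul_finset_union, smul_mem_octads hg]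
    exact hS.2.2 t' ht' u' hu' (fun h => hne (by rw [h]))

theorem sextetOf_mem {t : Finset GolayPt} (ht : t.card = 4) : sextetOf t ∈ sextets :=
  Sextet.sextetOf_mem_sextets S0363.result ht

theorem eq_sextetOf {S : Finset (Finset GolayPt)} (hS : S ∈ sextets) {t : Finset GolayPt}
    (ht : t ∈ S) : S = sextetOf t := Sextet.eq_sextetOf S0363.result hS ht

theorem smul_sextetOf {g : Equiv.Perm GolayPt} (hg : g ∈ M24) {t : Finset GolayPt}
    (ht : t.card = 4) : g • sextetOf t = sextetOf (g • t) :=
  eq_sextetOf (smul_mem_sextets hg (sextetOf_mem ht))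
    (Finset.smul_mem_smul_finset (self_mem_sextetOf t))

/-- Two 4-sets congruent modulo the code lie in one sextet. -/
theorem sextetOf_eq {t u : Finset GolayPt} (ht : t.card = 4) (hu : u.card = 4)
    (h : symmDiff t u ∈ supports (golayCode : Set (GolayPt → ZMod 2))) :
    sextetOf t = sextetOf u := by
  apply eq_sextetOf (sextetOf_mem ht)
  rw [mem_sextetOf]
  have h1 := card_symmDiff_add t u
  rw [ht, hu] at h1
  rcases card_of_mem_supports h with h0 | h0 | h0 | h0 | h0
  · left
    rw [Finset.card_eq_zero] at h0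
    exact (symmDiff_eq_bot.1 h0).symm
  · right
    have hi : (t ∩ u).card = 0 := by omega
    have hd : Disjoint t u := by
      rw [Finset.disjoint_iff_inter_eq_empty, ← Finset.card_eq_zero]; exact hi
    have he : symmDiff t u = t ∪ u := hd.symmDiff_eq_sup
    exact ⟨hd, by rw [← he]; exact ⟨h, h0⟩⟩
  · omega
  · omega
  · omega

/-- Conversely, tetrads of one sextet are congruent modulo the code. -/
theorem symmDiff_mem {S : Finset (Finset GolayPt)} (hS : S ∈ sextets) {t u : Finset GolayPt}
    (ht : t ∈ S) (hu : u ∈ S) :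
    symmDiff t u ∈ supports (golayCode : Set (GolayPt → ZMod 2)) := by
  by_cases h : t = u
  · rw [h, symmDiff_self]
    exact ⟨0, golayCode.zero_mem, by ext; simp [mem_support₂]⟩
  · rw [(Sextet.disjoint_of_mem hS ht hu h).symmDiff_eq_sup]
    exact (hS.2.2 t ht u hu h).1

/-- An invariant of a pair of sextets. -/
def F (S X : Finset (Finset GolayPt)) : ℕ := ∑ t ∈ S, ∑ u ∈ X, (t ∩ u).card ^ 2

theorem F_smul (g : Equiv.Perm GolayPt) (S X : Finset (Finset GolayPt)) :
    F (g • S) (g • X) = F S X := by
  have h : ∀ (Y : Finset (Finset GolayPt)) (f : Finset GolayPt → ℕ),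
      ∑ t ∈ g • Y, f t = ∑ t ∈ Y, f (g • t) := by
    intro Y f
    show ∑ t ∈ Y.image (fun t => g • t), f t = _
    rw [Finset.sum_image]
    intro a _ b _ hab
    exact MulAction.injective g hab
  unfold F
  rw [h]
  apply Finset.sum_congr rfl
  intro t _
  rw [h]
  apply Finset.sum_congr rfl
  intro u _
  rw [← Finset.smul_finset_inter, Finset.card_smul_finset]

/-- A list of six distinct masks of tetrads of one sextet is the list of all its tetrads. -/
theorem sextetOf_eq_toFinset (m : ℕ) (L : List ℕ) (hlen : L.length = 6) (hnd : L.Nodup)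
    (hm : m < 2 ^ 24) (hlt : ∀ x ∈ L, x < 2 ^ 24) (hc : (fin m).card = 4)
    (hc' : ∀ x ∈ L, popcount x = 4) (h : ∀ x ∈ L, isCode (m ^^^ x) = true) :
    sextetOf (fin m) = (L.map fin).toFinset := by
  symm
  have hnd' : (L.map fin).Nodup := by
    apply List.Nodup.map_on _ hnd
    intro x hx y hy hxy
    exact fin_injective (hlt x hx) (hlt y hy) hxy
  apply Finset.eq_of_subset_of_card_le
  · intro u hu
    rw [List.mem_toFinset, List.mem_map] at hu
    obtain ⟨x, hx, rfl⟩ := hu
    have h1 : sextetOf (fin m) = sextetOf (fin x) := by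
      apply sextetOf_eq hc (by rw [card_fin]; exact hc' x hx)
      rw [← fin_xor, fin_mem_supports_iff (Nat.xor_lt_two_pow hm (hlt x hx))]
      exact h x hx
    rw [h1]
    exact self_mem_sextetOf _
  · rw [List.toFinset_card_of_nodup hnd', List.length_map, hlen]
    exact le_of_eq (sextetOf_mem hc).1

theorem F_toFinset (L L' : List ℕ) (hnd : L.Nodup) (hnd' : L'.Nodup)
    (hlt : ∀ x ∈ L, x < 2 ^ 24) (hlt' : ∀ x ∈ L', x < 2 ^ 24) :
    F (L.map fin).toFinset (L'.map fin).toFinset =
      (L.map fun x => (L'.map fun y => popcount (x &&& y) ^ 2).sum).sum := by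
  have h1 : (L.map fin).Nodup := by
    apply List.Nodup.map_on _ hnd
    intro x hx y hy hxy
    exact fin_injective (hlt x hx) (hlt y hy) hxy
  have h2 : (L'.map fin).Nodup := by
    apply List.Nodup.map_on _ hnd'
    intro x hx y hy hxy
    exact fin_injective (hlt' x hx) (hlt' y hy) hxy
  unfold F
  rw [List.sum_toFinset _ h1, List.map_map]
  congr 1
  apply List.map_congr_left
  intro x _
  show ∑ u ∈ (L'.map fin).toFinset, (fin x ∩ u).card ^ 2 = _
  rw [List.sum_toFinset _ h2, List.map_map]
  congr 1
  apply List.map_congr_left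
  intro y _
  show (fin x ∩ fin y).card ^ 2 = _
  rw [← fin_and, card_fin]

end Cfsg.Agent.SporadicStructure.SextetAction
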