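import Mathlib
import Cfsg.Prelude.Def_SporadicCombinatorics
import Cfsg.Agent.SporadicStructure.Sextet

/-!
The stabiliser of a sextet in `M24`: general part (no computation).  `main` reduces the structure
statement to a few explicit facts about one sextet.
-/

set_option autoImplicit false

namespace Cfsg.Agent.SporadicStructure.SextetStab

open Cfsg Finset
open scoped Pointwise

theorem smul_mem_octads {g : Equiv.Perm GolayPt} (hg : g ∈ M24) {o : Finset GolayPt}
    (ho : o ∈ octads) : g • o ∈ octads := by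
  refine ⟨?_, ?_⟩
  · have h := MulAction.mem_stabilizer_iff.1 hg
    rw [← h]
    exact Set.smul_mem_smul_set ho.1
  · rw [Finset.card_smul_finset]; exact ho.2

theorem smul_mem_sextets {g : Equiv.Perm GolayPt} (hg : g ∈ M24) {S : Finset (Finset GolayPt)}
    (hS : S ∈ sextets) : g • S ∈ sextets := by
  refine ⟨?_, ?_, ?_⟩
  · rw [Finset.card_smul_finset]; exact hS.1
  · intro t ht
    obtain ⟨u, hu, rfl⟩ := Finset.mem_smul_finset.1 ht
    rw [Finset.card_smul_finset]; exact hS.2.1 u hu
  · intro t ht u hu hne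
    obtain ⟨t', ht', rfl⟩ := Finset.mem_smul_finset.1 ht
    obtain ⟨u', hu', rfl⟩ := Finset.mem_smul_finset.1 hu
    rw [← Finset.smul_finset_union]
    exact smul_mem_octads hg (hS.2.2 t' ht' u' hu' (fun h => hne (by rw [h])))

/-- An element of `M24` mapping a tetrad of the sextet `S` to a tetrad of the sextet `S'` maps
`S` to `S'`. -/
theorem smul_eq_of_mem (hSt : IsSteinerSystem 5 8 octads) {g : Equiv.Perm GolayPt} (hg : g ∈ M24)
    {S S' : Finset (Finset GolayPt)} (hS : S ∈ sextets) (hS' : S' ∈ sextets)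
    {t : Finset GolayPt} (ht : t ∈ S) (hgt : g • t ∈ S') : g • S = S' := by
  have h1 : g • t ∈ g • S := Finset.smul_mem_smul_finset ht
  exact (Sextet.eq_sextetOf hSt (smul_mem_sextets hg hS) h1).trans
    (Sextet.eq_sextetOf hSt hS' hgt).symm

/-- `x` fixes every tetrad of `S` and every partition of a tetrad into two pairs. -/
def VFix (S : Finset (Finset GolayPt)) (x : Equiv.Perm GolayPt) : Prop :=
  ∀ t ∈ S, x • t = t ∧ ∀ d ⊆ t, d.card = 2 → x • d = d ∨ x • d = t \ d

theorem VFix.one (S : Finset (Finset GolayPt)) : VFix S 1 := by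
  intro t _
  exact ⟨one_smul _ _, fun d _ _ => Or.inl (one_smul _ _)⟩

theorem VFix.mul {S : Finset (Finset GolayPt)} {x y : Equiv.Perm GolayPt} (hx : VFix S x)
    (hy : VFix S y) : VFix S (x * y) := by
  intro t ht
  refine ⟨by rw [mul_smul, (hy t ht).1, (hx t ht).1], fun d hd hd2 => ?_⟩
  rw [mul_smul]
  rcases (hy t ht).2 d hd hd2 with h | h
  · rw [h]; exact (hx t ht).2 d hd hd2
  · rw [h, Finset.smul_finset_sdiff, (hx t ht).1]
    rcases (hx t ht).2 d hd hd2 with h' | h'
    · right; rw [h']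
    · left; rw [h', Finset.sdiff_sdiff_eq_self hd]

theorem VFix.inv {S : Finset (Finset GolayPt)} {x : Equiv.Perm GolayPt} (hx : VFix S x) :
    VFix S x⁻¹ := by
  intro t ht
  have h1 : x⁻¹ • t = t := by rw [inv_smul_eq_iff, (hx t ht).1]
  refine ⟨h1, fun d hd hd2 => ?_⟩
  rcases (hx t ht).2 d hd hd2 with h | h
  · left; rw [inv_smul_eq_iff, h]
  · right
    rw [inv_smul_eq_iff, Finset.smul_finset_sdiff, (hx t ht).1, h, Finset.sdiff_sdiff_eq_self hd]

theorem VFix.conj {S : Finset (Finset GolayPt)} {x : Equiv.Perm GolayPt} (hx : VFix S x)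
    (g : Equiv.Perm GolayPt) : VFix (g • S) (g * x * g⁻¹) := by
  intro t ht
  obtain ⟨u, hu, rfl⟩ := Finset.mem_smul_finset.1 ht
  refine ⟨by rw [mul_smul, inv_smul_smul, mul_smul, (hx u hu).1], fun d hd hd2 => ?_⟩
  have hsub : g⁻¹ • d ⊆ u := by
    rw [← Finset.smul_finset_subset_smul_finset_iff (a := g), smul_inv_smul]; exact hd
  rcases (hx u hu).2 (g⁻¹ • d) hsub (by rw [Finset.card_smul_finset, hd2]) with h | h
  · left; rw [mul_smul, mul_smul, h, smul_inv_smul]
  · right; rw [mul_smul, mul_smul, h, Finset.smul_finset_sdiff, smul_inv_smul]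

theorem VFix.sq {S : Finset (Finset GolayPt)} (hS : S ∈ sextets) {x : Equiv.Perm GolayPt}
    (hx : VFix S x) : x * x = 1 := by
  ext1 p
  show x (x p) = p
  obtain ⟨t, ht, hp⟩ := Sextet.exists_mem_of_sextet hS p
  by_cases hxp : x p = p
  · rw [hxp, hxp]
  · have hq : x p ∈ t := by
      rw [← (hx t ht).1]
      exact Finset.smul_mem_smul_finset hp
    have hsub : ({p, x p} : Finset GolayPt) ⊆ t := by
      intro y hy
      rcases Finset.mem_insert.1 hy with rfl | hy
      · exact hp
      · rw [Finset.mem_singleton.1 hy]; exact hq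
    have hmem : x p ∈ x • ({p, x p} : Finset GolayPt) :=
      Finset.smul_mem_smul_finset (a := x) (Finset.mem_insert_self p _)
    have hmem2 : x (x p) ∈ x • ({p, x p} : Finset GolayPt) :=
      Finset.smul_mem_smul_finset (a := x) (Finset.mem_insert_of_mem (Finset.mem_singleton_self _))
    rcases (hx t ht).2 {p, x p} hsub (Finset.card_pair (Ne.symm hxp)) with h | h
    · rw [h] at hmem2
      rcases Finset.mem_insert.1 hmem2 with h2 | h2
      · exact h2
      · exact absurd (x.injective (Finset.mem_singleton.1 h2)) hxp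
    · rw [h] at hmem
      exact absurd (Finset.mem_insert_of_mem (Finset.mem_singleton_self _))
        (Finset.mem_sdiff.1 hmem).2

/-- The subgroup of the sextet stabiliser acting on each tetrad through the four-group. -/
def vSub (S : Finset (Finset GolayPt)) : Subgroup (MulAction.stabilizer M24 S) where
  carrier := {x | VFix S ((x : M24) : Equiv.Perm GolayPt)}
  one_mem' := VFix.one S
  mul_mem' := fun hx hy => VFix.mul hx hy
  inv_mem' := fun hx => VFix.inv hx

theorem mem_vSub {S : Finset (Finset GolayPt)} {x : MulAction.stabilizer M24 S} :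
    x ∈ vSub S ↔ VFix S ((x : M24) : Equiv.Perm GolayPt) := Iff.rfl

theorem coe_smul_eq {S : Finset (Finset GolayPt)} (g : MulAction.stabilizer M24 S) :
    ((g : M24) : Equiv.Perm GolayPt) • S = S := g.2

theorem vSub_normal (S : Finset (Finset GolayPt)) : (vSub S).Normal := by
  refine ⟨fun x hx g => ?_⟩
  have h := VFix.conj hx ((g : M24) : Equiv.Perm GolayPt)
  rw [coe_smul_eq] at h
  exact h

/-- The action of the stabiliser of `S` on the members of `S`. -/
def toPerm (S : Finset (Finset GolayPt)) : MulAction.stabilizer M24 S →* Equiv.Perm S where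
  toFun g :=
    { toFun := fun t => ⟨((g : M24) : Equiv.Perm GolayPt) • (t : Finset GolayPt), by
        have h := Finset.smul_mem_smul_finset (a := ((g : M24) : Equiv.Perm GolayPt)) t.2
        rwa [coe_smul_eq] at h⟩
      invFun := fun t => ⟨((g⁻¹ : MulAction.stabilizer M24 S) : Equiv.Perm GolayPt) •
        (t : Finset GolayPt), by
        have h := Finset.smul_mem_smul_finset
          (a := ((g⁻¹ : MulAction.stabilizer M24 S) : Equiv.Perm GolayPt)) t.2
        rwa [coe_smul_eq] at h⟩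
      left_inv := fun t => Subtype.ext (inv_smul_smul _ _)
      right_inv := fun t => Subtype.ext (smul_inv_smul _ _) }
  map_one' := by
    apply Equiv.ext
    intro t
    exact Subtype.ext (one_smul _ _)
  map_mul' g h := by
    apply Equiv.ext
    intro t
    exact Subtype.ext (mul_smul _ _ _)

theorem toPerm_apply (S : Finset (Finset GolayPt)) (g : MulAction.stabilizer M24 S) (t : S) :
    ((toPerm S g t : S) : Finset GolayPt) =
      ((g : M24) : Equiv.Perm GolayPt) • (t : Finset GolayPt) := rfl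

theorem mem_ker_toPerm {S : Finset (Finset GolayPt)} {g : MulAction.stabilizer M24 S} :
    g ∈ (toPerm S).ker ↔ ∀ t ∈ S, ((g : M24) : Equiv.Perm GolayPt) • t = t := by
  rw [MonoidHom.mem_ker]
  constructor
  · intro h t ht
    have := congrArg (fun e : Equiv.Perm S => ((e ⟨t, ht⟩ : S) : Finset GolayPt)) h
    exact this
  · intro h
    apply Equiv.ext
    intro t
    exact Subtype.ext (h t t.2)

/-- Explicit input about one sextet. -/
structure Input (S : Finset (Finset GolayPt)) : Prop where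
  swap : ∀ t ∈ S, ∀ u ∈ S, t ≠ u → ∃ g ∈ M24, g • t = u ∧ g • u = t ∧
    ∀ v ∈ S, v ≠ t → v ≠ u → g • v = v
  many : ∃ f : Fin 64 → Equiv.Perm GolayPt, Function.Injective f ∧
    ∀ i, f i ∈ M24 ∧ VFix S (f i)
  three : ∃ w ∈ M24, w * w * w = 1 ∧ (∀ t ∈ S, w • t = t) ∧ ¬ VFix S w

theorem Input.conj {S : Finset (Finset GolayPt)} (h : Input S) {g : Equiv.Perm GolayPt}
    (hg : g ∈ M24) : Input (g • S) := by
  have key : ∀ (x : Equiv.Perm GolayPt) (t : Finset GolayPt), (g * x * g⁻¹) • (g • t) = g • (x • t) := by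
    intro x t
    rw [mul_smul, inv_smul_smul, mul_smul]
  refine ⟨?_, ?_, ?_⟩
  · intro t ht u hu htu
    obtain ⟨t', ht', rfl⟩ := Finset.mem_smul_finset.1 ht
    obtain ⟨u', hu', rfl⟩ := Finset.mem_smul_finset.1 hu
    obtain ⟨x, hx, h1, h2, h3⟩ := h.swap t' ht' u' hu' (fun h => htu (by rw [h]))
    refine ⟨g * x * g⁻¹, mul_mem (mul_mem hg hx) (inv_mem hg), ?_, ?_, ?_⟩
    · rw [key, h1]
    · rw [key, h2]
    · intro v hv hvt hvu
      obtain ⟨v', hv', rfl⟩ := Finset.mem_smul_finset.1 hv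
      rw [key, h3 v' hv' (fun h => hvt (by rw [h])) (fun h => hvu (by rw [h]))]
  · obtain ⟨f, hf, hf'⟩ := h.many
    refine ⟨fun i => g * f i * g⁻¹, ?_, ?_⟩
    · intro i j hij
      apply hf
      have : g * f i * g⁻¹ = g * f j * g⁻¹ := hij
      exact mul_left_cancel (mul_right_cancel this)
    · intro i
      exact ⟨mul_mem (mul_mem hg (hf' i).1) (inv_mem hg), VFix.conj (hf' i).2 g⟩
  · obtain ⟨w, hw, hw3, hwt, hwV⟩ := h.three
    refine ⟨g * w * g⁻¹, mul_mem (mul_mem hg hw) (inv_mem hg), ?_, ?_, ?_⟩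
    · have : g * w * g⁻¹ * (g * w * g⁻¹) * (g * w * g⁻¹) = g * (w * w * w) * g⁻¹ := by group
      rw [this, hw3]; group
    · intro t ht
      obtain ⟨t', ht', rfl⟩ := Finset.mem_smul_finset.1 ht
      rw [key, hwt t' ht']
    · intro hV
      apply hwV
      have h1 := VFix.conj hV g⁻¹
      rw [inv_smul_smul] at h1
      have h2 : g⁻¹ * (g * w * g⁻¹) * g⁻¹⁻¹ = w := by group
      rwa [h2] at h1

theorem toPerm_surjective {S : Finset (Finset GolayPt)} (hSt : IsSteinerSystem 5 8 octads)
    (hS : S ∈ sextets) (h : Input S) : Function.Surjective (toPerm S) := by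
  rw [← MonoidHom.range_eq_top, eq_top_iff, ← Equiv.Perm.closure_isSwap, Subgroup.closure_le]
  rintro e ⟨t, u, htu, rfl⟩
  obtain ⟨g, hg, h1, h2, h3⟩ := h.swap t t.2 u u.2 (fun h => htu (Subtype.ext h))
  have hgS : g • S = S := smul_eq_of_mem hSt hg hS hS t.2 (by rw [h1]; exact u.2)
  refine ⟨⟨⟨g, hg⟩, hgS⟩, ?_⟩
  apply Equiv.ext
  intro v
  apply Subtype.ext
  rw [toPerm_apply]
  show g • (v : Finset GolayPt) = _
  by_cases hvt : v = t
  · subst hvt; rw [Equiv.swap_apply_left, h1]
  · by_cases hvu : v = u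
    · subst hvu; rw [Equiv.swap_apply_right, h2]
    · rw [Equiv.swap_apply_of_ne_of_ne hvt hvu,
        h3 v v.2 (fun h => hvt (Subtype.ext h)) (fun h => hvu (Subtype.ext h))]

theorem card_stabilizer (hSt : IsSteinerSystem 5 8 octads)
    (h4 : ∀ t t' : Finset GolayPt, t.card = 4 → t'.card = 4 → ∃ g ∈ M24, g • t = t')
    (hcard : Nat.card M24 = 244823040) {S : Finset (Finset GolayPt)} (hS : S ∈ sextets) :
    Nat.card (MulAction.stabilizer M24 S) = 138240 := by
  have horb : MulAction.orbit M24 S = sextets := by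
    ext S'
    constructor
    · rintro ⟨g, rfl⟩
      exact smul_mem_sextets g.2 hS
    · intro hS'
      obtain ⟨t, ht⟩ : S.Nonempty := by rw [← Finset.card_pos, hS.1]; norm_num
      obtain ⟨t', ht'⟩ : S'.Nonempty := by rw [← Finset.card_pos, hS'.1]; norm_num
      obtain ⟨g, hg, hgt⟩ := h4 t t' (hS.2.1 t ht) (hS'.2.1 t' ht')
      exact ⟨⟨g, hg⟩, smul_eq_of_mem hSt hg hS hS' ht (by rw [hgt]; exact ht')⟩
  have h1 := Subgroup.card_mul_index (MulAction.stabilizer M24 S)
  rw [MulAction.index_stabilizer, horb, Sextet.ncard_sextets hSt, hcard] at h1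
  omega

theorem card_ker {S : Finset (Finset GolayPt)} (hSt : IsSteinerSystem 5 8 octads)
    (h4 : ∀ t t' : Finset GolayPt, t.card = 4 → t'.card = 4 → ∃ g ∈ M24, g • t = t')
    (hcard : Nat.card M24 = 244823040)
    (hS : S ∈ sextets) (h : Input S) : Nat.card (toPerm S).ker = 192 := by
  have h1 := Subgroup.card_mul_index (toPerm S).ker
  have h2 : (toPerm S).range = ⊤ := MonoidHom.range_eq_top.2 (toPerm_surjective hSt hS h)
  have h3 : Nat.card (Equiv.Perm S) = 720 := by
    rw [Nat.card_perm, Nat.card_eq_fintype_card, Fintype.card_coe, hS.1]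
    rfl
  rw [Subgroup.index_ker, h2, Subgroup.card_top, h3, card_stabilizer hSt h4 hcard hS] at h1
  omega

theorem card_vSub {S : Finset (Finset GolayPt)} (hSt : IsSteinerSystem 5 8 octads)
    (h4 : ∀ t t' : Finset GolayPt, t.card = 4 → t'.card = 4 → ∃ g ∈ M24, g • t = t')
    (hcard : Nat.card M24 = 244823040)
    (hS : S ∈ sextets) (h : Input S) : Nat.card (vSub S) = 64 := by
  have hle : vSub S ≤ (toPerm S).ker := fun x hx => mem_ker_toPerm.2 fun t ht => (hx t ht).1
  have hstab : ∀ x ∈ M24, (∀ t ∈ S, x • t = t) → x • S = S := by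
    intro x hx hxt
    obtain ⟨t, ht⟩ : S.Nonempty := by rw [← Finset.card_pos, hS.1]; norm_num
    exact smul_eq_of_mem hSt hx hS hS ht (by rw [hxt t ht]; exact ht)
  -- lower bound
  have hlow : 64 ≤ Nat.card (vSub S) := by
    obtain ⟨f, hf, hf'⟩ := h.many
    have hinj : Function.Injective (fun i : Fin 64 =>
        (⟨⟨⟨f i, (hf' i).1⟩, hstab _ (hf' i).1 fun t ht => ((hf' i).2 t ht).1⟩, (hf' i).2⟩ :
          vSub S)) := by
      intro i j hij
      apply hf
      exact congrArg (fun x : vSub S => (((x : MulAction.stabilizer M24 S) : M24) :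
        Equiv.Perm GolayPt)) hij
    have := Nat.card_le_card_of_injective _ hinj
    simpa using this
  set K := (toPerm S).ker with hK
  have hKcard : Nat.card K = 192 := card_ker hSt h4 hcard hS h
  have hN' : Nat.card ((vSub S).subgroupOf K) = Nat.card (vSub S) :=
    Nat.card_congr (Subgroup.subgroupOfEquivOfLe hle).toEquiv
  have hmul := Subgroup.card_mul_index ((vSub S).subgroupOf K)
  rw [hN', hKcard] at hmul
  obtain ⟨w, hw, hw3, hwt, hwV⟩ := h.three
  let w1 : MulAction.stabilizer M24 S := ⟨⟨w, hw⟩, hstab w hw hwt⟩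
  have hw1 : w1 ∈ K := mem_ker_toPerm.2 hwt
  let w2 : K := ⟨w1, hw1⟩
  have hw2 : w2 ∉ (vSub S).subgroupOf K := fun hmem => hwV (Subgroup.mem_subgroupOf.1 hmem)
  have hw23 : w2 * w2 * w2 = 1 := by
    apply Subtype.ext; apply Subtype.ext; apply Subtype.ext
    exact hw3
  have hne1 : ((vSub S).subgroupOf K).index ≠ 1 := by
    intro h1
    rw [Subgroup.index_eq_one] at h1
    exact hw2 (by rw [h1]; exact Subgroup.mem_top _)
  have hne2 : ((vSub S).subgroupOf K).index ≠ 2 := by
    intro h2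
    have h3 := Subgroup.mul_self_mem_of_index_two h2 w2
    apply hw2
    have h4 : w2 = (w2 * w2)⁻¹ := by
      rw [eq_inv_iff_mul_eq_one, ← mul_assoc, hw23]
    rw [h4]
    exact inv_mem h3
  have hpos : ((vSub S).subgroupOf K).index ≠ 0 := by
    intro h0; rw [h0] at hmul; omega
  have hle3 : ((vSub S).subgroupOf K).index ≤ 3 := by
    by_contra hcon
    push Not at hcon
    have : 64 * 4 ≤ Nat.card (vSub S) * ((vSub S).subgroupOf K).index := Nat.mul_le_mul hlow hcon
    omega
  have h3 : ((vSub S).subgroupOf K).index = 3 := by omega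
  rw [h3] at hmul
  omega

theorem main (hSt : IsSteinerSystem 5 8 octads)
    (h4 : ∀ t t' : Finset GolayPt, t.card = 4 → t'.card = 4 → ∃ g ∈ M24, g • t = t')
    (hcard : Nat.card M24 = 244823040)
    {S0 : Finset (Finset GolayPt)} (hS0 : S0 ∈ sextets) (h0 : Input S0)
    (S : Finset (Finset GolayPt)) (hS : S ∈ sextets) :
    (∀ e : Equiv.Perm ↥S, ∃ g ∈ MulAction.stabilizer Cfsg.M24 S, ∀ t : ↥S, (g : Equiv.Perm Cfsg.GolayPt) • (t : Finset Cfsg.GolayPt) = ((e t : ↥S) : Finset Cfsg.GolayPt)) ∧ Nat.card {g : ↥(MulAction.stabilizer Cfsg.M24 S) // ∀ t ∈ S, ((g : Cfsg.M24) : Equiv.Perm Cfsg.GolayPt) • t = t} = 192 ∧ ∃ N : Subgroup ↥(MulAction.stabilizer Cfsg.M24 S), N.Normal ∧ Nat.card N = 64 ∧ ∀ x ∈ N, x * x = 1 := by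
  have h : Input S := by
    obtain ⟨t, ht⟩ : S0.Nonempty := by rw [← Finset.card_pos, hS0.1]; norm_num
    obtain ⟨t', ht'⟩ : S.Nonempty := by rw [← Finset.card_pos, hS.1]; norm_num
    obtain ⟨g, hg, hgt⟩ := h4 t t' (hS0.2.1 t ht) (hS.2.1 t' ht')
    have := smul_eq_of_mem hSt hg hS0 hS ht (by rw [hgt]; exact ht')
    rw [← this]
    exact h0.conj hg
  refine ⟨?_, ?_, vSub S, vSub_normal S, card_vSub hSt h4 hcard hS h, ?_⟩
  · intro e
    obtain ⟨g, rfl⟩ := toPerm_surjective hSt hS h e
    exact ⟨(g : M24), g.2, fun t => rfl⟩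
  · rw [← card_ker hSt h4 hcard hS h]
    exact Nat.card_congr (Equiv.subtypeEquivRight fun g => mem_ker_toPerm.symm)
  · intro x hx
    apply Subtype.ext; apply Subtype.ext
    exact VFix.sq hS hx

end Cfsg.Agent.SporadicStructure.SextetStab
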