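import Cfsg.Agent.SporadicA.GolayPerm
import Cfsg.Agent.SporadicStructure.SextetStab

/-!
The explicit sextet containing the tetrad `{none, 0, 1, 2}`, and explicit elements of `M24`
showing that its stabiliser satisfies `SextetStab.Input`.
-/

set_option autoImplicit false

namespace Cfsg.Agent.SporadicStructure.SextetStd

open Cfsg Finset
open Cfsg.Agent.SporadicA.GolayBase Cfsg.Agent.SporadicA.GolayPerm
open Cfsg.Agent.SporadicStructure.SextetStab
open scoped Pointwise

/-- The masks of the six tetrads. -/
def tmList : List ℕ := [8388615, 147496, 268544, 1082880, 2621632, 4268048]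

/-- The points of the six tetrads. -/
def tpList : List (List ℕ) := [[0, 1, 2, 23], [3, 5, 14, 17], [8, 11, 12, 18], [9, 10, 15, 20], [6, 7, 19, 21], [4, 13, 16, 22]]

/-- The mask of the tetrad `i`. -/
def tm (i : Fin 6) : ℕ := tmList.getD i.val 0

/-- The indices of the points of the tetrad `i`. -/
def tp (i : Fin 6) : List ℕ := tpList.getD i.val []

/-- Packed permutations swapping two tetrads. -/
def swList : List (List ℕ) := [[0, 734979514589796562853405825177761955,
    777125860922270640213040536053985640, 836204743628059096148317162827791689,
    889193567424351070241889109699316966, 915397410197519576811908944816619940],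
  [734979514589796562853405825177761955, 0,
    112511856115773619565222648474786848, 104704903325935119872585876443028512,
    104547081937062814804708796578094112, 106008849533886386413535888646757408],
  [777125860922270640213040536053985640, 112511856115773619565222648474786848,
    0, 100819083966663436186129096740297760,
    88775182303513320083783165208026144, 107313742136261279552636870390307872],
  [836204743628059096148317162827791689, 104704903325935119872585876443028512,
    100819083966663436186129096740297760, 0,
    112008758482904261652442838286326816, 109918236291583403922140915928521760],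
  [889193567424351070241889109699316966, 104547081937062814804708796578094112,
    88775182303513320083783165208026144, 112008758482904261652442838286326816,
    0, 92351410677474640173504546684918816],
  [915397410197519576811908944816619940, 106008849533886386413535888646757408,
    107313742136261279552636870390307872, 109918236291583403922140915928521760,
    92351410677474640173504546684918816, 0]]

def sw (i j : Fin 6) : ℕ := (swList.getD i.val []).getD j.val 0

/-- Packed elements of the normal subgroup of order 64. -/
def nlist : List ℕ := [984818244535754528103549039458486304, 976448692869377735270425038196672544,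
    972512676110088067912772961567868960, 961365507626256404119956257276790816,
    976934804572108675034832543981668384, 984202951082164080105044112956360736,
    960884477435128931241433760505432096, 973122887587861701392823884636653600,
    972560815420533050926679905878345760, 961438956620049001677386430328277024,
    984724508489452699215480746259449888, 976420838754479978627774237199763488,
    960831283963798152912375878980765728, 973054518210042674313238929715267616,
    977023451795203591179182037798520864, 984235865005994746954145143334668320,
    88564669826120100736879869426785281, 100823358675240871160630688578919425,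
    104642867945522096169424165652257793, 111890735759189500967275039606037505,
    100220756582555373945364017112603649, 89053301974695481301600181090966529,
    112498419363478465068426720085990401, 104149153821129901086249850554735617,
    104711250050885010830356261031599105, 111943941958064166877680061588659201,
    88531741395152432619144554048084993, 100734696945008953747646909761674241,
    112424983097229755092343687492459521, 104101027238228805653690046702214145,
    100248596190316129319380533109120001, 89147023513860308921034189289610241,
    59197602570933677232925012014498530, 46999706481866609773835742131356386,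
    70399228063273750146191920654811874, 63171595616884047768281205928198882,
    47602323197725890978489344939164386, 58708955334971165046248774589121250,
    62563919208128639077930020080091874, 70892934527919042185996746700784354,
    70351105155508323366877919011341026, 63098155598130777866857538834072290,
    59291320357593944927018385712546530, 47027549764763033801098060336923362,
    62617129159507864913675676563309282, 70961312958146288193683039871075042,
    47513657792358304912259763912868578, 58676030656508056853854093711016674,
    21031891374900343699909455052375127, 29340620570662517957029049942508631,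
    6057601526503618116306465909212247, 17184519787777121035013027289728087,
    28854523491105362182008475499005015, 21647169741103660076458455793304663,
    17665557174438149324336018692932695, 5447382388983081592886053788877911,
    5989235823820259689967313196876887, 17131322563941782780614511264466007,
    21064801546226450623669850930086999, 29429271468893102754624345968411735,
    17739009920735306807106826245014615, 5495518024292395953547195890304087,
    28826665701071936886111872293045335, 21553437447306391113730797094863959]

def nn (i : Fin 64) : ℕ := nlist.getD i.val 0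

/-- A packed element of order three fixing every tetrad. -/
def w3 : ℕ := 70365596815236416272784276646386752

/-- The standard sextet. -/
def stdSextet : Finset (Finset GolayPt) := Finset.univ.image fun i : Fin 6 => fin (tm i)

theorem mem_stdSextet {t : Finset GolayPt} : t ∈ stdSextet ↔ ∃ i : Fin 6, t = fin (tm i) := by
  constructor
  · intro h
    obtain ⟨i, -, rfl⟩ := Finset.mem_image.1 h
    exact ⟨i, rfl⟩
  · rintro ⟨i, rfl⟩
    exact Finset.mem_image_of_mem _ (Finset.mem_univ i)

theorem tm_lt : ∀ i, tm i < 2 ^ 24 := by decide +kernel

theorem tm_injective : Function.Injective tm := by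
  have : ∀ i j, tm i = tm j → i = j := by decide +kernel
  exact fun i j h => this i j h

theorem fin_tm_injective : Function.Injective fun i : Fin 6 => fin (tm i) :=
  fun _ _ h => tm_injective (fin_injective (tm_lt _) (tm_lt _) h)

theorem pop_tm : ∀ i, popcount (tm i) = 4 := by decide +kernel

theorem code_tm : ∀ i j, i ≠ j → tm i ||| tm j < 2 ^ 24 ∧ isCode (tm i ||| tm j) = true ∧
    popcount (tm i ||| tm j) = 8 := by decide +kernel

theorem stdSextet_mem : stdSextet ∈ sextets := by
  refine ⟨?_, ?_, ?_⟩
  · rw [stdSextet, Finset.card_image_of_injective _ fin_tm_injective]; rfl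
  · intro t ht
    obtain ⟨i, rfl⟩ := mem_stdSextet.1 ht
    rw [SporadicA.GolayBase.card_fin, pop_tm]
  · intro t ht u hu htu
    obtain ⟨i, rfl⟩ := mem_stdSextet.1 ht
    obtain ⟨j, rfl⟩ := mem_stdSextet.1 hu
    have hij : i ≠ j := fun h => htu (by rw [h])
    obtain ⟨h1, h2, h3⟩ := code_tm i j hij
    rw [← fin_or, mem_octads_iff, maskOf_fin h1]
    exact ⟨h2, h3⟩

theorem sw_check : ∀ i j : Fin 6, i ≠ j → isPerm (sw i j) = true ∧ isAut (sw i j) = true ∧
    pimg (sw i j) (tm i) = tm j ∧ pimg (sw i j) (tm j) = tm i ∧
    ∀ k : Fin 6, k ≠ i → k ≠ j → pimg (sw i j) (tm k) = tm k := by decide +kernel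

/-- The permutation `P` acts on the tetrad with mask `m` and points `l` through the four-group. -/
def vchk (P m : ℕ) (l : List ℕ) : Bool :=
  Nat.beq (pimg P m) m && l.all fun a => l.all fun b => Nat.beq a b ||
    Nat.beq (pimg P (2 ^ a ||| 2 ^ b)) (2 ^ a ||| 2 ^ b) ||
    Nat.beq (pimg P (2 ^ a ||| 2 ^ b)) (m ^^^ (2 ^ a ||| 2 ^ b))

theorem mem_tp : ∀ i : Fin 6, ∀ a < 24, (tm i).testBit a = true → a ∈ tp i := by decide +kernel

theorem nn_check : ∀ k : Fin 64, isPerm (nn k) = true ∧ isAut (nn k) = true ∧
    ∀ i : Fin 6, vchk (nn k) (tm i) (tp i) = true := by decide +kernel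

theorem nn_nodup : nlist.Nodup := by decide +kernel

theorem w3_check : isPerm w3 = true ∧ isAut w3 = true ∧ (∀ i : Fin 6, pimg w3 (tm i) = tm i) ∧
    (∀ a < 24, papp w3 (papp w3 (papp w3 a)) = a) := by decide +kernel

theorem subset_duad {i : Fin 6} {d : Finset GolayPt} (hd : d ⊆ fin (tm i)) (h2 : d.card = 2) :
    ∃ a ∈ tp i, ∃ b ∈ tp i, a ≠ b ∧ d = fin (2 ^ a ||| 2 ^ b) := by
  obtain ⟨p, q, hpq, rfl⟩ := Finset.card_eq_two.1 h2
  have hp : p ∈ fin (tm i) := hd (Finset.mem_insert_self _ _)
  have hq : q ∈ fin (tm i) := hd (Finset.mem_insert_of_mem (Finset.mem_singleton_self _))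
  refine ⟨idx p, mem_tp i _ (idx_lt p) (mem_fin.1 hp), idx q, mem_tp i _ (idx_lt q) (mem_fin.1 hq),
    fun h => hpq (idx_injective h), ?_⟩
  ext r
  rw [mem_fin, Nat.testBit_or, Nat.testBit_two_pow, Nat.testBit_two_pow, Finset.mem_insert,
    Finset.mem_singleton, Bool.or_eq_true, decide_eq_true_iff, decide_eq_true_iff]
  constructor
  · rintro (rfl | rfl)
    · exact Or.inl rfl
    · exact Or.inr rfl
  · rintro (h | h)
    · exact Or.inl (idx_injective h).symm
    · exact Or.inr (idx_injective h).symm

theorem sdiff_eq_fin {m n : ℕ} (h : fin n ⊆ fin m) : fin m \ fin n = fin (m ^^^ n) := by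
  rw [fin_xor]
  ext x
  rw [Finset.mem_symmDiff, Finset.mem_sdiff]
  have := @h x
  tauto

theorem vfix_of_check {P : ℕ} (hP : isPerm P = true)
    (h : ∀ i : Fin 6, vchk P (tm i) (tp i) = true) : VFix stdSextet (permOf P hP) := by
  intro t ht
  obtain ⟨i, rfl⟩ := mem_stdSextet.1 ht
  have hi := h i
  rw [vchk, Bool.and_eq_true, List.all_eq_true] at hi
  refine ⟨by rw [smul_fin, Nat.eq_of_beq_eq_true hi.1], ?_⟩
  intro d hd h2
  obtain ⟨a, ha, b, hb, hab, hdab⟩ := subset_duad hd h2
  subst hdab
  have h3 := hi.2 a ha
  rw [List.all_eq_true] at h3
  have h4 := h3 b hb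
  rw [Bool.or_eq_true, Bool.or_eq_true] at h4
  rw [smul_fin, sdiff_eq_fin hd]
  rcases h4 with (h4 | h4) | h4
  · exact absurd (Nat.eq_of_beq_eq_true h4) hab
  · left; rw [Nat.eq_of_beq_eq_true h4]
  · right; rw [Nat.eq_of_beq_eq_true h4]

theorem permOf_inj {P Q : ℕ} (hP : isPerm P = true) (hQ : isPerm Q = true)
    (h : permOf P hP = permOf Q hQ) : ∀ i < 24, papp P i = papp Q i := by
  intro i hi
  have h1 := congrArg (fun g : Equiv.Perm GolayPt => idx (g (pt i))) h
  simp only [idx_permOf, idx_pt hi] at h1
  exact h1

theorem nn_inj : ∀ i j : Fin 64, (∀ k < 24, papp (nn i) k = papp (nn j) k) → i = j := by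
  decide +kernel

theorem w3_moves : pimg w3 5 ≠ 5 ∧ pimg w3 5 ≠ 8388615 ^^^ 5 ∧ 5 &&& 8388615 = 5 := by
  decide +kernel

theorem input_std : Input stdSextet := by
  refine ⟨?_, ?_, ?_⟩
  · intro t ht u hu htu
    obtain ⟨i, rfl⟩ := mem_stdSextet.1 ht
    obtain ⟨j, rfl⟩ := mem_stdSextet.1 hu
    have hij : i ≠ j := fun h => htu (by rw [h])
    obtain ⟨h1, h2, h3, h4, h5⟩ := sw_check i j hij
    refine ⟨permOf _ h1, permOf_mem_M24 h1 h2, by rw [smul_fin, h3], by rw [smul_fin, h4], ?_⟩
    intro v hv hvt hvu
    obtain ⟨k, rfl⟩ := mem_stdSextet.1 hv
    rw [smul_fin, h5 k (fun h => hvt (by rw [h])) (fun h => hvu (by rw [h]))]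
  · refine ⟨fun i => permOf (nn i) (nn_check i).1, ?_, fun i =>
      ⟨permOf_mem_M24 _ (nn_check i).2.1, vfix_of_check _ (nn_check i).2.2⟩⟩
    intro i j hij
    exact nn_inj i j (permOf_inj _ _ hij)
  · obtain ⟨h1, h2, h3, h4⟩ := w3_check
    refine ⟨permOf w3 h1, permOf_mem_M24 h1 h2, ?_, ?_, ?_⟩
    · ext1 p
      apply idx_injective
      show idx (permOf w3 h1 (permOf w3 h1 (permOf w3 h1 p))) = idx p
      rw [idx_permOf, idx_permOf, idx_permOf, h4 _ (idx_lt p)]
    · intro t ht
      obtain ⟨i, rfl⟩ := mem_stdSextet.1 ht
      rw [smul_fin, h3]
    · intro hV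
      have hm : fin 8388615 ∈ stdSextet := mem_stdSextet.2 ⟨0, rfl⟩
      have hsub : fin 5 ⊆ fin 8388615 := by
        intro x hx
        have : fin (5 &&& 8388615) = fin 5 := by rw [w3_moves.2.2]
        rw [← this, fin_and] at hx
        exact (Finset.mem_inter.1 hx).2
      have hc : (fin 5).card = 2 := by rw [SporadicA.GolayBase.card_fin]; decide +kernel
      rcases (hV _ hm).2 (fin 5) hsub hc with h | h
      · rw [smul_fin] at h
        exact w3_moves.1 (fin_injective (pimg_lt h1 _) (by norm_num) h)
      · rw [smul_fin, sdiff_eq_fin hsub] at h
        exact w3_moves.2.1 (fin_injective (pimg_lt h1 _) (by decide +kernel) h)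

end Cfsg.Agent.SporadicStructure.SextetStd
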