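import Mathlib
import Cfsg.Prelude.Def_SporadicCombinatorics

/-! 5-transitivity of `M24` gives transitivity on the tetrads. -/

set_option autoImplicit false

namespace Cfsg.Agent.SporadicStructure.SextetTrans

open Cfsg Finset
open scoped Pointwise

theorem four_of_five (h5 : MulAction.IsMultiplyPretransitive M24 GolayPt 5)
    (t t' : Finset GolayPt) (ht : t.card = 4) (ht' : t'.card = 4) : ∃ g ∈ M24, g • t = t' := by
  have h4 : MulAction.IsMultiplyPretransitive M24 GolayPt 4 :=
    MulAction.isMultiplyPretransitive_of_le (n := 5) (by norm_num) (by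
      rw [Nat.card_eq_fintype_card]
      have : Fintype.card GolayPt = 24 := by simp [GolayPt, ZMod.card]
      rw [this]; norm_num)
  let x : Fin 4 ↪ GolayPt := (t.equivFinOfCardEq ht).symm.toEmbedding.trans (Function.Embedding.subtype _)
  let y : Fin 4 ↪ GolayPt := (t'.equivFinOfCardEq ht').symm.toEmbedding.trans (Function.Embedding.subtype _)
  obtain ⟨g, hg⟩ := h4.exists_smul_eq x y
  refine ⟨g, g.2, ?_⟩
  have hx : t = Finset.univ.map x := by
    ext p
    constructor
    · intro hp
      refine Finset.mem_map.2 ⟨t.equivFinOfCardEq ht ⟨p, hp⟩, Finset.mem_univ _, ?_⟩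
      simp [x]
    · intro hp
      obtain ⟨i, -, rfl⟩ := Finset.mem_map.1 hp
      exact ((t.equivFinOfCardEq ht).symm i).2
  have hy : t' = Finset.univ.map y := by
    ext p
    constructor
    · intro hp
      refine Finset.mem_map.2 ⟨t'.equivFinOfCardEq ht' ⟨p, hp⟩, Finset.mem_univ _, ?_⟩
      simp [y]
    · intro hp
      obtain ⟨i, -, rfl⟩ := Finset.mem_map.1 hp
      exact ((t'.equivFinOfCardEq ht').symm i).2
  rw [hx, hy, ← hg]
  ext p
  rw [Finset.mem_smul_finset, Finset.mem_map]
  constructor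
  · rintro ⟨q, hq, rfl⟩
    obtain ⟨i, -, rfl⟩ := Finset.mem_map.1 hq
    exact ⟨i, Finset.mem_univ _, rfl⟩
  · rintro ⟨i, -, rfl⟩
    exact ⟨x i, Finset.mem_map.2 ⟨i, Finset.mem_univ _, rfl⟩, rfl⟩

end Cfsg.Agent.SporadicStructure.SextetTrans
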