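import Mathlib
import Cfsg.Prelude.Def_Sporadic_a

set_option autoImplicit false

namespace Cfsg.Agent.SporadicStructure.OctadSpan

open Cfsg

/-- The words of weight 8 of the code. -/
def octadWords : Set (GolayPt → ZMod 2) := {w | w ∈ golayCode ∧ (support₂ w).card = 8}

theorem qrWord_mem (t : ZMod 23) : qrWord t ∈ golayCode :=
  Submodule.subset_span (Or.inl ⟨t, rfl⟩)

theorem one_mem : (1 : GolayPt → ZMod 2) ∈ golayCode :=
  Submodule.subset_span (Or.inr rfl)

theorem card_o : ∀ t : ZMod 23,
    (support₂ (qrWord (1 + t) + qrWord (2 + t) + qrWord (7 + t))).card = 8 ∧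
    (support₂ (qrWord t + (qrWord (1 + t) + qrWord (2 + t) + qrWord (7 + t)))).card = 8 := by
  decide +kernel

theorem card_trio :
    (support₂ (qrWord 0 + qrWord 1 + qrWord 4)).card = 8 ∧
    (support₂ (1 + (qrWord 0 + qrWord 14 + qrWord 15))).card = 8 ∧
    (support₂ ((qrWord 0 + qrWord 1 + qrWord 4) + (qrWord 0 + qrWord 14 + qrWord 15))).card = 8 := by
  decide +kernel

theorem add_self_eq_zero' (w : GolayPt → ZMod 2) : w + w = 0 := by
  funext p
  have : ∀ a : ZMod 2, a + a = 0 := by decide
  exact this (w p)

/-- The code is spanned by its words of weight 8. -/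
theorem golayCode_eq_span : golayCode = Submodule.span (ZMod 2) octadWords := by
  apply le_antisymm
  · refine Submodule.span_le.mpr ?_
    rintro w (⟨t, rfl⟩ | hw)
    · have h1 : qrWord (1 + t) + qrWord (2 + t) + qrWord (7 + t) ∈ golayCode :=
        golayCode.add_mem (golayCode.add_mem (qrWord_mem _) (qrWord_mem _)) (qrWord_mem _)
      have e : qrWord t = (qrWord t + (qrWord (1 + t) + qrWord (2 + t) + qrWord (7 + t))) +
          (qrWord (1 + t) + qrWord (2 + t) + qrWord (7 + t)) := by
        rw [add_assoc, add_self_eq_zero', add_zero]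
      rw [e]
      exact Submodule.add_mem _
        (Submodule.subset_span ⟨golayCode.add_mem (qrWord_mem _) h1, (card_o t).2⟩)
        (Submodule.subset_span ⟨h1, (card_o t).1⟩)
    · have hw' : w = 1 := hw
      subst hw'
      have ha : qrWord 0 + qrWord 1 + qrWord 4 ∈ golayCode :=
        golayCode.add_mem (golayCode.add_mem (qrWord_mem _) (qrWord_mem _)) (qrWord_mem _)
      have hb : qrWord 0 + qrWord 14 + qrWord 15 ∈ golayCode :=
        golayCode.add_mem (golayCode.add_mem (qrWord_mem _) (qrWord_mem _)) (qrWord_mem _)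
      have e : (1 : GolayPt → ZMod 2) = (qrWord 0 + qrWord 1 + qrWord 4) +
          (1 + (qrWord 0 + qrWord 14 + qrWord 15)) +
          ((qrWord 0 + qrWord 1 + qrWord 4) + (qrWord 0 + qrWord 14 + qrWord 15)) := by
        set a := qrWord 0 + qrWord 1 + qrWord 4
        set b := qrWord 0 + qrWord 14 + qrWord 15
        have : a + (1 + b) + (a + b) = 1 + ((a + a) + (b + b)) := by abel
        rw [this, add_self_eq_zero', add_self_eq_zero', add_zero, add_zero]
      rw [e]
      exact Submodule.add_mem _ (Submodule.add_mem _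
        (Submodule.subset_span ⟨ha, card_trio.1⟩)
        (Submodule.subset_span ⟨golayCode.add_mem one_mem hb, card_trio.2.1⟩))
        (Submodule.subset_span ⟨golayCode.add_mem ha hb, card_trio.2.2⟩)
  · refine Submodule.span_le.mpr ?_
    rintro w ⟨hw, -⟩
    exact hw

/-- Induction over codewords from words of weight 8. -/
theorem golay_induction {P : (GolayPt → ZMod 2) → Prop} (h0 : P 0)
    (hadd : ∀ v w, v ∈ golayCode → w ∈ golayCode → P v → P w → P (v + w))
    (hoct : ∀ w ∈ golayCode, (support₂ w).card = 8 → P w)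
    (w : GolayPt → ZMod 2) (hw : w ∈ golayCode) : P w := by
  have key : w ∈ golayCode ∧ P w := by
    have hw' : w ∈ Submodule.span (ZMod 2) octadWords := by
      rw [← golayCode_eq_span]; exact hw
    induction hw' using Submodule.span_induction with
    | mem x hx => exact ⟨hx.1, hoct x hx.1 hx.2⟩
    | zero => exact ⟨golayCode.zero_mem, h0⟩
    | add x y hx hy hx' hy' =>
      have hx1 : x ∈ golayCode := by rw [golayCode_eq_span]; exact hx
      have hy1 : y ∈ golayCode := by rw [golayCode_eq_span]; exact hy
      exact ⟨golayCode.add_mem hx1 hy1, hadd x y hx1 hy1 (hx' hx1).2 (hy' hy1).2⟩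
    | smul a x hx hx' =>
      have hx1 : x ∈ golayCode := by rw [golayCode_eq_span]; exact hx
      have ha : ∀ a : ZMod 2, a = 0 ∨ a = 1 := by decide
      rcases ha a with rfl | rfl
      · rw [zero_smul]; exact ⟨golayCode.zero_mem, h0⟩
      · rw [one_smul]; exact hx' hx1
  exact key.2

end Cfsg.Agent.SporadicStructure.OctadSpan
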