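import Cfsg.Agent.SporadicStructure.FieldNine
import Cfsg.Agent.SporadicStructure.U43Perm
import Cfsg.Agent.LieClassical.HermBasic

/-!
Two matrices in SU(4, 3) over `K9` inducing the permutations `U43Perm.σ` on the 280 isotropic points.
-/

set_option autoImplicit false

namespace Cfsg.Agent.SporadicStructure.U43Herm

open Cfsg Matrix Cfsg.Agent.SporadicStructure.FieldNine Cfsg.Agent.SporadicStructure.U43Perm
  Cfsg.Agent.SporadicStructure.PermChain Cfsg.Agent.LieClassical

/-- A matrix with orthonormal columns lies in `SU`. -/
theorem mem_SU_of_cols {K : Type*} [Field K] [Fintype K] {n q : ℕ} (hK : Fintype.card K = q ^ 2)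
    (A : Matrix.SpecialLinearGroup (Fin n) K)
    (h : ∀ j k, ∑ i, (A : Matrix (Fin n) (Fin n) K) i j * ((A : Matrix (Fin n) (Fin n) K) i k) ^ q
      = if j = k then 1 else 0) : A ∈ Cfsg.SU n K q := by
  rw [HermBasic.mem_SU_iff]
  intro u v
  have hcol : ∀ w : Fin n → K, (A : Matrix (Fin n) (Fin n) K) *ᵥ w
      = ∑ j, w j • (fun i => (A : Matrix (Fin n) (Fin n) K) i j) := by
    intro w
    ext i
    simp [Matrix.mulVec, dotProduct, mul_comm]
  rw [hcol u, hcol v, HermBasic.herm_sum_left]
  have h1 : ∀ j k, hermForm n K q (u j • fun i => (A : Matrix (Fin n) (Fin n) K) i j)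
      (v k • fun i => (A : Matrix (Fin n) (Fin n) K) i k) = if j = k then u j * v k ^ q else 0 := by
    intro j k
    rw [HermBasic.herm_smul_left, HermBasic.herm_smul_right, HermBasic.herm_def, h j k]
    split_ifs <;> ring
  calc ∑ j, hermForm n K q (u j • fun i => (A : Matrix (Fin n) (Fin n) K) i j)
        (∑ k, v k • fun i => (A : Matrix (Fin n) (Fin n) K) i k)
      = ∑ j, ∑ k, (if j = k then u j * v k ^ q else 0) := by
        refine Finset.sum_congr rfl fun j _ => ?_
        rw [HermBasic.herm_sum_right hK]
        exact Finset.sum_congr rfl fun k _ => h1 j k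
    _ = hermForm n K q u v := by
        rw [HermBasic.herm_def]
        refine Finset.sum_congr rfl fun j _ => ?_
        rw [Finset.sum_ite_eq]
        simp

/-- A `4 × 4` matrix over `K9` from a packed table. -/
def matOf (t : ℕ) : Matrix (Fin 4) (Fin 4) K9 := Matrix.of fun i j => K9.mk (look 4 t (4 * i + j))

/-- A vector from a packed table. -/
def vecOf (t : ℕ) (i : ℕ) : Fin 4 → K9 := fun j => K9.mk (look 4 t (4 * i + j))

def tabMA : ℕ := 4779517088285917272
def tabMB : ℕ := 1306362823879758097
def tabP : ℕ := 16798740317056222036001221173090103663219572257590687733187488336465507585567669687277990859712692889752152919327010910288159898316779667362009803610576663141119274322371818100019334374500617385037956520012727892168632507292935569245825142361830756982000869791113719968143015903682114595034366454573573791594568732635378777587514534767212534511653613105641121949103958669958520440327256098683868255616354327851763570685062034482950982119090237313094012542057282625533743734634770971443589767389142620658082617351558023362534847758474000448637301255365513196602834220292696597500303771579167053695316539922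037278330886830614885379606428570224892976967133352062276676979227897991626240431732421890603070157252189819717332641406393521413536648602443996599016825769924256383087104968845002888873297654375677154761849208623677380227742588448269440980831709606908649343282490842593269955985458413831432454382117866224476727139387864002508150364309261932071928565702923088634917561490489247298371915679766955169820887612212232470537134217200715439030827925694906830335321255586822023750460882816451041832758231837034858229400198518133425088016666005378331944154022445796983226534504462863481212777321072599365503364961902392447305541765434254419866785225573393224598194120908636774189031438700015649190957022949808156151120029329786033553144809951873483008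
def tabSA : ℕ := 6646636445850281142695290906268483767657357967146669427592946320175395374550693284811601648928077979452011876602970745675551526508382421725035819642738751525345088477487929877370459613516187561733287279709392091756897775719889806558821201660642753517660099081408364491552761697823586046637764184590371046558790511064026162230479094633813
def tabSB : ℕ := 2240016971958010681537198577904414977113733711048415437856637251259409771520716963825424334670468988967630738567213625188703061697898877470677482713008269380923616427246606800961104187857891637613480725186028503519177137525285786586805931108815236571838193888707862246078805088096186591978403619628316811902435580837869422658453742381109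

theorem detA : (matOf tabMA).det = 1 := by decide +kernel
theorem detB : (matOf tabMB).det = 1 := by decide +kernel

theorem colsA : ∀ j k : Fin 4, ∑ i, matOf tabMA i j * (matOf tabMA i k) ^ 3
    = if j = k then 1 else 0 := by decide +kernel
theorem colsB : ∀ j k : Fin 4, ∑ i, matOf tabMB i j * (matOf tabMB i k) ^ 3
    = if j = k then 1 else 0 := by decide +kernel

/-- The first matrix as an element of `SU`. -/
def MA : Cfsg.SU 4 K9 3 := ⟨⟨matOf tabMA, detA⟩, mem_SU_of_cols K9.card_K9' _ colsA⟩
/-- The second matrix as an element of `SU`. -/
def MB : Cfsg.SU 4 K9 3 := ⟨⟨matOf tabMB, detB⟩, mem_SU_of_cols K9.card_K9' _ colsB⟩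

theorem coe_MA : ((MA : Matrix.SpecialLinearGroup (Fin 4) K9) : Matrix (Fin 4) (Fin 4) K9)
    = matOf tabMA := rfl
theorem coe_MB : ((MB : Matrix.SpecialLinearGroup (Fin 4) K9) : Matrix (Fin 4) (Fin 4) K9)
    = matOf tabMB := rfl

/-- The 280 isotropic points. -/
def P (i : Fin 280) : Fin 4 → K9 := vecOf tabP i

theorem actA' : ∀ i : Fin 280, ∀ j : Fin 4, (matOf tabMA *ᵥ vecOf tabP i) j
    = (K9.mk (look 4 tabSA i) • vecOf tabP (look 9 tabA i)) j := by decide +kernel
theorem actB' : ∀ i : Fin 280, ∀ j : Fin 4, (matOf tabMB *ᵥ vecOf tabP i) j
    = (K9.mk (look 4 tabSB i) • vecOf tabP (look 9 tabB i)) j := by decide +kernel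
theorem scalA : ∀ i : Fin 280, K9.mk (look 4 tabSA i) ≠ 0 := by decide +kernel
theorem scalB : ∀ i : Fin 280, K9.mk (look 4 tabSB i) ≠ 0 := by decide +kernel

/-- The two matrices. -/
def M (s : Fin 2) : Cfsg.SU 4 K9 3 := if s = 0 then MA else MB

theorem act (s : Fin 2) (i : Fin 280) : ∃ c : K9, c ≠ 0 ∧
    ((M s : Matrix.SpecialLinearGroup (Fin 4) K9) : Matrix (Fin 4) (Fin 4) K9) *ᵥ P i
      = c • P (σ s i) := by
  fin_cases s
  · refine ⟨_, scalA i, ?_⟩
    change matOf tabMA *ᵥ vecOf tabP i = _ • vecOf tabP ((gen 0 i : Fin 280) : ℕ)
    rw [gen_spec 0 (Or.inl rfl) i]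
    ext j
    exact actA' i j
  · refine ⟨_, scalB i, ?_⟩
    change matOf tabMB *ᵥ vecOf tabP i = _ • vecOf tabP ((gen 1 i : Fin 280) : ℕ)
    rw [gen_spec 1 (Or.inr rfl) i]
    ext j
    exact actB' i j

/-- The first nonzero coordinate. -/
def lead (v : Fin 4 → K9) : K9 :=
  if v 0 ≠ 0 then v 0 else if v 1 ≠ 0 then v 1 else if v 2 ≠ 0 then v 2 else v 3

theorem lead_smul (c : K9) (hc : c ≠ 0) (v : Fin 4 → K9) : lead (c • v) = c * lead v := by
  unfold lead
  simp only [Pi.smul_apply, smul_eq_mul, ne_eq, mul_eq_zero, hc, false_or]
  split_ifs <;> rfl

theorem lead_P : ∀ i : Fin 280, lead (P i) = 1 := by decide +kernel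

/-- Number built from the coordinates. -/
def num (v : Fin 4 → K9) : ℕ :=
  16 ^ 3 * K9.code (v 0) + 16 ^ 2 * K9.code (v 1) + 16 * K9.code (v 2) + K9.code (v 3)

theorem num_P_lt : ∀ i : Fin 279, num (P i.castSucc) < num (P i.succ) := by decide +kernel

theorem num_P_strictMono : StrictMono fun i : Fin 280 => num (P i) :=
  Fin.strictMono_iff_lt_succ.2 num_P_lt

theorem P_nonprop (i j : Fin 280) (c : K9) (hc : c ≠ 0) (h : P i = c • P j) : i = j := by
  have h1 := congrArg lead h
  rw [lead_smul c hc, lead_P, lead_P, mul_one] at h1
  rw [← h1, one_smul] at h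
  exact num_P_strictMono.injective (congrArg num h)

end Cfsg.Agent.SporadicStructure.U43Herm
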