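import Cfsg.Agent.SporadicA.GolayPerm

/-!
# Transitivity of `Cfsg.M24` and of the stabiliser of the points `none`, `some 0`

Kernel-checked spanning trees: `M24` is transitive on ordered pairs of points and on octads; the
pointwise stabiliser of `none` and `some 0` in `M24` is transitive on ordered pairs of the other
points, on the 77 octads containing both points and on the 330 octads containing neither.
-/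

set_option autoImplicit false
open scoped Pointwise
open Cfsg

namespace Cfsg.Agent.SporadicStructure.MonoPerms

open Cfsg.Agent.SporadicA.GolayBase Cfsg.Agent.SporadicA.GolayPerm

/-- Trees of moves (first child, next sibling). -/
inductive Tr where
  | nil : Tr
  | nd : ℕ → Tr → Tr → Tr

/-- Force the evaluation of a natural number in the kernel. -/
def force {α : Type} (n : ℕ) (f : ℕ → α) : α :=
  Nat.rec (f 0) (fun k _ => f (k + 1)) n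

theorem force_eq {α : Type} (n : ℕ) (f : ℕ → α) : force n f = f n := by
  cases n <;> rfl

/-- Visit a tree from the state `m`, collecting the keys of the states in a bit set. -/
def visit (step : ℕ → ℕ → ℕ) (key : ℕ → ℕ) : Tr → ℕ → ℕ → ℕ
  | .nil, _, S => S
  | .nd g c s, m, S =>
    force (step g m) fun m' => force (visit step key c m' (S ||| (1 <<< key m'))) fun S' =>
      visit step key s m S'

theorem visit_spec (step : ℕ → ℕ → ℕ) (key : ℕ → ℕ) (P : ℕ → Prop)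
    (hP : ∀ g m, P m → P (step g m)) (t : Tr) : ∀ (m S : ℕ), P m → ∀ k,
    (visit step key t m S).testBit k = true → S.testBit k = true ∨ ∃ y, P y ∧ key y = k := by
  induction t with
  | nil => intro m S _ k h; exact Or.inl h
  | nd g c s ihc ihs =>
    intro m S hm k h
    rw [visit, force_eq, force_eq] at h
    rcases ihs m _ hm k h with h1 | h1
    · rcases ihc _ _ (hP g m hm) k h1 with h2 | h2
      · rw [Nat.testBit_or, Bool.or_eq_true] at h2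
        rcases h2 with h3 | h3
        · exact Or.inl h3
        · right
          refine ⟨step g m, hP g m hm, ?_⟩
          rw [Nat.one_shiftLeft, Nat.testBit_two_pow] at h3
          exact of_decide_eq_true h3
      · exact Or.inr h2
    · exact Or.inr h1

/-! ### Generators -/

/-- Two elements of `M24` fixing the points of index `23` and `0`. -/
def gen22 (g : ℕ) : ℕ :=
  Nat.rec 962726298429085508610945884134843456 (fun _ _ => 980250682387359512611910090215833728) g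

/-- Four elements of `M24`. -/
def gen24 (g : ℕ) : ℕ :=
  Nat.rec 962726298429085508610945884134843456 (fun k _ => Nat.rec 980250682387359512611910090215833728 (fun k _ => Nat.rec 956302485175575353788796878166559809 (fun _ _ => 1795248432537898728475572672376535) k) k) g

theorem isPerm_gen24 (g : ℕ) : isPerm (gen24 g) = true := by
  rcases g with _ | _ | _ | g
  · show isPerm 962726298429085508610945884134843456 = true; decide +kernel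
  · show isPerm 980250682387359512611910090215833728 = true; decide +kernel
  · show isPerm 956302485175575353788796878166559809 = true; decide +kernel
  · show isPerm 1795248432537898728475572672376535 = true; decide +kernel

theorem isAut_gen24 (g : ℕ) : isAut (gen24 g) = true := by
  rcases g with _ | _ | _ | g
  · show isAut 962726298429085508610945884134843456 = true; decide +kernel
  · show isAut 980250682387359512611910090215833728 = true; decide +kernel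
  · show isAut 956302485175575353788796878166559809 = true; decide +kernel
  · show isAut 1795248432537898728475572672376535 = true; decide +kernel

theorem isPerm_gen22 (g : ℕ) : isPerm (gen22 g) = true := by
  rcases g with _ | g
  · exact isPerm_gen24 0
  · exact isPerm_gen24 1

theorem isAut_gen22 (g : ℕ) : isAut (gen22 g) = true := by
  rcases g with _ | g
  · exact isAut_gen24 0
  · exact isAut_gen24 1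

theorem papp_gen22 (g : ℕ) : papp (gen22 g) 23 = 23 ∧ papp (gen22 g) 0 = 0 := by
  rcases g with _ | g
  · show papp 962726298429085508610945884134843456 23 = 23 ∧ papp 962726298429085508610945884134843456 0 = 0; decide +kernel
  · show papp 980250682387359512611910090215833728 23 = 23 ∧ papp 980250682387359512611910090215833728 0 = 0; decide +kernel

/-! ### The trees -/

open Tr in
def t330 : Tr :=
  nd 0 (nd 0 (nd 0 (nd 0 (nd 1 (nd 0 (nd 0 (nd 1 (nd 1 nil nil) nil) (nd 1 (nd 0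
  (nd 0 (nd 0 nil (nd 1 nil nil)) (nd 1 (nd 1 nil nil) nil)) (nd 1 nil nil)) nil))
  (nd 1 (nd 0 (nd 0 nil nil) (nd 1 (nd 0 (nd 0 nil (nd 1 nil nil)) (nd 1 nil nil))
  nil)) nil)) nil) (nd 1 (nd 0 (nd 0 (nd 0 nil (nd 1 (nd 0 (nd 0 nil nil) (nd 1 (nd
  1 nil nil) nil)) nil)) (nd 1 (nd 0 (nd 0 nil (nd 1 nil nil)) (nd 1 nil nil))
  nil)) (nd 1 (nd 0 (nd 0 (nd 0 (nd 0 nil nil) nil) (nd 1 (nd 0 nil (nd 1 (nd 0 nil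
  (nd 1 nil nil)) nil)) nil)) nil) nil)) nil)) (nd 1 (nd 0 (nd 0 (nd 0 (nd 0 (nd 1
  nil nil) (nd 1 (nd 0 (nd 0 nil (nd 1 nil nil)) (nd 1 nil nil)) nil)) (nd 1 nil
  nil)) (nd 1 (nd 1 (nd 0 (nd 0 (nd 0 nil (nd 1 nil nil)) (nd 1 (nd 0 nil nil)
  nil)) (nd 1 nil nil)) nil) nil)) (nd 1 (nd 0 (nd 0 (nd 0 (nd 0 nil (nd 1 (nd 0
  nil nil) nil)) (nd 1 (nd 0 (nd 1 (nd 1 nil nil) nil) (nd 1 (nd 1 nil nil) nil))
  nil)) (nd 1 nil nil)) (nd 1 (nd 0 (nd 0 (nd 1 (nd 1 nil nil) nil) (nd 1 (nd 0 (nd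
  0 nil nil) (nd 1 nil nil)) nil)) (nd 1 (nd 0 (nd 0 (nd 0 nil nil) nil) (nd 1 (nd
  0 nil (nd 1 (nd 1 nil nil) nil)) nil)) nil)) nil)) nil)) nil)) (nd 1 (nd 0 (nd 0
  (nd 0 (nd 0 nil (nd 1 (nd 1 (nd 1 (nd 0 nil nil) nil) nil) nil)) (nd 1 (nd 0 (nd
  0 (nd 0 (nd 0 nil nil) (nd 1 (nd 0 nil (nd 1 nil nil)) nil)) nil) (nd 1 (nd 0 nil
  (nd 1 (nd 0 nil nil) nil)) nil)) nil)) (nd 1 (nd 0 (nd 0 (nd 0 (nd 1 nil nil) (nd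
  1 nil nil)) (nd 1 (nd 0 (nd 0 nil (nd 1 nil nil)) (nd 1 nil nil)) nil)) (nd 1 (nd
  0 (nd 0 (nd 0 (nd 0 nil nil) (nd 1 (nd 1 (nd 1 nil nil) nil) nil)) (nd 1 (nd 0
  nil nil) nil)) (nd 1 (nd 1 (nd 0 nil (nd 1 nil nil)) nil) nil)) nil)) nil)) (nd 1
  (nd 0 (nd 1 (nd 0 (nd 0 (nd 0 (nd 0 nil nil) (nd 1 nil nil)) (nd 1 (nd 1 (nd 0
  nil nil) nil) nil)) (nd 1 (nd 0 (nd 0 nil (nd 1 (nd 0 nil nil) nil)) nil) nil))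
  nil) (nd 1 (nd 0 (nd 0 (nd 0 (nd 1 (nd 0 nil (nd 1 nil nil)) nil) (nd 1 (nd 1 (nd
  0 nil nil) nil) nil)) (nd 1 (nd 0 (nd 0 nil nil) (nd 1 (nd 1 nil nil) nil)) nil))
  (nd 1 (nd 0 (nd 0 (nd 0 nil (nd 1 nil nil)) (nd 1 (nd 1 (nd 0 nil (nd 1 nil nil))
  nil) nil)) (nd 1 (nd 0 (nd 0 nil nil) (nd 1 (nd 1 nil nil) nil)) nil)) nil))
  nil)) nil)) nil)) (nd 1 (nd 0 (nd 0 (nd 0 (nd 0 (nd 1 (nd 1 (nd 1 nil nil) nil)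
  nil) (nd 1 (nd 0 (nd 0 (nd 0 nil nil) (nd 1 (nd 0 nil nil) nil)) (nd 1 (nd 0 nil
  (nd 1 (nd 0 nil nil) nil)) nil)) nil)) (nd 1 (nd 0 (nd 0 (nd 0 (nd 1 nil nil)
  nil) (nd 1 (nd 1 nil nil) nil)) (nd 1 nil nil)) nil)) (nd 1 (nd 0 (nd 0 (nd 0 (nd
  0 (nd 1 nil nil) (nd 1 (nd 1 nil nil) nil)) (nd 1 (nd 0 (nd 0 (nd 0 nil nil) nil)
  (nd 1 (nd 1 nil nil) nil)) nil)) (nd 1 (nd 0 (nd 0 (nd 0 nil nil) nil) nil) nil))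
  (nd 1 (nd 0 (nd 0 (nd 0 (nd 0 nil nil) nil) (nd 1 (nd 0 nil (nd 1 (nd 1 nil nil)
  nil)) nil)) (nd 1 (nd 1 (nd 1 (nd 0 nil (nd 1 nil nil)) nil) nil) nil)) nil))
  nil)) (nd 1 (nd 0 (nd 0 (nd 0 (nd 0 (nd 1 (nd 0 (nd 1 nil nil) (nd 1 (nd 0 nil
  nil) nil)) nil) (nd 1 nil nil)) (nd 1 (nd 0 (nd 0 (nd 1 nil nil) (nd 1 nil nil))
  (nd 1 (nd 0 (nd 1 nil nil) nil) nil)) nil)) (nd 1 (nd 0 (nd 0 (nd 0 nil (nd 1 (nd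
  0 (nd 1 nil nil) (nd 1 (nd 0 nil (nd 1 nil nil)) nil)) nil)) (nd 1 (nd 0 (nd 1
  nil nil) (nd 1 (nd 1 (nd 1 nil nil) nil) nil)) nil)) (nd 1 (nd 0 (nd 0 nil (nd 1
  (nd 0 (nd 0 nil nil) nil) nil)) (nd 1 (nd 0 (nd 0 nil (nd 1 nil nil)) (nd 1 (nd 0
  nil (nd 1 nil nil)) nil)) nil)) nil)) nil)) (nd 1 (nd 0 (nd 0 (nd 1 (nd 0 (nd 1
  nil nil) (nd 1 (nd 0 (nd 1 nil nil) nil) nil)) nil) (nd 1 (nd 0 (nd 0 (nd 0 (nd 1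
  nil nil) (nd 1 nil nil)) (nd 1 (nd 0 nil nil) nil)) (nd 1 (nd 1 (nd 1 nil nil)
  nil) nil)) nil)) (nd 1 (nd 0 (nd 0 nil (nd 1 nil nil)) (nd 1 (nd 1 (nd 0 (nd 0
  nil (nd 1 (nd 1 nil nil) nil)) (nd 1 nil nil)) nil) nil)) nil)) nil)) nil)) nil)

open Tr in
def t77 : Tr :=
  nd 0 (nd 0 (nd 0 (nd 0 (nd 1 (nd 0 (nd 1 nil nil) (nd 1 (nd 1 (nd 1 nil nil) nil)
  nil)) nil) (nd 1 (nd 0 (nd 0 nil nil) nil) nil)) (nd 1 (nd 1 (nd 0 (nd 0 (nd 0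
  nil nil) nil) (nd 1 (nd 0 nil (nd 1 nil nil)) nil)) nil) nil)) (nd 1 (nd 0 (nd 0
  (nd 0 (nd 0 nil (nd 1 (nd 0 nil (nd 1 (nd 1 nil nil) nil)) nil)) (nd 1 (nd 0 nil
  nil) nil)) (nd 1 (nd 0 (nd 0 nil (nd 1 (nd 1 (nd 1 nil nil) nil) nil)) nil) nil))
  (nd 1 (nd 0 (nd 0 (nd 0 nil nil) (nd 1 (nd 1 nil nil) nil)) (nd 1 (nd 1 (nd 1 nil
  nil) nil) nil)) nil)) nil)) (nd 1 (nd 0 (nd 0 (nd 0 nil nil) (nd 1 (nd 0 (nd 0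
  (nd 0 (nd 1 nil nil) (nd 1 (nd 1 nil nil) nil)) (nd 1 (nd 1 (nd 0 nil nil) nil)
  nil)) (nd 1 (nd 0 nil (nd 1 nil nil)) nil)) nil)) (nd 1 (nd 0 (nd 0 (nd 1 nil
  nil) (nd 1 (nd 0 (nd 1 nil nil) nil) nil)) (nd 1 (nd 0 nil (nd 1 (nd 0 nil (nd 1
  nil nil)) nil)) nil)) nil)) nil)

open Tr in
def t462 : Tr :=
  nd 0 (nd 0 (nd 0 (nd 0 (nd 1 (nd 0 (nd 0 (nd 0 (nd 1 (nd 1 nil nil) nil) (nd 1
  (nd 0 (nd 1 nil nil) nil) nil)) (nd 1 (nd 1 nil nil) nil)) (nd 1 (nd 0 (nd 1 (nd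
  1 nil nil) nil) (nd 1 (nd 1 (nd 0 (nd 0 nil nil) nil) nil) nil)) nil)) nil) (nd 1
  (nd 0 (nd 0 (nd 0 (nd 0 (nd 1 (nd 0 (nd 0 nil (nd 1 nil nil)) nil) nil) (nd 1 (nd
  0 (nd 0 nil nil) nil) nil)) (nd 1 (nd 0 (nd 0 nil (nd 1 nil nil)) (nd 1 nil nil))
  nil)) (nd 1 (nd 0 (nd 0 nil (nd 1 nil nil)) (nd 1 (nd 0 (nd 0 nil (nd 1 (nd 1 (nd
  1 nil nil) nil) nil)) (nd 1 (nd 0 nil nil) nil)) nil)) nil)) (nd 1 (nd 0 (nd 0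
  (nd 0 nil (nd 1 (nd 1 nil nil) nil)) (nd 1 (nd 1 (nd 1 nil nil) nil) nil)) (nd 1
  (nd 0 (nd 1 nil nil) (nd 1 (nd 1 (nd 1 nil nil) nil) nil)) nil)) nil)) nil)) (nd
  1 (nd 0 (nd 0 (nd 0 (nd 0 nil (nd 1 (nd 0 (nd 0 (nd 0 nil nil) nil) (nd 1 nil
  nil)) nil)) (nd 1 (nd 1 nil nil) nil)) (nd 1 (nd 0 (nd 0 (nd 0 (nd 1 nil nil) (nd
  1 nil nil)) (nd 1 (nd 0 (nd 1 nil nil) (nd 1 (nd 1 nil nil) nil)) nil)) (nd 1 (nd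
  1 (nd 0 (nd 0 nil (nd 1 nil nil)) nil) nil) nil)) nil)) (nd 1 (nd 0 (nd 1 (nd 1
  (nd 0 (nd 1 nil nil) (nd 1 (nd 0 (nd 1 nil nil) nil) nil)) nil) nil) (nd 1 (nd 0
  (nd 1 (nd 0 (nd 1 nil nil) (nd 1 nil nil)) nil) (nd 1 (nd 0 (nd 0 (nd 1 (nd 1 nil
  nil) nil) (nd 1 (nd 1 nil nil) nil)) (nd 1 (nd 1 (nd 0 nil (nd 1 (nd 0 nil nil)
  nil)) nil) nil)) nil)) nil)) nil)) nil)) (nd 1 (nd 0 (nd 0 (nd 0 (nd 0 (nd 1 (nd 1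
  (nd 0 (nd 0 nil (nd 1 nil nil)) nil) nil) nil) nil) (nd 1 (nd 0 (nd 0 (nd 0 (nd 0
  nil nil) (nd 1 (nd 0 (nd 1 nil nil) (nd 1 nil nil)) nil)) (nd 1 nil nil)) (nd 1
  (nd 0 nil (nd 1 (nd 0 (nd 1 (nd 1 nil nil) nil) (nd 1 (nd 0 (nd 0 nil nil) nil)
  nil)) nil)) nil)) nil)) (nd 1 (nd 0 (nd 0 (nd 0 (nd 0 (nd 1 (nd 1 nil nil) nil)
  nil) (nd 1 (nd 0 nil (nd 1 (nd 1 nil nil) nil)) nil)) (nd 1 (nd 0 (nd 0 nil nil)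
  (nd 1 (nd 0 (nd 1 (nd 1 nil nil) nil) (nd 1 (nd 0 nil nil) nil)) nil)) nil)) (nd
  1 (nd 0 (nd 0 (nd 0 nil nil) nil) (nd 1 (nd 0 (nd 0 (nd 1 (nd 1 (nd 0 nil nil)
  nil) nil) (nd 1 nil nil)) nil) nil)) nil)) nil)) (nd 1 (nd 0 (nd 0 (nd 1 (nd 1
  (nd 0 (nd 0 nil (nd 1 nil nil)) (nd 1 (nd 0 (nd 1 (nd 1 nil nil) nil) nil) nil))
  nil) nil) (nd 1 (nd 0 (nd 0 (nd 1 (nd 1 nil nil) nil) (nd 1 (nd 0 nil (nd 1 nil
  nil)) nil)) nil) nil)) (nd 1 (nd 0 (nd 0 (nd 0 (nd 0 nil (nd 1 (nd 0 nil nil)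
  nil)) (nd 1 (nd 0 (nd 0 nil (nd 1 nil nil)) (nd 1 (nd 1 (nd 0 nil (nd 1 nil nil))
  nil) nil)) nil)) nil) (nd 1 (nd 0 (nd 0 (nd 0 (nd 0 nil (nd 1 nil nil)) (nd 1 (nd
  0 (nd 0 nil nil) nil) nil)) (nd 1 (nd 1 nil nil) nil)) (nd 1 (nd 0 (nd 1 (nd 0
  (nd 1 nil nil) (nd 1 (nd 0 (nd 0 nil nil) nil) nil)) nil) (nd 1 (nd 1 (nd 1 nil
  nil) nil) nil)) nil)) nil)) nil)) nil)) nil)) (nd 1 (nd 0 (nd 0 (nd 0 (nd 0 (nd 1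
  (nd 0 (nd 0 (nd 0 nil nil) nil) (nd 1 (nd 0 nil (nd 1 (nd 0 nil nil) nil)) nil))
  nil) (nd 1 (nd 0 (nd 0 (nd 1 (nd 0 (nd 0 nil nil) (nd 1 nil nil)) nil) (nd 1 (nd
  1 nil nil) nil)) (nd 1 (nd 1 (nd 1 (nd 0 nil nil) nil) nil) nil)) nil)) (nd 1 (nd
  0 (nd 0 (nd 0 (nd 0 (nd 1 (nd 1 nil nil) nil) nil) (nd 1 (nd 1 nil nil) nil)) (nd
  1 (nd 0 (nd 0 (nd 1 nil nil) (nd 1 (nd 0 (nd 0 nil nil) (nd 1 (nd 0 nil nil)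
  nil)) nil)) (nd 1 nil nil)) nil)) (nd 1 (nd 0 (nd 0 (nd 1 nil nil) nil) (nd 1 (nd
  0 (nd 0 (nd 0 (nd 0 nil nil) (nd 1 nil nil)) (nd 1 (nd 0 nil nil) nil)) (nd 1 (nd
  0 (nd 0 nil (nd 1 (nd 1 nil nil) nil)) (nd 1 nil nil)) nil)) nil)) nil)) nil))
  (nd 1 (nd 0 (nd 0 (nd 0 (nd 0 (nd 1 (nd 1 (nd 0 nil nil) nil) nil) (nd 1 (nd 0
  (nd 1 nil nil) nil) nil)) (nd 1 (nd 0 (nd 0 nil (nd 1 (nd 0 nil nil) nil)) (nd 1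
  (nd 1 (nd 0 nil (nd 1 nil nil)) nil) nil)) nil)) (nd 1 (nd 0 (nd 0 (nd 0 (nd 0
  (nd 1 nil nil) (nd 1 nil nil)) (nd 1 nil nil)) (nd 1 (nd 0 (nd 1 nil nil) (nd 1
  nil nil)) nil)) (nd 1 (nd 0 (nd 1 nil nil) (nd 1 (nd 0 (nd 1 nil nil) nil) nil))
  nil)) nil)) (nd 1 (nd 0 (nd 0 (nd 1 (nd 0 nil nil) nil) (nd 1 nil nil)) (nd 1 (nd
  0 (nd 0 (nd 0 nil nil) (nd 1 (nd 0 (nd 1 nil nil) (nd 1 nil nil)) nil)) (nd 1 (nd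
  0 (nd 0 (nd 1 nil nil) (nd 1 (nd 0 nil (nd 1 nil nil)) nil)) nil) nil)) nil))
  nil)) nil)) (nd 1 (nd 0 (nd 0 (nd 0 (nd 0 (nd 1 (nd 0 (nd 0 nil nil) (nd 1 (nd 1
  (nd 0 nil nil) nil) nil)) nil) (nd 1 (nd 1 (nd 0 (nd 0 nil (nd 1 nil nil)) nil)
  nil) nil)) (nd 1 (nd 0 (nd 0 (nd 0 nil nil) (nd 1 (nd 1 (nd 0 nil nil) nil) nil))
  (nd 1 (nd 1 (nd 0 (nd 1 (nd 0 nil nil) nil) nil) nil) nil)) nil)) (nd 1 (nd 0 (nd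
  1 (nd 0 (nd 0 nil (nd 1 nil nil)) (nd 1 (nd 0 (nd 1 nil nil) nil) nil)) nil) (nd
  1 (nd 0 (nd 0 (nd 0 (nd 0 nil nil) (nd 1 (nd 1 nil nil) nil)) (nd 1 (nd 0 (nd 0
  nil nil) (nd 1 nil nil)) nil)) (nd 1 (nd 1 (nd 0 (nd 1 nil nil) (nd 1 nil nil))
  nil) nil)) nil)) nil)) (nd 1 (nd 0 (nd 0 (nd 0 (nd 0 nil (nd 1 (nd 0 (nd 0 nil
  (nd 1 nil nil)) (nd 1 nil nil)) nil)) (nd 1 (nd 0 (nd 0 nil nil) (nd 1 (nd 0 nil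
  (nd 1 (nd 1 nil nil) nil)) nil)) nil)) (nd 1 (nd 0 (nd 0 (nd 1 (nd 0 nil (nd 1
  nil nil)) nil) (nd 1 nil nil)) (nd 1 nil nil)) nil)) (nd 1 (nd 0 (nd 0 (nd 1 nil
  nil) (nd 1 (nd 0 nil (nd 1 (nd 0 nil (nd 1 (nd 1 (nd 0 nil nil) nil) nil)) nil))
  nil)) (nd 1 (nd 0 (nd 1 (nd 1 (nd 0 (nd 0 nil nil) nil) nil) nil) (nd 1 (nd 0 nil
  (nd 1 (nd 1 (nd 0 nil nil) nil) nil)) nil)) nil)) nil)) nil)) nil)) nil)

open Tr in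
def t759 : Tr :=
  nd 0 (nd 0 (nd 0 (nd 2 (nd 2 (nd 0 nil (nd 3 nil nil)) (nd 3 nil nil)) (nd 3 (nd
  0 nil (nd 1 (nd 2 nil nil) (nd 2 (nd 3 nil nil) nil))) nil)) (nd 1 (nd 1 nil (nd
  2 (nd 0 (nd 3 (nd 2 nil nil) nil) (nd 1 (nd 3 (nd 2 (nd 3 nil nil) nil) nil) (nd
  2 (nd 2 nil nil) (nd 3 (nd 0 (nd 2 nil nil) (nd 1 (nd 2 (nd 3 nil nil) nil) nil))
  nil)))) (nd 3 nil nil))) (nd 2 (nd 0 (nd 0 (nd 2 nil (nd 3 (nd 2 (nd 1 nil (nd 3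
  nil nil)) nil) nil)) (nd 1 (nd 3 (nd 2 (nd 1 nil nil) nil) nil) (nd 2 nil (nd 3
  (nd 0 nil (nd 1 nil (nd 2 (nd 1 nil (nd 2 (nd 3 nil nil) (nd 3 nil nil))) nil)))
  nil)))) (nd 1 (nd 0 (nd 1 nil nil) (nd 1 (nd 2 nil (nd 3 (nd 2 nil nil) nil)) (nd
  3 (nd 1 nil (nd 2 (nd 0 (nd 2 nil nil) (nd 1 nil (nd 3 nil nil))) nil)) nil)))
  (nd 2 (nd 0 (nd 2 nil (nd 3 (nd 2 nil nil) nil)) (nd 1 nil (nd 2 nil (nd 3 (nd 1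
  nil (nd 2 (nd 1 (nd 3 nil nil) (nd 2 (nd 0 nil (nd 3 nil nil)) (nd 3 nil nil)))
  nil)) nil)))) (nd 3 (nd 0 (nd 2 (nd 0 (nd 0 nil (nd 1 nil nil)) (nd 1 nil (nd 3
  nil nil))) nil) (nd 1 (nd 2 nil nil) (nd 2 (nd 1 nil nil) nil))) nil)))) (nd 3
  (nd 0 nil (nd 1 nil (nd 2 (nd 1 (nd 3 (nd 2 (nd 1 nil (nd 3 nil nil)) nil) nil)
  (nd 2 nil (nd 3 nil nil))) nil))) nil)))) (nd 1 (nd 0 (nd 1 (nd 3 nil nil) (nd 2
  (nd 0 (nd 3 (nd 2 nil nil) nil) (nd 1 (nd 2 nil nil) (nd 3 nil nil))) (nd 3 (nd 0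
  nil (nd 1 nil (nd 2 nil nil))) nil))) (nd 1 (nd 1 (nd 2 nil (nd 3 (nd 2 nil nil)
  nil)) (nd 2 (nd 1 (nd 3 (nd 2 nil nil) nil) (nd 3 (nd 1 nil nil) nil)) (nd 3 (nd
  2 nil nil) nil))) (nd 2 (nd 0 (nd 3 (nd 1 nil (nd 2 (nd 0 nil nil) nil)) nil) (nd
  1 (nd 0 nil (nd 1 (nd 3 (nd 2 nil nil) nil) (nd 3 (nd 1 (nd 2 (nd 3 nil nil) nil)
  (nd 2 (nd 2 nil (nd 3 nil nil)) nil)) nil))) (nd 2 (nd 0 nil (nd 1 (nd 1 nil nil)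
  (nd 2 (nd 1 nil nil) (nd 3 (nd 2 (nd 1 nil nil) nil) nil)))) (nd 3 (nd 0 (nd 2
  nil nil) nil) nil)))) (nd 3 (nd 2 (nd 1 (nd 2 nil nil) nil) nil) nil)))) (nd 2
  (nd 0 (nd 0 (nd 0 nil (nd 1 (nd 1 (nd 3 nil nil) nil) (nd 3 (nd 0 (nd 2 nil nil)
  (nd 2 (nd 0 (nd 0 nil nil) (nd 1 nil (nd 2 (nd 3 nil nil) (nd 3 (nd 1 nil nil)
  nil)))) nil)) nil))) (nd 1 (nd 3 (nd 2 (nd 1 (nd 1 nil nil) (nd 2 nil (nd 3 nil
  nil))) nil) nil) (nd 2 (nd 0 (nd 0 nil (nd 3 (nd 2 (nd 1 nil nil) nil) nil)) (nd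
  1 (nd 0 nil nil) (nd 2 (nd 3 (nd 2 nil nil) nil) (nd 3 (nd 2 (nd 1 nil (nd 2 (nd
  0 nil nil) (nd 3 nil nil))) nil) nil)))) (nd 3 (nd 0 (nd 2 (nd 2 nil (nd 3 nil
  nil)) nil) (nd 1 nil (nd 2 (nd 2 (nd 0 nil (nd 1 nil (nd 3 nil nil))) nil) nil)))
  nil)))) (nd 1 (nd 1 (nd 0 (nd 0 nil (nd 3 (nd 2 nil nil) nil)) (nd 1 (nd 3 (nd 2
  nil nil) nil) (nd 2 nil (nd 3 (nd 1 (nd 2 (nd 3 nil nil) nil) nil) nil)))) (nd 3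
  (nd 0 nil (nd 1 (nd 0 nil (nd 2 nil nil)) (nd 2 (nd 2 (nd 2 nil (nd 3 nil nil))
  nil) nil))) nil)) (nd 2 (nd 0 (nd 3 nil nil) (nd 1 (nd 0 (nd 2 nil nil) (nd 3 nil
  nil)) (nd 2 (nd 0 (nd 3 (nd 2 nil nil) nil) (nd 1 (nd 3 (nd 2 nil nil) nil) nil))
  (nd 3 (nd 0 (nd 2 (nd 0 (nd 0 nil nil) (nd 2 nil (nd 3 (nd 0 nil nil) nil))) nil)
  (nd 2 (nd 0 (nd 0 nil (nd 1 nil (nd 2 (nd 2 nil nil) (nd 3 nil nil)))) (nd 1 (nd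
  2 nil nil) (nd 2 (nd 0 nil (nd 2 nil nil)) (nd 3 nil nil)))) nil)) nil)))) (nd 3
  (nd 0 (nd 1 (nd 2 (nd 0 nil (nd 1 (nd 2 nil nil) nil)) nil) (nd 2 (nd 0 (nd 0 nil
  nil) (nd 1 (nd 2 nil nil) (nd 3 (nd 0 (nd 1 nil nil) (nd 1 (nd 2 nil nil) nil))
  nil))) nil)) (nd 1 (nd 1 (nd 2 (nd 2 (nd 3 nil nil) nil) nil) (nd 2 (nd 0 (nd 0
  (nd 0 nil nil) (nd 1 nil (nd 3 nil nil))) nil) (nd 3 nil nil))) (nd 2 (nd 0 nil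
  nil) nil))) nil)))) (nd 3 (nd 1 (nd 1 (nd 2 nil (nd 3 nil nil)) (nd 2 (nd 1 nil
  (nd 3 (nd 0 nil nil) nil)) nil)) (nd 2 (nd 0 (nd 0 nil (nd 2 nil (nd 3 (nd 2 nil
  nil) nil))) (nd 1 (nd 0 (nd 3 (nd 2 nil nil) nil) (nd 1 (nd 3 (nd 2 nil nil) nil)
  (nd 3 (nd 2 (nd 1 nil (nd 3 nil nil)) nil) nil))) (nd 3 (nd 0 (nd 0 (nd 2 nil
  nil) (nd 1 nil (nd 2 (nd 0 nil (nd 1 nil nil)) nil))) nil) nil))) nil)) nil))))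
  (nd 1 (nd 0 (nd 1 (nd 0 nil (nd 2 (nd 0 nil (nd 2 nil (nd 3 (nd 2 (nd 2 nil nil)
  nil) nil))) nil)) (nd 2 (nd 0 (nd 1 (nd 0 nil nil) (nd 3 nil nil)) (nd 2 (nd 0
  nil (nd 2 nil (nd 3 (nd 2 (nd 3 nil nil) nil) nil))) (nd 3 (nd 1 (nd 0 (nd 2 nil
  nil) (nd 2 (nd 3 nil nil) nil)) (nd 2 (nd 2 (nd 0 nil (nd 1 nil (nd 2 (nd 0 nil
  nil) nil))) nil) nil)) nil))) (nd 3 (nd 0 (nd 2 nil nil) (nd 2 (nd 1 (nd 3 nil
  nil) (nd 3 nil nil)) nil)) nil))) (nd 1 (nd 0 (nd 1 nil (nd 2 (nd 0 nil nil)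
  nil)) (nd 1 (nd 0 (nd 2 (nd 2 nil nil) nil) (nd 1 (nd 2 nil nil) nil)) (nd 2 (nd
  0 (nd 2 nil (nd 3 (nd 2 (nd 0 nil (nd 2 nil (nd 3 nil nil))) nil) nil)) (nd 1 (nd
  0 (nd 3 nil nil) (nd 1 nil (nd 3 (nd 2 (nd 0 nil (nd 1 nil (nd 3 nil nil))) nil)
  nil))) (nd 3 (nd 0 (nd 2 (nd 1 nil (nd 3 nil nil)) nil) (nd 1 (nd 2 nil nil)
  nil)) nil))) nil))) (nd 2 (nd 0 (nd 0 (nd 0 nil (nd 1 (nd 3 nil nil) (nd 3 (nd 2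
  (nd 0 nil (nd 2 nil (nd 3 nil nil))) nil) nil))) (nd 1 (nd 2 nil (nd 3 (nd 1 (nd
  2 nil nil) (nd 2 (nd 1 nil nil) nil)) nil)) (nd 2 nil (nd 3 (nd 0 (nd 2 (nd 0 nil
  nil) nil) (nd 1 (nd 1 (nd 2 nil nil) (nd 2 (nd 2 (nd 0 nil nil) nil) nil)) (nd 2
  (nd 2 nil nil) nil))) nil)))) (nd 2 (nd 0 (nd 3 (nd 2 (nd 3 nil nil) nil) nil)
  (nd 2 (nd 3 (nd 0 (nd 2 nil nil) (nd 2 (nd 3 nil nil) nil)) nil) (nd 3 (nd 0 (nd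
  2 (nd 1 nil (nd 2 nil nil)) nil) (nd 2 (nd 0 (nd 2 nil (nd 3 nil nil)) (nd 1 (nd
  2 nil (nd 3 nil nil)) (nd 2 (nd 2 nil nil) (nd 3 (nd 1 nil nil) nil)))) nil))
  nil))) (nd 3 (nd 0 (nd 0 (nd 2 (nd 2 nil (nd 3 nil nil)) nil) (nd 1 (nd 2 (nd 3
  nil nil) nil) (nd 2 (nd 0 (nd 0 (nd 2 nil nil) (nd 1 nil (nd 3 nil nil))) (nd 2
  (nd 0 nil (nd 1 nil (nd 3 nil nil))) (nd 3 (nd 0 nil (nd 1 nil nil)) nil)))
  nil))) (nd 1 (nd 0 (nd 2 nil nil) (nd 1 (nd 1 (nd 2 nil nil) nil) (nd 2 (nd 2 (nd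
  0 nil nil) (nd 3 nil nil)) (nd 3 nil nil)))) (nd 2 (nd 0 (nd 2 nil nil) (nd 1 nil
  (nd 2 (nd 0 (nd 2 nil (nd 3 nil nil)) (nd 1 (nd 1 (nd 3 nil nil) (nd 2 nil (nd 3
  (nd 2 nil nil) nil))) (nd 3 (nd 1 nil nil) nil))) nil))) nil))) nil))) (nd 3 (nd 0
  (nd 1 nil (nd 2 (nd 3 nil nil) nil)) (nd 1 (nd 0 nil nil) (nd 2 (nd 0 (nd 0 nil
  (nd 3 (nd 2 (nd 0 nil (nd 3 nil nil)) nil) nil)) (nd 1 (nd 2 nil (nd 3 (nd 2 (nd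
  0 nil nil) nil) nil)) (nd 2 (nd 0 nil nil) (nd 3 (nd 0 (nd 2 (nd 1 nil (nd 2 nil
  nil)) nil) (nd 2 (nd 2 nil nil) nil)) nil)))) nil))) nil)))) (nd 2 (nd 0 (nd 0 (nd
  1 nil nil) (nd 2 (nd 0 (nd 0 nil (nd 2 (nd 0 nil nil) (nd 3 (nd 1 nil nil) nil)))
  (nd 1 (nd 1 (nd 3 nil nil) nil) (nd 2 (nd 1 nil (nd 2 nil (nd 3 (nd 2 (nd 2 nil
  nil) nil) nil))) (nd 3 (nd 0 (nd 2 nil nil) (nd 1 nil (nd 2 (nd 2 (nd 0 nil nil)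
  nil) nil))) nil)))) (nd 3 (nd 1 nil nil) nil))) (nd 1 (nd 0 (nd 2 nil (nd 3 nil
  nil)) (nd 1 (nd 2 (nd 3 nil nil) (nd 3 nil nil)) (nd 2 nil nil))) (nd 2 (nd 0 (nd
  0 nil (nd 1 (nd 0 nil (nd 2 nil nil)) (nd 2 (nd 0 nil (nd 1 nil (nd 2 (nd 3 (nd 2
  nil nil) nil) (nd 3 (nd 2 nil nil) nil)))) (nd 3 (nd 0 (nd 2 (nd 3 nil nil) nil)
  (nd 2 (nd 2 (nd 3 nil nil) nil) nil)) nil)))) (nd 1 (nd 0 (nd 0 nil (nd 1 nil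
  nil)) (nd 1 (nd 3 (nd 2 (nd 1 nil nil) nil) nil) (nd 3 (nd 1 (nd 2 nil nil) nil)
  nil))) (nd 2 (nd 3 (nd 2 (nd 0 (nd 1 nil nil) (nd 1 (nd 0 nil (nd 2 nil nil)) (nd
  2 (nd 0 nil (nd 2 nil nil)) (nd 3 nil nil)))) nil) nil) (nd 3 (nd 0 (nd 0 (nd 2
  (nd 0 nil (nd 1 nil nil)) nil) (nd 1 (nd 2 nil nil) (nd 2 (nd 0 nil (nd 1 nil
  (nd 2 (nd 0 nil nil) (nd 3 (nd 0 nil (nd 1 nil nil)) nil)))) nil))) (nd 1 (nd 2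
  (nd 2 (nd 0 nil (nd 1 nil nil)) nil) nil) nil)) nil)))) nil))) (nd 3 (nd 0 (nd 0
  (nd 1 (nd 2 nil nil) nil) (nd 1 (nd 2 (nd 1 nil (nd 2 nil (nd 3 nil nil))) (nd 3
  nil nil)) (nd 3 (nd 1 (nd 2 nil nil) (nd 2 (nd 2 nil (nd 3 nil nil)) nil)) nil)))
  (nd 1 (nd 2 (nd 1 (nd 3 (nd 2 nil nil) nil) (nd 3 (nd 1 (nd 2 (nd 3 nil nil) nil)
  (nd 2 (nd 2 (nd 3 nil nil) nil) nil)) nil)) nil) (nd 2 (nd 0 (nd 0 (nd 1 nil nil)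
  (nd 2 (nd 1 (nd 3 (nd 2 nil nil) nil) (nd 2 nil (nd 3 (nd 2 nil nil) nil))) (nd 3
  (nd 0 nil (nd 2 (nd 0 nil (nd 1 (nd 3 nil nil) (nd 2 (nd 2 nil nil) (nd 3 nil
  nil)))) nil)) nil))) (nd 1 (nd 0 (nd 3 nil nil) (nd 1 (nd 3 (nd 2 nil nil) nil)
  (nd 2 (nd 2 nil nil) (nd 3 (nd 1 (nd 2 nil nil) (nd 2 (nd 1 (nd 3 (nd 0 nil nil)
  nil) (nd 3 (nd 1 nil nil) nil)) nil)) nil)))) (nd 3 (nd 0 (nd 0 (nd 2 (nd 1 nil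
  nil) nil) (nd 1 (nd 2 (nd 0 nil nil) nil) (nd 2 (nd 0 nil (nd 1 (nd 3 nil nil)
  (nd 2 (nd 1 nil (nd 2 nil nil)) (nd 3 nil nil)))) nil))) (nd 1 (nd 1 (nd 2 nil
  nil) (nd 2 (nd 1 (nd 1 nil nil) nil) nil)) (nd 2 (nd 0 nil (nd 1 (nd 2 nil nil)
  (nd 2 (nd 0 (nd 1 nil nil) (nd 1 (nd 0 nil (nd 1 nil nil)) (nd 2 nil (nd 3 nil
  nil)))) nil))) nil))) nil))) nil))) nil)))

open Tr in
def t552 : Tr :=
  nd 2 (nd 0 (nd 0 (nd 0 (nd 0 nil (nd 1 nil (nd 3 (nd 2 (nd 1 nil (nd 3 (nd 0 nil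
  (nd 1 nil nil)) nil)) nil) nil))) nil) (nd 1 (nd 0 nil (nd 1 (nd 1 (nd 3 nil nil)
  (nd 3 (nd 2 (nd 1 nil (nd 2 (nd 0 nil (nd 1 nil nil)) (nd 3 nil nil))) nil) nil))
  (nd 2 nil (nd 3 (nd 2 (nd 1 (nd 1 (nd 1 nil (nd 3 nil nil)) (nd 3 (nd 0 nil (nd 1
  nil nil)) nil)) (nd 2 (nd 0 (nd 0 nil nil) (nd 1 (nd 1 nil (nd 2 nil nil)) (nd 2
  (nd 1 nil (nd 3 nil nil)) (nd 3 (nd 2 nil nil) nil)))) (nd 3 (nd 0 (nd 2 nil nil)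
  (nd 1 (nd 2 nil nil) nil)) nil))) nil) nil)))) (nd 2 (nd 1 (nd 3 (nd 2 (nd 1 (nd 1
  nil (nd 3 nil nil)) (nd 3 nil nil)) nil) nil) (nd 3 (nd 2 (nd 1 (nd 0 (nd 1 nil
  nil) (nd 1 (nd 0 nil nil) (nd 3 nil nil))) (nd 2 (nd 0 nil (nd 1 nil (nd 2 (nd 1
  nil (nd 2 nil (nd 3 nil nil))) nil))) (nd 3 (nd 0 nil (nd 1 nil nil)) nil))) nil)
  nil)) (nd 3 (nd 0 (nd 1 (nd 2 (nd 0 (nd 0 nil nil) (nd 1 nil (nd 3 nil nil)))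
  nil) (nd 2 (nd 0 (nd 0 nil (nd 1 (nd 0 nil (nd 1 nil (nd 3 nil nil))) (nd 2 (nd 0
  nil (nd 1 nil (nd 3 nil nil))) (nd 3 (nd 0 nil (nd 2 nil nil)) nil)))) (nd 1 (nd
  1 nil (nd 2 (nd 0 nil nil) (nd 3 (nd 1 nil nil) nil))) (nd 2 (nd 0 nil (nd 1 (nd
  1 nil nil) (nd 2 (nd 1 nil (nd 3 nil nil)) (nd 3 (nd 0 nil nil) nil)))) (nd 3 (nd
  0 (nd 2 nil nil) (nd 1 nil nil)) nil)))) nil)) (nd 2 (nd 0 (nd 0 (nd 0 (nd 1 nil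
  nil) (nd 2 nil nil)) (nd 1 (nd 0 nil (nd 1 (nd 3 nil nil) nil)) (nd 2 (nd 1 (nd 0
  nil (nd 3 nil nil)) (nd 3 nil nil)) (nd 3 (nd 0 nil (nd 1 (nd 0 nil (nd 1 nil
  nil)) (nd 2 nil nil))) nil)))) (nd 1 (nd 1 (nd 0 (nd 2 nil nil) (nd 1 nil (nd 2
  (nd 2 nil (nd 3 nil nil)) (nd 3 (nd 1 nil nil) nil)))) (nd 2 (nd 0 (nd 1 nil nil)
  (nd 2 nil nil)) (nd 3 (nd 1 (nd 0 nil nil) (nd 2 (nd 1 nil nil) nil)) nil))) (nd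
  2 (nd 0 (nd 0 nil (nd 2 (nd 1 nil nil) nil)) (nd 1 (nd 0 nil (nd 1 (nd 3 nil nil)
  (nd 2 nil nil))) (nd 2 (nd 0 (nd 0 nil (nd 1 nil (nd 3 nil nil))) (nd 1 (nd 3 nil
  nil) (nd 3 nil nil))) (nd 3 (nd 0 nil (nd 2 (nd 3 nil nil) nil)) nil)))) (nd 3
  (nd 0 (nd 1 nil (nd 2 nil nil)) (nd 1 (nd 1 (nd 2 nil nil) (nd 2 nil (nd 3 nil
  nil))) nil)) nil)))) nil)) nil)))) (nd 1 (nd 0 (nd 1 nil (nd 3 (nd 0 (nd 2 (nd 1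
  nil (nd 2 (nd 3 nil nil) (nd 3 (nd 0 nil nil) nil))) nil) (nd 2 (nd 0 (nd 0 nil
  (nd 2 (nd 1 nil (nd 3 nil nil)) nil)) (nd 1 (nd 1 (nd 3 nil nil) (nd 2 nil (nd 3
  nil nil))) (nd 3 (nd 1 (nd 2 nil nil) nil) nil))) nil)) nil)) (nd 1 (nd 0 (nd 1
  (nd 3 (nd 2 nil nil) nil) (nd 3 (nd 2 (nd 1 (nd 1 nil nil) nil) nil) nil)) (nd 3
  (nd 2 (nd 1 (nd 0 nil (nd 1 nil nil)) (nd 2 (nd 0 (nd 0 nil nil) (nd 1 (nd 0 nil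
  (nd 1 nil nil)) (nd 2 nil (nd 3 (nd 0 nil nil) nil)))) (nd 3 (nd 0 (nd 2 nil nil)
  (nd 1 (nd 1 nil nil) nil)) nil))) nil) nil)) (nd 2 (nd 1 nil (nd 2 nil (nd 3 (nd
  2 (nd 0 (nd 0 nil (nd 2 nil (nd 3 nil nil))) (nd 1 (nd 1 nil nil) (nd 3 (nd 0 (nd
  2 nil nil) nil) nil))) nil) nil))) (nd 3 (nd 1 (nd 0 (nd 2 (nd 0 (nd 0 nil (nd 1
  nil nil)) nil) nil) (nd 2 (nd 0 (nd 0 nil (nd 1 nil (nd 2 nil (nd 3 (nd 2 nil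
  nil) nil)))) (nd 1 (nd 1 nil (nd 3 nil nil)) (nd 3 nil nil))) nil)) (nd 2 (nd 0
  (nd 0 nil (nd 1 (nd 1 nil (nd 2 (nd 2 nil nil) (nd 3 (nd 0 nil nil) nil))) (nd 2
  (nd 0 nil (nd 3 nil nil)) (nd 3 (nd 0 nil (nd 2 nil nil)) nil)))) (nd 1 (nd 1 (nd
  0 nil (nd 1 nil (nd 3 nil nil))) (nd 2 (nd 2 nil (nd 3 nil nil)) (nd 3 (nd 2 (nd
  3 nil nil) nil) nil))) (nd 2 (nd 0 (nd 0 (nd 0 nil (nd 1 nil nil)) (nd 2 nil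
  nil)) (nd 1 (nd 0 nil (nd 1 nil nil)) (nd 2 (nd 1 nil (nd 3 nil nil)) (nd 3 (nd 0
  nil (nd 1 nil (nd 2 nil nil))) nil)))) (nd 3 (nd 0 (nd 2 nil nil) (nd 1 (nd 0 nil
  (nd 1 nil (nd 2 nil (nd 3 nil nil)))) nil)) nil)))) nil)) nil)))) (nd 3 (nd 0 (nd
  2 (nd 0 (nd 0 (nd 0 nil (nd 3 nil nil)) (nd 1 (nd 0 nil (nd 1 nil nil)) (nd 2 (nd
  1 nil (nd 3 nil nil)) (nd 3 (nd 0 nil (nd 2 (nd 3 nil nil) nil)) nil)))) (nd 1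
  (nd 0 (nd 1 (nd 1 nil nil) nil) (nd 3 (nd 0 (nd 2 nil nil) (nd 1 nil (nd 2 nil
  nil))) nil)) (nd 2 (nd 0 (nd 0 nil nil) (nd 1 (nd 0 nil (nd 1 nil nil)) (nd 2 (nd
  1 nil (nd 3 nil nil)) (nd 3 (nd 0 nil (nd 2 nil nil)) nil)))) (nd 3 (nd 1 (nd 2
  nil (nd 3 nil nil)) nil) nil)))) nil) (nd 1 (nd 0 (nd 2 (nd 1 (nd 1 nil (nd 2 (nd
  2 nil nil) nil)) (nd 3 nil nil)) nil) (nd 2 (nd 1 (nd 1 nil (nd 2 (nd 0 nil (nd 1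
  nil (nd 2 nil nil))) (nd 3 (nd 1 nil nil) nil))) (nd 2 (nd 0 (nd 1 nil nil) (nd 1
  (nd 0 nil (nd 1 nil (nd 2 nil nil))) (nd 2 (nd 1 nil nil) (nd 3 (nd 0 (nd 3 nil
  nil) (nd 2 nil nil)) nil)))) (nd 3 (nd 0 (nd 1 nil (nd 2 nil nil)) (nd 1 (nd 2
  nil nil) nil)) nil))) nil)) (nd 2 (nd 0 (nd 0 (nd 2 (nd 0 nil (nd 1 nil nil))
  nil) (nd 1 (nd 1 nil (nd 2 (nd 1 nil nil) nil)) (nd 2 (nd 0 (nd 0 nil (nd 1 nil
  nil)) (nd 1 (nd 3 nil nil) (nd 2 (nd 2 (nd 2 nil nil) (nd 3 nil nil)) (nd 3 (nd 0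
  nil nil) nil)))) (nd 3 (nd 0 nil (nd 2 (nd 3 nil nil) nil)) nil)))) (nd 1 (nd 1
  (nd 1 nil (nd 2 (nd 1 nil nil) nil)) (nd 2 (nd 0 (nd 0 nil (nd 2 nil nil)) (nd 1
  (nd 0 nil (nd 2 nil nil)) (nd 2 (nd 3 nil nil) (nd 3 nil nil)))) (nd 3 nil nil)))
  (nd 2 (nd 0 (nd 0 (nd 0 nil nil) (nd 2 (nd 1 nil nil) nil)) (nd 1 (nd 0 (nd 3 nil
  nil) (nd 1 (nd 0 nil (nd 3 nil nil)) (nd 2 (nd 0 nil nil) (nd 3 (nd 0 (nd 3 nil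
  nil) (nd 1 nil nil)) nil)))) (nd 2 (nd 1 (nd 0 nil (nd 1 nil (nd 2 nil (nd 3 nil
  nil)))) (nd 3 (nd 0 nil nil) nil)) (nd 3 (nd 0 (nd 1 nil (nd 2 nil nil)) (nd 1
  nil (nd 2 nil nil))) nil)))) (nd 3 (nd 1 (nd 2 nil (nd 3 (nd 2 nil nil) nil))
  nil) nil)))) nil))) nil))) (nd 3 (nd 2 (nd 0 (nd 0 (nd 0 nil nil) (nd 1 (nd 0 nil
  (nd 1 (nd 1 nil (nd 3 nil nil)) (nd 3 (nd 2 (nd 1 nil (nd 2 nil nil)) nil) nil)))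
  (nd 2 (nd 1 nil (nd 3 (nd 2 (nd 1 nil nil) nil) nil)) (nd 3 (nd 0 (nd 2 (nd 1 nil
  (nd 2 nil nil)) nil) (nd 2 (nd 0 (nd 0 nil nil) (nd 2 (nd 0 nil (nd 1 nil (nd 2
  nil nil))) (nd 3 (nd 0 nil (nd 1 nil nil)) nil))) nil)) nil)))) (nd 1 (nd 1 (nd 0
  nil (nd 3 (nd 2 nil nil) nil)) (nd 2 (nd 2 nil nil) (nd 3 (nd 1 (nd 2 (nd 1 nil
  (nd 3 nil nil)) nil) (nd 2 (nd 0 (nd 0 nil (nd 3 nil nil)) (nd 2 (nd 1 nil (nd 2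
  nil nil)) (nd 3 nil nil))) nil)) nil))) (nd 3 (nd 0 (nd 2 (nd 1 nil (nd 2 (nd 0
  nil (nd 2 nil nil)) (nd 3 (nd 1 nil nil) nil))) nil) (nd 1 (nd 2 (nd 1 nil (nd 2
  (nd 0 nil (nd 3 nil nil)) (nd 3 (nd 1 nil nil) nil))) nil) nil)) nil))) nil) nil)

/-! ### Reaching octads -/

/-- Moves on masks. -/
def stepM (gen : ℕ → ℕ) (g m : ℕ) : ℕ := pimg (gen g) m

/-- The key of a mask: its low 12 bits. -/
def keyM (m : ℕ) : ℕ := m % 4096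

/-- Check that all code words of weight 8 satisfying `p` have their key in the set `S`. -/
def chkM (p : ℕ → Bool) (S : ℕ) : Bool :=
  allR 12 0 fun i => force (enc i) fun m => !(Nat.beq (popcount m) 8 && p m) || S.testBit i

theorem exists_of_tree (gen : ℕ → ℕ) (N : Subgroup (Equiv.Perm GolayPt)) (hN : N ≤ M24)
    (hgen : ∀ g, ∃ h : isPerm (gen g) = true, permOf (gen g) h ∈ N)
    (m0 : ℕ) (hm0 : isCode m0 = true) (t : Tr) (p : ℕ → Bool)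
    (hchk : chkM p (visit (stepM gen) keyM t m0 (1 <<< keyM m0)) = true)
    (O : Finset GolayPt) (hO : O ∈ octads) (hp : p (maskOf O) = true) :
    ∃ σ ∈ N, σ • fin m0 = O := by
  obtain ⟨hc, h8⟩ := (mem_octads_iff O).1 hO
  set m := maskOf O with hm
  have hPstep : ∀ g y, (isCode y = true ∧ ∃ σ ∈ N, σ • fin m0 = fin y) →
      (isCode (stepM gen g y) = true ∧ ∃ σ ∈ N, σ • fin m0 = fin (stepM gen g y)) := by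
    rintro g y ⟨hy, σ, hσ, h⟩
    obtain ⟨hg, hgN⟩ := hgen g
    have h1 : fin (stepM gen g y) = permOf (gen g) hg • fin y := (smul_fin hg y).symm
    refine ⟨?_, permOf (gen g) hg * σ, N.mul_mem hgN hσ, ?_⟩
    · have h2 : fin y ∈ supports (golayCode : Set (GolayPt → ZMod 2)) :=
        (fin_mem_supports_iff (isCode_lt hy)).2 hy
      have h3 := (smul_mem_supports (hN hgN)).2 h2
      rw [← h1] at h3
      exact (fin_mem_supports_iff (pimg_lt hg y)).1 h3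
    · rw [mul_smul, h, h1]
  have h0 := allR_zero_spec hchk (m % 4096) (Nat.mod_lt _ (by norm_num))
  simp only [force_eq] at h0
  have henc : enc (m % 4096) = m := by rw [enc_mod]; exact isCode_iff.1 hc
  rw [henc, h8, hp] at h0
  have h1 : (visit (stepM gen) keyM t m0 (1 <<< keyM m0)).testBit (m % 4096) = true := by
    simpa using h0
  have hinit : isCode m0 = true ∧ ∃ σ ∈ N, σ • fin m0 = fin m0 :=
    ⟨hm0, 1, N.one_mem, one_smul _ _⟩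
  have h2 : ∃ y, (isCode y = true ∧ ∃ σ ∈ N, σ • fin m0 = fin y) ∧ keyM y = m % 4096 := by
    rcases visit_spec (stepM gen) keyM _ hPstep t m0 _ hinit _ h1 with h | h
    · rw [Nat.one_shiftLeft, Nat.testBit_two_pow] at h
      exact ⟨m0, hinit, of_decide_eq_true h⟩
    · exact h
  obtain ⟨y, ⟨hy, σ, hσ, hσy⟩, hk⟩ := h2
  refine ⟨σ, hσ, ?_⟩
  have : y = m := by
    have e1 : enc y = y := isCode_iff.1 hy
    have e2 : enc (y % 4096) = enc y := enc_mod y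
    have hk' : y % 4096 = m % 4096 := hk
    rw [← e1, ← e2, hk', henc]
  rw [hσy, this, hm, fin_maskOf]

/-! ### Reaching pairs of points -/

/-- Moves on pairs of indices. -/
def stepP (gen : ℕ → ℕ) (g s : ℕ) : ℕ := 32 * papp (gen g) (s / 32) + papp (gen g) (s % 32)

/-- The identity as a key. -/
def keyP (m : ℕ) : ℕ := m

/-- Check that all pairs of distinct indices satisfying `p` are in the set `S`. -/
def chkP (p : ℕ → Bool) (S : ℕ) : Bool :=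
  allR 10 0 fun s => !(Nat.blt (s / 32) 24 && (Nat.blt (s % 32) 24 && (p (s / 32) && (p (s % 32) &&
    !Nat.beq (s / 32) (s % 32))))) || S.testBit s

theorem exists_of_treeP (gen : ℕ → ℕ) (N : Subgroup (Equiv.Perm GolayPt))
    (hgen : ∀ g, ∃ h : isPerm (gen g) = true, permOf (gen g) h ∈ N)
    (a b : GolayPt) (t : Tr) (p : ℕ → Bool)
    (hchk : chkP p (visit (stepP gen) keyP t (32 * idx a + idx b)
      (1 <<< keyP (32 * idx a + idx b))) = true)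
    (c d : GolayPt) (hcd : c ≠ d) (hc : p (idx c) = true) (hd : p (idx d) = true) :
    ∃ σ ∈ N, σ a = c ∧ σ b = d := by
  have hPstep : ∀ g s, (∃ σ ∈ N, s = 32 * idx (σ a) + idx (σ b)) →
      (∃ σ ∈ N, stepP gen g s = 32 * idx (σ a) + idx (σ b)) := by
    rintro g s ⟨σ, hσ, h⟩
    obtain ⟨hg, hgN⟩ := hgen g
    refine ⟨permOf (gen g) hg * σ, N.mul_mem hgN hσ, ?_⟩
    have hb := idx_lt (σ b)
    have h1 : s / 32 = idx (σ a) := by omega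
    have h2 : s % 32 = idx (σ b) := by omega
    rw [Equiv.Perm.mul_apply, Equiv.Perm.mul_apply, idx_permOf, idx_permOf, stepP, h1, h2]
  have hla := idx_lt c
  have hlb := idx_lt d
  have h0 := allR_zero_spec hchk (32 * idx c + idx d) (by omega)
  have e1 : (32 * idx c + idx d) / 32 = idx c := by omega
  have e2 : (32 * idx c + idx d) % 32 = idx d := by omega
  have e3 : Nat.blt (idx c) 24 = true := by rw [Nat.blt_eq]; exact hla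
  have e4 : Nat.blt (idx d) 24 = true := by rw [Nat.blt_eq]; exact hlb
  have e5 : Nat.beq (idx c) (idx d) = false := by
    rw [Bool.eq_false_iff]
    intro h
    exact hcd (idx_injective (Nat.eq_of_beq_eq_true h))
  simp only [e1, e2, e3, e4, e5, hc, hd, Bool.not_false, Bool.and_true,
    Bool.not_true, Bool.false_or] at h0
  have hinit : ∃ σ ∈ N, 32 * idx a + idx b = 32 * idx (σ a) + idx (σ b) :=
    ⟨1, N.one_mem, rfl⟩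
  have h2 : ∃ y, (∃ σ ∈ N, y = 32 * idx (σ a) + idx (σ b)) ∧ keyP y = 32 * idx c + idx d := by
    rcases visit_spec (stepP gen) keyP _ hPstep t _ _ hinit _ h0 with h | h
    · rw [Nat.one_shiftLeft, Nat.testBit_two_pow] at h
      exact ⟨_, hinit, of_decide_eq_true h⟩
    · exact h
  obtain ⟨y, ⟨σ, hσ, hσy⟩, hk⟩ := h2
  refine ⟨σ, hσ, ?_⟩
  have hk' : y = 32 * idx c + idx d := hk
  have l1 := idx_lt (σ a)
  have l2 := idx_lt (σ b)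
  constructor
  · apply idx_injective; omega
  · apply idx_injective; omega

/-! ### The two groups -/

/-- The pointwise stabiliser of `none` and `some 0` in `M24`. -/
def N22 : Subgroup (Equiv.Perm GolayPt) :=
  M24 ⊓ (MulAction.stabilizer (Equiv.Perm GolayPt) (none : GolayPt) ⊓
    MulAction.stabilizer (Equiv.Perm GolayPt) (some 0 : GolayPt))

theorem mem_N22 {σ : Equiv.Perm GolayPt} :
    σ ∈ N22 ↔ σ ∈ M24 ∧ σ none = none ∧ σ (some 0) = some 0 := Iff.rfl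

theorem N22_le : N22 ≤ M24 := inf_le_left

theorem gen22_mem (g : ℕ) : ∃ h : isPerm (gen22 g) = true, permOf (gen22 g) h ∈ N22 := by
  refine ⟨isPerm_gen22 g, mem_N22.2 ⟨permOf_mem_M24 _ (isAut_gen22 g), ?_, ?_⟩⟩
  · apply idx_injective
    rw [idx_permOf]
    exact (papp_gen22 g).1
  · apply idx_injective
    rw [idx_permOf]
    exact (papp_gen22 g).2

theorem gen24_mem (g : ℕ) : ∃ h : isPerm (gen24 g) = true, permOf (gen24 g) h ∈ M24 :=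
  ⟨isPerm_gen24 g, permOf_mem_M24 _ (isAut_gen24 g)⟩

/-! ### The transitivity statements -/

/-- The standard octad containing `none` and `some 0`. -/
def O2 : Finset GolayPt := fin 13062145

/-- The standard octad containing neither `none` nor `some 0`. -/
def O3 : Finset GolayPt := fin 4845570

theorem O2_mem : O2 ∈ octads :=
  (fin_mem_octads_iff (by norm_num)).2 (by decide +kernel)

theorem O3_mem : O3 ∈ octads :=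
  (fin_mem_octads_iff (by norm_num)).2 (by decide +kernel)

theorem mem_iff_testBit (O : Finset GolayPt) (p : GolayPt) :
    p ∈ O ↔ (maskOf O).testBit (idx p) = true := by
  rw [testBit_maskOf, decide_eq_true_iff]

theorem exists_M24_octad {O : Finset GolayPt} (hO : O ∈ octads) : ∃ σ ∈ M24, σ • O2 = O :=
  exists_of_tree gen24 M24 le_rfl gen24_mem _ (by decide +kernel) t759 (fun _ => true)
    (by decide +kernel) O hO rfl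

theorem exists_N22_octad_in {O : Finset GolayPt} (hO : O ∈ octads) (h1 : none ∈ O)
    (h2 : some 0 ∈ O) : ∃ σ ∈ N22, σ • O2 = O :=
  exists_of_tree gen22 N22 N22_le gen22_mem _ (by decide +kernel) t77
    (fun m => m.testBit 23 && m.testBit 0) (by decide +kernel) O hO (by
      rw [mem_iff_testBit] at h1 h2
      rw [Bool.and_eq_true]
      exact ⟨h1, h2⟩)

theorem exists_N22_octad_out {O : Finset GolayPt} (hO : O ∈ octads) (h1 : none ∉ O)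
    (h2 : some 0 ∉ O) : ∃ σ ∈ N22, σ • O3 = O :=
  exists_of_tree gen22 N22 N22_le gen22_mem _ (by decide +kernel) t330
    (fun m => !m.testBit 23 && !m.testBit 0) (by decide +kernel) O hO (by
      rw [mem_iff_testBit, Bool.not_eq_true] at h1 h2
      show (!(maskOf O).testBit 23 && !(maskOf O).testBit 0) = true
      rw [show (maskOf O).testBit 23 = false from h1, show (maskOf O).testBit 0 = false from h2]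
      rfl)

theorem exists_M24_pair {p q : GolayPt} (hpq : p ≠ q) :
    ∃ σ ∈ M24, σ none = p ∧ σ (some 0) = q :=
  exists_of_treeP gen24 M24 gen24_mem none (some 0) t552 (fun _ => true)
    (by decide +kernel) p q hpq rfl rfl

theorem exists_N22_pair {p q : GolayPt} (hpq : p ≠ q) (hp1 : p ≠ none) (hp2 : p ≠ some 0)
    (hq1 : q ≠ none) (hq2 : q ≠ some 0) : ∃ σ ∈ N22, σ (some 1) = p ∧ σ (some 2) = q := by
  have key : ∀ r : GolayPt, r ≠ none → r ≠ some 0 →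
      (!Nat.beq (idx r) 23 && !Nat.beq (idx r) 0) = true := by
    decide +kernel
  exact exists_of_treeP gen22 N22 gen22_mem (some 1) (some 2) t462
    (fun i => !Nat.beq i 23 && !Nat.beq i 0)
    (by decide +kernel) p q hpq (key p hp1 hp2) (key q hq1 hq2)

theorem exists_N22_point {p : GolayPt} (hp1 : p ≠ none) (hp2 : p ≠ some 0) :
    ∃ σ ∈ N22, σ (some 1) = p := by
  have : ∃ q : GolayPt, p ≠ q ∧ q ≠ none ∧ q ≠ some 0 := by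
    revert p; decide
  obtain ⟨q, h1, h2, h3⟩ := this
  obtain ⟨σ, hσ, h, -⟩ := exists_N22_pair h1 hp1 hp2 h2 h3
  exact ⟨σ, hσ, h⟩

end Cfsg.Agent.SporadicStructure.MonoPerms
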