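import Cfsg.Agent.SporadicStructure.MinShapes
import Cfsg.Agent.SporadicStructure.MonoPerms

/-!
# Orbits of the monomial group on the vectors of sum of squares 32
-/

set_option autoImplicit false
open scoped Pointwise
open Cfsg

namespace Cfsg.Agent.SporadicStructure.MonoSigns

open Cfsg.Agent.SporadicA.GolayBase Cfsg.Agent.SporadicA.GolayPerm
open Cfsg.Agent.SporadicStructure.MinShapes Cfsg.Agent.SporadicStructure.MonoPerms
open Cfsg.Agent.SporadicStructure.Co0Base

/-- The supports of the code words. -/
abbrev SC : Set (Finset GolayPt) := supports (golayCode : Set (GolayPt → ZMod 2))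

/-! ### Even subsets of an octad as traces of code words -/

theorem even_induction {α : Type*} [DecidableEq α] (O : Finset α) (o : α)
    (P : Finset α → Prop) (h0 : P ∅) (hs : ∀ S T, P S → P T → P (symmDiff S T))
    (hp : ∀ j ∈ O, j ≠ o → P {o, j}) :
    ∀ S ⊆ O, (Even S.card → P S) ∧ (¬ Even S.card → P (symmDiff S {o})) := by
  intro S
  induction S using Finset.induction_on with
  | empty => intro _; exact ⟨fun _ => h0, fun h => absurd (by simp) h⟩
  | insert j S hj ih =>
    intro hsub
    obtain ⟨ih1, ih2⟩ := ih (fun x hx => hsub (Finset.mem_insert_of_mem hx))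
    have hjO : j ∈ O := hsub (Finset.mem_insert_self j S)
    have hcard : (insert j S).card = S.card + 1 := Finset.card_insert_of_notMem hj
    have hins : insert j S = symmDiff S {j} := by
      ext x
      simp only [Finset.mem_insert, Finset.mem_symmDiff, Finset.mem_singleton]
      constructor
      · rintro (rfl | h)
        · exact Or.inr ⟨rfl, hj⟩
        · exact Or.inl ⟨h, fun he => hj (he ▸ h)⟩
      · rintro (⟨h, -⟩ | ⟨h, -⟩)
        · exact Or.inr h
        · exact Or.inl h
    by_cases hjo : j = o
    · subst hjo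
      constructor
      · intro he
        have h1 : ¬ Even S.card := by
          rw [hcard, Nat.even_add_one] at he
          exact he
        rw [hins]
        exact ih2 h1
      · intro he
        have h1 : Even S.card := by
          rw [hcard, Nat.even_add_one, not_not] at he
          exact he
        rw [hins, symmDiff_symmDiff_cancel_right]
        exact ih1 h1
    · have hpair : ({o, j} : Finset α) = symmDiff {o} {j} := by
        ext x
        simp only [Finset.mem_insert, Finset.mem_symmDiff, Finset.mem_singleton]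
        constructor
        · rintro (rfl | rfl)
          · exact Or.inl ⟨rfl, fun h => hjo h.symm⟩
          · exact Or.inr ⟨rfl, hjo⟩
        · rintro (⟨h, -⟩ | ⟨h, -⟩)
          · exact Or.inl h
          · exact Or.inr h
      constructor
      · intro he
        have h1 : ¬ Even S.card := by
          rw [hcard, Nat.even_add_one] at he
          exact he
        have h2 := hs _ _ (ih2 h1) (hp j hjO hjo)
        have h3 : symmDiff (symmDiff S {o}) {o, j} = symmDiff S {j} := by
          rw [hpair]
          ext x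
          simp only [Finset.mem_symmDiff]
          tauto
        rw [h3] at h2
        rw [hins]
        exact h2
      · intro he
        have h1 : Even S.card := by
          rw [hcard, Nat.even_add_one, not_not] at he
          exact he
        have h2 := hs _ _ (ih1 h1) (hp j hjO hjo)
        have h3 : symmDiff ({j} : Finset α) {o} = {o, j} := by rw [symmDiff_comm, hpair]
        rw [hins, symmDiff_assoc, h3]
        exact h2

/-- Code words cutting pairs out of the octad `O2`. -/
def cert2 (i : ℕ) : ℕ :=
  if i = 0 then 8391797 else if i = 12 then 8394986 else if i = 14 then 8407702 else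
  if i = 16 then 8455014 else if i = 17 then 8521420 else if i = 18 then 8654232 else 12584506

/-- Code words cutting pairs out of the octad `O3`. -/
def cert3 (i : ℕ) : ℕ :=
  if i = 12 then 138790 else if i = 13 then 10558 else if i = 14 then 150618 else
  if i = 15 then 36294 else if i = 16 then 198058 else if i = 19 then 525274 else 4325622

theorem cert2_ok : ∀ j : GolayPt, j ∈ fin 13062145 → j ≠ none →
    (Nat.blt (cert2 (idx j)) 16777216 && isCode (cert2 (idx j))) = true ∧
      fin (cert2 (idx j)) ∩ fin 13062145 = {none, j} := by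
  decide +kernel

theorem cert3_ok : ∀ j : GolayPt, j ∈ fin 4845570 → j ≠ some 1 →
    (Nat.blt (cert3 (idx j)) 16777216 && isCode (cert3 (idx j))) = true ∧
      fin (cert3 (idx j)) ∩ fin 4845570 = {some 1, j} ∧
      none ∉ fin (cert3 (idx j)) ∧ some 0 ∉ fin (cert3 (idx j)) := by
  decide +kernel

theorem fin_mem {m : ℕ} (h : (Nat.blt m 16777216 && isCode m) = true) : fin m ∈ SC := by
  rw [Bool.and_eq_true, Nat.blt_eq] at h
  exact (fin_mem_supports_iff h.1).2 h.2

theorem symmDiff_inter (A B C : Finset GolayPt) :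
    symmDiff A B ∩ C = symmDiff (A ∩ C) (B ∩ C) := by
  ext x
  simp only [Finset.mem_inter, Finset.mem_symmDiff]
  tauto

theorem empty_mem : (∅ : Finset GolayPt) ∈ SC := by
  have h : fin 0 ∈ SC := fin_mem (by decide +kernel)
  have h0 : fin 0 = ∅ := by decide +kernel
  rwa [h0] at h

/-- Every even subset of `O2` is the trace of a code word. -/
theorem sign_O2 {S : Finset GolayPt} (hS : S ⊆ O2) (he : Even S.card) :
    ∃ d ∈ SC, d ∩ O2 = S := by
  refine (even_induction O2 none (fun S => ∃ d ∈ SC, d ∩ O2 = S) ⟨∅, empty_mem, by simp⟩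
    ?_ ?_ S hS).1 he
  · rintro S T ⟨d, hd, rfl⟩ ⟨e, he, rfl⟩
    exact ⟨symmDiff d e, symmDiff_mem_supports hd he, symmDiff_inter _ _ _⟩
  · intro j hj hjo
    obtain ⟨h1, h2⟩ := cert2_ok j hj hjo
    exact ⟨_, fin_mem h1, h2⟩

/-- Every even subset of `O3` is the trace of a code word avoiding `none` and `some 0`. -/
theorem sign_O3 {S : Finset GolayPt} (hS : S ⊆ O3) (he : Even S.card) :
    ∃ d ∈ SC, (none ∉ d ∧ some 0 ∉ d) ∧ d ∩ O3 = S := by
  refine (even_induction O3 (some 1) (fun S => ∃ d ∈ SC, (none ∉ d ∧ some 0 ∉ d) ∧ d ∩ O3 = S)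
    ⟨∅, empty_mem, by simp, by simp⟩ ?_ ?_ S hS).1 he
  · rintro S T ⟨d, hd, ⟨h1, h2⟩, rfl⟩ ⟨e, he, ⟨h3, h4⟩, rfl⟩
    refine ⟨symmDiff d e, symmDiff_mem_supports hd he, ⟨?_, ?_⟩, symmDiff_inter _ _ _⟩
    · rw [Finset.mem_symmDiff]; tauto
    · rw [Finset.mem_symmDiff]; tauto
  · intro j hj hjo
    obtain ⟨h1, h2, h3, h4⟩ := cert3_ok j hj hjo
    exact ⟨_, fin_mem h1, ⟨h3, h4⟩, h2⟩

theorem subset_pair_cases {α : Type*} [DecidableEq α] {a b : α} {S : Finset α}
    (h : S ⊆ {a, b}) : S = ∅ ∨ S = {a} ∨ S = {b} ∨ S = {a, b} := by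
  have h0 : ∀ x ∈ S, x = a ∨ x = b := by
    intro x hx
    have := h hx
    simpa using this
  by_cases ha : a ∈ S <;> by_cases hb : b ∈ S
  · right; right; right
    apply Finset.Subset.antisymm h
    intro x hx
    rcases (by simpa using hx : x = a ∨ x = b) with rfl | rfl
    · exact ha
    · exact hb
  · right; left
    ext x
    rw [Finset.mem_singleton]
    constructor
    · intro hx
      rcases h0 x hx with rfl | rfl
      · rfl
      · exact absurd hx hb
    · rintro rfl; exact ha
  · right; right; left
    ext x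
    rw [Finset.mem_singleton]
    constructor
    · intro hx
      rcases h0 x hx with rfl | rfl
      · exact absurd hx ha
      · rfl
    · rintro rfl; exact hb
  · left
    rw [Finset.eq_empty_iff_forall_notMem]
    intro x hx
    rcases h0 x hx with rfl | rfl
    · exact ha hx
    · exact hb hx

/-- Every subset of `{none, some 0}` is the trace of a code word. -/
theorem sign_T0 {S : Finset GolayPt} (hS : S ⊆ {none, some 0}) :
    ∃ d ∈ SC, d ∩ {none, some 0} = S := by
  rcases subset_pair_cases hS with rfl | rfl | rfl | rfl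
  · exact ⟨fin 0, fin_mem (by decide +kernel), by decide +kernel⟩
  · exact ⟨fin 13938692, fin_mem (by decide +kernel), by decide +kernel⟩
  · exact ⟨fin 1302533, fin_mem (by decide +kernel), by decide +kernel⟩
  · exact ⟨fin 16777215, fin_mem (by decide +kernel), by decide +kernel⟩

/-- Every subset of `{some 1, some 2}` is the trace of a code word avoiding `none`, `some 0`. -/
theorem sign_T1 {S : Finset GolayPt} (hS : S ⊆ {some 1, some 2}) :
    ∃ d ∈ SC, (none ∉ d ∧ some 0 ∉ d) ∧ d ∩ {some 1, some 2} = S := by
  rcases subset_pair_cases hS with rfl | rfl | rfl | rfl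
  · exact ⟨fin 0, fin_mem (by decide +kernel), by decide +kernel, by decide +kernel⟩
  · exact ⟨fin 31554, fin_mem (by decide +kernel), by decide +kernel, by decide +kernel⟩
  · exact ⟨fin 21116, fin_mem (by decide +kernel), by decide +kernel, by decide +kernel⟩
  · exact ⟨fin 10558, fin_mem (by decide +kernel), by decide +kernel, by decide +kernel⟩

/-! ### Signed permutations and the shapes -/

theorem symm_mem_iff (σ : Equiv.Perm GolayPt) (s : Finset GolayPt) (i : GolayPt) :
    σ.symm i ∈ s ↔ i ∈ σ • s := by
  have h := mem_smul_iff σ s (σ.symm i)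
  rw [Equiv.apply_symm_apply] at h
  exact h.symm

theorem signedPerm_vec (σ : Equiv.Perm GolayPt) (d : Finset GolayPt) (c : ℤ)
    (T S : Finset GolayPt) :
    signedPerm σ d (vec c T S) = vec c (σ • T) (symmDiff d (σ • S)) := by
  funext i
  simp only [signedPerm_apply, vec, symm_mem_iff, Finset.mem_symmDiff]
  by_cases h1 : i ∈ σ • T <;> by_cases h2 : i ∈ σ • S <;> by_cases h3 : i ∈ d <;> simp [h1, h2, h3]

theorem signedPerm_odd (σ : Equiv.Perm GolayPt) (d e : Finset GolayPt) (j : GolayPt) :
    signedPerm σ d (odd j e) = odd (σ j) (symmDiff d (σ • e)) := by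
  funext i
  have h4 : σ.symm i = j ↔ i = σ j := by
    rw [Equiv.symm_apply_eq]
  simp only [signedPerm_apply, odd, symm_mem_iff, Finset.mem_symmDiff, h4]
  by_cases h2 : i ∈ σ • e <;> by_cases h3 : i ∈ d <;> simp [h2, h3]

theorem vec_congr {c : ℤ} {T S S' : Finset GolayPt} (h : S ∩ T = S' ∩ T) :
    vec c T S = vec c T S' := by
  funext i
  simp only [vec]
  by_cases hi : i ∈ T
  · have h1 : i ∈ S ↔ i ∈ S' := by
      have := congrArg (fun X => i ∈ X) h
      simpa [hi] using this
    simp [hi, h1]
  · simp [hi]

theorem smul_symmDiff' (σ : Equiv.Perm GolayPt) (A B : Finset GolayPt) :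
    σ • symmDiff A B = symmDiff (σ • A) (σ • B) := by
  ext i
  simp only [Finset.mem_symmDiff, ← symm_mem_iff]

theorem exists_mono_vec (c : ℤ) {T T' S R : Finset GolayPt} {σ : Equiv.Perm GolayPt}
    (hσ : σ ∈ M24) (hT : σ • T = T') (A : Finset GolayPt → Prop) (hA : ∀ d, A d → A (σ • d))
    (hS : S ⊆ T') (h : ∃ d ∈ SC, A d ∧ d ∩ T = symmDiff (σ⁻¹ • S) R) (hR : R ⊆ T) :
    ∃ d ∈ SC, A d ∧ signedPerm σ d (vec c T R) = vec c T' S := by
  obtain ⟨d, hd, hAd, hdT⟩ := h
  refine ⟨σ • d, (smul_mem_supports hσ).2 hd, hA d hAd, ?_⟩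
  rw [signedPerm_vec, hT]
  apply vec_congr
  rw [← smul_symmDiff', ← hT, ← Finset.smul_finset_inter, symmDiff_inter, hdT,
    Finset.inter_eq_left.2 hR, symmDiff_symmDiff_cancel_right, smul_inv_smul, hT,
    Finset.inter_eq_left.2 hS]

end Cfsg.Agent.SporadicStructure.MonoSigns
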