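import Cfsg.Agent.S0394
import Cfsg.Agent.S0397
import Cfsg.Agent.S0400
import Cfsg.Agent.S1573
import Cfsg.Agent.S1574
import Cfsg.Agent.Leech.FrameAux

/-!
The joint stabiliser of two minimal vectors of customary inner product `-2`: order and conjugacy.
-/

set_option autoImplicit false

namespace Cfsg.Agent.SporadicStructure.PairStab

open Cfsg Cfsg.Agent.Leech.FrameAux

/-- Orbit-stabiliser inside a subgroup. -/
theorem ncard_mul_card {G X : Type*} [Group G] [MulAction G X] (K : Subgroup G) (x : X)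
    (O : Set X) (h1 : ∀ g ∈ K, g • x ∈ O) (h2 : ∀ y ∈ O, ∃ g ∈ K, g • x = y) :
    O.ncard * Nat.card ↥(K ⊓ MulAction.stabilizer G x) = Nat.card K := by
  have hO : MulAction.orbit K x = O := by
    ext y
    constructor
    · rintro ⟨g, rfl⟩
      exact h1 g g.2
    · intro hy
      obtain ⟨g, hg, rfl⟩ := h2 y hy
      exact ⟨⟨g, hg⟩, rfl⟩
  have h3 := Nat.card_congr (MulAction.orbitProdStabilizerEquivGroup K x)
  rw [Nat.card_prod, Nat.card_coe_set_eq, hO] at h3
  rw [← h3]
  congr 1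
  exact Nat.card_congr
    { toFun := fun g => ⟨⟨g.1, g.2.1⟩, g.2.2⟩
      invFun := fun g => ⟨g.1.1, g.1.2, g.2⟩
      left_inv := fun _ => rfl
      right_inv := fun _ => rfl }

theorem ncard_coe (P : (GolayPt → ℤ) → Prop) :
    ({w : leechLattice | P (w : GolayPt → ℤ)}).ncard =
      {w : GolayPt → ℤ | w ∈ leechLattice ∧ P w}.ncard := by
  rw [← Set.ncard_image_of_injective {w : leechLattice | P (w : GolayPt → ℤ)}
    Subtype.val_injective]
  congr 1
  ext y
  constructor
  · rintro ⟨w, hw, rfl⟩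
    exact ⟨w.2, hw⟩
  · rintro ⟨hy, hy'⟩
    exact ⟨⟨y, hy⟩, hy', rfl⟩

/-- The stabiliser of a minimal vector has order `42305421312000`. -/
theorem card_stab (v : leechLattice) (hv : sqNorm (v : GolayPt → ℤ) = 32) :
    Nat.card (MulAction.stabilizer Co0 v) = 42305421312000 := by
  have e1 := ncard_mul_card (⊤ : Subgroup Co0) v {w : leechLattice | sqNorm (w : GolayPt → ℤ) = 32}
    (fun g _ => (co0_sqNorm g v).trans hv)
    (fun y hy => by
      obtain ⟨g, hg⟩ := Cfsg.Agent.S0400.result v y hv hy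
      exact ⟨g, trivial, hg⟩)
  rw [ncard_coe (fun w => sqNorm w = 32), Cfsg.Agent.S0394.result, top_inf_eq, Subgroup.card_top,
    Cfsg.Agent.S0397.result] at e1
  omega

/-- The joint stabiliser of two minimal vectors of customary inner product `-2` has order `9196830720`. -/
theorem card_pair_stab (v w : leechLattice) (hv : sqNorm (v : GolayPt → ℤ) = 32)
    (hw : sqNorm (w : GolayPt → ℤ) = 32)
    (hd : dotInt (v : GolayPt → ℤ) (w : GolayPt → ℤ) = -16) :
    Nat.card ↥(MulAction.stabilizer Co0 v ⊓ MulAction.stabilizer Co0 w) = 9196830720 := by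
  have e1 := ncard_mul_card (MulAction.stabilizer Co0 v) w
    {y : leechLattice | sqNorm (y : GolayPt → ℤ) = 32 ∧
      dotInt (v : GolayPt → ℤ) (y : GolayPt → ℤ) = -16}
    (fun g hg => by
      refine ⟨(co0_sqNorm g w).trans hw, ?_⟩
      have hg' : g • v = v := hg
      have h2 := co0_dot g v w
      rw [hg'] at h2
      rw [h2, hd])
    (fun y hy => by
      obtain ⟨g, hg, hg'⟩ := Cfsg.Agent.S1574.result v w y hv hw hy.1 hd hy.2
      exact ⟨g, hg, hg'⟩)
  rw [ncard_coe (fun y => sqNorm y = 32 ∧ dotInt (v : GolayPt → ℤ) y = -16),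
    (Cfsg.Agent.S1573.result v v.2 hv).1, card_stab v hv] at e1
  omega

/-- Two pairs of minimal vectors of customary inner product `-2` are conjugate. -/
theorem exists_pair (v w v' w' : leechLattice) (hv : sqNorm (v : GolayPt → ℤ) = 32)
    (hw : sqNorm (w : GolayPt → ℤ) = 32)
    (hd : dotInt (v : GolayPt → ℤ) (w : GolayPt → ℤ) = -16)
    (hv' : sqNorm (v' : GolayPt → ℤ) = 32) (hw' : sqNorm (w' : GolayPt → ℤ) = 32)
    (hd' : dotInt (v' : GolayPt → ℤ) (w' : GolayPt → ℤ) = -16) :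
    ∃ g : Co0, g • v = v' ∧ g • w = w' := by
  obtain ⟨a, ha⟩ := Cfsg.Agent.S0400.result v v' hv hv'
  obtain ⟨b, hb, hb'⟩ := Cfsg.Agent.S1574.result v' (a • w) w' hv'
    ((co0_sqNorm a w).trans hw) hw' (by rw [← ha, co0_dot, hd]) hd'
  exact ⟨b * a, by rw [mul_smul, ha, hb], by rw [mul_smul, hb']⟩

/-- Conjugation carries a pair stabiliser to the stabiliser of the moved pair. -/
theorem nonempty_pair_equiv {G X : Type*} [Group G] [MulAction G X] (g : G) (v w v' w' : X)
    (hv : g • v = v') (hw : g • w = w') :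
    Nonempty (↥(MulAction.stabilizer G v ⊓ MulAction.stabilizer G w) ≃*
      ↥(MulAction.stabilizer G v' ⊓ MulAction.stabilizer G w')) := by
  have key : ∀ (y y' : X), g • y = y' → ∀ k : G, k • y = y ↔ (MulAut.conj g k) • y' = y' := by
    rintro y _ rfl k
    rw [MulAut.conj_apply, mul_smul, mul_smul, inv_smul_smul, smul_left_cancel_iff]
  have hmap : (MulAction.stabilizer G v ⊓ MulAction.stabilizer G w).map
      (MulAut.conj g).toMonoidHom = MulAction.stabilizer G v' ⊓ MulAction.stabilizer G w' := by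
    ext k
    constructor
    · rintro ⟨l, ⟨h1, h2⟩, rfl⟩
      exact ⟨(key v v' hv l).1 h1, (key w w' hw l).1 h2⟩
    · rintro ⟨h1, h2⟩
      obtain ⟨l, rfl⟩ := (MulAut.conj g).surjective k
      exact ⟨l, ⟨(key v v' hv l).2 h1, (key w w' hw l).2 h2⟩, rfl⟩
  exact ⟨((MulAut.conj g).subgroupMap _).trans (MulEquiv.subgroupCongr hmap)⟩

/-- All the joint stabilisers are isomorphic. -/
theorem nonempty_equiv (v w v' w' : leechLattice) (hv : sqNorm (v : GolayPt → ℤ) = 32)
    (hw : sqNorm (w : GolayPt → ℤ) = 32)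
    (hd : dotInt (v : GolayPt → ℤ) (w : GolayPt → ℤ) = -16)
    (hv' : sqNorm (v' : GolayPt → ℤ) = 32) (hw' : sqNorm (w' : GolayPt → ℤ) = 32)
    (hd' : dotInt (v' : GolayPt → ℤ) (w' : GolayPt → ℤ) = -16) :
    Nonempty (↥(MulAction.stabilizer Co0 v ⊓ MulAction.stabilizer Co0 w) ≃*
      ↥(MulAction.stabilizer Co0 v' ⊓ MulAction.stabilizer Co0 w')) := by
  obtain ⟨g, hg, hg'⟩ := exists_pair v w v' w' hv hw hd hv' hw' hd'
  exact nonempty_pair_equiv g v w v' w' hg hg'

end Cfsg.Agent.SporadicStructure.PairStab
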