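import Cfsg.Agent.SporadicStructure.U62Func
import Cfsg.Agent.SporadicStructure.PsuMatch

/-!
The joint stabiliser of two explicit minimal vectors of inner product `-16` is `PSU_6(2)`, given its order.
-/

set_option autoImplicit false

namespace Cfsg.Agent.SporadicStructure.U62Gamma

open Cfsg Cfsg.Agent.LieClassical.HermSiegel
open Cfsg.Agent.SporadicA Cfsg.Agent.SporadicA.FieldFour
open Cfsg.Agent.SporadicStructure.SU62 Cfsg.Agent.SporadicStructure.U62Tensor
  Cfsg.Agent.SporadicStructure.U62Func Cfsg.Agent.SporadicStructure.U62Data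
open Cfsg.Agent.SporadicStructure.Co0Matrix (vec vec_apply dotL dotInt_vec leechB vec_mem_of_leechB Ok mk mk_coe
  mk_dot act_vec act_mem dotInt_comm dotInt_add_left)

/-! ### An abstract matching lemma -/

/-- A correspondence between two finite groups gives an isomorphism with a central quotient. -/
theorem iso_of_corr {S L : Type*} [Group S] [Group L] [Finite S] [Finite L] (Γ : Subgroup (S × L))
    (h1 : ∀ s, ∃ l, (s, l) ∈ Γ) (h2 : ∀ s, (s, 1) ∈ Γ → s ∈ Subgroup.center S)
    (hc : Nat.card L ≤ Nat.card (S ⧸ Subgroup.center S)) :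
    Nonempty (L ≃* S ⧸ Subgroup.center S) := by
  let f1 : Γ →* S := (MonoidHom.fst S L).comp Γ.subtype
  let f2 : Γ →* L := (MonoidHom.snd S L).comp Γ.subtype
  have hf1 : Function.Surjective f1 := fun s => by
    obtain ⟨l, hl⟩ := h1 s
    exact ⟨⟨(s, l), hl⟩, rfl⟩
  have c1 : Nat.card S * Nat.card f1.ker = Nat.card Γ := by
    rw [← f1.ker.card_eq_card_quotient_mul_card_subgroup.symm, Nat.card_congr
      (QuotientGroup.quotientKerEquivOfSurjective f1 hf1).toEquiv]
  have c2 : Nat.card f2.range * Nat.card f2.ker = Nat.card Γ := by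
    rw [← f2.ker.card_eq_card_quotient_mul_card_subgroup.symm, Nat.card_congr
      (QuotientGroup.quotientKerEquivRange f2).toEquiv]
  have c3 : Nat.card (S ⧸ Subgroup.center S) * Nat.card (Subgroup.center S) = Nat.card S :=
    (Subgroup.center S).card_eq_card_quotient_mul_card_subgroup.symm
  have c4 : Nat.card f2.ker ≤ Nat.card (Subgroup.center S) := by
    let j : f2.ker → Subgroup.center S := fun x => ⟨f1 x.1, h2 _ (by
      have h : f2 x.1 = 1 := x.2
      have : ((f1 x.1, 1) : S × L) = x.1.1 := Prod.ext rfl h.symm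
      rw [this]; exact x.1.2)⟩
    refine Nat.card_le_card_of_injective j fun x y hxy => ?_
    apply Subtype.ext
    apply Subtype.ext
    have hx : f2 x.1 = 1 := x.2
    have hy : f2 y.1 = 1 := y.2
    exact Prod.ext (congrArg Subtype.val hxy) (hx.trans hy.symm)
  have c5 : Nat.card f2.range ≤ Nat.card L :=
    Nat.card_le_card_of_injective _ Subtype.val_injective
  have p0 : 0 < Nat.card S := Nat.card_pos
  have p1 : 0 < Nat.card f1.ker := Nat.card_pos
  have p2 : 0 < Nat.card (Subgroup.center S) := Nat.card_pos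
  have p3 : 0 < Nat.card f2.ker := Nat.card_pos
  have p4 : 0 < Nat.card f2.range := Nat.card_pos
  -- all inequalities are equalities
  have hle : Nat.card f2.range * Nat.card f2.ker ≤ Nat.card S := by
    rw [← c3]
    exact Nat.mul_le_mul (c5.trans hc) c4
  have k1 : Nat.card f1.ker = 1 := by
    rw [c2, ← c1] at hle
    by_contra hne
    have : 2 ≤ Nat.card f1.ker := by omega
    have := Nat.mul_le_mul_left (Nat.card S) this
    omega
  have hS : Nat.card Γ = Nat.card S := by rw [← c1, k1, mul_one]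
  have k2 : Nat.card f2.ker = Nat.card (Subgroup.center S) := by
    apply le_antisymm c4
    by_contra hlt
    rw [not_le] at hlt
    have : Nat.card f2.range * Nat.card f2.ker <
        Nat.card (S ⧸ Subgroup.center S) * Nat.card (Subgroup.center S) :=
      Nat.mul_lt_mul_of_le_of_lt (c5.trans hc) hlt (p4.trans_le (c5.trans hc))
    rw [c2, c3, hS] at this
    exact lt_irrefl _ this
  have k3 : Nat.card f2.range = Nat.card L := by
    apply le_antisymm c5
    apply hc.trans
    have : Nat.card f2.range * Nat.card f2.ker =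
        Nat.card (S ⧸ Subgroup.center S) * Nat.card f2.ker := by
      rw [c2, k2, c3, hS]
    exact (Nat.eq_of_mul_eq_mul_right p3 this).ge
  have hinj : Function.Injective f1 := by
    rw [← MonoidHom.ker_eq_bot_iff]
    exact Subgroup.card_eq_one.mp k1
  have hsurj : Function.Surjective f2 := by
    rw [← MonoidHom.range_eq_top]
    exact Subgroup.eq_top_of_card_eq _ k3
  let e1 : Γ ≃* S := MulEquiv.ofBijective f1 ⟨hinj, hf1⟩
  let φ : S →* L := f2.comp e1.symm.toMonoidHom
  have hφ : Function.Surjective φ := hsurj.comp e1.symm.surjective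
  have hker : φ.ker ≤ Subgroup.center S := by
    intro s hs
    have h : f2 (e1.symm s) = 1 := hs
    apply h2
    have h' : f1 (e1.symm s) = s := e1.apply_symm_apply s
    have : ((s, 1) : S × L) = (e1.symm s).1 := Prod.ext h'.symm h.symm
    rw [this]; exact (e1.symm s).2
  have hcard : Nat.card φ.ker = Nat.card (Subgroup.center S) := by
    rw [← k2]
    refine Nat.card_congr ((Equiv.subtypeEquiv e1.toEquiv fun x => ?_).symm)
    show f2 x = 1 ↔ f2 (e1.symm (e1 x)) = 1
    rw [e1.symm_apply_apply]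
  have hker' : φ.ker = Subgroup.center S := Subgroup.eq_of_le_of_card_ge hker hcard.ge
  exact ⟨((QuotientGroup.quotientMulEquivOfEq hker'.symm).trans
    (QuotientGroup.quotientKerEquivOfSurjective φ hφ)).symm⟩

/-! ### The two vectors and their stabiliser -/

/-- The first vector. -/
def v0 : leechLattice := ⟨vec v0L, v0_mem⟩

/-- The second vector. -/
def w0 : leechLattice := ⟨vec w0L, w0_mem⟩

theorem sqNorm_v0 : sqNorm (v0 : GolayPt → ℤ) = 32 := by
  rw [Co0Matrix.sqNorm_eq_dot]
  show dotInt (vec v0L) (vec v0L) = 32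
  rw [dotInt_vec _ _ (by decide)]; decide

theorem sqNorm_w0 : sqNorm (w0 : GolayPt → ℤ) = 32 := by
  rw [Co0Matrix.sqNorm_eq_dot]
  show dotInt (vec w0L) (vec w0L) = 32
  rw [dotInt_vec _ _ (by decide)]; decide

theorem dot_v0_w0 : dotInt (v0 : GolayPt → ℤ) (w0 : GolayPt → ℤ) = -16 := by
  show dotInt (vec v0L) (vec w0L) = -16
  rw [dotInt_vec _ _ (by decide)]; decide

/-- The joint stabiliser. -/
def G0 : Subgroup Co0 := MulAction.stabilizer Co0 v0 ⊓ MulAction.stabilizer Co0 w0

/-- The condition of orthogonality modulo 16. -/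
def V0 (u : leechLattice) : Prop :=
  (16 : ℤ) ∣ dotInt (u : GolayPt → ℤ) (vec v0L) ∧ (16 : ℤ) ∣ dotInt (u : GolayPt → ℤ) (vec w0L)

theorem V0_smul (h : Co0) (hh : h ∈ G0) (u : leechLattice) (hu : V0 u) : V0 (h • u) := by
  have e1 : h • v0 = v0 := hh.1
  have e2 : h • w0 = w0 := hh.2
  have d1 := Cfsg.Agent.LeechMat.Core.co0_dotInt h u v0
  have d2 := Cfsg.Agent.LeechMat.Core.co0_dotInt h u w0
  rw [e1] at d1
  rw [e2] at d2
  exact ⟨d1.symm ▸ hu.1, d2.symm ▸ hu.2⟩

/-- The correspondence. -/
def Γ : Subgroup (SU 6 F4 2 × G0) where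
  carrier := {p | ∀ u : leechLattice, V0 u → ∀ x y z : Fin 6 → F4,
    tri (Tc (fs ((p.2 : Co0) • u : leechLattice))) (act p.1 x) (act p.1 y) (act p.1 z) =
      tri (Tc (fs u)) x y z}
  one_mem' := by
    intro u _ x y z
    show tri (Tc (fs (((1 : Co0) • u : leechLattice)))) (act 1 x) (act 1 y) (act 1 z) = _
    rw [one_smul, act_one, act_one, act_one]
  mul_mem' := by
    rintro ⟨g, h⟩ ⟨g', h'⟩ hp hp' u hu x y z
    show tri (Tc (fs ((((h : Co0) * (h' : Co0)) • u : leechLattice)))) (act (g * g') x)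
      (act (g * g') y) (act (g * g') z) = _
    rw [mul_smul, act_mul, act_mul, act_mul]
    have e1 := hp ((h' : Co0) • u) (V0_smul _ h'.2 u hu) (act g' x) (act g' y) (act g' z)
    have e2 := hp' u hu x y z
    exact e1.trans e2
  inv_mem' := by
    rintro ⟨g, h⟩ hp u hu x y z
    show tri (Tc (fs ((((h : Co0)⁻¹ : Co0) • u : leechLattice)))) (act g⁻¹ x) (act g⁻¹ y)
      (act g⁻¹ z) = _
    have e1 := hp ((h : Co0)⁻¹ • u) (V0_smul _ (G0.inv_mem h.2) u hu) (act g⁻¹ x) (act g⁻¹ y)
      (act g⁻¹ z)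
    have e2 : (h : Co0) • ((h : Co0)⁻¹ • u) = u := smul_inv_smul _ _
    rw [act_act_inv, act_act_inv, act_act_inv] at e1
    show _ = _
    rw [← e1]
    show tri (Tc (fs ((h : Co0) • ((h : Co0)⁻¹ • u) : leechLattice))) x y z = _
    rw [e2]

/-- The check that the vector `l` is fixed. -/
def fixB (R : List (List ℤ)) (l : List ℤ) : Bool := decide ((R.map fun r => dotL l r / 8) = l)

theorem mk_smul {R C : List (List ℤ)} (h : Ok R C) {l : List ℤ} (hl : l.length ≤ 24)
    (hm : vec l ∈ leechLattice) (hf : fixB R l = true) :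
    mk h • (⟨vec l, hm⟩ : leechLattice) = ⟨vec l, hm⟩ := by
  apply Subtype.ext
  show Co0Matrix.act R (vec l) = vec l
  rw [act_vec h.lenR hl]
  exact congrArg vec (of_decide_eq_true hf)

/-- Element of the stabiliser from a matrix. -/
def mkG {R C : List (List ℤ)} (h : Ok R C) (h1 : fixB R v0L = true) (h2 : fixB R w0L = true) : G0 :=
  ⟨mk h, mk_smul h (by decide) v0_mem h1, mk_smul h (by decide) w0_mem h2⟩

theorem mem_gamma {R C : List (List ℤ)} (h : Ok R C) (h1 : fixB R v0L = true)
    (h2 : fixB R w0L = true) {Hm : List ℕ} (hc : certB C Hm = true) {t : List (List ℕ)}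
    (ht : suB t = true) (hs : starB t Hm = true) : (ofTable t ht, mkG h h1 h2) ∈ Γ := by
  intro u hu x y z
  show tri (Tc (fs ((mk h).1 u : leechLattice))) (act (ofTable t ht) x) (act (ofTable t ht) y)
    (act (ofTable t ht) z) = _
  rw [tri_act, mat_ofTable, pull_of_star hs (fs u) _ (fun k hk => fs_act h hc u hu.1 hu.2 k hk)]

theorem suT : suB tT = true := by decide +kernel
theorem suC : suB tC = true := by decide +kernel
theorem suD : suB tD = true := by decide +kernel
theorem suM : suB tM = true := by decide +kernel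

theorem exists_gamma (g : SU 6 F4 2) : ∃ l, (g, l) ∈ Γ := by
  have hle : H ≤ Γ.map (MonoidHom.fst (SU 6 F4 2) G0) := by
    rw [H, Subgroup.closure_le]
    intro g hg
    simp only [Set.mem_insert_iff, Set.mem_singleton_iff] at hg
    rcases hg with rfl | rfl | rfl | rfl
    · exact ⟨_, mem_gamma okA (by decide +kernel) (by decide +kernel) certA suT starA, rfl⟩
    · exact ⟨_, mem_gamma okB (by decide +kernel) (by decide +kernel) certC suC starC, rfl⟩
    · exact ⟨_, mem_gamma okD (by decide +kernel) (by decide +kernel) certD suD starD, rfl⟩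
    · exact ⟨_, mem_gamma okM (by decide +kernel) (by decide +kernel) certM suM starM, rfl⟩
  rw [H_eq_top] at hle
  obtain ⟨⟨g', l⟩, hl, rfl⟩ := hle (Subgroup.mem_top g)
  exact ⟨l, hl⟩

theorem center_of_gamma (g : SU 6 F4 2) (hg : (g, (1 : G0)) ∈ Γ) :
    g ∈ Subgroup.center (SU 6 F4 2) := by
  apply mem_center_of_inv
  intro k hk x y z
  obtain ⟨u, hu1, hu2, hu3⟩ := exists_dual k hk
  have e := hg u ⟨hu1, hu2⟩ x y z
  have e1 : Tc (fs u) = Tc (dl k) := Tc_congr hu3
  have e2 : (((1 : G0) : Co0) • u : leechLattice) = u := one_smul _ _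
  change tri (Tc (fs ((((1 : G0) : Co0) • u : leechLattice)))) (act g x) (act g y) (act g z) = _ at e
  rw [e2, e1] at e
  exact e

/-- The joint stabiliser is `PSU_6(2)` provided its order is at most that. -/
theorem G0_iso [Finite G0] (hc : Nat.card G0 ≤ Nat.card (Cfsg.PSU 6 F4 2)) :
    Nonempty (G0 ≃* Cfsg.PSU 6 F4 2) := by
  have : Finite (SU 6 F4 2) := inferInstance
  exact iso_of_corr Γ exists_gamma center_of_gamma hc

/-- The same over any field with four elements. -/
theorem G0_iso_field [Finite G0] (hc : Nat.card G0 ≤ Nat.card (Cfsg.PSU 6 F4 2)) (F : Type*)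
    [Field F] [Fintype F] (hF : Fintype.card F = 4) : Nonempty (G0 ≃* Cfsg.PSU 6 F 2) := by
  obtain ⟨e⟩ := G0_iso hc
  obtain ⟨e'⟩ := PsuMatch.psu_iso_of_card (F := F) (K := F4) (hF.trans F4.card_eq.symm) 6 2
  exact ⟨e.trans e'.symm⟩

end Cfsg.Agent.SporadicStructure.U62Gamma
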