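import Cfsg.Agent.SporadicStructure.PBGAut

/-!
The isomorphism between the automorphism group of a family `B` of subsets and the stabiliser of the
extra vertex in the automorphism group of the point-block graph of `B`.
-/

set_option autoImplicit false

namespace Cfsg.Agent.SporadicStructure.PBGAutEquiv

open Cfsg Finset
open Cfsg.Agent.SporadicStructure.SRGSteiner
open Cfsg.Agent.SporadicStructure.PBGAut
open scoped Pointwise

variable {α : Type*} [DecidableEq α] {B : Set (Finset α)}

/-- The permutation of the blocks induced by an automorphism of the set system. -/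
noncomputable def blockEquiv (σ : Cfsg.setSystemAut B) : B ≃ B :=
  (exists_blockEquiv (σ : Equiv.Perm α) (image_eq_of_mem_setSystemAut σ.2)).choose

theorem blockEquiv_coe (σ : Cfsg.setSystemAut B) (b : B) :
    ((blockEquiv σ b : B) : Finset α) = (b : Finset α).image (σ : Equiv.Perm α) :=
  (exists_blockEquiv (σ : Equiv.Perm α) (image_eq_of_mem_setSystemAut σ.2)).choose_spec b

/-- The graph automorphism induced by an automorphism of the set system. -/
noncomputable def graphIso (σ : Cfsg.setSystemAut B) :
    pointBlockGraph B ≃g pointBlockGraph B :=
  isoOfEquiv (σ : Equiv.Perm α) (blockEquiv σ) (blockEquiv_coe σ)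

theorem graphIso_none (σ : Cfsg.setSystemAut B) : graphIso σ none = none := rfl

theorem graphIso_inl (σ : Cfsg.setSystemAut B) (a : α) :
    graphIso σ (some (Sum.inl a)) = some (Sum.inl ((σ : Equiv.Perm α) a)) := rfl

theorem graphIso_inr (σ : Cfsg.setSystemAut B) (b : B) :
    graphIso σ (some (Sum.inr b)) = some (Sum.inr (blockEquiv σ b)) := rfl

/-- The isomorphism from the automorphism group of the set system onto the stabiliser of the
extra vertex. -/
noncomputable def stabilizerNoneEquiv [Finite α] :
    Cfsg.setSystemAut B ≃* MulAction.stabilizer (pointBlockGraph B ≃g pointBlockGraph B)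
      (none : Option (α ⊕ B)) :=
  MulEquiv.ofBijective
    ({ toFun := fun σ => ⟨graphIso σ, graphIso_none σ⟩
       map_one' := by
        apply Subtype.ext
        apply RelIso.ext
        rintro (_ | a | b)
        · rfl
        · rfl
        · show some (Sum.inr (blockEquiv 1 b)) = some (Sum.inr b)
          congr 2
          apply Subtype.ext
          rw [blockEquiv_coe]
          exact Finset.image_id
       map_mul' := by
        intro σ τ
        apply Subtype.ext
        apply RelIso.ext
        rintro (_ | a | b)
        · rfl
        · rfl
        · show some (Sum.inr (blockEquiv (σ * τ) b)) =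
            some (Sum.inr (blockEquiv σ (blockEquiv τ b)))
          congr 2
          apply Subtype.ext
          rw [blockEquiv_coe, blockEquiv_coe, blockEquiv_coe, Finset.image_image]
          rfl } : Cfsg.setSystemAut B →* MulAction.stabilizer (pointBlockGraph B ≃g pointBlockGraph B)
      (none : Option (α ⊕ B)))
    (by
      constructor
      · intro σ τ h
        have h1 : graphIso σ = graphIso τ := congrArg Subtype.val h
        apply Subtype.ext
        apply Equiv.ext
        intro a
        have h2 := DFunLike.congr_fun h1 (some (Sum.inl a))
        rw [graphIso_inl, graphIso_inl] at h2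
        exact Sum.inl_injective (Option.some_injective _ h2)
      · rintro ⟨φ, hφ⟩
        have hφ' : φ none = none := MulAction.mem_stabilizer_iff.1 hφ
        obtain ⟨σ, h1, h2⟩ := exists_perm_of_fix_none φ hφ'
        refine ⟨σ, Subtype.ext ?_⟩
        apply RelIso.ext
        rintro (_ | a | b)
        · show none = φ none
          rw [hφ']
        · show some (Sum.inl ((σ : Equiv.Perm α) a)) = φ (some (Sum.inl a))
          rw [h1]
        · show some (Sum.inr (blockEquiv σ b)) = φ (some (Sum.inr b))
          obtain ⟨c, hc, hc'⟩ := h2 b
          rw [hc]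
          congr 2
          apply Subtype.ext
          rw [blockEquiv_coe, hc'])

theorem stabilizerNoneEquiv_none [Finite α] (σ : Cfsg.setSystemAut B) :
    ((stabilizerNoneEquiv σ : MulAction.stabilizer (pointBlockGraph B ≃g pointBlockGraph B)
      (none : Option (α ⊕ B))) : pointBlockGraph B ≃g pointBlockGraph B) none = none := rfl

theorem stabilizerNoneEquiv_inl [Finite α] (σ : Cfsg.setSystemAut B) (a : α) :
    ((stabilizerNoneEquiv σ : MulAction.stabilizer (pointBlockGraph B ≃g pointBlockGraph B)
      (none : Option (α ⊕ B))) : pointBlockGraph B ≃g pointBlockGraph B) (some (Sum.inl a)) =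
      some (Sum.inl ((σ : Equiv.Perm α) a)) := rfl

theorem stabilizerNoneEquiv_inr [Finite α] (σ : Cfsg.setSystemAut B) (b : B) :
    ((stabilizerNoneEquiv σ : MulAction.stabilizer (pointBlockGraph B ≃g pointBlockGraph B)
      (none : Option (α ⊕ B))) : pointBlockGraph B ≃g pointBlockGraph B) (some (Sum.inr b)) =
      some (Sum.inr (blockEquiv σ b)) := rfl

end Cfsg.Agent.SporadicStructure.PBGAutEquiv
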