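import Mathlib

/-!
General facts on orbits of stabilisers, used to prove maximality of point stabilisers from the
subdegrees.
-/

set_option autoImplicit false

namespace Cfsg.Agent.SporadicStructure.OrbitLemmas

open scoped Pointwise

variable {G : Type*} [Group G] {α : Type*} [MulAction G α]

/-- If `K` contains the stabiliser of `x`, then `|K x| * |G : K| = |G x|`. -/
theorem ncard_orbit_mul_index (x : α) (K : Subgroup G) (hK : MulAction.stabilizer G x ≤ K) :
    (MulAction.orbit K x).ncard * K.index = (MulAction.orbit G x).ncard := by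
  rw [← MulAction.index_stabilizer G x, ← MulAction.index_stabilizer K x]
  have : MulAction.stabilizer K x = (MulAction.stabilizer G x).subgroupOf K := by
    ext k
    simp [Subgroup.mem_subgroupOf, MulAction.mem_stabilizer_iff, Subgroup.smul_def]
  rw [this]
  exact Subgroup.relIndex_mul_index hK

/-- Orbits of conjugate stabilisers. -/
theorem orbit_stabilizer_smul (g : G) (x y : α) :
    MulAction.orbit (MulAction.stabilizer G (g • x)) (g • y) =
      (fun z => g • z) '' MulAction.orbit (MulAction.stabilizer G x) y := by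
  ext z
  constructor
  · rintro ⟨⟨h, hh⟩, rfl⟩
    rw [MulAction.mem_stabilizer_iff] at hh
    refine ⟨(g⁻¹ * h * g) • y, ⟨⟨g⁻¹ * h * g, ?_⟩, rfl⟩, ?_⟩
    · rw [MulAction.mem_stabilizer_iff, mul_smul, mul_smul, hh, inv_smul_smul]
    · show g • (g⁻¹ * h * g) • y = h • g • y
      simp [mul_smul]
  · rintro ⟨_, ⟨⟨h, hh⟩, rfl⟩, rfl⟩
    rw [MulAction.mem_stabilizer_iff] at hh
    refine ⟨⟨g * h * g⁻¹, ?_⟩, ?_⟩
    · rw [MulAction.mem_stabilizer_iff, mul_smul, mul_smul, inv_smul_smul, hh]
    · show (g * h * g⁻¹) • g • y = g • h • y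
      simp [mul_smul]

theorem ncard_orbit_stabilizer_smul (g : G) (x y : α) :
    (MulAction.orbit (MulAction.stabilizer G (g • x)) (g • y)).ncard =
      (MulAction.orbit (MulAction.stabilizer G x) y).ncard := by
  rw [orbit_stabilizer_smul]
  exact Set.ncard_image_of_injective _ (MulAction.injective g)

/-- An overgroup of the stabiliser of `x`: its orbit on `x` is a union of suborbits. -/
theorem orbit_subset_of_mem (x y : α) (K : Subgroup G) (hK : MulAction.stabilizer G x ≤ K)
    (hy : y ∈ MulAction.orbit K x) :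
    MulAction.orbit (MulAction.stabilizer G x) y ⊆ MulAction.orbit K x := by
  rintro _ ⟨⟨h, hh⟩, rfl⟩
  obtain ⟨⟨k, hk⟩, rfl⟩ := hy
  exact ⟨⟨h * k, K.mul_mem (hK hh) hk⟩, by
    show (h * k) • x = h • k • x
    rw [mul_smul]⟩

/-- Maximality of a point stabiliser from the subdegrees: a union of suborbits containing the trivial
one whose size divides the degree must be trivial or everything. -/
theorem isCoatom_stabilizer_of_forall (x : α) (Ω : Set α) (hΩ : MulAction.orbit G x = Ω)
    (hfin : Ω.Finite) (h1 : Ω.ncard ≠ 1)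
    (h : ∀ B : Set α, x ∈ B → B ⊆ Ω →
      (∀ y ∈ B, MulAction.orbit (MulAction.stabilizer G x) y ⊆ B) → B.ncard ∣ Ω.ncard →
      B = {x} ∨ B = Ω) :
    IsCoatom (MulAction.stabilizer G x) := by
  have hidx : (MulAction.stabilizer G x).index = Ω.ncard := by
    rw [MulAction.index_stabilizer G x, hΩ]
  constructor
  · intro htop
    apply h1
    rw [← hidx, htop, Subgroup.index_top]
  · intro K hK
    have hle := hK.le
    have hmul := ncard_orbit_mul_index x K hle
    have hsub : MulAction.orbit K x ⊆ Ω := by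
      rw [← hΩ]
      rintro _ ⟨⟨k, hk⟩, rfl⟩
      exact ⟨k, rfl⟩
    have hx : x ∈ Ω := hΩ ▸ MulAction.mem_orbit_self x
    have hpos : 0 < Ω.ncard := (Set.ncard_pos hfin).2 ⟨x, hx⟩
    rcases h (MulAction.orbit K x) (MulAction.mem_orbit_self x) hsub
      (fun y hy => orbit_subset_of_mem x y K hle hy)
      ⟨K.index, by rw [hmul, hΩ]⟩ with hB | hB
    · exfalso
      apply hK.not_ge
      intro k hk
      rw [MulAction.mem_stabilizer_iff]
      have : k • x ∈ MulAction.orbit K x := ⟨⟨k, hk⟩, rfl⟩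
      rw [hB] at this
      exact this
    · rw [← Subgroup.index_eq_one]
      rw [hB, hΩ] at hmul
      exact Nat.eq_of_mul_eq_mul_left hpos (by rw [hmul, mul_one])

/-- Maximality of a point stabiliser from the list of subdegrees: let `Ω = G x` be the union of `{x}`
and of the orbits of the stabiliser of `x` on `X i`, of sizes `n i`, with `|Ω| = 1 + ∑ n i`; if no
`1 + ∑ i ∈ s, n i` with `s` proper and nonempty divides `|Ω|`, then the stabiliser is maximal. -/
theorem isCoatom_of_subdegrees {ι : Type*} [Fintype ι] [DecidableEq ι] (x : α) (Ω : Set α)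
    (hΩ : MulAction.orbit G x = Ω) (hfin : Ω.Finite) (X : ι → α) (n : ι → ℕ)
    (hn : ∀ i, (MulAction.orbit (MulAction.stabilizer G x) (X i)).ncard = n i)
    (hcov : Ω = {x} ∪ ⋃ i, MulAction.orbit (MulAction.stabilizer G x) (X i))
    (hcard : Ω.ncard = 1 + ∑ i, n i) (hpos : 0 < ∑ i, n i)
    (hdiv : ∀ s : Finset ι, (1 + ∑ i ∈ s, n i) ∣ (1 + ∑ i, n i) → s = ∅ ∨ s = Finset.univ) :
    IsCoatom (MulAction.stabilizer G x) := by
  classical
  refine isCoatom_stabilizer_of_forall x Ω hΩ hfin (by omega) ?_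
  intro B hxB hBΩ hB hdvd
  set O : ι → Set α := fun i => MulAction.orbit (MulAction.stabilizer G x) (X i) with hO
  have hOfin : ∀ i, (O i).Finite := fun i => hfin.subset (by
    rw [hcov]
    exact Set.subset_union_of_subset_right (Set.subset_iUnion O i) _)
  set s : Finset ι := Finset.univ.filter fun i => X i ∈ B with hs
  have hBsub : B ⊆ {x} ∪ ⋃ i ∈ s, O i := by
    intro y hy
    have hyΩ := hBΩ hy
    rw [hcov] at hyΩ
    rcases hyΩ with h | h
    · exact Or.inl h
    · right
      obtain ⟨i, hi⟩ := Set.mem_iUnion.1 h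
      refine Set.mem_iUnion₂.2 ⟨i, ?_, hi⟩
      rw [hs, Finset.mem_filter]
      refine ⟨Finset.mem_univ _, ?_⟩
      apply hB y hy
      rw [MulAction.orbit_eq_iff.2 hi]
      exact MulAction.mem_orbit_self _
  have hdiff : Ω \ B ⊆ ⋃ i ∈ sᶜ, O i := by
    rintro y ⟨hyΩ, hyB⟩
    rw [hcov] at hyΩ
    rcases hyΩ with h | h
    · exact absurd (by rw [Set.mem_singleton_iff.1 h]; exact hxB) hyB
    · obtain ⟨i, hi⟩ := Set.mem_iUnion.1 h
      refine Set.mem_iUnion₂.2 ⟨i, ?_, hi⟩
      rw [Finset.mem_compl, hs, Finset.mem_filter]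
      rintro ⟨-, hXi⟩
      exact hyB (hB _ hXi hi)
  have h1 : B.ncard ≤ 1 + ∑ i ∈ s, n i := by
    calc B.ncard ≤ ({x} ∪ ⋃ i ∈ s, O i).ncard := by
          exact Set.ncard_le_ncard hBsub
            ((Set.finite_singleton x).union (s.finite_toSet.biUnion fun i _ => hOfin i))
      _ ≤ ({x} : Set α).ncard + (⋃ i ∈ s, O i).ncard := Set.ncard_union_le _ _
      _ ≤ 1 + ∑ i ∈ s, (O i).ncard := by
          rw [Set.ncard_singleton]
          exact Nat.add_le_add_left (Finset.set_ncard_biUnion_le s O) _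
      _ = 1 + ∑ i ∈ s, n i := by
          congr 1
          exact Finset.sum_congr rfl fun i _ => hn i
  have h2 : (Ω \ B).ncard ≤ ∑ i ∈ sᶜ, n i := by
    calc (Ω \ B).ncard ≤ (⋃ i ∈ sᶜ, O i).ncard := by
          exact Set.ncard_le_ncard hdiff ((sᶜ).finite_toSet.biUnion fun i _ => hOfin i)
      _ ≤ ∑ i ∈ sᶜ, (O i).ncard := Finset.set_ncard_biUnion_le _ O
      _ = ∑ i ∈ sᶜ, n i := Finset.sum_congr rfl fun i _ => hn i
  have h3 : (Ω \ B).ncard + B.ncard = Ω.ncard := Set.ncard_sdiff_add_ncard_of_subset hBΩ hfin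
  have h4 : ∑ i ∈ s, n i + ∑ i ∈ sᶜ, n i = ∑ i, n i := Finset.sum_add_sum_compl s n
  have h5 : B.ncard = 1 + ∑ i ∈ s, n i := by omega
  rw [h5, hcard] at hdvd
  rcases hdiv s hdvd with h | h
  · left
    rw [h, Finset.sum_empty] at h5
    obtain ⟨y, hy⟩ := Set.ncard_eq_one.1 h5
    rw [hy] at hxB
    rw [hy, Set.mem_singleton_iff.1 hxB]
  · right
    rw [h] at h5
    exact Set.eq_of_subset_of_ncard_le hBΩ (by omega) hfin

end Cfsg.Agent.SporadicStructure.OrbitLemmas
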