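import Cfsg.Agent.SporadicStructure.SextetAction
import Cfsg.Agent.SporadicStructure.SextetOrbitData
import Cfsg.Agent.SporadicStructure.OrbitLemmas

/-!
The orbits of the stabiliser of the sextet through `{∞, 0, 1, 22}` on the 1771 sextets.
-/

set_option autoImplicit false

namespace Cfsg.Agent.SporadicStructure.SextetOrbits

open Cfsg
open scoped Pointwise
open Cfsg.Agent.SporadicA.GolayBase Cfsg.Agent.SporadicA.GolayPerm
open Cfsg.Agent.SporadicStructure.Sextet (sextetOf mem_sextetOf self_mem_sextetOf)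
open Cfsg.Agent.SporadicStructure.SextetAction Cfsg.Agent.SporadicStructure.SextetOrbitData
open Cfsg.Agent.SporadicStructure.OrbitLemmas

/-! ### Tetrads from packed tuples -/

/-- The mask of a packed 4-tuple. -/
def tm (q : ℕ) : ℕ :=
  2 ^ (q % 24) ^^^ 2 ^ (q / 24 % 24) ^^^ 2 ^ (q / 576 % 24) ^^^ 2 ^ (q / 13824 % 24)

/-- The set of points of a packed 4-tuple. -/
def tet (q : ℕ) : Finset GolayPt := fin (tm q)

theorem two_pow_lt {i : ℕ} (hi : i < 24) : 2 ^ i < 2 ^ 24 :=
  Nat.pow_lt_pow_right (by norm_num) hi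

theorem tm_lt (q : ℕ) : tm q < 2 ^ 24 := by
  have h : ∀ n : ℕ, n % 24 < 24 := fun n => Nat.mod_lt _ (by norm_num)
  exact Nat.xor_lt_two_pow (Nat.xor_lt_two_pow (Nat.xor_lt_two_pow (two_pow_lt (h _))
    (two_pow_lt (h _))) (two_pow_lt (h _))) (two_pow_lt (h _))

theorem fin_two_pow {i : ℕ} (hi : i < 24) : fin (2 ^ i) = {pt i} := by
  ext p
  rw [mem_fin, Nat.testBit_two_pow, decide_eq_true_iff, Finset.mem_singleton]
  constructor
  · intro h
    rw [h, pt_idx]
  · intro h
    rw [h, idx_pt hi]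

theorem smul_fin_two_pow {P : ℕ} (hP : isPerm P = true) {i : ℕ} (hi : i < 24) :
    permOf P hP • fin (2 ^ i) = fin (2 ^ papp P i) := by
  rw [fin_two_pow hi, fin_two_pow (papp_lt hP hi), Finset.smul_finset_singleton,
    Equiv.Perm.smul_def, permOf_apply, idx_pt hi]

theorem digits {a b c d : ℕ} (ha : a < 24) (hb : b < 24) (hc : c < 24) (hd : d < 24) :
    (a + 24 * b + 576 * c + 13824 * d) % 24 = a ∧
    (a + 24 * b + 576 * c + 13824 * d) / 24 % 24 = b ∧
    (a + 24 * b + 576 * c + 13824 * d) / 576 % 24 = c ∧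
    (a + 24 * b + 576 * c + 13824 * d) / 13824 % 24 = d := by
  refine ⟨?_, ?_, ?_, ?_⟩ <;> omega

theorem tet_smul {P : ℕ} (hP : isPerm P = true) (q : ℕ) :
    permOf P hP • tet q = tet (actT P q) := by
  have h : ∀ n : ℕ, n % 24 < 24 := fun n => Nat.mod_lt _ (by norm_num)
  obtain ⟨h1, h2, h3, h4⟩ := digits (papp_lt hP (h q)) (papp_lt hP (h (q / 24)))
    (papp_lt hP (h (q / 576))) (papp_lt hP (h (q / 13824)))
  unfold tet tm
  rw [show actT P q = papp P (q % 24) + 24 * papp P (q / 24 % 24) + 576 * papp P (q / 576 % 24) +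
    13824 * papp P (q / 13824 % 24) from rfl, h1, h2, h3, h4]
  simp only [fin_xor, Finset.smul_finset_symmDiff]
  rw [smul_fin_two_pow hP (h _), smul_fin_two_pow hP (h _), smul_fin_two_pow hP (h _),
    smul_fin_two_pow hP (h _)]

/-- The syndrome. -/
theorem enc_tm (q : ℕ) : enc (tm q) ^^^ tm q = synN q <<< 12 := by
  have h : ∀ n : ℕ, n % 24 < 24 := fun n => Nat.mod_lt _ (by norm_num)
  unfold tm synN
  rw [Nat.shiftLeft_xor_distrib, Nat.shiftLeft_xor_distrib, Nat.shiftLeft_xor_distrib,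
    ← sy_spec _ (h _), ← sy_spec _ (h _), ← sy_spec _ (h _), ← sy_spec _ (h _),
    enc_xor, enc_xor, enc_xor]
  ac_rfl

theorem xor_eq_xor {a b c d : ℕ} (h : a ^^^ b = c ^^^ d) : a ^^^ c = b ^^^ d := by
  have h1 : a = (c ^^^ d) ^^^ b := by rw [← h, Nat.xor_assoc, Nat.xor_self, Nat.xor_zero]
  rw [h1]
  rw [show (c ^^^ d) ^^^ b ^^^ c = (c ^^^ c) ^^^ (b ^^^ d) by ac_rfl, Nat.xor_self, Nat.zero_xor]

theorem sextetOf_tet_eq {q q' : ℕ} (hq : (tet q).card = 4) (hq' : (tet q').card = 4)
    (h : synN q = synN q') : sextetOf (tet q) = sextetOf (tet q') := by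
  apply sextetOf_eq hq hq'
  unfold tet
  rw [← fin_xor, fin_mem_supports_iff (Nat.xor_lt_two_pow (tm_lt _) (tm_lt _)), isCode_iff,
    enc_xor]
  apply xor_eq_xor
  rw [enc_tm, enc_tm, h]

/-! ### The base sextet and its stabiliser -/

/-- The sextet of node `j`. -/
noncomputable def Sx (j : ℕ) : Finset (Finset GolayPt) := sextetOf (tet (node j))

/-- The stabiliser of the base sextet. -/
noncomputable abbrev H : Subgroup M24 := MulAction.stabilizer M24 (Sx 0)

theorem card_tet_of_popcount {q : ℕ} (h : popcount (tm q) = 4) : (tet q).card = 4 := by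
  rw [tet, card_fin, h]

theorem card_node0 : (tet (node 0)).card = 4 := card_tet_of_popcount (by decide +kernel)
theorem card_node1 : (tet (node 1)).card = 4 := card_tet_of_popcount (by decide +kernel)
theorem card_node91 : (tet (node 91)).card = 4 := card_tet_of_popcount (by decide +kernel)
theorem card_node331 : (tet (node 331)).card = 4 := card_tet_of_popcount (by decide +kernel)

theorem lo_cases (j : ℕ) : (j < 91 ∧ lo j = 1) ∨ (91 ≤ j ∧ j < 331 ∧ lo j = 91) ∨
    (331 ≤ j ∧ lo j = 331) := by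
  unfold lo
  by_cases h1 : j < 91
  · left
    rw [show Nat.blt j 91 = true from Nat.ble_eq_true_of_le h1]
    exact ⟨h1, rfl⟩
  · right
    rw [show Nat.blt j 91 = false from Bool.eq_false_iff.2 (fun h => h1 (Nat.le_of_ble_eq_true h))]
    by_cases h2 : j < 331
    · left
      rw [show Nat.blt j 331 = true from Nat.ble_eq_true_of_le h2]
      exact ⟨by omega, h2, rfl⟩
    · right
      rw [show Nat.blt j 331 = false from Bool.eq_false_iff.2 (fun h => h2 (Nat.le_of_ble_eq_true h))]
      exact ⟨by omega, rfl⟩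

theorem card_lo (j : ℕ) : (tet (node (lo j))).card = 4 := by
  rcases lo_cases j with ⟨-, h⟩ | ⟨-, -, h⟩ | ⟨-, h⟩ <;> rw [h]
  · exact card_node1
  · exact card_node91
  · exact card_node331

/-- A generator as an element of the stabiliser. -/
theorem exists_gen {P : ℕ} (hP : isPerm P = true) (hA : isAut P = true)
    (hs : synN (actT P (node 0)) = synN (node 0)) :
    ∃ h : M24, h ∈ H ∧ ∀ q, h • tet q = tet (actT P q) := by
  refine ⟨⟨permOf P hP, permOf_mem_M24 hP hA⟩, ?_, fun q => tet_smul hP q⟩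
  rw [MulAction.mem_stabilizer_iff]
  show permOf P hP • sextetOf (tet (node 0)) = sextetOf (tet (node 0))
  rw [smul_sextetOf (permOf_mem_M24 hP hA) card_node0, tet_smul hP]
  apply sextetOf_tet_eq _ card_node0 hs
  rw [← tet_smul hP, Finset.card_smul_finset]
  exact card_node0

theorem exists_gen_of_node (j : ℕ) : ∃ h : M24, h ∈ H ∧ ∀ q, h • tet q = tet (actT (gen j) q) := by
  rcases gen_cases j with h | h <;> rw [h]
  · exact exists_gen isPerm_P1 isAut_P1 syn_P1
  · exact exists_gen isPerm_P2 isAut_P2 syn_P2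

theorem chk_spec {j : ℕ} (h1 : 1 ≤ j) (h2 : j < 1771) (h3 : j ≠ lo j) :
    lo j ≤ par j ∧ par j < j ∧ node j = actT (gen j) (node (par j)) := by
  have h := allR_zero_spec chk_all j (by omega)
  unfold chk at h
  rw [show Nat.ble 1771 j = false from Bool.eq_false_iff.2 (fun h => by
    have := Nat.le_of_ble_eq_true h; omega)] at h
  rw [show Nat.beq j 0 = false from Bool.eq_false_iff.2 (fun h => by
    have := Nat.eq_of_beq_eq_true h; omega)] at h
  rw [show Nat.beq j (lo j) = false from Bool.eq_false_iff.2 (fun h => h3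
    (Nat.eq_of_beq_eq_true h))] at h
  rw [Bool.false_or, Bool.false_or, Bool.false_or, Bool.and_eq_true, Bool.and_eq_true] at h
  exact ⟨Nat.le_of_ble_eq_true h.1.1, Nat.le_of_ble_eq_true h.1.2, Nat.eq_of_beq_eq_true h.2⟩

/-- Each node is reached from the first node of its block. -/
theorem reach (j : ℕ) (h1 : 1 ≤ j) (h2 : j < 1771) :
    ∃ h : M24, h ∈ H ∧ h • tet (node (lo j)) = tet (node j) := by
  induction j using Nat.strong_induction_on with
  | _ j ih =>
    by_cases h3 : j = lo j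
    · exact ⟨1, H.one_mem, by rw [← h3, one_smul]⟩
    · obtain ⟨ha, hb, hc⟩ := chk_spec h1 h2 h3
      have hlo : 1 ≤ lo j ∧ lo (par j) = lo j := by
        have h4 := lo_cases j
        have h5 := lo_cases (par j)
        omega
      obtain ⟨h, hh, hh'⟩ := ih (par j) hb (by omega) (by omega)
      obtain ⟨g, hg, hg'⟩ := exists_gen_of_node j
      refine ⟨g * h, H.mul_mem hg hh, ?_⟩
      rw [mul_smul, ← hlo.2, hh', hg', hc]

theorem card_node (j : ℕ) (h2 : j < 1771) : (tet (node j)).card = 4 := by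
  rcases Nat.eq_zero_or_pos j with rfl | h1
  · exact card_node0
  · obtain ⟨h, -, hh⟩ := reach j h1 h2
    rw [← hh]
    show ((h : Equiv.Perm GolayPt) • tet (node (lo j))).card = 4
    rw [Finset.card_smul_finset]
    exact card_lo j

theorem Sx_mem (j : ℕ) (h2 : j < 1771) : Sx j ∈ sextets := sextetOf_mem (card_node j h2)

theorem Sx_mem_orbit (j : ℕ) (h1 : 1 ≤ j) (h2 : j < 1771) :
    Sx j ∈ MulAction.orbit H (Sx (lo j)) := by
  obtain ⟨h, hh, he⟩ := reach j h1 h2
  refine ⟨⟨h, hh⟩, ?_⟩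
  show (h : Equiv.Perm GolayPt) • sextetOf (tet (node (lo j))) = sextetOf (tet (node j))
  rw [smul_sextetOf h.2 (card_lo j)]
  congr 1

/-! ### Every sextet has a node -/

theorem fin_four {a b c d : ℕ} (ha : a < 24) (hb : b < 24) (hc : c < 24) (hd : d < 24)
    (hab : a ≠ b) (hac : a ≠ c) (had : a ≠ d) (hbc : b ≠ c) (hbd : b ≠ d) (hcd : c ≠ d) :
    fin (2 ^ a ^^^ 2 ^ b ^^^ 2 ^ c ^^^ 2 ^ d) = {pt a, pt b, pt c, pt d} := by
  ext p
  have key : ∀ i, i < 24 → (p = pt i ↔ i = idx p) := by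
    intro i hi
    constructor
    · intro h; rw [h, idx_pt hi]
    · intro h; rw [h, pt_idx]
  rw [mem_fin]
  simp only [Nat.testBit_xor, Nat.testBit_two_pow, Finset.mem_insert, Finset.mem_singleton,
    key a ha, key b hb, key c hc, key d hd]
  by_cases h1 : a = idx p
  · have h2 : b ≠ idx p := fun h => hab (h1.trans h.symm)
    have h3 : c ≠ idx p := fun h => hac (h1.trans h.symm)
    have h4 : d ≠ idx p := fun h => had (h1.trans h.symm)
    simp [h1, h2, h3, h4]
  · by_cases h2 : b = idx p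
    · have h3 : c ≠ idx p := fun h => hbc (h2.trans h.symm)
      have h4 : d ≠ idx p := fun h => hbd (h2.trans h.symm)
      simp [h1, h2, h3, h4]
    · by_cases h3 : c = idx p
      · have h4 : d ≠ idx p := fun h => hcd (h3.trans h.symm)
        simp [h1, h2, h3, h4]
      · simp [h1, h2, h3]

theorem sy_lt (i : ℕ) : sy i < 2 ^ 12 := Nat.mod_lt _ (by norm_num)

theorem exists_node_of_syn {s : ℕ} (hs : s < 2 ^ 12) (h : jt s < 1771) :
    ∃ j, j < 1771 ∧ synN (node j) = s := by
  refine ⟨jt s, h, ?_⟩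
  have h1 := allR_zero_spec chkJ_all s hs
  unfold chkJ at h1
  rw [show Nat.ble 1771 (jt s) = false from Bool.eq_false_iff.2 (fun h' => by
    have := Nat.le_of_ble_eq_true h'; omega), Bool.false_or] at h1
  exact Nat.eq_of_beq_eq_true h1

theorem key_spec {a b c : ℕ} (ha : a < 23) (hb : b < 23) (hc : c < 23) (hab : a ≠ b) (hac : a ≠ c)
    (hbc : b ≠ c) : jt (sy 23 ^^^ sy a ^^^ sy b ^^^ sy c) < 1771 := by
  have f : ∀ n, n < 23 → Nat.ble 23 n = false := fun n hn =>
    Bool.eq_false_iff.2 (fun h' => by have := Nat.le_of_ble_eq_true h'; omega)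
  have g : ∀ m n : ℕ, m ≠ n → Nat.beq m n = false := fun m n hmn =>
    Bool.eq_false_iff.2 (fun h' => hmn (Nat.eq_of_beq_eq_true h'))
  have h1 := allR_zero_spec chkK_all a (by omega)
  rw [f a ha, Bool.false_or] at h1
  have h2 := allR_zero_spec h1 b (by omega)
  rw [f b hb, Bool.false_or] at h2
  have h3 := allR_zero_spec h2 c (by omega)
  rw [f c hc, Bool.false_or] at h3
  unfold chkK at h3
  rw [g a b hab, g a c hac, g b c hbc, Bool.false_or, Bool.false_or, Bool.false_or] at h3
  exact Nat.le_of_ble_eq_true h3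

theorem idx_some_lt {p : GolayPt} (hp : p ≠ none) : idx p < 23 := by
  revert p; decide

theorem exists_node {X : Finset (Finset GolayPt)} (hX : X ∈ sextets) :
    ∃ j, j < 1771 ∧ X = Sx j := by
  obtain ⟨t, ht, hnone⟩ := Sextet.exists_mem_of_sextet hX none
  have h4 : t.card = 4 := hX.2.1 t ht
  have h3 : (t.erase none).card = 3 := by rw [Finset.card_erase_of_mem hnone, h4]
  obtain ⟨x, y, z, hxy, hxz, hyz, he⟩ := Finset.card_eq_three.1 h3
  have hx : x ≠ none := Finset.ne_of_mem_erase (by rw [he]; simp : x ∈ t.erase none)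
  have hy : y ≠ none := Finset.ne_of_mem_erase (by rw [he]; simp : y ∈ t.erase none)
  have hz : z ≠ none := Finset.ne_of_mem_erase (by rw [he]; simp : z ∈ t.erase none)
  have hte : t = {none, x, y, z} := by rw [← Finset.insert_erase hnone, he]
  have ha := idx_some_lt hx
  have hb := idx_some_lt hy
  have hc := idx_some_lt hz
  have hab : idx x ≠ idx y := fun h => hxy (idx_injective h)
  have hac : idx x ≠ idx z := fun h => hxz (idx_injective h)
  have hbc : idx y ≠ idx z := fun h => hyz (idx_injective h)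
  obtain ⟨j, hj, hs⟩ := exists_node_of_syn (Nat.xor_lt_two_pow (Nat.xor_lt_two_pow
    (Nat.xor_lt_two_pow (sy_lt 23) (sy_lt _)) (sy_lt _)) (sy_lt _)) (key_spec ha hb hc hab hac hbc)
  refine ⟨j, hj, ?_⟩
  obtain ⟨h1, h2, h3, h4'⟩ := digits (a := 23) (by norm_num) (lt_trans ha (by norm_num))
    (lt_trans hb (by norm_num)) (lt_trans hc (by norm_num))
  have htet : t = tet (23 + 24 * idx x + 576 * idx y + 13824 * idx z) := by
    unfold tet tm
    rw [h1, h2, h3, h4', fin_four (by norm_num) (by omega) (by omega) (by omega) (by omega)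
      (by omega) (by omega) hab hac hbc, pt_idx, pt_idx, pt_idx, hte]
    rfl
  rw [eq_sextetOf hX ht, htet]
  apply sextetOf_tet_eq
  · rw [← htet, h4]
  · exact card_node j hj
  · rw [hs]
    unfold synN
    rw [h1, h2, h3, h4']

/-! ### The invariant on the four blocks -/

def L0 : List ℕ := [12582915, 73748, 134272, 541440, 1310816, 2134024]
def L1 : List ℕ := [8388629, 3168, 577536, 1441920, 2097928, 4268034]
def L2 : List ℕ := [8388615, 147496, 268544, 1082880, 2621632, 4268048]
def L3 : List ℕ := [8388621, 43136, 147490, 1118272, 2097936, 4981760]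

theorem Sx0_eq : Sx 0 = (L0.map fin).toFinset := by
  apply sextetOf_eq_toFinset _ L0 rfl (by decide +kernel) (tm_lt _) (by decide +kernel) card_node0
    (by decide +kernel) (by decide +kernel)

theorem Sx1_eq : Sx 1 = (L1.map fin).toFinset := by
  apply sextetOf_eq_toFinset _ L1 rfl (by decide +kernel) (tm_lt _) (by decide +kernel) card_node1
    (by decide +kernel) (by decide +kernel)

theorem Sx91_eq : Sx 91 = (L2.map fin).toFinset := by
  apply sextetOf_eq_toFinset _ L2 rfl (by decide +kernel) (tm_lt _) (by decide +kernel) card_node91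
    (by decide +kernel) (by decide +kernel)

theorem Sx331_eq : Sx 331 = (L3.map fin).toFinset := by
  apply sextetOf_eq_toFinset _ L3 rfl (by decide +kernel) (tm_lt _) (by decide +kernel) card_node331
    (by decide +kernel) (by decide +kernel)

theorem F_0 : F (Sx 0) (Sx 0) = 96 := by
  rw [Sx0_eq, F_toFinset _ _ (by decide +kernel) (by decide +kernel) (by decide +kernel)
    (by decide +kernel)]
  decide +kernel

theorem F_1 : F (Sx 0) (Sx 1) = 48 := by
  rw [Sx0_eq, Sx1_eq, F_toFinset _ _ (by decide +kernel) (by decide +kernel) (by decide +kernel)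
    (by decide +kernel)]
  decide +kernel

theorem F_91 : F (Sx 0) (Sx 91) = 36 := by
  rw [Sx0_eq, Sx91_eq, F_toFinset _ _ (by decide +kernel) (by decide +kernel) (by decide +kernel)
    (by decide +kernel)]
  decide +kernel

theorem F_331 : F (Sx 0) (Sx 331) = 32 := by
  rw [Sx0_eq, Sx331_eq, F_toFinset _ _ (by decide +kernel) (by decide +kernel) (by decide +kernel)
    (by decide +kernel)]
  decide +kernel

theorem F_orbit {X Y : Finset (Finset GolayPt)} (h : Y ∈ MulAction.orbit H X) :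
    F (Sx 0) Y = F (Sx 0) X := by
  obtain ⟨⟨g, hg⟩, rfl⟩ := h
  rw [MulAction.mem_stabilizer_iff] at hg
  have h1 : F ((g : Equiv.Perm GolayPt) • Sx 0) ((g : Equiv.Perm GolayPt) • X) = F (Sx 0) X :=
    F_smul _ _ _
  have h2 : (g : Equiv.Perm GolayPt) • Sx 0 = Sx 0 := hg
  rw [h2] at h1
  exact h1

theorem orbit_subset_sextets {X : Finset (Finset GolayPt)} (hX : X ∈ sextets) :
    MulAction.orbit H X ⊆ sextets := by
  rintro _ ⟨⟨g, hg⟩, rfl⟩
  exact smul_mem_sextets g.2 hX

/-- The block of a node is detected by the invariant. -/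
theorem orbit_subset_image (i : ℕ) (hi : i = 1 ∨ i = 91 ∨ i = 331)
    (Y : Finset (Finset GolayPt)) (hY : Y ∈ MulAction.orbit H (Sx i)) :
    ∃ j, 1 ≤ j ∧ j < 1771 ∧ lo j = i ∧ Y = Sx j := by
  have hF := F_orbit hY
  have hi' : i < 1771 := by omega
  obtain ⟨j, hj, rfl⟩ := exists_node (orbit_subset_sextets (Sx_mem i hi') hY)
  have hj0 : j ≠ 0 := by
    rintro rfl
    rw [F_0] at hF
    rcases hi with rfl | rfl | rfl
    · rw [F_1] at hF; omega
    · rw [F_91] at hF; omega
    · rw [F_331] at hF; omega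
  have hF' := F_orbit (Sx_mem_orbit j (by omega) hj)
  rw [hF] at hF'
  refine ⟨j, by omega, hj, ?_, rfl⟩
  rcases lo_cases j with ⟨h1, h⟩ | ⟨h1, h2, h⟩ | ⟨h1, h⟩ <;> rw [h] at hF' ⊢ <;>
    rcases hi with rfl | rfl | rfl <;> (first | rfl | (exfalso; simp only [F_1, F_91, F_331] at hF'; omega))

theorem ncard_orbit_le (i n : ℕ) (hi : i = 1 ∨ i = 91 ∨ i = 331)
    (hn : ∀ j, j < 1771 → lo j = i → j < i + n) :
    (MulAction.orbit H (Sx i)).ncard ≤ n := by
  have h1 : MulAction.orbit H (Sx i) ⊆ Sx '' (Finset.Ico i (i + n) : Finset ℕ) := by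
    intro Y hY
    obtain ⟨j, h1, h2, h3, rfl⟩ := orbit_subset_image i hi Y hY
    refine ⟨j, ?_, rfl⟩
    rw [Finset.coe_Ico, Set.mem_Ico]
    refine ⟨?_, hn j h2 h3⟩
    have := lo_cases j
    omega
  calc (MulAction.orbit H (Sx i)).ncard
      ≤ (Sx '' (Finset.Ico i (i + n) : Finset ℕ)).ncard :=
        Set.ncard_le_ncard h1 ((Finset.finite_toSet _).image _)
    _ ≤ ((Finset.Ico i (i + n) : Finset ℕ) : Set ℕ).ncard :=
        Set.ncard_image_le (Finset.finite_toSet _)
    _ = n := by rw [Set.ncard_coe_finset, Nat.card_Ico]; omega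

theorem sextets_eq : sextets = {Sx 0} ∪ MulAction.orbit H (Sx 1) ∪ MulAction.orbit H (Sx 91) ∪
    MulAction.orbit H (Sx 331) := by
  apply Set.Subset.antisymm
  · intro X hX
    obtain ⟨j, hj, rfl⟩ := exists_node hX
    rcases Nat.eq_zero_or_pos j with rfl | h1
    · exact Or.inl (Or.inl (Or.inl rfl))
    · have h2 := Sx_mem_orbit j h1 hj
      rcases lo_cases j with ⟨-, h⟩ | ⟨-, -, h⟩ | ⟨-, h⟩ <;> rw [h] at h2
      · exact Or.inl (Or.inl (Or.inr h2))
      · exact Or.inl (Or.inr h2)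
      · exact Or.inr h2
  · rintro X (((h | h) | h) | h)
    · rw [Set.mem_singleton_iff.1 h]; exact Sx_mem 0 (by norm_num)
    · exact orbit_subset_sextets (Sx_mem 1 (by norm_num)) h
    · exact orbit_subset_sextets (Sx_mem 91 (by norm_num)) h
    · exact orbit_subset_sextets (Sx_mem 331 (by norm_num)) h

theorem ncard_orbits : (MulAction.orbit H (Sx 1)).ncard = 90 ∧
    (MulAction.orbit H (Sx 91)).ncard = 240 ∧ (MulAction.orbit H (Sx 331)).ncard = 1440 := by
  have hc : ∀ j, _ := fun j => lo_cases j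
  have h1 := ncard_orbit_le 1 90 (by omega) (fun j h2 h3 => by have := hc j; omega)
  have h2 := ncard_orbit_le 91 240 (by omega) (fun j h2 h3 => by have := hc j; omega)
  have h3 := ncard_orbit_le 331 1440 (by omega) (fun j h2 h3 => by have := hc j; omega)
  have h4 := Sextet.ncard_sextets S0363.result
  rw [sextets_eq] at h4
  have h5 := Set.ncard_union_le ({Sx 0} ∪ MulAction.orbit H (Sx 1) ∪ MulAction.orbit H (Sx 91))
    (MulAction.orbit H (Sx 331))
  have h6 := Set.ncard_union_le ({Sx 0} ∪ MulAction.orbit H (Sx 1)) (MulAction.orbit H (Sx 91))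
  have h7 := Set.ncard_union_le {Sx 0} (MulAction.orbit H (Sx 1))
  rw [Set.ncard_singleton] at h7
  omega

/-! ### Transitivity of `M24` on sextets -/

theorem exists_move {P : ℕ} (hP : isPerm P = true) (hA : isAut P = true) {j : ℕ} (hj : j < 1771)
    (hs : synN (actT P (node 0)) = synN (node j)) : ∃ g : M24, g • Sx 0 = Sx j := by
  refine ⟨⟨permOf P hP, permOf_mem_M24 hP hA⟩, ?_⟩
  show permOf P hP • sextetOf (tet (node 0)) = sextetOf (tet (node j))
  rw [smul_sextetOf (permOf_mem_M24 hP hA) card_node0, tet_smul hP]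
  apply sextetOf_tet_eq _ (card_node j hj) hs
  rw [← tet_smul hP, Finset.card_smul_finset]
  exact card_node0

theorem exists_move_of_orbit {i j : ℕ} (h1 : 1 ≤ j) (hj : j < 1771) (hlo : lo j = i)
    (hm : ∃ g : M24, g • Sx 0 = Sx j) {X : Finset (Finset GolayPt)}
    (hX : X ∈ MulAction.orbit H (Sx i)) : ∃ g : M24, g • Sx 0 = X := by
  obtain ⟨g, hg⟩ := hm
  obtain ⟨⟨k, hk⟩, rfl⟩ := hX
  obtain ⟨⟨l, hl⟩, hl'⟩ := Sx_mem_orbit j h1 hj
  rw [hlo] at hl'
  have hl'' : l • Sx i = Sx j := hl'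
  refine ⟨k * l⁻¹ * g, ?_⟩
  show (k * l⁻¹ * g) • Sx 0 = k • Sx i
  rw [mul_smul, mul_smul, hg, ← hl'', inv_smul_smul]

theorem exists_smul_eq {X : Finset (Finset GolayPt)} (hX : X ∈ sextets) :
    ∃ g : M24, g • Sx 0 = X := by
  rw [sextets_eq] at hX
  rcases hX with ((h | h) | h) | h
  · exact ⟨1, by rw [one_smul, Set.mem_singleton_iff.1 h]⟩
  · exact exists_move_of_orbit (j := 36) (by norm_num) (by norm_num) (by decide)
      (exists_move isPerm_Q1 isAut_Q1 (by norm_num) syn_Q1) h
  · exact exists_move_of_orbit (j := 91) (by norm_num) (by norm_num) (by decide)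
      (exists_move isPerm_Q2 isAut_Q2 (by norm_num) syn_Q2) h
  · exact exists_move_of_orbit (j := 1433) (by norm_num) (by norm_num) (by decide)
      (exists_move isPerm_Q3 isAut_Q3 (by norm_num) syn_Q3) h

/-- `M24` is transitive on sextets. -/
theorem orbit_eq {S : Finset (Finset GolayPt)} (hS : S ∈ sextets) :
    MulAction.orbit M24 S = sextets := by
  apply Set.Subset.antisymm
  · rintro _ ⟨g, rfl⟩
    exact smul_mem_sextets g.2 hS
  · intro X hX
    obtain ⟨g, rfl⟩ := exists_smul_eq hX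
    obtain ⟨k, rfl⟩ := exists_smul_eq hS
    exact ⟨g * k⁻¹, by show (g * k⁻¹) • k • Sx 0 = _; rw [mul_smul, inv_smul_smul]⟩

end Cfsg.Agent.SporadicStructure.SextetOrbits
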