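import Cfsg.Agent.SporadicStructure.OctadMeet
import Cfsg.Agent.SporadicA.SteinerCount

set_option autoImplicit false

namespace Cfsg.Agent.SporadicStructure.OctadMeetCounts

open Finset Cfsg

variable {α : Type*} [Fintype α] [DecidableEq α]

/-- In a Steiner system S(5,8,24): a block is met in a prescribed pair of its points by exactly 16
blocks and in a prescribed 4-subset by exactly 4 blocks (as finsets). -/
theorem card_meet (hα : Fintype.card α = 24) {B : Set (Finset α)} (hB : IsSteinerSystem 5 8 B)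
    (hint : ∀ b ∈ B, ∀ c ∈ B, b ≠ c → (b ∩ c).card = 0 ∨ (b ∩ c).card = 2 ∨ (b ∩ c).card = 4)
    (F : Finset (Finset α)) (hF : ∀ b, b ∈ F ↔ b ∈ B)
    {o : Finset α} (ho : o ∈ B) {s : Finset α} (hs : s ⊆ o) :
    (s.card = 2 → (F.filter (fun o' => o ∩ o' = s)).card = 16) ∧
    (s.card = 4 → (F.filter (fun o' => o ∩ o' = s)).card = 4) := by
  have ho8 := hB.1 o ho
  have h5 : ∀ t : Finset α, t.card = 4 → (F.filter (t ⊆ ·)).card = 5 := by
    intro t ht
    have := SporadicA.SteinerCount.card_blocks_containing hB F hF t (by omega)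
    rw [ht, hα] at this
    norm_num [Nat.choose] at this
    omega
  constructor
  · intro hs2
    have h77 : (F.filter (s ⊆ ·)).card = 77 := by
      have := SporadicA.SteinerCount.card_blocks_containing hB F hF s (by omega)
      rw [hs2, hα] at this
      norm_num [Nat.choose] at this
      omega
    exact OctadMeet.ncard_meet_two F hF hint ho ho8 hs hs2 h5 h77
  · intro hs4
    exact OctadMeet.ncard_meet_four F hF hint ho ho8 hs hs4 (h5 s hs4)

/-- The same with `Set.ncard`. -/
theorem ncard_meet (hα : Fintype.card α = 24) {B : Set (Finset α)} (hB : IsSteinerSystem 5 8 B)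
    (hint : ∀ b ∈ B, ∀ c ∈ B, b ≠ c → (b ∩ c).card = 0 ∨ (b ∩ c).card = 2 ∨ (b ∩ c).card = 4)
    {o : Finset α} (ho : o ∈ B) {s : Finset α} (hs : s ⊆ o) :
    (s.card = 2 → {o' : Finset α | o' ∈ B ∧ o ∩ o' = s}.ncard = 16) ∧
    (s.card = 4 → {o' : Finset α | o' ∈ B ∧ o ∩ o' = s}.ncard = 4) := by
  classical
  have hF : ∀ b, b ∈ (Set.toFinite B).toFinset ↔ b ∈ B := fun b => Set.Finite.mem_toFinset _
  have key := card_meet hα hB hint _ hF ho hs
  have e : {o' : Finset α | o' ∈ B ∧ o ∩ o' = s} =
      (((Set.toFinite B).toFinset.filter (fun o' => o ∩ o' = s) : Finset (Finset α)) :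
        Set (Finset α)) := by
    ext o'
    simp
  rw [e, Set.ncard_coe_finset]
  exact key

end Cfsg.Agent.SporadicStructure.OctadMeetCounts
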