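import Cfsg.Agent.SporadicStructure.TrioData
import Cfsg.Agent.SporadicStructure.TrioInv
import Cfsg.Agent.S1557

/-!
# The orbits of a trio stabiliser on the trios
-/

set_option autoImplicit false

namespace Cfsg.Agent.SporadicStructure.TrioOrbits

open Cfsg Cfsg.Agent.SporadicA.GolayBase Cfsg.Agent.SporadicA.GolayPerm
open Cfsg.Agent.SporadicStructure.TrioCert Cfsg.Agent.SporadicStructure.TrioInv
open Cfsg.Agent.SporadicStructure.TrioData Cfsg.Agent.SporadicStructure.OrbitSizes
open scoped Pointwise

/-- The base trio. -/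
def T0 : Finset (Finset GolayPt) := tri 8391797 4346506 4038912

theorem T0_mem : T0 ∈ trios :=
  tri_mem_trios (by norm_num) (by norm_num) (by norm_num) (by decide +kernel)

/-- Representatives of the four other orbits. -/
def X : Fin 4 → Finset (Finset GolayPt)
  | 0 => tri 8391797 4645632 3739786
  | 1 => tri 8394986 4645632 3736597
  | 2 => tri 8394986 4924673 3457556
  | 3 => tri 8398155 4768432 3610628

/-- Permutations moving the base trio to the representatives. -/
def H : Fin 4 → ℕ
  | 0 => 443554173076151051267191145042580582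
  | 1 => 916731612998958392320283838163263501
  | 2 => 980146346685164894700590265626012677
  | 3 => 967736338991213295928397963319215725

/-- Sizes. -/
def n : Fin 4 → ℕ
  | 0 => 42
  | 1 => 56
  | 2 => 1008
  | 3 => 2688

/-- Certificates. -/
def C : Fin 4 → ℕ
  | 0 => C1
  | 1 => C2
  | 2 => C3
  | 3 => C4

theorem isPerm_P0 : isPerm P0 = true := by decide +kernel
theorem isPerm_P1 : isPerm P1 = true := by decide +kernel
theorem isAut_P0 : isAut P0 = true := by decide +kernel
theorem isAut_P1 : isAut P1 = true := by decide +kernel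
theorem isPerm_H (i : Fin 4) : isPerm (H i) = true := by revert i; decide +kernel
theorem isAut_H (i : Fin 4) : isAut (H i) = true := by revert i; decide +kernel

theorem P0_T0 : permOf P0 isPerm_P0 • T0 = T0 := by
  unfold T0
  rw [smul_tri]
  exact tri_eq_of_same3 (by decide +kernel)

theorem P1_T0 : permOf P1 isPerm_P1 • T0 = T0 := by
  unfold T0
  rw [smul_tri]
  exact tri_eq_of_same3 (by decide +kernel)

theorem H_T0 (i : Fin 4) : permOf (H i) (isPerm_H i) • T0 = X i := by
  unfold T0
  rw [smul_tri]
  fin_cases i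
  · exact tri_eq_of_same3 (by decide +kernel)
  · exact tri_eq_of_same3 (by decide +kernel)
  · exact tri_eq_of_same3 (by decide +kernel)
  · exact tri_eq_of_same3 (by decide +kernel)

theorem X_mem (i : Fin 4) : X i ∈ trios := by
  rw [← H_T0]
  exact smul_mem_trios (permOf_mem_M24 _ (isAut_H i)) T0_mem

theorem nd_X0 : nd T0 (X 0) = 4 := by
  refine (nd_tri (by norm_num) (by norm_num) (by norm_num) (by norm_num) (by norm_num)
    (by norm_num)).trans ?_
  decide +kernel
theorem nd_X1 : nd T0 (X 1) = 3 := by
  refine (nd_tri (by norm_num) (by norm_num) (by norm_num) (by norm_num) (by norm_num)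
    (by norm_num)).trans ?_
  decide +kernel
theorem nd_X2 : nd T0 (X 2) = 1 := by
  refine (nd_tri (by norm_num) (by norm_num) (by norm_num) (by norm_num) (by norm_num)
    (by norm_num)).trans ?_
  decide +kernel
theorem nd_X3 : nd T0 (X 3) = 0 := by
  refine (nd_tri (by norm_num) (by norm_num) (by norm_num) (by norm_num) (by norm_num)
    (by norm_num)).trans ?_
  decide +kernel
theorem nd_T0 : nd T0 T0 = 6 := by
  refine (nd_tri (by norm_num) (by norm_num) (by norm_num) (by norm_num) (by norm_num)
    (by norm_num)).trans ?_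
  decide +kernel

/-- The stabiliser of the base trio. -/
abbrev K : Subgroup M24 := MulAction.stabilizer M24 T0

/-- The subgroup of `Perm` whose elements are in the stabiliser of the base trio. -/
def KP : Subgroup (Equiv.Perm GolayPt) := M24 ⊓ MulAction.stabilizer (Equiv.Perm GolayPt) T0

theorem mem_orbit_K {g : Equiv.Perm GolayPt} (hg : g ∈ KP) (Y : Finset (Finset GolayPt)) :
    g • Y ∈ MulAction.orbit K Y := by
  refine ⟨⟨⟨g, hg.1⟩, ?_⟩, rfl⟩
  exact hg.2

theorem P0_mem : permOf P0 isPerm_P0 ∈ KP := ⟨permOf_mem_M24 _ isAut_P0, P0_T0⟩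
theorem P1_mem : permOf P1 isPerm_P1 ∈ KP := ⟨permOf_mem_M24 _ isAut_P1, P1_T0⟩

/-- Lower bound for the size of an orbit from a certificate. -/
theorem le_ncard {C' n' r k : ℕ} (hcheck : allR C' n' P0 P1 r k 0 = true)
    (hn : n' ≤ 2 ^ k) (Y : Finset (Finset GolayPt)) (hY : triE (ent C' r) = Y) :
    n' ≤ (MulAction.orbit K Y).ncard := by
  obtain ⟨h1, h2⟩ := cert_spec hcheck hn KP isPerm_P0 isPerm_P1 P0_mem P1_mem
  have hsub : Set.range (fun i : Fin n' => triE (ent C' i)) ⊆ MulAction.orbit K Y := by
    rintro _ ⟨i, rfl⟩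
    obtain ⟨g, hg, hgi⟩ := h1 i i.2
    show triE (ent C' i) ∈ _
    rw [← hgi, hY]
    exact mem_orbit_K hg Y
  have hinj : Function.Injective (fun i : Fin n' => triE (ent C' i)) := by
    intro i j hij
    exact Fin.ext (h2 i j i.2 j.2 hij)
  have h3 : (Set.range (fun i : Fin n' => triE (ent C' i))).ncard = n' := by
    rw [← Set.image_univ, Set.ncard_image_of_injective _ hinj, Set.ncard_univ, Nat.card_fin]
  calc n' = (Set.range (fun i : Fin n' => triE (ent C' i))).ncard := h3.symm
    _ ≤ _ := Set.ncard_le_ncard hsub (Set.toFinite _)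

theorem le_ncard_X (i : Fin 4) : n i ≤ (MulAction.orbit K (X i)).ncard := by
  fin_cases i
  · exact le_ncard cert1 (by norm_num) _ (tri_eq_of_same3 (by decide +kernel))
  · exact le_ncard cert2 (by norm_num) _ (tri_eq_of_same3 (by decide +kernel))
  · exact le_ncard cert3 (by norm_num) _ (tri_eq_of_same3 (by decide +kernel))
  · exact le_ncard cert4 (by norm_num) _ (tri_eq_of_same3 (by decide +kernel))

theorem orbit_K_subset {Y : Finset (Finset GolayPt)} (hY : Y ∈ trios) :
    MulAction.orbit K Y ⊆ trios := by
  rintro _ ⟨g, rfl⟩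
  exact smul_mem_trios g.1.2 hY

theorem nd_of_mem_orbit {Y Z : Finset (Finset GolayPt)} (h : Z ∈ MulAction.orbit K Y) :
    nd T0 Z = nd T0 Y := by
  obtain ⟨g, rfl⟩ := h
  have h1 : (g.1.1 : Equiv.Perm GolayPt) • T0 = T0 := g.2
  show nd T0 ((g.1.1 : Equiv.Perm GolayPt) • Y) = nd T0 Y
  conv_lhs => rw [← h1]
  exact nd_smul _ _ _

/-- The value of `nd T0` on the orbits. -/
def v : Fin 4 → ℕ
  | 0 => 4
  | 1 => 3
  | 2 => 1
  | 3 => 0

theorem nd_X (i : Fin 4) : nd T0 (X i) = v i := by
  fin_cases i
  · exact nd_X0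
  · exact nd_X1
  · exact nd_X2
  · exact nd_X3

theorem v_injective : Function.Injective v := by
  have : ∀ i j : Fin 4, v i = v j → i = j := by decide
  exact fun i j h => this i j h

theorem v_ne_six (i : Fin 4) : v i ≠ 6 := by
  revert i; decide

theorem disjoint_orbits {i j : Fin 4} (h : i ≠ j) :
    Disjoint (MulAction.orbit K (X i)) (MulAction.orbit K (X j)) := by
  rw [Set.disjoint_left]
  intro Y hi hj
  have h1 := nd_of_mem_orbit hi
  have h2 := nd_of_mem_orbit hj
  rw [nd_X] at h1 h2
  exact h (v_injective (h1.symm.trans h2))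

theorem T0_not_mem (i : Fin 4) : T0 ∉ MulAction.orbit K (X i) := by
  intro h
  have h1 := nd_of_mem_orbit h
  rw [nd_X, nd_T0] at h1
  exact v_ne_six i h1.symm

theorem X_ne (i : Fin 4) : X i ≠ T0 := by
  intro h
  apply T0_not_mem i
  rw [h]
  exact MulAction.mem_orbit_self _

/-- The five orbits. -/
def S (i : Option (Fin 4)) : Set (Finset (Finset GolayPt)) :=
  i.elim {T0} fun i => MulAction.orbit K (X i)

/-- Their sizes. -/
def N (i : Option (Fin 4)) : ℕ := i.elim 1 n

theorem S_none : S none = {T0} := rfl
theorem S_some (i : Fin 4) : S (some i) = MulAction.orbit K (X i) := rfl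
theorem N_none : N none = 1 := rfl
theorem N_some (i : Fin 4) : N (some i) = n i := rfl

theorem sum_n : 1 + ∑ i, n i = 3795 := by decide

theorem main_S : (∀ i, (S i).ncard = N i) ∧ trios = ⋃ i, S i := by
  apply ncard_eq_of_disjoint_cover (Set.toFinite _)
  · intro i
    cases i with
    | none => rw [S_none]; exact Set.singleton_subset_iff.2 T0_mem
    | some i => rw [S_some]; exact orbit_K_subset (X_mem i)
  · intro i j h
    cases i with
    | none =>
      cases j with
      | none => exact absurd rfl h
      | some j => 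
        rw [S_none, S_some]
        exact Set.disjoint_singleton_left.2 (T0_not_mem j)
    | some i =>
      cases j with
      | none => 
        rw [S_none, S_some]
        exact Set.disjoint_singleton_right.2 (T0_not_mem i)
      | some j =>
        rw [S_some, S_some]
        exact disjoint_orbits fun h' => h (by rw [h'])
  · intro i
    cases i with
    | none => rw [S_none, N_none, Set.ncard_singleton]
    | some i => rw [S_some, N_some]; exact le_ncard_X i
  · rw [Cfsg.Agent.S1557.result.2, Fintype.sum_option, N_none, ← sum_n]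
    exact le_rfl

theorem ncard_orbit (i : Fin 4) : (MulAction.orbit K (X i)).ncard = n i := main_S.1 (some i)

theorem trios_eq : trios = {T0} ∪ ⋃ i, MulAction.orbit K (X i) := by
  rw [main_S.2]
  ext Y
  rw [Set.mem_iUnion, Option.exists, S_none, Set.mem_union, Set.mem_iUnion]
  exact Iff.rfl

end Cfsg.Agent.SporadicStructure.TrioOrbits
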