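import Mathlib
import Cfsg.Prelude.Def_Sporadic_a
import Cfsg.Agent.SporadicA.SteinerCount

/-!
In a Steiner system `S(5, 8, 24)`: for a 3-subset `T` there are exactly 210 3-subsets disjoint
from `T` lying with `T` in a common block, and 1120 others.
-/

set_option autoImplicit false

namespace Cfsg.Agent.SporadicStructure.TriadCount

open Finset Cfsg

variable {α : Type*} [Fintype α] [DecidableEq α]

/-- In `S(5, 8, 24)` a 3-subset lies in 21 blocks. -/
theorem card_blocks_triad (hα : Fintype.card α = 24) {B : Set (Finset α)}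
    (hB : IsSteinerSystem 5 8 B) (F : Finset (Finset α)) (hF : ∀ b, b ∈ F ↔ b ∈ B)
    {T : Finset α} (hT : T.card = 3) : (F.filter (fun b => T ⊆ b)).card = 21 := by
  have h := SporadicA.SteinerCount.card_blocks_containing hB F hF T (by omega)
  rw [hα, hT] at h
  have h1 : (8 - 3).choose (5 - 3) = 10 := by decide
  have h2 : (24 - 3).choose (5 - 3) = 210 := by decide
  rw [h1, h2] at h
  omega

theorem ncard_triads_common (hα : Fintype.card α = 24) {B : Set (Finset α)}
    (hB : IsSteinerSystem 5 8 B) {T : Finset α} (hT : T.card = 3) :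
    {U : Finset α | U.card = 3 ∧ Disjoint T U ∧ (∃ o ∈ B, T ∪ U ⊆ o)}.ncard = 210 := by
  classical
  set F : Finset (Finset α) := (Set.toFinite B).toFinset with hFdef
  have hF : ∀ b, b ∈ F ↔ b ∈ B := fun b => by rw [hFdef, Set.Finite.mem_toFinset]
  have key : {U : Finset α | U.card = 3 ∧ Disjoint T U ∧ (∃ o ∈ B, T ∪ U ⊆ o)} =
      (((F.filter (fun b => T ⊆ b)).biUnion (fun b => (b \ T).powersetCard 3) :
        Finset (Finset α)) : Set (Finset α)) := by
    ext U
    rw [Set.mem_ofPred_eq, Finset.mem_coe, Finset.mem_biUnion]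
    constructor
    · rintro ⟨hU, hd, o, ho, hs⟩
      refine ⟨o, ?_, ?_⟩
      · rw [Finset.mem_filter, hF]
        exact ⟨ho, Finset.union_subset_left hs⟩
      · rw [Finset.mem_powersetCard]
        refine ⟨?_, hU⟩
        intro x hx
        rw [Finset.mem_sdiff]
        exact ⟨Finset.union_subset_right hs hx, fun hxT => Finset.disjoint_left.1 hd hxT hx⟩
    · rintro ⟨o, ho, hU⟩
      rw [Finset.mem_filter, hF] at ho
      rw [Finset.mem_powersetCard] at hU
      refine ⟨hU.2, ?_, o, ho.1, ?_⟩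
      · rw [Finset.disjoint_left]
        intro x hxT hxU
        exact (Finset.mem_sdiff.1 (hU.1 hxU)).2 hxT
      · exact Finset.union_subset ho.2 (hU.1.trans Finset.sdiff_subset)
  rw [key, Set.ncard_coe_finset, Finset.card_biUnion]
  · rw [Finset.sum_const_nat (m := 10), card_blocks_triad hα hB F hF hT]
    intro b hb
    rw [Finset.mem_filter, hF] at hb
    rw [Finset.card_powersetCard, Finset.card_sdiff_of_subset hb.2, hB.1 b hb.1, hT]
    decide
  · intro b hb c hc hbc
    rw [Finset.mem_coe, Finset.mem_filter, hF] at hb hc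
    change Disjoint ((b \ T).powersetCard 3) ((c \ T).powersetCard 3)
    rw [Finset.disjoint_left]
    intro U hUb hUc
    rw [Finset.mem_powersetCard] at hUb hUc
    have hlt := SporadicA.SteinerCount.card_inter_lt hB hb.1 hc.1 hbc
    have hsub : T ∪ U ⊆ b ∩ c := by
      refine Finset.subset_inter ?_ ?_
      · exact Finset.union_subset hb.2 (hUb.1.trans Finset.sdiff_subset)
      · exact Finset.union_subset hc.2 (hUc.1.trans Finset.sdiff_subset)
    have hd : Disjoint T U := by
      rw [Finset.disjoint_left]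
      intro x hxT hxU
      exact (Finset.mem_sdiff.1 (hUb.1 hxU)).2 hxT
    have hc6 : (T ∪ U).card = 6 := by
      rw [Finset.card_union_of_disjoint hd, hT, hUb.2]
    have := Finset.card_le_card hsub
    omega

theorem ncard_triads_disjoint (hα : Fintype.card α = 24) {T : Finset α} (hT : T.card = 3) :
    {U : Finset α | U.card = 3 ∧ Disjoint T U}.ncard = 1330 := by
  classical
  have key : {U : Finset α | U.card = 3 ∧ Disjoint T U} =
      (((Tᶜ).powersetCard 3 : Finset (Finset α)) : Set (Finset α)) := by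
    ext U
    rw [Set.mem_ofPred_eq, Finset.mem_coe, Finset.mem_powersetCard, and_comm]
    refine and_congr_left fun _ => ?_
    rw [Finset.subset_compl_comm, Finset.disjoint_left, Finset.subset_iff]
    simp only [Finset.mem_compl]
  rw [key, Set.ncard_coe_finset, Finset.card_powersetCard, Finset.card_compl, hα, hT]
  decide

theorem ncard_triads_not_common (hα : Fintype.card α = 24) {B : Set (Finset α)}
    (hB : IsSteinerSystem 5 8 B) {T : Finset α} (hT : T.card = 3) :
    {U : Finset α | U.card = 3 ∧ Disjoint T U ∧ ¬ (∃ o ∈ B, T ∪ U ⊆ o)}.ncard = 1120 := by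
  have h1 := ncard_triads_common hα hB hT
  have h2 := ncard_triads_disjoint hα hT
  have key : {U : Finset α | U.card = 3 ∧ Disjoint T U} =
      {U : Finset α | U.card = 3 ∧ Disjoint T U ∧ (∃ o ∈ B, T ∪ U ⊆ o)} ∪
      {U : Finset α | U.card = 3 ∧ Disjoint T U ∧ ¬ (∃ o ∈ B, T ∪ U ⊆ o)} := by
    ext U
    rw [Set.mem_union, Set.mem_ofPred_eq, Set.mem_ofPred_eq, Set.mem_ofPred_eq]
    by_cases h : ∃ o ∈ B, T ∪ U ⊆ o
    · exact ⟨fun h' => Or.inl ⟨h'.1, h'.2, h⟩, fun h' => h'.elim (fun h' => ⟨h'.1, h'.2.1⟩)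
        (fun h' => ⟨h'.1, h'.2.1⟩)⟩
    · exact ⟨fun h' => Or.inr ⟨h'.1, h'.2, h⟩, fun h' => h'.elim (fun h' => ⟨h'.1, h'.2.1⟩)
        (fun h' => ⟨h'.1, h'.2.1⟩)⟩
  rw [key, Set.ncard_union_eq ?_ (Set.toFinite _) (Set.toFinite _), h1] at h2
  · omega
  · rw [Set.disjoint_left]
    rintro U ⟨_, _, h⟩ ⟨_, _, h'⟩
    exact h' h

end Cfsg.Agent.SporadicStructure.TriadCount
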