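import Mathlib
import Cfsg.Prelude.Def_Sporadic_a
import Cfsg.Agent.S0363
import Cfsg.Agent.SporadicStructure.M24Frame

/-!
The stabiliser in `M24` of a 3-subset `T` is transitive on the disjoint 3-subsets in a common octad
with `T`, and on the other disjoint 3-subsets.
-/

set_option autoImplicit false

namespace Cfsg.Agent.SporadicStructure.TriadMap

open Finset Cfsg
open scoped Pointwise

theorem card_golayPt : Fintype.card GolayPt = 24 := by
  simp [GolayPt, ZMod.card]

/-- An admissible 7-tuple: six distinct points of an octad and a point outside it. -/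
def Adm (a : Fin 7 → GolayPt) : Prop :=
  Function.Injective a ∧ ∃ o ∈ octads, (∀ i : Fin 7, i < 6 → a i ∈ o) ∧ a 6 ∉ o

theorem exists_map_adm (a b : Fin 7 → GolayPt) (ha : Adm a) (hb : Adm b) :
    ∃ g : Equiv.Perm GolayPt, g ∈ M24 ∧ ∀ i, g (a i) = b i := by
  obtain ⟨hai, o, ho, hao, ha6⟩ := ha
  obtain ⟨hbi, o', ho', hbo, hb6⟩ := hb
  obtain ⟨g, ⟨hg, h1, h2⟩, -⟩ := M24Frame.exists_unique_frame_map (a := fun i => a i.castSucc)
    (a' := fun i => b i.castSucc) ho ho'
    (hai.comp (Fin.castSucc_injective 6)) (hbi.comp (Fin.castSucc_injective 6))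
    (fun i => hao _ (Fin.castSucc_lt_last i)) (fun i => hbo _ (Fin.castSucc_lt_last i)) ha6 hb6
  refine ⟨g, hg, fun i => ?_⟩
  refine Fin.lastCases ?_ (fun j => ?_) i
  · exact h2
  · exact h1 j

/-- Adapted 7-tuples for a pair of disjoint 3-subsets in a common octad. -/
theorem exists_adm_common {T U : Finset GolayPt} (hT : T.card = 3) (hU : U.card = 3)
    (hd : Disjoint T U) (h : ∃ o ∈ octads, T ∪ U ⊆ o) :
    ∃ a : Fin 7 → GolayPt, Adm a ∧ T = {a 0, a 1, a 2} ∧
      U = {a 3, a 4, a 5} := by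
  obtain ⟨o, ho, hs⟩ := h
  obtain ⟨x, y, z, hxy, hxz, hyz, rfl⟩ := Finset.card_eq_three.1 hT
  obtain ⟨u, v, w, huv, huw, hvw, rfl⟩ := Finset.card_eq_three.1 hU
  have hne : ∃ p, p ∉ o := by
    by_contra hcon
    push Not at hcon
    have h1 : o = Finset.univ := Finset.eq_univ_iff_forall.2 hcon
    have h2 : o.card = 8 := ho.2
    rw [h1, Finset.card_univ, card_golayPt] at h2
    omega
  obtain ⟨p, hp⟩ := hne
  have hsub : ∀ q ∈ ({x, y, z} ∪ {u, v, w} : Finset GolayPt), q ∈ o := fun q hq => hs hq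
  have hx : x ∈ o := hsub x (by simp)
  have hy : y ∈ o := hsub y (by simp)
  have hz : z ∈ o := hsub z (by simp)
  have hu : u ∈ o := hsub u (by simp)
  have hv : v ∈ o := hsub v (by simp)
  have hw : w ∈ o := hsub w (by simp)
  have hdis : ∀ q ∈ ({x, y, z} : Finset GolayPt), ∀ r ∈ ({u, v, w} : Finset GolayPt), q ≠ r :=
    fun q hq r hr hqr => Finset.disjoint_left.1 hd hq (hqr ▸ hr)
  have h1 := hdis x (by simp) u (by simp)
  have h2 := hdis x (by simp) v (by simp)
  have h3 := hdis x (by simp) w (by simp)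
  have h4 := hdis y (by simp) u (by simp)
  have h5 := hdis y (by simp) v (by simp)
  have h6 := hdis y (by simp) w (by simp)
  have h7 := hdis z (by simp) u (by simp)
  have h8 := hdis z (by simp) v (by simp)
  have h9 := hdis z (by simp) w (by simp)
  have hpo : ∀ q, q ∈ o → q ≠ p := fun q hq hqp => hp (hqp ▸ hq)
  refine ⟨![x, y, z, u, v, w, p], ⟨?_, o, ho, ?_, hp⟩, rfl, rfl⟩
  · have hinj : List.Nodup [x, y, z, u, v, w, p] := by
      simp only [List.nodup_cons, List.mem_cons, List.not_mem_nil, or_false, not_or,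
        List.nodup_nil, and_true, not_false_iff]
      exact ⟨⟨hxy, hxz, h1, h2, h3, hpo x hx⟩, ⟨hyz, h4, h5, h6, hpo y hy⟩,
        ⟨h7, h8, h9, hpo z hz⟩, ⟨huv, huw, hpo u hu⟩, ⟨hvw, hpo v hv⟩, hpo w hw⟩
    have h7 : (List.ofFn (![x, y, z, u, v, w, p] : Fin 7 → GolayPt)).Nodup := hinj
    exact List.nodup_ofFn.1 h7
  · intro i hi
    fin_cases i
    · exact hx
    · exact hy
    · exact hz
    · exact hu
    · exact hv
    · exact hw
    · exact absurd hi (by decide)

/-- Adapted 7-tuples for a pair of disjoint 3-subsets not in a common octad. -/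
theorem exists_adm_not_common {T U : Finset GolayPt} (hT : T.card = 3) (hU : U.card = 3)
    (hd : Disjoint T U) (h : ¬ ∃ o ∈ octads, T ∪ U ⊆ o) :
    ∃ a : Fin 7 → GolayPt, Adm a ∧ T = {a 0, a 1, a 2} ∧
      U = {a 3, a 4, a 6} := by
  obtain ⟨x, y, z, hxy, hxz, hyz, rfl⟩ := Finset.card_eq_three.1 hT
  obtain ⟨u, v, w, huv, huw, hvw, rfl⟩ := Finset.card_eq_three.1 hU
  have hdis : ∀ q ∈ ({x, y, z} : Finset GolayPt), ∀ r ∈ ({u, v, w} : Finset GolayPt), q ≠ r :=
    fun q hq r hr hqr => Finset.disjoint_left.1 hd hq (hqr ▸ hr)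
  have h1 := hdis x (by simp) u (by simp)
  have h2 := hdis x (by simp) v (by simp)
  have h3 := hdis x (by simp) w (by simp)
  have h4 := hdis y (by simp) u (by simp)
  have h5 := hdis y (by simp) v (by simp)
  have h6 := hdis y (by simp) w (by simp)
  have h7 := hdis z (by simp) u (by simp)
  have h8 := hdis z (by simp) v (by simp)
  have h9 := hdis z (by simp) w (by simp)
  have hcard : ({x, y, z, u, v} : Finset GolayPt).card = 5 := by
    rw [Finset.card_insert_of_notMem, Finset.card_insert_of_notMem, Finset.card_insert_of_notMem,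
      Finset.card_insert_of_notMem, Finset.card_singleton]
    · simpa using huv
    · simp only [Finset.mem_insert, Finset.mem_singleton, not_or]
      exact ⟨h7, h8⟩
    · simp only [Finset.mem_insert, Finset.mem_singleton, not_or]
      exact ⟨hyz, h4, h5⟩
    · simp only [Finset.mem_insert, Finset.mem_singleton, not_or]
      exact ⟨hxy, hxz, h1, h2⟩
  obtain ⟨o, ⟨ho, hs⟩, -⟩ := Cfsg.Agent.S0363.result.2 {x, y, z, u, v} hcard
  have hx : x ∈ o := hs (by simp)
  have hy : y ∈ o := hs (by simp)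
  have hz : z ∈ o := hs (by simp)
  have hu : u ∈ o := hs (by simp)
  have hv : v ∈ o := hs (by simp)
  have hw : w ∉ o := by
    intro hw
    refine h ⟨o, ho, ?_⟩
    intro q hq
    simp only [Finset.mem_union, Finset.mem_insert, Finset.mem_singleton] at hq
    rcases hq with (rfl | rfl | rfl) | (rfl | rfl | rfl) <;> assumption
  have hne : ∃ p, p ∈ o ∧ p ∉ ({x, y, z, u, v} : Finset GolayPt) := by
    have hlt : ({x, y, z, u, v} : Finset GolayPt).card < o.card := by
      rw [hcard, ho.2]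
      omega
    exact Finset.exists_mem_notMem_of_card_lt_card hlt
  obtain ⟨p, hp, hpn⟩ := hne
  simp only [Finset.mem_insert, Finset.mem_singleton, not_or] at hpn
  obtain ⟨hpx, hpy, hpz, hpu, hpv⟩ := hpn
  have hpo : ∀ q, q ∈ o → q ≠ w := fun q hq hqp => hw (hqp ▸ hq)
  refine ⟨![x, y, z, u, v, p, w], ⟨?_, o, ho, ?_, hw⟩, rfl, rfl⟩
  · have hinj : List.Nodup [x, y, z, u, v, p, w] := by
      simp only [List.nodup_cons, List.mem_cons, List.not_mem_nil, or_false, not_or,
        List.nodup_nil, and_true, not_false_iff]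
      exact ⟨⟨hxy, hxz, h1, h2, Ne.symm hpx, h3⟩, ⟨hyz, h4, h5, Ne.symm hpy, h6⟩,
        ⟨h7, h8, Ne.symm hpz, h9⟩, ⟨huv, Ne.symm hpu, huw⟩, ⟨Ne.symm hpv, hvw⟩, hpo p hp⟩
    have h7 : (List.ofFn (![x, y, z, u, v, p, w] : Fin 7 → GolayPt)).Nodup := hinj
    exact List.nodup_ofFn.1 h7
  · intro i hi
    fin_cases i
    · exact hx
    · exact hy
    · exact hz
    · exact hu
    · exact hv
    · exact hp
    · exact absurd hi (by decide)

theorem smul_triple (g : Equiv.Perm GolayPt) (x y z : GolayPt) :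
    g • ({x, y, z} : Finset GolayPt) = {g x, g y, g z} := by
  rw [Finset.smul_finset_insert, Finset.smul_finset_insert, Finset.smul_finset_singleton]
  rfl

theorem exists_map {T U U' : Finset GolayPt} (hT : T.card = 3) (hU : U.card = 3)
    (hU' : U'.card = 3) (hd : Disjoint T U) (hd' : Disjoint T U')
    (h : (∃ o ∈ octads, T ∪ U ⊆ o) ↔ (∃ o ∈ octads, T ∪ U' ⊆ o)) :
    ∃ g : Equiv.Perm GolayPt, g ∈ M24 ∧ g • T = T ∧ g • U = U' := by
  by_cases hc : ∃ o ∈ octads, T ∪ U ⊆ o
  · obtain ⟨a, ha, hTa, hUa⟩ := exists_adm_common hT hU hd hc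
    obtain ⟨b, hb, hTb, hUb⟩ := exists_adm_common hT hU' hd' (h.1 hc)
    obtain ⟨g, hg, hgab⟩ := exists_map_adm a b ha hb
    refine ⟨g, hg, ?_, ?_⟩
    · conv_lhs => rw [hTa]
      rw [smul_triple, hgab, hgab, hgab, hTb]
    · rw [hUa, smul_triple, hgab, hgab, hgab, hUb]
  · obtain ⟨a, ha, hTa, hUa⟩ := exists_adm_not_common hT hU hd hc
    obtain ⟨b, hb, hTb, hUb⟩ := exists_adm_not_common hT hU' hd' (fun h' => hc (h.2 h'))
    obtain ⟨g, hg, hgab⟩ := exists_map_adm a b ha hb
    refine ⟨g, hg, ?_, ?_⟩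
    · conv_lhs => rw [hTa]
      rw [smul_triple, hgab, hgab, hgab, hTb]
    · rw [hUa, smul_triple, hgab, hgab, hgab, hUb]

end Cfsg.Agent.SporadicStructure.TriadMap
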