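import Mathlib

set_option autoImplicit false
open scoped Pointwise
open MulAction

namespace Cfsg.Agent.SporadicStructure.SetStabMax

variable {G α : Type*} [Group G] [MulAction G α]

/-- In an `n`-transitive action, the restriction of any permutation of the points to a set of at most `n`
points is realised by a group element. -/
theorem exists_smul_eq_perm [DecidableEq α] {n : ℕ} (h : IsMultiplyPretransitive G α n)
    (hα : (n : ℕ∞) ≤ ENat.card α) (s : Finset α) (hs : s.card ≤ n) (σ : Equiv.Perm α) :
    ∃ g : G, ∀ x ∈ s, g • x = σ x := by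
  have h' : IsMultiplyPretransitive G α s.card := isMultiplyPretransitive_of_le' hs hα
  let e : Fin s.card ≃ s := s.equivFin.symm
  let f : Fin s.card ↪ α := e.toEmbedding.trans (Function.Embedding.subtype _)
  obtain ⟨g, hg⟩ := h'.exists_smul_eq f (f.trans σ.toEmbedding)
  refine ⟨g, fun x hx => ?_⟩
  have := DFunLike.congr_fun hg (e.symm ⟨x, hx⟩)
  simpa [f] using this

/-- General criterion: if `G` is `n`-transitive on `α`, with `2k - 1 ≤ n`, `k + 2 ≤ n` (`k ≥ 2`), and `α` has more
than `2k` points, then the setwise stabiliser of a `k`-subset is a maximal subgroup. -/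
theorem isCoatom_stabilizer [DecidableEq α] [Fintype α] {n k : ℕ} (h : IsMultiplyPretransitive G α n)
    (hn : n ≤ Fintype.card α) (h1 : 2 * k ≤ n + 1) (h2 : k + 2 ≤ n) (hk : 2 ≤ k)
    (hc : 2 * k + 1 ≤ Fintype.card α) (T : Finset α) (hT : T.card = k) :
    IsCoatom (MulAction.stabilizer G T) := by
  classical
  have hE : (n : ℕ∞) ≤ ENat.card α := by
    rw [ENat.card_eq_coe_fintype_card]; exact_mod_cast hn
  have key := exists_smul_eq_perm h hE
  -- the stabiliser is proper
  have hne : stabilizer G T ≠ ⊤ := by
    intro htop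
    obtain ⟨x, hx⟩ : T.Nonempty := Finset.card_pos.mp (by omega)
    obtain ⟨z, hz⟩ : ∃ z, z ∉ T := by
      by_contra hcon
      push Not at hcon
      have : T = Finset.univ := Finset.eq_univ_iff_forall.mpr hcon
      have h3 := congrArg Finset.card this
      rw [Finset.card_univ] at h3
      omega
    obtain ⟨g, hg⟩ := key {x} (by simp; omega) (Equiv.swap x z)
    have hg1 : g • x = z := by simpa using hg x (by simp)
    have hgT : g • T = T := by
      have : g ∈ stabilizer G T := by rw [htop]; trivial
      simpa using this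
    apply hz
    rw [← hgT, ← hg1]
    exact Finset.smul_mem_smul_finset hx
  refine ⟨hne, fun K hK => ?_⟩
  have hHK : ∀ g : G, g • T = T → g ∈ K := fun g hg => hK.le hg
  -- an element outside the stabiliser
  obtain ⟨c₀, hc₀K, hc₀⟩ := SetLike.exists_of_lt hK
  have hc₀' : c₀ • T ≠ T := hc₀
  have cardsm : ∀ (g : G), (g • T).card = k := fun g => by rw [Finset.card_smul_finset, hT]
  -- outside points
  have exout : ∀ S : Finset α, S.card < Fintype.card α → ∃ z, z ∉ S := by
    intro S hS
    by_contra hcon
    push Not at hcon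
    have : S = Finset.univ := Finset.eq_univ_iff_forall.mpr hcon
    rw [this, Finset.card_univ] at hS
    omega
  -- step 1: an element of K with `c • T ≠ T` and `c • T` meeting `T`
  obtain ⟨c₁, hc₁K, hc₁, hc₁i⟩ : ∃ c ∈ K, c • T ≠ T ∧ ((c • T) ∩ T).Nonempty := by
    by_cases hi : ((c₀ • T) ∩ T).Nonempty
    · exact ⟨c₀, hc₀K, hc₀', hi⟩
    · rw [Finset.not_nonempty_iff_eq_empty] at hi
      obtain ⟨x, hx, y, hy, hxy⟩ : ∃ x ∈ c₀ • T, ∃ y ∈ c₀ • T, x ≠ y := by
        have : 1 < (c₀ • T).card := by rw [cardsm]; omega
        obtain ⟨x, hx, y, hy, hxy⟩ := Finset.one_lt_card.mp this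
        exact ⟨x, hx, y, hy, hxy⟩
      obtain ⟨z, hz⟩ : ∃ z, z ∉ T ∪ c₀ • T := by
        apply exout
        have := Finset.card_union_le T (c₀ • T)
        rw [cardsm, hT] at this
        omega
      rw [Finset.mem_union, not_or] at hz
      have hxT : x ∉ T := fun hxT => by
        have : x ∈ (c₀ • T) ∩ T := Finset.mem_inter.mpr ⟨hx, hxT⟩
        rw [hi] at this; simp at this
      have hyT : y ∉ T := fun hyT => by
        have : y ∈ (c₀ • T) ∩ T := Finset.mem_inter.mpr ⟨hy, hyT⟩
        rw [hi] at this; simp at this
      obtain ⟨g, hg⟩ := key (T ∪ {x, y}) (by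
        refine (Finset.card_union_le _ _).trans ?_
        have := Finset.card_le_two (a := x) (b := y)
        omega) (Equiv.swap y z)
      have hgT : g • T = T := by
        apply Finset.eq_of_subset_of_card_le
        · intro w hw
          obtain ⟨v, hv, rfl⟩ := Finset.mem_smul_finset.mp hw
          rw [hg v (by simp [hv]), Equiv.swap_apply_of_ne_of_ne]
          · exact hv
          · rintro rfl; exact hyT hv
          · rintro rfl; exact hz.1 hv
        · rw [Finset.card_smul_finset]
      have hgx : g • x = x := by
        rw [hg x (by simp), Equiv.swap_apply_of_ne_of_ne hxy]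
        rintro rfl; exact hz.2 hx
      have hgy : g • y = z := by
        rw [hg y (by simp), Equiv.swap_apply_left]
      refine ⟨c₀⁻¹ * g * c₀, K.mul_mem (K.mul_mem (K.inv_mem hc₀K) (hHK g hgT)) hc₀K, ?_, ?_⟩
      · intro hcon
        apply hz.2
        have h3 : g • c₀ • T = c₀ • T := by
          have := congrArg (fun S => c₀ • S) hcon
          simpa [mul_smul] using this
        rw [← h3, ← hgy]
        exact Finset.smul_mem_smul_finset hy
      · refine ⟨c₀⁻¹ • x, Finset.mem_inter.mpr ⟨?_, ?_⟩⟩
        · rw [mul_smul, mul_smul, Finset.smul_mem_smul_finset_iff]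
          rw [← hgx]
          exact Finset.smul_mem_smul_finset hx
        · rw [← Finset.mem_inv_smul_finset_iff]
          simpa using hx
  -- step 2: an element of K with `(c • T) \ T` a single point
  obtain ⟨c, hcK, hc1⟩ : ∃ c ∈ K, ((c • T) \ T).card = 1 := by
    obtain ⟨x, hx, hxT⟩ : ∃ x ∈ c₁ • T, x ∉ T := by
      by_contra hcon
      push Not at hcon
      exact hc₁ (Finset.eq_of_subset_of_card_le hcon (by rw [cardsm, hT]))
    obtain ⟨z, hz⟩ : ∃ z, z ∉ T ∪ c₁ • T := by
      apply exout
      have := Finset.card_union_le T (c₁ • T)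
      rw [cardsm, hT] at this
      omega
    rw [Finset.mem_union, not_or] at hz
    obtain ⟨g, hg⟩ := key (T ∪ c₁ • T) (by
      have h3 := Finset.card_union_add_card_inter T (c₁ • T)
      have h4 := Finset.card_pos.mpr hc₁i
      rw [Finset.inter_comm] at h4
      rw [cardsm, hT] at h3
      omega) (Equiv.swap x z)
    have hgT : g • T = T := by
      apply Finset.eq_of_subset_of_card_le
      · intro w hw
        obtain ⟨v, hv, rfl⟩ := Finset.mem_smul_finset.mp hw
        rw [hg v (by simp [hv]), Equiv.swap_apply_of_ne_of_ne]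
        · exact hv
        · rintro rfl; exact hxT hv
        · rintro rfl; exact hz.1 hv
      · rw [Finset.card_smul_finset]
    have hgc : (g • c₁ • T) \ (c₁ • T) = {z} := by
      ext w
      rw [Finset.mem_sdiff, Finset.mem_singleton]
      constructor
      · rintro ⟨hw, hw'⟩
        obtain ⟨v, hv, rfl⟩ := Finset.mem_smul_finset.mp hw
        by_cases hvx : v = x
        · rw [hvx, hg x (by simp [hx]), Equiv.swap_apply_left]
        · exfalso
          apply hw'
          rw [hg v (by simp [hv]), Equiv.swap_apply_of_ne_of_ne hvx]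
          · exact hv
          · rintro rfl; exact hz.2 hv
      · rintro rfl
        refine ⟨?_, hz.2⟩
        have : g • x = w := by rw [hg x (by simp [hx]), Equiv.swap_apply_left]
        rw [← this]
        exact Finset.smul_mem_smul_finset hx
    refine ⟨c₁⁻¹ * g * c₁, K.mul_mem (K.mul_mem (K.inv_mem hc₁K) (hHK g hgT)) hc₁K, ?_⟩
    have h5 : ((c₁⁻¹ * g * c₁) • T) \ T = c₁⁻¹ • ((g • c₁ • T) \ (c₁ • T)) := by
      rw [Finset.smul_finset_sdiff, inv_smul_smul, mul_smul, mul_smul]
    rw [h5, Finset.card_smul_finset, hgc, Finset.card_singleton]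
  -- structure of sets differing by one point
  have hdiff : ∀ g : G, (T \ (g • T)).card = ((g • T) \ T).card := by
    intro g
    exact Finset.card_sdiff_comm (by rw [cardsm, hT])
  -- step 3: all elements moving `T` by one point are in K
  have hone : ∀ g : G, ((g • T) \ T).card = 1 → g ∈ K := by
    intro g hg1
    obtain ⟨z', hz'⟩ := Finset.card_eq_one.mp hc1
    obtain ⟨z, hz⟩ := Finset.card_eq_one.mp hg1
    obtain ⟨x', hx'⟩ := Finset.card_eq_one.mp ((hdiff c).trans hc1)
    obtain ⟨x, hx⟩ := Finset.card_eq_one.mp ((hdiff g).trans hg1)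
    have hz'1 : z' ∈ c • T ∧ z' ∉ T := by
      have : z' ∈ (c • T) \ T := by rw [hz']; simp
      simpa using this
    have hz1 : z ∈ g • T ∧ z ∉ T := by
      have : z ∈ (g • T) \ T := by rw [hz]; simp
      simpa using this
    have hx'1 : x' ∈ T ∧ x' ∉ c • T := by
      have : x' ∈ T \ (c • T) := by rw [hx']; simp
      simpa using this
    have hx1 : x ∈ T ∧ x ∉ g • T := by
      have : x ∈ T \ (g • T) := by rw [hx]; simp
      simpa using this
    obtain ⟨h₁, hh₁⟩ := key (insert z' T) (by
      refine (Finset.card_insert_le _ _).trans ?_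
      omega) (Equiv.swap z' z * Equiv.swap x' x)
    have hh₁z : h₁ • z' = z := by
      have h20 : Equiv.swap x' x z' = z' := by
        apply Equiv.swap_apply_of_ne_of_ne
        · rintro rfl; exact hz'1.2 hx'1.1
        · rintro rfl; exact hz'1.2 hx1.1
      rw [hh₁ z' (by simp), Equiv.Perm.mul_apply, h20, Equiv.swap_apply_left]
    have hh₁x : h₁ • x' = x := by
      rw [hh₁ x' (by simp [hx'1.1]), Equiv.Perm.mul_apply, Equiv.swap_apply_left,
        Equiv.swap_apply_of_ne_of_ne]
      · rintro rfl; exact hz'1.2 hx1.1
      · rintro rfl; exact hz1.2 hx1.1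
    have hh₁T : h₁ • T = T := by
      apply Finset.eq_of_subset_of_card_le
      · intro w hw
        obtain ⟨v, hv, rfl⟩ := Finset.mem_smul_finset.mp hw
        rw [hh₁ v (by simp [hv]), Equiv.Perm.mul_apply]
        have hsw : Equiv.swap x' x v ∈ T := by
          by_cases h1 : v = x'
          · rw [h1, Equiv.swap_apply_left]; exact hx1.1
          · by_cases h2 : v = x
            · rw [h2, Equiv.swap_apply_right]; exact hx'1.1
            · rw [Equiv.swap_apply_of_ne_of_ne h1 h2]; exact hv
        rw [Equiv.swap_apply_of_ne_of_ne]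
        · exact hsw
        · intro h6; rw [h6] at hsw; exact hz'1.2 hsw
        · intro h6; rw [h6] at hsw; exact hz1.2 hsw
      · rw [Finset.card_smul_finset]
    -- h₁ c T = g T
    have hfin : h₁ • c • T = g • T := by
      apply Finset.eq_of_subset_of_card_le
      · intro w hw
        obtain ⟨v, hv, rfl⟩ := Finset.mem_smul_finset.mp hw
        by_cases hvT : v ∈ T
        · -- v ∈ T, v ≠ x'
          have hvx' : v ≠ x' := by rintro rfl; exact hx'1.2 hv
          have hwT : h₁ • v ∈ T := by rw [← hh₁T]; exact Finset.smul_mem_smul_finset hvT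
          by_contra hcon
          have : h₁ • v ∈ T \ (g • T) := by simp [hwT, hcon]
          rw [hx, Finset.mem_singleton, ← hh₁x] at this
          exact hvx' (MulAction.injective h₁ this)
        · have : v ∈ (c • T) \ T := by simp [hv, hvT]
          rw [hz', Finset.mem_singleton] at this
          rw [this, hh₁z]
          exact hz1.1
      · rw [Finset.card_smul_finset, Finset.card_smul_finset, Finset.card_smul_finset]
    have h7 : (h₁ * c)⁻¹ * g ∈ K := by
      apply hHK
      rw [mul_smul, inv_smul_eq_iff, mul_smul, hfin]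
    have h8 : g = (h₁ * c) * ((h₁ * c)⁻¹ * g) := by group
    rw [h8]
    exact K.mul_mem (K.mul_mem (hHK _ hh₁T) hcK) h7
  -- step 4: everything is in K
  have hall : ∀ (m : ℕ) (g : G), ((g • T) \ T).card = m → g ∈ K := by
    intro m
    induction m with
    | zero =>
      intro g hg
      apply hHK
      rw [Finset.card_eq_zero, Finset.sdiff_eq_empty_iff_subset] at hg
      exact Finset.eq_of_subset_of_card_le hg (by rw [cardsm, hT])
    | succ m ih =>
      intro g hg
      obtain ⟨y, hy⟩ : ((g • T) \ T).Nonempty := Finset.card_pos.mp (by omega)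
      obtain ⟨x, hx⟩ : (T \ (g • T)).Nonempty := Finset.card_pos.mp (by rw [hdiff]; omega)
      rw [Finset.mem_sdiff] at hx hy
      -- a group element acting on `g • T` as the swap of `x` and `y`
      obtain ⟨s, hs⟩ := key (g • T) (by rw [cardsm]; omega) (Equiv.swap x y)
      have hsy : s • y = x := by rw [hs y hy.1, Equiv.swap_apply_right]
      have hsv : ∀ v ∈ g • T, v ≠ y → s • v = v := by
        intro v hv hvy
        rw [hs v hv, Equiv.swap_apply_of_ne_of_ne _ hvy]
        rintro rfl; exact hx.2 hv
      have hsg : (s • g • T) = insert x ((g • T).erase y) := by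
        ext w
        rw [Finset.mem_insert, Finset.mem_erase]
        constructor
        · intro hw
          obtain ⟨v, hv, rfl⟩ := Finset.mem_smul_finset.mp hw
          by_cases hvy : v = y
          · left; rw [hvy, hsy]
          · right; rw [hsv v hv hvy]; exact ⟨hvy, hv⟩
        · rintro (rfl | ⟨hwy, hw⟩)
          · rw [← hsy]; exact Finset.smul_mem_smul_finset hy.1
          · rw [← hsv w hw hwy]; exact Finset.smul_mem_smul_finset hw
      have hsgK : s * g ∈ K := by
        apply ih
        rw [mul_smul, hsg]
        have : (insert x ((g • T).erase y)) \ T = ((g • T) \ T).erase y := by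
          ext w
          simp only [Finset.mem_sdiff, Finset.mem_insert, Finset.mem_erase]
          constructor
          · rintro ⟨rfl | ⟨h9, h10⟩, h11⟩
            · exact absurd hx.1 h11
            · exact ⟨h9, h10, h11⟩
          · rintro ⟨h9, h10, h11⟩
            exact ⟨Or.inr ⟨h9, h10⟩, h11⟩
        rw [this, Finset.card_erase_of_mem (by simp [hy]), hg]
        omega
      -- `(s g)⁻¹ g` moves `T` by one point
      have h12 : (s * g)⁻¹ * g ∈ K := by
        apply hone
        have h13 : (((s * g)⁻¹ * g) • T) \ T = (s * g)⁻¹ • ((g • T) \ ((s * g) • T)) := by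
          rw [Finset.smul_finset_sdiff, inv_smul_smul, mul_smul]
        rw [h13, Finset.card_smul_finset, mul_smul, hsg]
        have : (g • T) \ (insert x ((g • T).erase y)) = {y} := by
          ext w
          simp only [Finset.mem_sdiff, Finset.mem_insert, Finset.mem_erase, Finset.mem_singleton]
          constructor
          · rintro ⟨h14, h15⟩
            by_contra hwy
            exact h15 (Or.inr ⟨hwy, h14⟩)
          · rintro rfl
            refine ⟨hy.1, ?_⟩
            rintro (rfl | ⟨h16, -⟩)
            · exact hx.2 hy.1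
            · exact h16 rfl
        rw [this, Finset.card_singleton]
      have h17 : g = (s * g) * ((s * g)⁻¹ * g) := by group
      rw [h17]
      exact K.mul_mem hsgK h12
  rw [eq_top_iff]
  intro g _
  exact hall _ g rfl

end Cfsg.Agent.SporadicStructure.SetStabMax
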