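import Cfsg.Agent.SporadicStructure.PairsMinusOne
import Cfsg.Agent.SporadicA.Co0Basic
import Cfsg.Agent.SporadicA.LeechSet
import Cfsg.Agent.S0372
import Cfsg.Agent.SporadicStructure.XiMap
import Cfsg.Agent.Leech.Code

set_option autoImplicit false

/-! Sign changes and point transitivity, as inputs of `PairsMinusOne`. -/

namespace Cfsg.Agent.SporadicStructure.PairsInputs

open Cfsg Cfsg.Agent.SporadicStructure.PairsMinusOne Cfsg.Agent.SporadicA.Co0Basic

theorem signHyp : SignHyp := by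
  rintro c ⟨w, hw, rfl⟩
  refine ⟨signCo0 w hw, fun x p => ?_⟩
  have h1 : ((signCo0 w hw • x : leechLattice) : GolayPt → ℤ) p =
      if w p = 0 then (x : GolayPt → ℤ) p else -(x : GolayPt → ℤ) p := rfl
  have h2 : p ∈ support₂ w ↔ w p ≠ 0 := by
    show p ∈ Finset.univ.filter (fun a => w a ≠ 0) ↔ _
    simp
  rw [h1]
  by_cases h : w p = 0
  · rw [if_pos h, if_neg (fun h' => (h2.1 h') h)]
  · rw [if_neg h, if_pos (h2.2 h)]

theorem tau_pow_zero (n : ℕ) : (tau ^ n) (some 0) = some (n : ZMod 23) := by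
  induction n with
  | zero => simp
  | succ n ih =>
    rw [pow_succ', Equiv.Perm.mul_apply, ih]
    simp [tau]

/-- `M24` is transitive on the points. -/
theorem exists_M24_none (p : GolayPt) : ∃ σ ∈ M24, σ none = p := by
  rcases p with _ | a
  · exact ⟨1, one_mem _, rfl⟩
  · refine ⟨tau ^ a.val * projInv, mul_mem (pow_mem tau_mem _) Cfsg.Agent.S0372.result, ?_⟩
    rw [Equiv.Perm.mul_apply]
    have h1 : projInv none = some 0 := rfl
    rw [h1, tau_pow_zero, ZMod.natCast_zmod_val]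

theorem exists_M24 (p q : GolayPt) : ∃ σ ∈ M24, σ p = q := by
  obtain ⟨σ, hσ, h1⟩ := exists_M24_none p
  obtain ⟨τ, hτ, h2⟩ := exists_M24_none q
  refine ⟨τ * σ⁻¹, mul_mem hτ (inv_mem hσ), ?_⟩
  rw [Equiv.Perm.mul_apply, ← h1]
  simp [h2]

theorem permHyp : PermHyp := by
  intro p q
  obtain ⟨σ, hσ, h⟩ := exists_M24 p q
  refine ⟨σ, h, permCo0 σ hσ, fun x r => ?_⟩
  have h1 : ((permCo0 σ hσ • x : leechLattice) : GolayPt → ℤ) (σ r) =
      (x : GolayPt → ℤ) (σ⁻¹ (σ r)) := rfl
  rw [h1]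
  simp

theorem xiHyp : XiHyp := by
  intro i j k l hij hik hil hjk hjl hkl
  obtain ⟨T, hT, h0⟩ := XiMap.exists_sextetMap Cfsg.Agent.Leech.Code.steiner {i, j, k, l} (by
    rw [Finset.card_insert_of_notMem (by simp [hij, hik, hil]),
      Finset.card_insert_of_notMem (by simp [hjk, hjl]),
      Finset.card_insert_of_notMem (by simp [hkl]), Finset.card_singleton])
  refine ⟨T, XiMap.xiCo0 T hT, fun p => ?_, fun p => hT.card_fiber (T p), fun x p => ?_⟩
  · rw [h0 p]; simp
  · exact XiMap.two_mul_xiCo0 hT x p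

theorem mem_leechSet (x : GolayPt → ℤ) (hx : x ∈ leechLattice) : x ∈ leechSet :=
  (SporadicA.LeechSet.mem_leechLattice_iff x).1 hx

/-- Transitivity on pairs from transitivity on minimal vectors. -/
theorem pairs_of_transitive
    (hT : ∀ v w : leechLattice, sqNorm (v : GolayPt → ℤ) = 32 → sqNorm (w : GolayPt → ℤ) = 32 →
      ∃ g : Co0, g • v = w)
    {v w v' w' : leechLattice} (h : IsPair v w) (h' : IsPair v' w') :
    ∃ g : Co0, g • v = v' ∧ g • w = w' :=
  pairs_transitive signHyp permHyp xiHyp mem_leechSet hT h h'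

end Cfsg.Agent.SporadicStructure.PairsInputs
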