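import Cfsg.Agent.SporadicStructure.PsuMatch
import Cfsg.Agent.SporadicStructure.U43Herm
import Cfsg.Agent.SporadicStructure.U43Leech

/-!
The joint stabiliser `U43Leech.G0` is isomorphic to PSU(4, 3), given that both groups have at most 3265920 elements.
-/

set_option autoImplicit false

namespace Cfsg.Agent.SporadicStructure.U43Final

open Cfsg Cfsg.Agent.SporadicStructure.FieldNine Cfsg.Agent.SporadicStructure.U43Leech
  Cfsg.Agent.SporadicStructure.U43Perm

open scoped Pointwise

theorem G0_iso [Finite G0] (h1 : Nat.card G0 ≤ 3265920)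
    (h2 : Nat.card (Cfsg.PSU 4 K9 3) ≤ 3265920) : Nonempty (G0 ≃* Cfsg.PSU 4 K9 3) := by
  choose g hg using exists_g
  exact PsuMatch.iso_psu_of_match (G := G0) (V := Set leechLattice) K9.card_K9' (by norm_num)
    U43Leech.P U43Leech.P_injective U43Herm.P
    U43Herm.P_nonprop g U43Herm.M σ hg U43Herm.act (h1.trans card_ge) (h2.trans card_ge)

/-- The same for an arbitrary field with nine elements. -/
theorem G0_iso_field [Finite G0] (h1 : Nat.card G0 ≤ 3265920)
    (h2 : Nat.card (Cfsg.PSU 4 K9 3) ≤ 3265920) (F : Type*) [Field F] [Fintype F]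
    (hF : Fintype.card F = 9) : Nonempty (G0 ≃* Cfsg.PSU 4 F 3) := by
  obtain ⟨e⟩ := G0_iso h1 h2
  obtain ⟨e'⟩ := PsuMatch.psu_iso_of_card (F := F) (K := K9) (hF.trans K9.card_K9.symm) 4 3
  exact ⟨e.trans e'.symm⟩

/-- Orbit-stabiliser inside a subgroup. -/
theorem ncard_mul_card_inf {G X : Type*} [Group G] [MulAction G X] (K : Subgroup G) (x : X)
    (O : Set X) (h1 : ∀ g ∈ K, g • x ∈ O) (h2 : ∀ y ∈ O, ∃ g ∈ K, g • x = y) :
    O.ncard * Nat.card ↥(K ⊓ MulAction.stabilizer G x) = Nat.card K := by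
  have hO : MulAction.orbit K x = O := by
    ext y
    constructor
    · rintro ⟨g, rfl⟩
      exact h1 g g.2
    · intro hy
      obtain ⟨g, hg, rfl⟩ := h2 y hy
      exact ⟨⟨g, hg⟩, rfl⟩
  have h3 := Nat.card_congr (MulAction.orbitProdStabilizerEquivGroup K x)
  rw [Nat.card_prod, Nat.card_coe_set_eq, hO] at h3
  rw [← h3]
  congr 1
  exact Nat.card_congr
    { toFun := fun g => ⟨⟨g.1, g.2.1⟩, g.2.2⟩
      invFun := fun g => ⟨g.1.1, g.1.2, g.2⟩
      left_inv := fun _ => rfl
      right_inv := fun _ => rfl }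

/-- Conjugation carries a triple stabiliser to the stabiliser of the moved triple. -/
theorem nonempty_stab_equiv {G X : Type*} [Group G] [MulAction G X] (g : G) (u v x u' v' x' : X)
    (hu : g • u = u') (hv : g • v = v') (hx : g • x = x') :
    Nonempty (↥(MulAction.stabilizer G u ⊓ MulAction.stabilizer G v ⊓ MulAction.stabilizer G x) ≃*
      ↥(MulAction.stabilizer G u' ⊓ MulAction.stabilizer G v' ⊓ MulAction.stabilizer G x')) := by
  have key : ∀ (y y' : X), g • y = y' → ∀ k : G, k • y = y ↔ (MulAut.conj g k) • y' = y' := by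
    rintro y _ rfl k
    rw [MulAut.conj_apply, mul_smul, mul_smul, inv_smul_smul, smul_left_cancel_iff]
  have hmap : (MulAction.stabilizer G u ⊓ MulAction.stabilizer G v ⊓
      MulAction.stabilizer G x).map (MulAut.conj g).toMonoidHom =
      MulAction.stabilizer G u' ⊓ MulAction.stabilizer G v' ⊓ MulAction.stabilizer G x' := by
    ext k
    constructor
    · rintro ⟨l, ⟨⟨h1, h2⟩, h3⟩, rfl⟩
      exact ⟨⟨(key u u' hu l).1 h1, (key v v' hv l).1 h2⟩, (key x x' hx l).1 h3⟩
    · rintro ⟨⟨h1, h2⟩, h3⟩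
      obtain ⟨l, rfl⟩ := (MulAut.conj g).surjective k
      exact ⟨l, ⟨⟨(key u u' hu l).2 h1, (key v v' hv l).2 h2⟩, (key x x' hx l).2 h3⟩, rfl⟩
  exact ⟨((MulAut.conj g).subgroupMap _).trans (MulEquiv.subgroupCongr hmap)⟩

end Cfsg.Agent.SporadicStructure.U43Final
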