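import Mathlib
import Cfsg.Prelude.Def_SporadicCombinatorics
import Cfsg.Agent.SporadicA.Dodecad
import Cfsg.Agent.SporadicStructure.Quartet

/-!
The hexads on a dodecad of the length-24 code form a system `Quartet.Hex`; its quartets are
`Cfsg.quartets d`; and the action of `M24` on all of this.
-/

set_option autoImplicit false

namespace Cfsg.Agent.SporadicStructure.QuartetGolay

open Finset Cfsg Cfsg.Agent.SporadicA.Dodecad Cfsg.Agent.SporadicStructure.Quartet
open scoped Pointwise

theorem mem_hexadsOn {d h : Finset GolayPt} :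
    h ∈ hexadsOn d ↔ h.card = 6 ∧ ∃ o ∈ octads, o ∩ d = h := Iff.rfl

theorem hex_hexadsOn {d : Finset GolayPt} (hd : d ∈ dodecads) : Hex d (hexadsOn d) where
  card_d := hd.2
  sub := by
    rintro h ⟨_, o, _, rfl⟩
    exact Finset.inter_subset_right
  card := fun h hh => hh.1
  ex := by
    intro s hs h5
    obtain ⟨o, ⟨ho, hso⟩, -⟩ := Cfsg.Agent.S0363.result.2 s h5
    have hsub : s ⊆ o ∩ d := Finset.subset_inter hso hs
    have h6 : (o ∩ d).card = 6 := by
      have := Finset.card_le_card hsub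
      rcases octad_inter_dodecad ho hd with h | h | h <;> omega
    exact ⟨o ∩ d, ⟨h6, o, ho, rfl⟩, hsub⟩
  uniq := by
    rintro h ⟨_, o, ho, rfl⟩ h' ⟨_, o', ho', rfl⟩ s h5 hs hs'
    rw [octad_eq_of_five ho ho' h5.ge (hs.trans Finset.inter_subset_left)
      (hs'.trans Finset.inter_subset_left)]
  compl := by
    rintro h ⟨h6, o, ho, rfl⟩
    have ho2 : o.card = 8 := ho.2
    have hd2 : d.card = 12 := hd.2
    have h1 : (symmDiff o d).card = (o \ d).card + (d \ o).card := by
      rw [show symmDiff o d = (o \ d) ∪ (d \ o) from rfl,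
        Finset.card_union_of_disjoint disjoint_sdiff_sdiff]
    have h2 := Finset.card_sdiff_add_card_inter o d
    have h3 := Finset.card_sdiff_add_card_inter d o
    rw [Finset.inter_comm d o] at h3
    have h4 : (symmDiff o d) ∩ d = d \ (o ∩ d) := by
      ext x
      rw [Finset.mem_inter, Finset.mem_symmDiff, Finset.mem_sdiff, Finset.mem_inter]
      tauto
    refine ⟨?_, symmDiff o d, ⟨symmDiff_mem_supports ho.1 hd.1, ?_⟩, h4⟩
    · rw [Finset.card_sdiff_of_subset Finset.inter_subset_right, h6, hd2]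
    · rw [h1]; omega

theorem quart_eq_quartets (d : Finset GolayPt) : quart d (hexadsOn d) = quartets d := rfl

/-- Elements of `M24` permute the supports of code words. -/
theorem smul_mem_supports {g : Equiv.Perm GolayPt} (hg : g ∈ M24) {b : Finset GolayPt}
    (hb : b ∈ supports (golayCode : Set (GolayPt → ZMod 2))) :
    g • b ∈ supports (golayCode : Set (GolayPt → ZMod 2)) := by
  have h : g • supports (golayCode : Set (GolayPt → ZMod 2)) =
      supports (golayCode : Set (GolayPt → ZMod 2)) := hg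
  rw [← h]
  exact Set.smul_mem_smul_set hb

theorem smul_mem_octads {g : Equiv.Perm GolayPt} (hg : g ∈ M24) {b : Finset GolayPt}
    (hb : b ∈ octads) : g • b ∈ octads :=
  ⟨smul_mem_supports hg hb.1, by rw [Finset.card_smul_finset]; exact hb.2⟩

theorem smul_mem_dodecads {g : Equiv.Perm GolayPt} (hg : g ∈ M24) {b : Finset GolayPt}
    (hb : b ∈ dodecads) : g • b ∈ dodecads :=
  ⟨smul_mem_supports hg hb.1, by rw [Finset.card_smul_finset]; exact hb.2⟩

theorem smul_mem_hexadsOn {g : Equiv.Perm GolayPt} (hg : g ∈ M24) {d h : Finset GolayPt}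
    (hh : h ∈ hexadsOn d) : g • h ∈ hexadsOn (g • d) := by
  obtain ⟨h6, o, ho, rfl⟩ := hh
  exact ⟨by rw [Finset.card_smul_finset]; exact h6, g • o, smul_mem_octads hg ho,
    (Finset.smul_finset_inter).symm⟩

theorem smul_mem_quartets {g : Equiv.Perm GolayPt} (hg : g ∈ M24) {d : Finset GolayPt}
    {Q : Finset (Finset GolayPt)} (hQ : Q ∈ quartets d) : g • Q ∈ quartets (g • d) := by
  obtain ⟨h1, h2, h3⟩ := hQ
  refine ⟨by rw [Finset.card_smul_finset]; exact h1, ?_, ?_⟩
  · intro t' ht'
    obtain ⟨t, ht, rfl⟩ := Finset.mem_smul_finset.1 ht'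
    exact ⟨by rw [Finset.card_smul_finset]; exact (h2 t ht).1,
      Finset.smul_finset_subset_smul_finset (h2 t ht).2⟩
  · intro t' ht' u' hu' htu
    obtain ⟨t, ht, rfl⟩ := Finset.mem_smul_finset.1 ht'
    obtain ⟨u, hu, rfl⟩ := Finset.mem_smul_finset.1 hu'
    rw [← Finset.smul_finset_union]
    refine smul_mem_hexadsOn hg (h3 t ht u hu ?_)
    rintro rfl
    exact htu rfl

theorem exists_unique_quartets {d : Finset GolayPt} (hd : d ∈ dodecads) {t u : Finset GolayPt}
    (ht : t.card = 3) (hu : u.card = 3) (htu : Disjoint t u) (hh : t ∪ u ∈ hexadsOn d) :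
    ∃! Q : Finset (Finset GolayPt), Q ∈ quartets d ∧ t ∈ Q ∧ u ∈ Q :=
  exists_unique_quartet (hex_hexadsOn hd) ht hu htu hh

theorem ncard_quartets {d : Finset GolayPt} (hd : d ∈ dodecads) : (quartets d).ncard = 220 :=
  ncard_quart (hex_hexadsOn hd)

/-- If the stabiliser of a dodecad is 5-transitive on it, it is transitive on quartets. -/
theorem quartets_transitive_of {d : Finset GolayPt} (hd : d ∈ dodecads)
    (h5 : ∀ x y : Fin 5 ↪ GolayPt, (∀ i, x i ∈ d) → (∀ i, y i ∈ d) →
      ∃ g : Equiv.Perm GolayPt, g ∈ M24 ∧ g • d = d ∧ ∀ i, g (x i) = y i) :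
    ∀ Q ∈ quartets d, ∀ Q' ∈ quartets d,
      ∃ g : Equiv.Perm GolayPt, g ∈ M24 ∧ g • d = d ∧ g • Q = Q' := by
  have key : ∀ Q ∈ quartets d, ∃ (t u : Finset GolayPt) (x : Fin 5 ↪ GolayPt),
      t ∈ Q ∧ u ∈ Q ∧ t.card = 3 ∧ u.card = 3 ∧ Disjoint t u ∧ t ∪ u ∈ hexadsOn d ∧
      (∀ i, x i ∈ d) ∧ t = {x 0, x 1, x 2} ∧ x 3 ∈ u ∧ x 4 ∈ u := by
    intro Q hQ
    obtain ⟨h1, h2, h3⟩ := hQ
    obtain ⟨t, ht, u, hu, htu⟩ := Finset.one_lt_card.1 (show 1 < Q.card by omega)
    have ct := (h2 t ht).1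
    have cu := (h2 u hu).1
    have hh := h3 t ht u hu htu
    have hdis := disjoint_of_union_mem (hex_hexadsOn hd) ct cu hh
    obtain ⟨a, b, c, hab, hac, hbc, rfl⟩ := Finset.card_eq_three.1 ct
    obtain ⟨e, f, g, hef, heg, hfg, rfl⟩ := Finset.card_eq_three.1 cu
    have hsub := hh.2
    have htd := (h2 _ ht).2
    have hud := (h2 _ hu).2
    have had : a ∈ d := htd (by simp)
    have hbd : b ∈ d := htd (by simp)
    have hcd : c ∈ d := htd (by simp)
    have hed : e ∈ d := hud (by simp)
    have hfd : f ∈ d := hud (by simp)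
    have hne : ∀ z ∈ ({a, b, c} : Finset GolayPt), ∀ w ∈ ({e, f, g} : Finset GolayPt), z ≠ w := by
      intro z hz w hw hzw
      exact Finset.disjoint_left.1 hdis hz (hzw ▸ hw)
    have inj : Function.Injective ![a, b, c, e, f] := by
      have hae := hne a (by simp) e (by simp)
      have haf := hne a (by simp) f (by simp)
      have hbe := hne b (by simp) e (by simp)
      have hbf := hne b (by simp) f (by simp)
      have hce := hne c (by simp) e (by simp)
      have hcf := hne c (by simp) f (by simp)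
      intro i j hij
      fin_cases i <;> fin_cases j <;> simp at hij ⊢ <;>
        first
        | exact absurd hij (by assumption)
        | exact absurd hij.symm (by assumption)
    refine ⟨{a, b, c}, {e, f, g}, ⟨![a, b, c, e, f], inj⟩, ht, hu, ct, cu, hdis, hh, ?_, rfl,
      ?_, ?_⟩
    · intro i
      fin_cases i
      · exact had
      · exact hbd
      · exact hcd
      · exact hed
      · exact hfd
    · show e ∈ _
      simp
    · show f ∈ _
      simp
  intro Q hQ Q' hQ'
  obtain ⟨t, u, x, ht, hu, ct, cu, dtu, htu, hxd, hx, hx3, hx4⟩ := key Q hQ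
  obtain ⟨t', u', y, ht', hu', ct', cu', dtu', htu', hyd, hy, hy3, hy4⟩ := key Q' hQ'
  obtain ⟨g, hg, hgd, hgx⟩ := h5 x y hxd hyd
  refine ⟨g, hg, hgd, ?_⟩
  have hgt : g • t = t' := by
    rw [hx, hy, Finset.smul_finset_insert, Finset.smul_finset_insert,
      Finset.smul_finset_singleton]
    show ({g (x 0), g (x 1), g (x 2)} : Finset GolayPt) = _
    rw [hgx, hgx, hgx]
  have hgQ : g • Q ∈ quartets d := by
    have := smul_mem_quartets hg hQ
    rwa [hgd] at this
  have hgtu : t' ∪ g • u ∈ hexadsOn d := by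
    have := smul_mem_hexadsOn hg htu
    rwa [hgd, Finset.smul_finset_union, hgt] at this
  have hd1 : Disjoint t' (g • u) := by
    rw [← hgt, Finset.disjoint_left]
    intro z hz hz'
    obtain ⟨a, ha, rfl⟩ := Finset.mem_smul_finset.1 hz
    exact Finset.disjoint_left.1 dtu ha ((Finset.smul_mem_smul_finset_iff g).1 hz')
  have hgu : g • u = u' := by
    refine line_unique (hex_hexadsOn hd) ct' hd1 dtu' hgtu htu' (x := y 3) (y := y 4) ?_ ?_ ?_
      hy3 hy4
    · intro h
      exact absurd (y.injective h) (by decide)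
    · rw [← hgx 3]
      exact Finset.smul_mem_smul_finset hx3
    · rw [← hgx 4]
      exact Finset.smul_mem_smul_finset hx4
  have hE := exists_unique_quartets hd ct' cu' dtu' htu'
  refine hE.unique ⟨hgQ, ?_, ?_⟩ ⟨hQ', ht', hu'⟩
  · rw [← hgt]
    exact Finset.smul_mem_smul_finset ht
  · rw [← hgu]
    exact Finset.smul_mem_smul_finset hu

end Cfsg.Agent.SporadicStructure.QuartetGolay
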