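import Cfsg.Agent.SporadicStructure.QuartetStab
import Cfsg.Agent.Lib.ElemAbGL
import Cfsg.Agent.S1597
import Cfsg.Agent.S0382

/-!
The normal subgroup of order 9 of the base quartet stabiliser; transport to all quartets.
-/

set_option autoImplicit false

namespace Cfsg.Agent.SporadicStructure.QuartetNormal

open Cfsg Cfsg.Agent.SporadicA.GolayBase Cfsg.Agent.SporadicA.GolayPerm
open Cfsg.Agent.SporadicStructure.QuartetCode Cfsg.Agent.SporadicStructure.QuartetStab
open scoped Pointwise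

/-! ### The base quartet is a quartet -/

theorem mem_hexadsOn_fin {m : ℕ} (o : ℕ) (h6 : popcount m = 6) (ho : o < 2 ^ 24)
    (hc : isCode o = true) (h8 : popcount o = 8) (h : o &&& 340831 = m) : fin m ∈ hexadsOn d0 := by
  refine ⟨by rw [card_fin, h6], fin o, (fin_mem_octads_iff ho).2 ⟨hc, h8⟩, ?_⟩
  rw [d0, ← fin_and, h]

theorem hex01 : fin 343 ∈ hexadsOn d0 :=
  mem_hexadsOn_fin 1065303 (by decide +kernel) (by decide +kernel) (by decide +kernel)
    (by decide +kernel) (by decide +kernel)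
theorem hex02 : fin 70151 ∈ hexadsOn d0 :=
  mem_hexadsOn_fin 2183687 (by decide +kernel) (by decide +kernel) (by decide +kernel)
    (by decide +kernel) (by decide +kernel)
theorem hex03 : fin 270351 ∈ hexadsOn d0 :=
  mem_hexadsOn_fin 3416079 (by decide +kernel) (by decide +kernel) (by decide +kernel)
    (by decide +kernel) (by decide +kernel)
theorem hex12 : fin 70480 ∈ hexadsOn d0 :=
  mem_hexadsOn_fin 3216208 (by decide +kernel) (by decide +kernel) (by decide +kernel)
    (by decide +kernel) (by decide +kernel)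
theorem hex13 : fin 270680 ∈ hexadsOn d0 :=
  mem_hexadsOn_fin 2384216 (by decide +kernel) (by decide +kernel) (by decide +kernel)
    (by decide +kernel) (by decide +kernel)
theorem hex23 : fin 340488 ∈ hexadsOn d0 :=
  mem_hexadsOn_fin 1405448 (by decide +kernel) (by decide +kernel) (by decide +kernel)
    (by decide +kernel) (by decide +kernel)

theorem Q0_mem : Q0 ∈ quartets d0 := by
  refine ⟨by decide +kernel, ?_, ?_⟩
  · intro t ht
    obtain ⟨m, hm, rfl⟩ := mem_fam.1 ht
    simp only [q0, List.mem_cons, List.not_mem_nil, or_false] at hm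
    rcases hm with rfl | rfl | rfl | rfl <;> decide +kernel
  · intro t ht u hu htu
    obtain ⟨m, hm, rfl⟩ := mem_fam.1 ht
    obtain ⟨n, hn, rfl⟩ := mem_fam.1 hu
    simp only [q0, List.mem_cons, List.not_mem_nil, or_false] at hm hn
    rw [← fin_or]
    rcases hm with rfl | rfl | rfl | rfl <;> rcases hn with rfl | rfl | rfl | rfl
    · exact absurd rfl htu
    · exact hex01
    · exact hex02
    · exact hex03
    · exact hex01
    · exact absurd rfl htu
    · exact hex12
    · exact hex13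
    · exact hex02
    · exact hex12
    · exact absurd rfl htu
    · exact hex23
    · exact hex03
    · exact hex13
    · exact hex23
    · exact absurd rfl htu

/-! ### Transport -/

/-- Every quartet of every dodecad is the image of the base quartet. -/
theorem exists_smul_eq {d : Finset GolayPt} (hd : d ∈ dodecads) {Q : Finset (Finset GolayPt)}
    (hQ : Q ∈ quartets d) : ∃ g : M24, g • d0 = d ∧ g • Q0 = Q := by
  obtain ⟨g, hg⟩ := Cfsg.Agent.S0368.result d0 d d0_mem hd
  have h1 : (g : Equiv.Perm GolayPt) • Q0 ∈ quartets ((g : Equiv.Perm GolayPt) • d0) :=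
    Cfsg.Agent.SporadicStructure.QuartetGolay.smul_mem_quartets g.2 Q0_mem
  have h2 : (g : Equiv.Perm GolayPt) • d0 = d := hg
  rw [h2] at h1
  obtain ⟨g', hg', e1, e2⟩ := (Cfsg.Agent.S1597.result d hd).2 _ h1 Q hQ
  refine ⟨⟨g', hg'⟩ * g, ?_, ?_⟩
  · rw [mul_smul, hg]; exact e1
  · rw [mul_smul]; exact e2

/-- The joint stabiliser of a dodecad and a quartet. -/
abbrev HH (d : Finset GolayPt) (Q : Finset (Finset GolayPt)) : Subgroup M24 :=
  MulAction.stabilizer M24 d ⊓ MulAction.stabilizer M24 Q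

theorem HH_smul (g : M24) (d : Finset GolayPt) (Q : Finset (Finset GolayPt)) :
    HH (g • d) (g • Q) = (HH d Q).map (MulAut.conj g).toMonoidHom := by
  rw [HH, MulAction.stabilizer_smul_eq_stabilizer_map_conj,
    MulAction.stabilizer_smul_eq_stabilizer_map_conj, HH,
    Subgroup.map_inf _ _ _ (MulAut.conj g).injective]

/-- Conjugation identifies the two stabilisers. -/
noncomputable def conjEquiv (g : M24) (d : Finset GolayPt) (Q : Finset (Finset GolayPt)) :
    HH d Q ≃* HH (g • d) (g • Q) :=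
  ((MulAut.conj g).subgroupMap (HH d Q)).trans (MulEquiv.subgroupCongr (HH_smul g d Q).symm)

/-- The joint stabiliser has order 432. -/
theorem card_HH {d : Finset GolayPt} (hd : d ∈ dodecads) {Q : Finset (Finset GolayPt)}
    (hQ : Q ∈ quartets d) : Nat.card (HH d Q) = 432 := by
  classical
  have horb : MulAction.orbit (MulAction.stabilizer M24 d) Q = quartets d := by
    ext R
    constructor
    · rintro ⟨g, rfl⟩
      have h := Cfsg.Agent.SporadicStructure.QuartetGolay.smul_mem_quartets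
        (g := ((g : M24) : Equiv.Perm GolayPt)) (g : M24).2 hQ
      have h2 : ((g : M24) : Equiv.Perm GolayPt) • d = d := g.2
      rw [h2] at h
      exact h
    · intro hR
      obtain ⟨g, hg, e1, e2⟩ := (Cfsg.Agent.S1597.result d hd).2 Q hQ R hR
      exact ⟨⟨⟨g, hg⟩, e1⟩, e2⟩
  have h1 : Nat.card (MulAction.orbit (MulAction.stabilizer M24 d) Q) *
      Nat.card (MulAction.stabilizer (MulAction.stabilizer M24 d) Q) =
      Nat.card (MulAction.stabilizer M24 d) := by
    rw [← Nat.card_prod]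
    exact Nat.card_congr (MulAction.orbitProdStabilizerEquivGroup _ Q)
  rw [horb, Nat.card_coe_set_eq, (Cfsg.Agent.S1597.result d hd).1, Cfsg.Agent.S0382.result d hd]
    at h1
  have h2 : Nat.card (MulAction.stabilizer (MulAction.stabilizer M24 d) Q) =
      Nat.card (HH d Q) := by
    refine Nat.card_congr
      { toFun := fun g => ⟨((g : MulAction.stabilizer M24 d) : M24), g.1.2, g.2⟩
        invFun := fun g => ⟨⟨(g : M24), g.2.1⟩, g.2.2⟩
        left_inv := fun g => rfl
        right_inv := fun g => rfl }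
  rw [h2] at h1
  omega

/-! ### The normal subgroup of order 9 -/

theorem ext_M24 {g h : M24}
    (H : ∀ p : GolayPt, (g : Equiv.Perm GolayPt) p = (h : Equiv.Perm GolayPt) p) : g = h :=
  Subtype.ext (Equiv.ext H)

theorem gx_mul_gy : gx * gy = gy * gx := by
  apply ext_M24
  show ∀ p : GolayPt, pt (papp PX (idx (pt (papp PY (idx p))))) =
    pt (papp PY (idx (pt (papp PX (idx p)))))
  decide +kernel

theorem gx_cube : gx * gx * gx = 1 := by
  apply ext_M24
  show ∀ p : GolayPt, pt (papp PX (idx (pt (papp PX (idx (pt (papp PX (idx p)))))))) = p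
  decide +kernel

theorem gy_cube : gy * gy * gy = 1 := by
  apply ext_M24
  show ∀ p : GolayPt, pt (papp PY (idx (pt (papp PY (idx (pt (papp PY (idx p)))))))) = p
  decide +kernel

theorem ga_mul_gx : ga * gx = gy * ga := by
  apply ext_M24
  show ∀ p : GolayPt, pt (papp PA (idx (pt (papp PX (idx p))))) =
    pt (papp PY (idx (pt (papp PA (idx p)))))
  decide +kernel

theorem ga_mul_gy : ga * gy = gx * ga := by
  apply ext_M24
  show ∀ p : GolayPt, pt (papp PA (idx (pt (papp PY (idx p))))) =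
    pt (papp PX (idx (pt (papp PA (idx p)))))
  decide +kernel

theorem gb_mul_gx : gb * gx = gx * gb := by
  apply ext_M24
  show ∀ p : GolayPt, pt (papp PB (idx (pt (papp PX (idx p))))) =
    pt (papp PX (idx (pt (papp PB (idx p)))))
  decide +kernel

theorem gb_mul_gy : gb * gy = gx * gy * gb := by
  apply ext_M24
  show ∀ p : GolayPt, pt (papp PB (idx (pt (papp PY (idx p))))) =
    pt (papp PX (idx (pt (papp PY (idx (pt (papp PB (idx p))))))))
  decide +kernel

theorem gx_pow3 : gx ^ 3 = 1 := by rw [pow_succ, pow_two]; exact gx_cube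
theorem gy_pow3 : gy ^ 3 = 1 := by rw [pow_succ, pow_two]; exact gy_cube

theorem comm_xy : Commute gx gy := gx_mul_gy

/-- The elementary abelian group of order 9. -/
def NN : Subgroup M24 where
  carrier := {h | ∃ i j : ℕ, h = gx ^ i * gy ^ j}
  one_mem' := ⟨0, 0, by simp⟩
  mul_mem' := by
    rintro _ _ ⟨i, j, rfl⟩ ⟨k, l, rfl⟩
    refine ⟨i + k, j + l, ?_⟩
    have h := (comm_xy.pow_pow k j).eq
    calc gx ^ i * gy ^ j * (gx ^ k * gy ^ l) = gx ^ i * (gy ^ j * gx ^ k) * gy ^ l := by group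
      _ = gx ^ i * (gx ^ k * gy ^ j) * gy ^ l := by rw [h]
      _ = gx ^ (i + k) * gy ^ (j + l) := by rw [pow_add, pow_add]; group
  inv_mem' := by
    rintro _ ⟨i, j, rfl⟩
    refine ⟨2 * i, 2 * j, ?_⟩
    have h1 : gx ^ i * gx ^ (2 * i) = 1 := by
      rw [← pow_add, show i + 2 * i = 3 * i by ring, pow_mul, gx_pow3, one_pow]
    have h2 : gy ^ j * gy ^ (2 * j) = 1 := by
      rw [← pow_add, show j + 2 * j = 3 * j by ring, pow_mul, gy_pow3, one_pow]
    have h := (comm_xy.pow_pow (2 * i) j).eq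
    apply inv_eq_of_mul_eq_one_right
    calc gx ^ i * gy ^ j * (gx ^ (2 * i) * gy ^ (2 * j))
        = gx ^ i * (gy ^ j * gx ^ (2 * i)) * gy ^ (2 * j) := by group
      _ = gx ^ i * (gx ^ (2 * i) * gy ^ j) * gy ^ (2 * j) := by rw [h]
      _ = (gx ^ i * gx ^ (2 * i)) * (gy ^ j * gy ^ (2 * j)) := by group
      _ = 1 := by rw [h1, h2, one_mul]

theorem mem_NN {h : M24} : h ∈ NN ↔ ∃ i j : ℕ, h = gx ^ i * gy ^ j := Iff.rfl

theorem gx_mem_NN : gx ∈ NN := ⟨1, 0, by simp⟩
theorem gy_mem_NN : gy ∈ NN := ⟨0, 1, by simp⟩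

theorem NN_le : NN ≤ H0 := by
  rintro _ ⟨i, j, rfl⟩
  exact H0.mul_mem (H0.pow_mem gx_mem i) (H0.pow_mem gy_mem j)

theorem NN_comm (g : M24) (hg : g ∈ NN) (h : M24) (hh : h ∈ NN) : g * h = h * g := by
  obtain ⟨i, j, rfl⟩ := hg
  obtain ⟨k, l, rfl⟩ := hh
  have c1 : Commute gx (gx ^ k * gy ^ l) :=
    Commute.mul_right ((Commute.refl gx).pow_right k) (comm_xy.pow_right l)
  have c2 : Commute gy (gx ^ k * gy ^ l) :=
    Commute.mul_right (comm_xy.symm.pow_right k) ((Commute.refl gy).pow_right l)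
  exact (Commute.mul_left (c1.pow_left i) (c2.pow_left j)).eq

theorem NN_cube (g : M24) (hg : g ∈ NN) : g ^ 3 = 1 := by
  obtain ⟨i, j, rfl⟩ := hg
  rw [(comm_xy.pow_pow i j).mul_pow, ← pow_mul, ← pow_mul, mul_comm i, mul_comm j, pow_mul,
    pow_mul, gx_pow3, gy_pow3, one_pow, one_pow, one_mul]

/-- Elements of `NN` in normal form. -/
noncomputable def nf (ij : Fin 3 × Fin 3) : M24 := gx ^ (ij.1 : ℕ) * gy ^ (ij.2 : ℕ)

theorem range_nf : Set.range nf = (NN : Set M24) := by
  ext h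
  constructor
  · rintro ⟨ij, rfl⟩
    exact ⟨ij.1, ij.2, rfl⟩
  · rintro ⟨i, j, rfl⟩
    refine ⟨(⟨i % 3, Nat.mod_lt _ (by norm_num)⟩, ⟨j % 3, Nat.mod_lt _ (by norm_num)⟩), ?_⟩
    show gx ^ (i % 3) * gy ^ (j % 3) = gx ^ i * gy ^ j
    rw [← pow_eq_pow_mod i gx_pow3, ← pow_eq_pow_mod j gy_pow3]

theorem nf_injective : Function.Injective nf := by
  have key : ∀ ij kl : Fin 3 × Fin 3,
      ((nf ij : M24) : Equiv.Perm GolayPt) (pt 0) = ((nf kl : M24) : Equiv.Perm GolayPt) (pt 0) →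
      ((nf ij : M24) : Equiv.Perm GolayPt) (pt 4) = ((nf kl : M24) : Equiv.Perm GolayPt) (pt 4) →
      ij = kl := by
    decide +kernel
  intro ij kl h
  exact key ij kl (by rw [h]) (by rw [h])

theorem card_NN : Nat.card NN = 9 := by
  have h : Nat.card NN = Nat.card (Set.range nf) := by rw [range_nf]; rfl
  rw [h, Nat.card_congr (Equiv.ofInjective nf nf_injective).symm, Nat.card_prod,
    Nat.card_eq_fintype_card, Fintype.card_fin]

theorem finite_NN : Finite NN := Nat.finite_of_card_ne_zero (by rw [card_NN]; norm_num)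

theorem conj_pow_eq {a g h : M24} (e : a * g = h * a) (i : ℕ) : a * g ^ i = h ^ i * a := by
  induction i with
  | zero => simp
  | succ i ih => rw [pow_succ, pow_succ, ← mul_assoc, ih, mul_assoc, e, mul_assoc]

theorem H0_le_normalizer : H0 ≤ Subgroup.normalizer (NN : Set M24) := by
  rw [H0_eq_closure, Subgroup.closure_le]
  have hfin : Finite (NN : Set M24) := finite_NN
  intro g hg
  rcases hg with rfl | hg
  · apply Subgroup.mem_normalizer_fintype
    rintro _ ⟨i, j, rfl⟩
    have e1 := conj_pow_eq ga_mul_gx i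
    have e2 := conj_pow_eq ga_mul_gy j
    have : ga * (gx ^ i * gy ^ j) * ga⁻¹ = gy ^ i * gx ^ j := by
      rw [← mul_assoc, e1, mul_assoc (gy ^ i), e2, mul_assoc, mul_assoc, mul_inv_cancel, mul_one]
    rw [this]
    exact NN.mul_mem (NN.pow_mem gy_mem_NN i) (NN.pow_mem gx_mem_NN j)
  · rw [Set.mem_singleton_iff] at hg
    subst hg
    apply Subgroup.mem_normalizer_fintype
    rintro _ ⟨i, j, rfl⟩
    have e1 := conj_pow_eq gb_mul_gx i
    have e2 := conj_pow_eq gb_mul_gy j
    have : gb * (gx ^ i * gy ^ j) * gb⁻¹ = gx ^ i * (gx * gy) ^ j := by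
      rw [← mul_assoc, e1, mul_assoc (gx ^ i), e2, mul_assoc, mul_assoc, mul_inv_cancel, mul_one]
    rw [this]
    exact NN.mul_mem (NN.pow_mem gx_mem_NN i)
      (NN.pow_mem (NN.mul_mem gx_mem_NN gy_mem_NN) j)

/-- An element of the stabiliser commuting with `gx` and `gy` lies in `NN`. -/
theorem mem_NN_of_commute {h : M24} (hh : h ∈ H0) (hx : gx * h = h * gx) (hy : gy * h = h * gy) :
    h ∈ NN := by
  -- the fixed points in `d0`
  have fx : ∀ p : GolayPt, p ∈ d0 → pt (papp PX (idx p)) = p →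
      ∃ j : Fin 3, p = ((gy ^ (j : ℕ) : M24) : Equiv.Perm GolayPt) (pt 0) := by
    decide +kernel
  have fy : ∀ p : GolayPt, p ∈ d0 → pt (papp PY (idx p)) = p →
      ∃ j : Fin 3, p = ((gx ^ (j : ℕ) : M24) : Equiv.Perm GolayPt) (pt 4) := by
    decide +kernel
  have hd : ∀ p ∈ d0, (h : Equiv.Perm GolayPt) p ∈ d0 := by
    intro p hp
    have h1 : (h : Equiv.Perm GolayPt) p ∈ (h : Equiv.Perm GolayPt) • d0 :=
      Finset.smul_mem_smul_finset hp
    have h2 : (h : Equiv.Perm GolayPt) • d0 = d0 := hh.1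
    rwa [h2] at h1
  have ax : ∀ p, (gx : Equiv.Perm GolayPt) ((h : Equiv.Perm GolayPt) p) =
      (h : Equiv.Perm GolayPt) ((gx : Equiv.Perm GolayPt) p) := fun p =>
    congrArg (fun g : M24 => (g : Equiv.Perm GolayPt) p) hx
  have ay : ∀ p, (gy : Equiv.Perm GolayPt) ((h : Equiv.Perm GolayPt) p) =
      (h : Equiv.Perm GolayPt) ((gy : Equiv.Perm GolayPt) p) := fun p =>
    congrArg (fun g : M24 => (g : Equiv.Perm GolayPt) p) hy
  have x0 : (gx : Equiv.Perm GolayPt) (pt 0) = pt 0 := by decide +kernel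
  have y4 : (gy : Equiv.Perm GolayPt) (pt 4) = pt 4 := by decide +kernel
  obtain ⟨j, hj⟩ := fx ((h : Equiv.Perm GolayPt) (pt 0)) (hd _ (by decide +kernel))
    (by
      have := ax (pt 0)
      rw [x0] at this
      exact this)
  obtain ⟨i, hi⟩ := fy ((h : Equiv.Perm GolayPt) (pt 4)) (hd _ (by decide +kernel))
    (by
      have := ay (pt 4)
      rw [y4] at this
      exact this)
  set k : M24 := gx ^ (i : ℕ) * gy ^ (j : ℕ) with hk
  have hkN : k ∈ NN := ⟨i, j, rfl⟩
  have hkH : k ∈ H0 := NN_le hkN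
  have kx : gx * k = k * gx := NN_comm _ gx_mem_NN _ hkN
  have ky : gy * k = k * gy := NN_comm _ gy_mem_NN _ hkN
  have bx : ∀ p, (gx : Equiv.Perm GolayPt) ((k : Equiv.Perm GolayPt) p) =
      (k : Equiv.Perm GolayPt) ((gx : Equiv.Perm GolayPt) p) := fun p =>
    congrArg (fun g : M24 => (g : Equiv.Perm GolayPt) p) kx
  have bY : ∀ p, (gy : Equiv.Perm GolayPt) ((k : Equiv.Perm GolayPt) p) =
      (k : Equiv.Perm GolayPt) ((gy : Equiv.Perm GolayPt) p) := fun p =>
    congrArg (fun g : M24 => (g : Equiv.Perm GolayPt) p) ky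
  have e0 : (h : Equiv.Perm GolayPt) (pt 0) = (k : Equiv.Perm GolayPt) (pt 0) := by
    rw [hj]
    have : ∀ i j : Fin 3, ((gy ^ (j : ℕ) : M24) : Equiv.Perm GolayPt) (pt 0) =
        ((gx ^ (i : ℕ) * gy ^ (j : ℕ) : M24) : Equiv.Perm GolayPt) (pt 0) := by decide +kernel
    exact this i j
  have e4 : (h : Equiv.Perm GolayPt) (pt 4) = (k : Equiv.Perm GolayPt) (pt 4) := by
    rw [hi]
    have : ∀ i j : Fin 3, ((gx ^ (i : ℕ) : M24) : Equiv.Perm GolayPt) (pt 4) =
        ((gx ^ (i : ℕ) * gy ^ (j : ℕ) : M24) : Equiv.Perm GolayPt) (pt 4) := by decide +kernel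
    exact this i j
  have e1 : (h : Equiv.Perm GolayPt) (pt 1) = (k : Equiv.Perm GolayPt) (pt 1) := by
    have : pt 1 = (gy : Equiv.Perm GolayPt) (pt 0) := by decide +kernel
    rw [this, ← ay, ← bY, e0]
  have e2 : (h : Equiv.Perm GolayPt) (pt 2) = (k : Equiv.Perm GolayPt) (pt 2) := by
    have : pt 2 = (gy : Equiv.Perm GolayPt) (pt 1) := by decide +kernel
    rw [this, ← ay, ← bY, e1]
  have e6 : (h : Equiv.Perm GolayPt) (pt 6) = (k : Equiv.Perm GolayPt) (pt 6) := by
    have : pt 6 = (gx : Equiv.Perm GolayPt) (pt 4) := by decide +kernel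
    rw [this, ← ax, ← bx, e4]
  have : h = k := by
    apply eq_of_flag hh.1 hkH.1
    rw [flagOf, flagOf, e0, e1, e2, e4, e6]
  rw [this]; exact hkN

/-- The order and the normal structure of the base stabiliser. -/
theorem structure_H0 : ∃ (N : Subgroup H0) (_ : N.Normal), Nat.card N = 9 ∧
    Nonempty (H0 ⧸ N ≃* GL (Fin 2) (ZMod 3)) := by
  have hn : (NN.subgroupOf H0).Normal := by
    constructor
    intro n hn g
    rw [Subgroup.mem_subgroupOf] at hn ⊢
    exact (Subgroup.mem_normalizer_iff.1 (H0_le_normalizer g.2) _).1 hn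
  have hc : Nat.card (NN.subgroupOf H0) = 9 := by
    rw [← card_NN]
    exact Nat.card_congr (Subgroup.subgroupOfEquivOfLe NN_le).toEquiv
  refine ⟨NN.subgroupOf H0, hn, hc, ?_⟩
  refine Cfsg.Agent.Lib.ElemAbGL.quotient_equiv_GL_two_three _ ?_ ?_ hc ?_
    (card_HH d0_mem Q0_mem)
  · intro x hx y hy
    exact Subtype.ext (NN_comm _ hx _ hy)
  · intro x hx
    exact Subtype.ext (NN_cube _ hx)
  · intro h hh
    rw [Subgroup.mem_centralizer_iff] at hh
    rw [Subgroup.mem_subgroupOf]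
    apply mem_NN_of_commute h.2
    · exact congrArg Subtype.val (hh ⟨gx, gx_mem⟩ gx_mem_NN)
    · exact congrArg Subtype.val (hh ⟨gy, gy_mem⟩ gy_mem_NN)

/-- Transport of the structure along an isomorphism. -/
theorem structure_transport {G G' : Type*} [Group G] [Group G'] (e : G ≃* G')
    (h : ∃ (N : Subgroup G) (_ : N.Normal), Nat.card N = 9 ∧
      Nonempty (G ⧸ N ≃* GL (Fin 2) (ZMod 3))) :
    ∃ (N : Subgroup G') (_ : N.Normal), Nat.card N = 9 ∧
      Nonempty (G' ⧸ N ≃* GL (Fin 2) (ZMod 3)) := by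
  obtain ⟨N, hN, h9, ⟨f⟩⟩ := h
  have hN' : (N.map e.toMonoidHom).Normal := hN.map _ e.surjective
  refine ⟨N.map e.toMonoidHom, hN', ?_, ?_⟩
  · rw [← h9]
    exact (Nat.card_congr (e.subgroupMap N).toEquiv).symm
  · exact ⟨(QuotientGroup.congr N (N.map e.toMonoidHom) e rfl).symm.trans f⟩

/-! ### Transitivity on the twelve points -/

/-- The base stabiliser is transitive on the base dodecad. -/
theorem transitive_base : ∀ p ∈ d0, ∃ g ∈ H0, (g : Equiv.Perm GolayPt) (pt 0) = p := by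
  have key : ∀ p : GolayPt, p ∈ d0 → ∃ f ∈ flagNodes, f.getD 0 0 = idx p := by
    decide +kernel
  intro p hp
  obtain ⟨f, hf, hfp⟩ := key p hp
  obtain ⟨k, hk, hkf⟩ := flagNodes_reached f hf
  refine ⟨k, closure_le hk, ?_⟩
  rw [← hkf] at hfp
  exact idx_injective hfp

theorem transitive_HH {d : Finset GolayPt} (hd : d ∈ dodecads) {Q : Finset (Finset GolayPt)}
    (hQ : Q ∈ quartets d) : ∀ p ∈ d, ∀ q ∈ d, ∃ g ∈ HH d Q, (g : Equiv.Perm GolayPt) p = q := by
  obtain ⟨g, rfl, rfl⟩ := exists_smul_eq hd hQ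
  have key : ∀ p ∈ g • d0, ∃ k ∈ H0, ((g * k : M24) : Equiv.Perm GolayPt) (pt 0) = p := by
    intro p hp
    obtain ⟨p', hp', rfl⟩ := Finset.mem_smul_finset.1 hp
    obtain ⟨k, hk, e⟩ := transitive_base p' hp'
    refine ⟨k, hk, ?_⟩
    show (g : Equiv.Perm GolayPt) ((k : Equiv.Perm GolayPt) (pt 0)) = _
    rw [e]; rfl
  intro p hp q hq
  obtain ⟨k, hk, ek⟩ := key p hp
  obtain ⟨l, hl, el⟩ := key q hq
  refine ⟨(g * l) * (g * k)⁻¹, ?_, ?_⟩
  · rw [HH_smul]
    refine ⟨l * k⁻¹, H0.mul_mem hl (H0.inv_mem hk), ?_⟩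
    show g * (l * k⁻¹) * g⁻¹ = _
    group
  · have e : ((g * k : M24) : Equiv.Perm GolayPt)⁻¹ p = pt 0 := by
      rw [← ek]
      exact ((g * k : M24) : Equiv.Perm GolayPt).symm_apply_apply _
    show ((g * l : M24) : Equiv.Perm GolayPt) (((g * k : M24) : Equiv.Perm GolayPt)⁻¹ p) = q
    rw [e, el]

end Cfsg.Agent.SporadicStructure.QuartetNormal
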