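/-
Pointwise stabilisers, in the stabiliser of a dodecad, of at most five points of the dodecad.
-/
import Cfsg.Agent.SporadicStructure.DodecadM12

set_option autoImplicit false
open scoped Pointwise
open Cfsg

namespace Cfsg.Agent.SporadicStructure.DodecadStab

open Cfsg.Agent.SporadicStructure.M12Core Cfsg.Agent.SporadicStructure.DodecadM12

/-- a duplicate-free list of at most five points of a dodecad extends to one of length five -/
theorem exists_extend {d : Finset GolayPt} (hd : d ∈ dodecads) (l : List GolayPt) (hl : l.Nodup)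
    (hld : ∀ p ∈ l, p ∈ d) (h5 : l.length ≤ 5) :
    ∃ m : List GolayPt, (l ++ m).Nodup ∧ (∀ p ∈ l ++ m, p ∈ d) ∧ (l ++ m).length = 5 := by
  obtain ⟨k, hk⟩ : ∃ k, l.length + k = 5 := ⟨5 - l.length, by omega⟩
  induction k generalizing l with
  | zero => exact ⟨[], by simpa using hl, by simpa using hld, by simpa using hk⟩
  | succ k ih =>
    have h1 : ∃ x ∈ d, x ∉ l.toFinset := by
      by_contra hc
      push Not at hc
      have h2 := Finset.card_le_card (s := d) (t := l.toFinset) hc
      rw [hd.2] at h2
      have h3 := List.toFinset_card_le l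
      omega
    obtain ⟨x, hx, hxl⟩ := h1
    rw [List.mem_toFinset] at hxl
    obtain ⟨m, h3, h4, h6⟩ := ih (l ++ [x]) (by
      rw [List.nodup_append]
      refine ⟨hl, List.nodup_singleton x, ?_⟩
      rintro a ha b hb rfl
      rw [List.mem_singleton] at hb
      exact hxl (hb ▸ ha)) (by
      intro p hp
      rw [List.mem_append, List.mem_singleton] at hp
      rcases hp with hp | rfl
      · exact hld p hp
      · exact hx) (by simp; omega) (by simp; omega)
    refine ⟨x :: m, ?_, ?_, ?_⟩
    · simpa using h3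
    · intro p hp
      apply h4 p
      simpa using hp
    · simpa using h6

/-- M24 is transitive on the pairs (dodecad, list of at most five distinct points of it) -/
theorem exists_map_list {d e : Finset GolayPt} (hd : d ∈ dodecads) (he : e ∈ dodecads)
    (l l' : List GolayPt) (hl : l.Nodup) (hl' : l'.Nodup) (hld : ∀ p ∈ l, p ∈ d)
    (hle : ∀ p ∈ l', p ∈ e) (hlen : l.length = l'.length) (h5 : l.length ≤ 5) :
    ∃ g ∈ M24, g • d = e ∧ l.map g = l' := by
  obtain ⟨m, h1, h2, h3⟩ := exists_extend hd l hl hld h5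
  obtain ⟨m', h1', h2', h3'⟩ := exists_extend he l' hl' hle (hlen ▸ h5)
  obtain ⟨g, ⟨hg, hgd, hga⟩, -⟩ := exists_unique_dodecad_map d e hd he
    (fun i => (l ++ m)[i.1]'(by rw [h3]; exact i.2)) (fun i => (l' ++ m')[i.1]'(by rw [h3']; exact i.2))
    (fun i j hij => Fin.ext ((List.Nodup.getElem_inj_iff h1).mp hij))
    (fun i j hij => Fin.ext ((List.Nodup.getElem_inj_iff h1').mp hij))
    (fun i => h2 _ (List.getElem_mem _)) (fun i => h2' _ (List.getElem_mem _))
  have hmap : (l ++ m).map g = l' ++ m' := by
    apply List.ext_getElem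
    · rw [List.length_map, h3, h3']
    · intro i h4 h6
      rw [List.getElem_map]
      rw [List.length_map, h3] at h4
      exact hga ⟨i, h4⟩
  rw [List.map_append] at hmap
  exact ⟨g, hg, hgd, (List.append_inj hmap (by rw [List.length_map, hlen])).1⟩

/-- the elements of M24 fixing a set `d` and each point of a list -/
def DFix (d : Finset GolayPt) (l : List GolayPt) : Subgroup (Equiv.Perm GolayPt) where
  carrier := {g | g ∈ M24 ∧ g • d = d ∧ ∀ p ∈ l, g p = p}
  one_mem' := ⟨one_mem _, one_smul _ _, fun _ _ => rfl⟩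
  mul_mem' := by
    rintro g h ⟨hg, hgd, hg'⟩ ⟨hh, hhd, hh'⟩
    refine ⟨mul_mem hg hh, by rw [mul_smul, hhd, hgd], fun j hj => ?_⟩
    rw [Equiv.Perm.mul_apply, hh' j hj, hg' j hj]
  inv_mem' := by
    rintro g ⟨hg, hgd, hg'⟩
    refine ⟨inv_mem hg, by rw [inv_smul_eq_iff, hgd], fun j hj => ?_⟩
    rw [Equiv.Perm.inv_eq_iff_eq]
    exact (hg' j hj).symm

theorem mem_DFix {d : Finset GolayPt} {l : List GolayPt} {g : Equiv.Perm GolayPt} :
    g ∈ DFix d l ↔ g ∈ M24 ∧ g • d = d ∧ ∀ p ∈ l, g p = p := Iff.rfl

theorem DFix_eq_bot {d : Finset GolayPt} (hd : d ∈ dodecads) (l : List GolayPt) (hl : l.Nodup)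
    (hld : ∀ p ∈ l, p ∈ d) (h5 : l.length = 5) : DFix d l = ⊥ := by
  rw [eq_bot_iff]
  rintro g ⟨hg, hgd, hgl⟩
  obtain ⟨k, -, hk⟩ := exists_unique_dodecad_map d d hd hd
    (fun i => l[i.1]'(by rw [h5]; exact i.2)) (fun i => l[i.1]'(by rw [h5]; exact i.2))
    (fun i j hij => Fin.ext ((List.Nodup.getElem_inj_iff hl).mp hij))
    (fun i j hij => Fin.ext ((List.Nodup.getElem_inj_iff hl).mp hij))
    (fun i => hld _ (List.getElem_mem _)) (fun i => hld _ (List.getElem_mem _))
  rw [Subgroup.mem_bot]
  rw [hk g ⟨hg, hgd, fun i => hgl _ (List.getElem_mem _)⟩]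
  exact (hk 1 ⟨one_mem _, one_smul _ _, fun i => rfl⟩).symm

/-- orbit counting for a group of permutations: if `O` is the orbit of `x` under `H`, then
`|H| = |O| |H_x|` -/
theorem card_eq_card_mul_card {α : Type*} [Finite α] [DecidableEq α] (H K : Subgroup (Equiv.Perm α))
    (x : α) (O : Finset α) (hK : ∀ g, g ∈ K ↔ g ∈ H ∧ g x = x)
    (h1 : ∀ g ∈ H, g x ∈ O) (h2 : ∀ y ∈ O, ∃ g ∈ H, g x = y) :
    Nat.card H = O.card * Nat.card K := by
  choose! f hf hfx using h2
  have e : H ≃ O × K :=
    { toFun := fun g => (⟨g.1 x, h1 g.1 g.2⟩, ⟨(f (g.1 x))⁻¹ * g.1, (hK _).mpr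
        ⟨mul_mem (inv_mem (hf _ (h1 _ g.2))) g.2, by
          rw [Equiv.Perm.mul_apply, Equiv.Perm.inv_eq_iff_eq, hfx _ (h1 _ g.2)]⟩⟩)
      invFun := fun c => ⟨f c.1.1 * c.2.1, mul_mem (hf _ c.1.2) ((hK _).mp c.2.2).1⟩
      left_inv := fun g => by
        apply Subtype.ext
        simp
      right_inv := fun c => by
        have h3 : (f c.1.1 * c.2.1) x = c.1.1 := by
          rw [Equiv.Perm.mul_apply, ((hK _).mp c.2.2).2, hfx _ c.1.2]
        apply Prod.ext
        · apply Subtype.ext
          exact h3
        · apply Subtype.ext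
          simp only [h3]
          simp }
  rw [Nat.card_congr e, Nat.card_prod]
  congr 1
  simp

/-- the order of the stabiliser of a dodecad `d` and of `k ≤ 5` distinct points of `d` -/
theorem card_DFix {d : Finset GolayPt} (hd : d ∈ dodecads) (l : List GolayPt) (hl : l.Nodup)
    (hld : ∀ p ∈ l, p ∈ d) (h5 : l.length ≤ 5) :
    Nat.card (DFix d l) = (12 - l.length).descFactorial (5 - l.length) := by
  obtain ⟨k, hk⟩ : ∃ k, l.length + k = 5 := ⟨5 - l.length, by omega⟩
  induction k generalizing l with
  | zero =>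
    rw [DFix_eq_bot hd l hl hld (by omega)]
    have : 5 - l.length = 0 := by omega
    rw [this]
    simp
  | succ k ih =>
    have h1 : ∃ x ∈ d, x ∉ l.toFinset := by
      by_contra hc
      push Not at hc
      have h2 := Finset.card_le_card (s := d) (t := l.toFinset) hc
      rw [hd.2] at h2
      have h3 := List.toFinset_card_le l
      omega
    obtain ⟨x, hx, hxl⟩ := h1
    rw [List.mem_toFinset] at hxl
    have hnd : ∀ y, y ∈ d → y ∉ l → (l ++ [y]).Nodup := by
      intro y _ hyl
      rw [List.nodup_append]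
      refine ⟨hl, List.nodup_singleton y, ?_⟩
      rintro a ha b hb rfl
      rw [List.mem_singleton] at hb
      exact hyl (hb ▸ ha)
    have hsub : ∀ y, y ∈ d → ∀ p ∈ l ++ [y], p ∈ d := by
      intro y hy p hp
      rw [List.mem_append, List.mem_singleton] at hp
      rcases hp with hp | rfl
      · exact hld p hp
      · exact hy
    have h3 := card_eq_card_mul_card (DFix d l) (DFix d (l ++ [x])) x (d \ l.toFinset)
      (by
        intro g
        rw [mem_DFix, mem_DFix]
        simp only [List.mem_append, List.mem_singleton]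
        constructor
        · rintro ⟨a, b, c⟩
          exact ⟨⟨a, b, fun p hp => c p (Or.inl hp)⟩, c x (Or.inr rfl)⟩
        · rintro ⟨⟨a, b, c⟩, e⟩
          refine ⟨a, b, ?_⟩
          rintro p (hp | rfl)
          · exact c p hp
          · exact e)
      (by
        rintro g ⟨hg, hgd, hgl⟩
        rw [Finset.mem_sdiff, List.mem_toFinset]
        refine ⟨?_, ?_⟩
        · rw [← hgd, ← Equiv.Perm.smul_def, Finset.smul_mem_smul_finset_iff]
          exact hx
        · intro hc
          have := hgl _ hc
          rw [g.injective this] at hc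
          exact hxl hc)
      (by
        intro y hy
        rw [Finset.mem_sdiff, List.mem_toFinset] at hy
        obtain ⟨g, hg, hgd, hgl⟩ := exists_map_list hd hd (l ++ [x]) (l ++ [y])
          (hnd x hx hxl) (hnd y hy.1 hy.2) (hsub x hx) (hsub y hy.1) (by simp) (by simp; omega)
        rw [List.map_append] at hgl
        have h4 := List.append_inj hgl (by simp)
        refine ⟨g, ⟨hg, hgd, fun p hp => ?_⟩, by simpa using h4.2⟩
        have h6 : l.map g = l.map id := by rw [List.map_id]; exact h4.1
        exact List.map_inj_left.mp h6 p hp)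
    have h4 := ih (l ++ [x]) (hnd x hx hxl) (hsub x hx) (by simp; omega) (by simp; omega)
    rw [h3, h4]
    have h6 : (d \ l.toFinset).card = 12 - l.length := by
      rw [Finset.card_sdiff_of_subset, hd.2, List.toFinset_card_of_nodup hl]
      intro p hp
      rw [List.mem_toFinset] at hp
      exact hld p hp
    rw [h6, List.length_append, List.length_singleton]
    have h7 : l.length ≤ 4 := by omega
    interval_cases l.length <;> rfl

end Cfsg.Agent.SporadicStructure.DodecadStab
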