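import Mathlib

/-!
# Classes of involutions with products of order 1, 2, p : basic facts

`D` is a set of involutions closed under conjugation, the product of two noncommuting members has
order dividing `p`, where `p` is a prime at least 5.
-/

set_option autoImplicit false

namespace Cfsg.Agent.SporadicStructure.RankThreeBase

variable {G : Type*} [Group G]

/-- Basic hypotheses on a set of involutions. -/
structure Odd5 (D : Set G) (p : ℕ) : Prop where
  prime : p.Prime
  five : 5 ≤ p
  sq : ∀ x ∈ D, x * x = 1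
  ne_one : ∀ x ∈ D, x ≠ 1
  conj : ∀ x ∈ D, ∀ g : G, g * x * g⁻¹ ∈ D
  pow : ∀ x ∈ D, ∀ y ∈ D, ¬ Commute x y → (x * y) ^ p = 1

theorem eq_one_of_pow {a : G} {m n : ℕ} (h : Nat.Coprime m n) (hm : a ^ m = 1) (hn : a ^ n = 1) :
    a = 1 := by
  have := pow_gcd_eq_one.mpr ⟨hm, hn⟩
  rwa [Nat.Coprime.gcd_eq_one h, pow_one] at this

theorem inv_eq_self {x : G} (h : x * x = 1) : x⁻¹ = x := inv_eq_of_mul_eq_one_left h

/-- involutions commute iff their product squares to one -/
theorem commute_iff {x y : G} (hx : x * x = 1) (hy : y * y = 1) :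
    Commute x y ↔ (x * y) * (x * y) = 1 := by
  constructor
  · intro h
    calc (x * y) * (x * y) = (x * y) * (y * x) := by rw [h.eq]
      _ = x * (y * y) * x := by group
      _ = 1 := by rw [hy, mul_one, hx]
  · intro h
    have h1 : x * y = (x * y)⁻¹ := eq_inv_of_mul_eq_one_left h
    rw [mul_inv_rev, inv_eq_self hx, inv_eq_self hy] at h1
    exact h1

theorem conj_self {x y : G} (hx : x * x = 1) (hy : y * y = 1) : x * (x * y) * x = (x * y)⁻¹ := by
  rw [mul_inv_rev, inv_eq_self hx, inv_eq_self hy, ← mul_assoc, hx, one_mul]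

theorem conj_pow_inv {x c : G} (hx : x * x = 1) (hc : x * c * x = c⁻¹) (k : ℕ) :
    x * c ^ k * x = (c ^ k)⁻¹ := by
  have : x * c ^ k * x⁻¹ = (x * c * x⁻¹) ^ k := by rw [conj_pow]
  rw [inv_eq_self hx] at this
  rw [this, hc, inv_pow]

namespace Odd5

variable {D : Set G} {p : ℕ}

theorem odd (H : Odd5 D p) : Odd p := H.prime.odd_of_ne_two (by have := H.five; omega)

theorem coprime_two_pow (H : Odd5 D p) (k : ℕ) : Nat.Coprime (2 ^ k) p :=
  Nat.Coprime.pow_left k (Nat.coprime_two_left.mpr H.odd)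

theorem coprime_three (H : Odd5 D p) : Nat.Coprime 3 p := by
  rw [Nat.coprime_primes Nat.prime_three H.prime]
  have := H.five; omega

theorem conj' (H : Odd5 D p) {x y : G} (hx : x ∈ D) (hy : y ∈ D) : y * x * y ∈ D := by
  have := H.conj x hx y
  rwa [inv_eq_self (H.sq y hy)] at this

/-- points of a line -/
theorem line_mem (H : Odd5 D p) {x c : G} (hx : x ∈ D) (hc : x * c * x = c⁻¹) (hp : c ^ p = 1)
    (k : ℕ) : x * c ^ k ∈ D := by
  obtain ⟨q, hq⟩ := H.odd
  have h1 : x * c ^ k = (c ^ (k * (q + 1)))⁻¹ * x * ((c ^ (k * (q + 1)))⁻¹)⁻¹ := by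
    have h2 := conj_pow_inv (H.sq x hx) hc (k * (q + 1))
    have h3 : (c ^ (k * (q + 1)))⁻¹ * x = x * c ^ (k * (q + 1)) := by
      rw [← h2, mul_assoc, H.sq x hx, mul_one]
    rw [inv_inv, h3, mul_assoc, ← pow_add]
    congr 1
    have h4 : k * (q + 1) + k * (q + 1) = p * k + k := by rw [hq]; ring
    rw [h4, pow_add, pow_mul, hp, one_pow, one_mul]
  rw [h1]
  exact H.conj x hx _

theorem pow' (H : Odd5 D p) {x y : G} (hx : x ∈ D) (hy : y ∈ D) (h : ¬ Commute x y) :
    (x * y) ^ p = 1 := H.pow x hx y hy h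

/-- a power of two cannot kill the product of two noncommuting members. -/
theorem pow_two_pow_ne (H : Odd5 D p) {x y : G} (hx : x ∈ D) (hy : y ∈ D) (h : ¬ Commute x y)
    (k : ℕ) : (x * y) ^ (2 ^ k) ≠ 1 := by
  intro h1
  have := eq_one_of_pow (H.coprime_two_pow k) h1 (H.pow' hx hy h)
  apply h
  rw [commute_iff (H.sq x hx) (H.sq y hy), this, mul_one]

theorem commute_of_pow_two_pow (H : Odd5 D p) {x y : G} (hx : x ∈ D) (hy : y ∈ D)
    (k : ℕ) (h : (x * y) ^ (2 ^ k) = 1) : Commute x y := by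
  by_contra h1
  exact H.pow_two_pow_ne hx hy h1 k h

theorem commute_of_four (H : Odd5 D p) {x y : G} (hx : x ∈ D) (hy : y ∈ D)
    (h : (x * y) ^ 4 = 1) : Commute x y :=
  H.commute_of_pow_two_pow hx hy 2 h

/-- If `u` and its conjugate under `w` commute then `u` and `w` commute. -/
theorem commute_of_commute_conj (H : Odd5 D p) {u w : G} (hu : u ∈ D) (hw : w ∈ D)
    (h : Commute u (w * u * w)) : Commute u w := by
  apply H.commute_of_four hu hw
  have h1 := (commute_iff (H.sq u hu) (H.sq _ (H.conj' hu hw))).mp h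
  calc (u * w) ^ 4 = u * (w * u * w) * (u * (w * u * w)) := by
        simp only [pow_succ, pow_zero, one_mul]; group
    _ = 1 := h1

/-- existence of midpoints -/
theorem exists_mid (H : Odd5 D p) {u v : G} (hu : u ∈ D) (hv : v ∈ D) (h : ¬ Commute u v) :
    ∃ w ∈ D, w * u * w = v ∧ (∀ g : G, Commute g u → Commute g v → Commute g w) := by
  obtain ⟨q, hq⟩ := H.odd
  have hc := conj_self (H.sq u hu) (H.sq v hv)
  have hp := H.pow' hu hv h
  refine ⟨u * (u * v) ^ (q + 1), H.line_mem hu hc hp _, ?_, ?_⟩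
  · have h2 := conj_pow_inv (H.sq u hu) hc (q + 1)
    have h3 : u * (u * v) ^ (q + 1) * u * (u * (u * v) ^ (q + 1))
        = u * ((u * v) ^ (q + 1) * (u * u) * (u * v) ^ (q + 1)) := by
      simp only [mul_assoc]
    rw [h3, H.sq u hu, mul_one, ← pow_add]
    have h4 : q + 1 + (q + 1) = p + 1 := by rw [hq]; ring
    rw [h4, pow_succ, hp, one_mul, ← mul_assoc, H.sq u hu, one_mul]
  · intro g h1 h2
    exact h1.mul_right ((h1.mul_right h2).pow_right _)

/-- uniqueness of midpoints -/
theorem mid_unique [Finite G] (H : Odd5 D p) {u w w' : G} (hu : u ∈ D) (hw : w ∈ D) (hw' : w' ∈ D)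
    (h : ¬ Commute w u) (h' : ¬ Commute w' u) (he : w * u * w = w' * u * w') : w = w' := by
  classical
  let B : Type _ := {w : G // w ∈ D ∧ ¬ Commute w u}
  have hfin : Finite B := inferInstance
  let φ : B → B := fun w => ⟨w.1 * u * w.1, H.conj' hu w.2.1, fun hc => w.2.2
    (H.commute_of_commute_conj hu w.2.1 hc.symm).symm⟩
  have hsurj : Function.Surjective φ := by
    rintro ⟨v, hv, hvu⟩
    obtain ⟨w, hw, hwv, -⟩ := H.exists_mid hu hv (fun hc => hvu hc.symm)
    refine ⟨⟨w, hw, ?_⟩, ?_⟩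
    · intro hc
      apply hvu
      rw [← hwv, hc.eq, mul_assoc, H.sq w hw, mul_one]
    · apply Subtype.ext
      exact hwv
  have hinj := Finite.injective_iff_surjective.mpr hsurj
  have := @hinj ⟨w, hw, h⟩ ⟨w', hw', h'⟩ (Subtype.ext he)
  exact congrArg Subtype.val this

/-- (F0) -/
theorem commute_left_of_commute_mul (H : Odd5 D p) {x e y : G} (hx : x ∈ D) (he : e ∈ D)
    (hy : y ∈ D) (hne : x ≠ e) (hc : Commute x e) (h : Commute y (x * e)) : Commute y x := by
  by_contra hn
  have hn' : ¬ Commute x y := fun h => hn h.symm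
  have hp := H.pow' hx hy hn'
  -- e * y = (x*e) * (x*y)
  have hz2 : (x * e) * (x * e) = 1 := (commute_iff (H.sq x hx) (H.sq e he)).mp hc
  have hxz : Commute x (x * e) := (Commute.refl x).mul_right hc
  have hey : e * y = (x * e) * (x * y) := by
    rw [hc.eq]
    calc e * y = e * (x * x) * y := by rw [H.sq x hx, mul_one]
      _ = e * x * (x * y) := by group
  have hcomm : Commute (x * e) (x * y) := (hxz.symm).mul_right h.symm
  by_cases hey' : Commute e y
  · have h1 := (commute_iff (H.sq e he) (H.sq y hy)).mp hey'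
    rw [hey] at h1
    have h2 : (x * y) ^ 2 = 1 := by
      have : (x * e * (x * y)) * (x * e * (x * y)) = ((x * e) * (x * e)) * ((x * y) * (x * y)) := by
        calc (x * e * (x * y)) * (x * e * (x * y)) = x * e * ((x * y) * (x * e)) * (x * y) := by
              simp only [mul_assoc]
          _ = x * e * ((x * e) * (x * y)) * (x * y) := by rw [hcomm.eq]
          _ = _ := by simp only [mul_assoc]
      rw [this, hz2, one_mul] at h1
      rw [pow_two]; exact h1
    exact H.pow_two_pow_ne hx hy hn' 1 (by simpa using h2)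
  · have h1 := H.pow' he hy hey'
    rw [hey, hcomm.mul_pow, hp, mul_one] at h1
    have h2 : (x * e) ^ 2 = 1 := by rw [pow_two]; exact hz2
    have h3 := eq_one_of_pow (H.coprime_two_pow 1) (by simpa using h2) h1
    exact hne (by rw [← inv_eq_self (H.sq x hx)]; exact inv_eq_of_mul_eq_one_right h3)

theorem commute_right_of_commute_mul (H : Odd5 D p) {x e y : G} (hx : x ∈ D) (he : e ∈ D)
    (hy : y ∈ D) (hne : x ≠ e) (hc : Commute x e) (h : Commute y (x * e)) : Commute y e :=
  H.commute_left_of_commute_mul he hx hy hne.symm hc.symm (hc.eq ▸ h)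

end Odd5

end Cfsg.Agent.SporadicStructure.RankThreeBase
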