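import Mathlib
import Cfsg.Agent.SporadicStructure.RankThreeBase

/-!
# Maximal commuting subsets ("cliques") of a class of involutions with products of order 1, 2, p
-/

set_option autoImplicit false

namespace Cfsg.Agent.SporadicStructure.RankThreeClq

open Cfsg.Agent.SporadicStructure.RankThreeBase

variable {G : Type*} [Group G]

/-- the conjugate of a set -/
def cj (g : G) (E : Set G) : Set G := {y | g⁻¹ * y * g ∈ E}

theorem mem_cj {g : G} {E : Set G} {y : G} : y ∈ cj g E ↔ g⁻¹ * y * g ∈ E := Iff.rfl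

theorem conj_mem_cj {g : G} {E : Set G} {y : G} : g * y * g⁻¹ ∈ cj g E ↔ y ∈ E := by
  rw [mem_cj]
  have : g⁻¹ * (g * y * g⁻¹) * g = y := by group
  rw [this]

theorem cj_mul (g h : G) (E : Set G) : cj (g * h) E = cj g (cj h E) := by
  ext y
  simp only [mem_cj]
  have : (g * h)⁻¹ * y * (g * h) = h⁻¹ * (g⁻¹ * y * g) * h := by group
  rw [this]

theorem cj_one (E : Set G) : cj 1 E = E := by
  ext y; simp [mem_cj]

theorem cj_eq_image (g : G) (E : Set G) : cj g E = (fun y => g * y * g⁻¹) '' E := by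
  ext y
  constructor
  · intro h
    exact ⟨g⁻¹ * y * g, h, by group⟩
  · rintro ⟨x, hx, rfl⟩
    exact conj_mem_cj.mpr hx

theorem ncard_cj (g : G) (E : Set G) : (cj g E).ncard = E.ncard := by
  rw [cj_eq_image]
  apply Set.ncard_image_of_injective
  intro a b h
  simpa using h

theorem cj_of_commute {g : G} {E : Set G} (h : ∀ a ∈ E, Commute g a) : cj g E = E := by
  rw [cj_eq_image]
  ext y
  constructor
  · rintro ⟨x, hx, rfl⟩
    have := (h x hx).eq
    simpa [this] using hx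
  · intro hy
    refine ⟨y, hy, ?_⟩
    have := (h y hy).eq
    simp [this]

theorem commute_conj_iff {g x y : G} : Commute (g * x * g⁻¹) (g * y * g⁻¹) ↔ Commute x y := by
  constructor
  · intro h
    have h1 := h.eq
    have : g * (x * y) * g⁻¹ = g * (y * x) * g⁻¹ := by
      calc g * (x * y) * g⁻¹ = g * x * g⁻¹ * (g * y * g⁻¹) := by group
        _ = g * y * g⁻¹ * (g * x * g⁻¹) := h1
        _ = g * (y * x) * g⁻¹ := by group
    exact mul_left_cancel (mul_right_cancel this)
  · intro h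
    have h1 := h.eq
    show g * x * g⁻¹ * (g * y * g⁻¹) = g * y * g⁻¹ * (g * x * g⁻¹)
    calc g * x * g⁻¹ * (g * y * g⁻¹) = g * (x * y) * g⁻¹ := by group
      _ = g * (y * x) * g⁻¹ := by rw [h1]
      _ = _ := by group

/-- Maximal pairwise commuting subsets of `D ∩ C(S)`. -/
structure IsClq (D S E : Set G) : Prop where
  sub : E ⊆ D
  cen : ∀ a ∈ E, ∀ s ∈ S, Commute a s
  comm : ∀ a ∈ E, ∀ b ∈ E, Commute a b
  max : ∀ u ∈ D, (∀ s ∈ S, Commute u s) → (∀ a ∈ E, Commute u a) → u ∈ E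

theorem exists_clq [Finite G] {D S F : Set G} (h1 : F ⊆ D) (h2 : ∀ a ∈ F, ∀ s ∈ S, Commute a s)
    (h3 : ∀ a ∈ F, ∀ b ∈ F, Commute a b) : ∃ E, IsClq D S E ∧ F ⊆ E := by
  classical
  let 𝒮 : Set (Set G) := {E | E ⊆ D ∧ (∀ a ∈ E, ∀ s ∈ S, Commute a s) ∧
    (∀ a ∈ E, ∀ b ∈ E, Commute a b) ∧ F ⊆ E}
  have hne : 𝒮.Nonempty := ⟨F, h1, h2, h3, le_refl _⟩
  obtain ⟨E, hE, hmax⟩ := Set.exists_max_image 𝒮 (fun E => E.ncard) (Set.toFinite _) hne
  refine ⟨E, ⟨hE.1, hE.2.1, hE.2.2.1, ?_⟩, hE.2.2.2⟩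
  intro u hu huS huE
  by_contra hn
  have hins : insert u E ∈ 𝒮 := by
    refine ⟨Set.insert_subset hu hE.1, ?_, ?_, hE.2.2.2.trans (Set.subset_insert _ _)⟩
    · intro a ha s hs
      rcases Set.mem_insert_iff.mp ha with rfl | ha
      · exact huS s hs
      · exact hE.2.1 a ha s hs
    · intro a ha b hb
      rcases Set.mem_insert_iff.mp ha with ha' | ha'
      · rcases Set.mem_insert_iff.mp hb with hb' | hb'
        · rw [ha', hb']
        · rw [ha']; exact huE b hb'
      · rcases Set.mem_insert_iff.mp hb with hb' | hb'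
        · rw [hb']; exact (huE a ha').symm
        · exact hE.2.2.1 a ha' b hb'
  have := hmax _ hins
  rw [Set.ncard_insert_of_notMem hn (Set.toFinite _)] at this
  omega

theorem IsClq.cj {D S E : Set G} (h : IsClq D S E) (hD : ∀ x ∈ D, ∀ g : G, g * x * g⁻¹ ∈ D) (g : G) :
    IsClq D (cj g S) (RankThreeClq.cj g E) := by
  have hD' : ∀ y : G, y ∈ D ↔ g⁻¹ * y * g ∈ D := fun y =>
    ⟨fun hy => by simpa using hD y hy g⁻¹, fun hy => by
      have := hD _ hy g
      have h2 : g * (g⁻¹ * y * g) * g⁻¹ = y := by group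
      rwa [h2] at this⟩
  have hcc : ∀ x y : G, Commute x y ↔ Commute (g⁻¹ * x * g) (g⁻¹ * y * g) := fun x y => by
    have := @commute_conj_iff G _ g⁻¹ x y
    rw [inv_inv] at this
    exact this.symm
  refine ⟨?_, ?_, ?_, ?_⟩
  · intro y hy
    exact (hD' y).mpr (h.sub hy)
  · intro a ha s hs
    exact (hcc a s).mpr (h.cen _ ha _ hs)
  · intro a ha b hb
    exact (hcc a b).mpr (h.comm _ ha _ hb)
  · intro u hu huS huE
    refine h.max _ ((hD' u).mp hu) ?_ ?_
    · intro s hs
      have h1 : g * s * g⁻¹ ∈ RankThreeClq.cj g S := conj_mem_cj.mpr hs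
      have h2 := (hcc _ _).mp (huS _ h1)
      have h3 : g⁻¹ * (g * s * g⁻¹) * g = s := by group
      rwa [h3] at h2
    · intro s hs
      have h1 : g * s * g⁻¹ ∈ RankThreeClq.cj g E := conj_mem_cj.mpr hs
      have h2 := (hcc _ _).mp (huE _ h1)
      have h3 : g⁻¹ * (g * s * g⁻¹) * g = s := by group
      rwa [h3] at h2

/-- Two elements of `D` in a common 2-subgroup commute. -/
theorem commute_of_two_group {D : Set G} {p : ℕ} (H : Odd5 D p) {T : Subgroup G}
    (hT : IsPGroup 2 T) {x y : G} (hx : x ∈ D) (hy : y ∈ D) (hxT : x ∈ T) (hyT : y ∈ T) :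
    Commute x y := by
  obtain ⟨k, hk⟩ := hT ⟨x * y, T.mul_mem hxT hyT⟩
  apply H.commute_of_pow_two_pow hx hy k
  simpa using congrArg Subtype.val hk

theorem closure_sq {D : Set G} {p : ℕ} (H : Odd5 D p) {E : Set G} (hE : E ⊆ D)
    (hc : ∀ a ∈ E, ∀ b ∈ E, Commute a b) : ∀ g ∈ Subgroup.closure E, g * g = 1 := by
  have hcomm : ∀ g ∈ Subgroup.closure E, ∀ h ∈ Subgroup.closure E, Commute g h := by
    intro g hg h hh
    have h1 : Subgroup.closure E ≤ Subgroup.centralizer (Subgroup.closure E : Set G) := by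
      rw [Subgroup.closure_le]
      intro a ha
      rw [SetLike.mem_coe, Subgroup.mem_centralizer_iff]
      intro b hb
      have h2 : Subgroup.closure E ≤ Subgroup.centralizer {a} := by
        rw [Subgroup.closure_le]
        intro c hcE
        rw [SetLike.mem_coe, Subgroup.mem_centralizer_singleton_iff]
        exact (hc c hcE a ha).eq
      exact Subgroup.mem_centralizer_singleton_iff.mp (h2 hb)
    exact (Subgroup.mem_centralizer_iff.mp (h1 hg) h hh).symm
  intro g hg
  induction hg using Subgroup.closure_induction with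
  | mem x hx => exact H.sq x (hE hx)
  | one => simp
  | mul x y hx hy ihx ihy =>
    have := (hcomm x hx y hy).eq
    calc x * y * (x * y) = x * (y * x) * y := by group
      _ = x * (x * y) * y := by rw [this]
      _ = (x * x) * (y * y) := by group
      _ = 1 := by rw [ihx, ihy, mul_one]
  | inv x hx ih =>
    rw [← mul_inv_rev, ih, inv_one]

/-- Cliques of `D ∩ C(S)` are conjugate under `C(S)`. -/
theorem clq_conj [Finite G] {D : Set G} {p : ℕ} (H : Odd5 D p) {S E₁ E₂ : Set G}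
    (h₁ : IsClq D S E₁) (h₂ : IsClq D S E₂) :
    ∃ h : G, (∀ s ∈ S, Commute h s) ∧ E₂ = cj h E₁ := by
  classical
  have : Fact (Nat.Prime 2) := ⟨Nat.prime_two⟩
  let K : Subgroup G := Subgroup.centralizer S
  have key : ∀ E : Set G, IsClq D S E → ∃ T : Sylow 2 K,
      E = {y | y ∈ D ∧ y ∈ (T : Subgroup K).map K.subtype} := by
    intro E hE
    have hEK : E ⊆ K := fun a ha => Subgroup.mem_centralizer_iff.mpr fun s hs => (hE.cen a ha s hs).eq.symm
    have hle : Subgroup.closure E ≤ K := (Subgroup.closure_le _).mpr hEK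
    have h2 : IsPGroup 2 ((Subgroup.closure E).subgroupOf K) := by
      rintro ⟨g, hg⟩
      refine ⟨1, ?_⟩
      have := closure_sq H hE.sub hE.comm g.1 (Subgroup.mem_subgroupOf.mp hg)
      apply Subtype.ext
      apply Subtype.ext
      simpa [pow_two] using this
    obtain ⟨T, hT⟩ := h2.exists_le_sylow
    refine ⟨T, ?_⟩
    have hTp : IsPGroup 2 ((T : Subgroup K).map K.subtype) := T.isPGroup'.map K.subtype
    have hET : ∀ a ∈ E, a ∈ (T : Subgroup K).map K.subtype := by
      intro a ha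
      refine ⟨⟨a, hEK ha⟩, hT ?_, rfl⟩
      exact Subgroup.mem_subgroupOf.mpr (Subgroup.subset_closure ha)
    ext y
    constructor
    · intro hy
      exact ⟨hE.sub hy, hET y hy⟩
    · rintro ⟨hyD, hyT⟩
      refine hE.max y hyD ?_ ?_
      · intro s hs
        obtain ⟨k, -, rfl⟩ := hyT
        exact (Subgroup.mem_centralizer_iff.mp k.2 s hs).symm
      · intro a ha
        exact commute_of_two_group H hTp hyD (hE.sub ha) hyT (hET a ha)
  obtain ⟨T₁, hT₁⟩ := key E₁ h₁
  obtain ⟨T₂, hT₂⟩ := key E₂ h₂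
  obtain ⟨h, hh⟩ := MulAction.exists_smul_eq K T₁ T₂
  refine ⟨h, fun s hs => (Subgroup.mem_centralizer_iff.mp h.2 s hs).symm, ?_⟩
  have hD' : ∀ y : G, y ∈ D ↔ (h : G)⁻¹ * y * h ∈ D := fun y =>
    ⟨fun hy => by simpa using H.conj y hy (h : G)⁻¹, fun hy => by
      have := H.conj _ hy h
      have h2 : (h : G) * ((h : G)⁻¹ * y * h) * (h : G)⁻¹ = y := by group
      rwa [h2] at this⟩
  ext y
  rw [mem_cj, hT₁, hT₂, Set.mem_ofPred_eq, Set.mem_ofPred_eq, ← hD' y]
  refine and_congr_right fun _ => ?_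
  rw [← hh]
  constructor
  · rintro ⟨k, hk, rfl⟩
    rw [Sylow.coe_subgroup_smul] at hk
    have h3 := Subgroup.mem_pointwise_smul_iff_inv_smul_mem.mp hk
    refine ⟨_, h3, ?_⟩
    simp [MulAut.smul_def]
  · rintro ⟨k, hk, hky⟩
    refine ⟨h * k * h⁻¹, ?_, ?_⟩
    · rw [Sylow.coe_subgroup_smul]
      apply Subgroup.mem_pointwise_smul_iff_inv_smul_mem.mpr
      convert hk using 1
      simp [MulAut.smul_def, mul_assoc]
      exact Iff.rfl
    · have : (K.subtype k : G) = (h : G)⁻¹ * y * h := hky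
      simp only [map_mul, map_inv, this, Subgroup.coe_subtype]
      group

theorem ncard_clq [Finite G] {D : Set G} {p : ℕ} (H : Odd5 D p) {S E₁ E₂ : Set G}
    (h₁ : IsClq D S E₁) (h₂ : IsClq D S E₂) : E₂.ncard = E₁.ncard := by
  obtain ⟨h, -, rfl⟩ := clq_conj H h₁ h₂
  exact ncard_cj _ _

end Cfsg.Agent.SporadicStructure.RankThreeClq
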