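import Mathlib
import Cfsg.Agent.SporadicStructure.RankThreeClq

/-!
# Types of triples and quadruples
-/

set_option autoImplicit false

namespace Cfsg.Agent.SporadicStructure.RankThreeTypes

open Cfsg.Agent.SporadicStructure.RankThreeBase Cfsg.Agent.SporadicStructure.RankThreeClq

variable {G : Type*} [Group G] {D : Set G} {p : ℕ}

/-- No product of two distinct commuting members lies in `D`. -/
def NP (D : Set G) : Prop := ∀ a ∈ D, ∀ b ∈ D, a ≠ b → Commute a b → a * b ∉ D

theorem comm_of_pow {c z : G} {k : ℕ} (hp : c ^ p = 1) (hk : Nat.Coprime k p)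
    (h : Commute z (c ^ k)) : Commute z c := by
  have h1 : Nat.Coprime k (orderOf c) := Nat.Coprime.coprime_dvd_right (orderOf_dvd_of_pow_eq_one hp) hk
  obtain ⟨m, hm⟩ := exists_pow_eq_self_of_coprime h1
  have := h.pow_right m
  rwa [hm] at this

/-- An element commuting with `x` and `d x d` commutes with `d`. -/
theorem comm_of_line (H : Odd5 D p) {x d g : G} (hx : x ∈ D) (hd : d ∈ D) (hn : ¬ Commute x d)
    (h1 : Commute g x) (h2 : Commute g (d * x * d)) : Commute g d := by
  have h3 : Commute g ((x * d) ^ 2) := by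
    have : (x * d) ^ 2 = x * (d * x * d) := by rw [pow_two]; group
    rw [this]; exact h1.mul_right h2
  have h4 := comm_of_pow (H.pow' hx hd hn) (by simpa using H.coprime_two_pow 1) h3
  have h5 : d = x * (x * d) := by rw [← mul_assoc, H.sq x hx, one_mul]
  rw [h5]; exact h1.mul_right h4

section
variable {x e d : G}

/-- The basic dichotomy. -/
theorem types (H : Odd5 D p) (_hNP : NP D) (hx : x ∈ D) (he : e ∈ D) (hd : d ∈ D) (hne : x ≠ e)
    (hxe : Commute x e) (hdx : ¬ Commute d x) (hde : ¬ Commute d e) :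
    (d * (x * e)) ^ 4 = 1 ∨ ∃ y ∈ D, y ≠ x ∧ y ≠ e ∧ Commute y x ∧ Commute y e ∧ ¬ Commute d y ∧
      Commute d (x * e * y) ∧ (∀ v : G, Commute v d → Commute v (x * e) → Commute v y) := by
  set z := x * e with hz
  have hz2 : z * z = 1 := (commute_iff (H.sq x hx) (H.sq e he)).mp hxe
  have hd2 := H.sq d hd
  have hzi : z⁻¹ = z := inv_eq_self hz2
  have hdz : ¬ Commute d z := fun h => hdx (H.commute_left_of_commute_mul hx he hd hne hxe h)
  have hdzD : z * d * z ∈ D := by have := H.conj d hd z; rwa [hzi] at this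
  have hsq : (d * z) ^ 2 = d * (z * d * z) := by rw [pow_two]; group
  by_cases hc : Commute d (z * d * z)
  · left
    have := (commute_iff hd2 (H.sq _ hdzD)).mp hc
    calc (d * z) ^ 4 = ((d * z) ^ 2) * ((d * z) ^ 2) := by rw [← pow_add]
      _ = 1 := by rw [hsq]; exact this
  · right
    have hp := H.pow' hd hdzD hc
    rw [← hsq, ← pow_mul, mul_comm, pow_mul] at hp
    -- hp : ((d*z)^p)^2 = 1
    set g := d * z with hg
    have hdg : d * g * d = g⁻¹ := by
      rw [hg, mul_inv_rev, hzi, inv_eq_self hd2, ← mul_assoc, hd2, one_mul]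
    have hzg : z * g * z = g⁻¹ := by
      rw [hg, mul_inv_rev, hzi, inv_eq_self hd2]
      calc z * (d * z) * z = z * d * (z * z) := by group
        _ = z * d := by rw [hz2, mul_one]
    set w := g ^ p with hw
    have hw2 : w * w = 1 := by rw [← pow_two]; exact hp
    have hwi : w⁻¹ = w := inv_eq_self hw2
    have hdw : Commute d w := by
      have := conj_pow_inv hd2 hdg p
      rw [← hw, hwi] at this
      show d * w = w * d
      calc d * w = d * w * (d * d) := by rw [hd2, mul_one]
        _ = d * w * d * d := by group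
        _ = w * d := by rw [this]
    have hzw : Commute z w := by
      have := conj_pow_inv hz2 hzg p
      rw [← hw, hwi] at this
      show z * w = w * z
      calc z * w = z * w * (z * z) := by rw [hz2, mul_one]
        _ = z * w * z * z := by group
        _ = w * z := by rw [this]
    obtain ⟨q, hq⟩ := H.odd
    have hyD : z * w ∈ D := by
      have h1 : z * w = (g ^ (q + 1))⁻¹ * d * ((g ^ (q + 1))⁻¹)⁻¹ := by
        have h2 := conj_pow_inv hd2 hdg (q + 1)
        have h3 : (g ^ (q + 1))⁻¹ * d = d * g ^ (q + 1) := by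
          rw [← h2, mul_assoc, hd2, mul_one]
        rw [inv_inv, h3, mul_assoc d, ← pow_add]
        have h4 : q + 1 + (q + 1) = p + 1 := by rw [hq]; ring
        rw [h4, pow_succ', ← mul_assoc, hg, ← mul_assoc, hd2, one_mul]
      rw [h1]
      exact H.conj d hd _
    have hyz : Commute (z * w) z := (Commute.refl z).mul_left hzw.symm
    have hyx := H.commute_left_of_commute_mul hx he hyD hne hxe hyz
    have hye := H.commute_right_of_commute_mul hx he hyD hne hxe hyz
    have hzy : z * (z * w) = w := by rw [← mul_assoc, hz2, one_mul]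
    refine ⟨z * w, hyD, ?_, ?_, hyx, hye, ?_, ?_, ?_⟩
    · intro h
      apply hde
      have : e = w := by
        rw [← hzy, h, hz, hxe.eq, mul_assoc, H.sq x hx, mul_one]
      rw [this]; exact hdw
    · intro h
      apply hdx
      have : x = w := by
        rw [← hzy, h, hz, mul_assoc, H.sq e he, mul_one]
      rw [this]; exact hdw
    · intro h
      apply hdz
      have : z = (z * w) * w := by rw [mul_assoc, hw2, mul_one]
      rw [this]; exact h.mul_right hdw
    · rw [hzy]; exact hdw
    · intro v h1 h2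
      exact h2.mul_right ((h1.mul_right h2).pow_right p)

/-- Type 4 propagates along the line. -/
theorem type_four_next (H : Odd5 D p) (hNP : NP D) (hx : x ∈ D) (he : e ∈ D) (hd : d ∈ D)
    (hne : x ≠ e) (hxe : Commute x e) (hdx : ¬ Commute d x) (hde : ¬ Commute d e)
    (h4 : (d * (x * e)) ^ 4 = 1) : ((d * x * d) * (x * e)) ^ 4 = 1 := by
  set z := x * e with hz
  have hxd : ¬ Commute x d := fun h => hdx h.symm
  have hz2 : z * z = 1 := (commute_iff (H.sq x hx) (H.sq e he)).mp hxe
  have hd2D : d * x * d ∈ D := H.conj' hx hd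
  have hn1 : ¬ Commute (d * x * d) x := fun h => hxd (H.commute_of_commute_conj hx hd h.symm)
  have hn2 : ¬ Commute (d * x * d) e := fun h =>
    hde (comm_of_line H hx hd hxd hxe.symm h.symm).symm
  have hdz : ¬ Commute d z := fun h => hdx (H.commute_left_of_commute_mul hx he hd hne hxe h)
  rcases types H hNP hx he hd2D hne hxe hn1 hn2 with h | ⟨y, hyD, hyx, hye, hcyx, hcye, hdy, hdw, -⟩
  · exact h
  · exfalso
    set w := x * e * y with hw
    have hxz : Commute x z := (Commute.refl x).mul_right hxe
    have hyz : Commute y z := hcyx.mul_right hcye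
    have hwx : Commute w x := (hxz.symm).mul_left hcyx
    have hwz : Commute w z := (Commute.refl z).mul_left hyz
    have hwd : Commute w d := comm_of_line H hx hd hxd hwx hdw.symm
    have hw2 : w * w = 1 := by
      have : w * w = (z * z) * (y * y) := by
        rw [hw]
        calc z * y * (z * y) = z * (y * z) * y := by group
          _ = z * (z * y) * y := by rw [hyz.eq]
          _ = _ := by group
      rw [this, hz2, H.sq y hyD, mul_one]
    have hyw : y = z * w := by rw [hw, ← mul_assoc, hz2, one_mul]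
    have hcomm : Commute (d * z) w := (hwd.symm).mul_left hwz.symm
    have h5 : (d * y) ^ 2 = (d * z) ^ 2 := by
      rw [hyw, ← mul_assoc, hcomm.mul_pow, pow_two w, hw2, mul_one]
    have h6 : Commute d y := by
      apply H.commute_of_four hd hyD
      calc (d * y) ^ 4 = ((d * y) ^ 2) ^ 2 := by rw [← pow_mul]
        _ = ((d * z) ^ 2) ^ 2 := by rw [h5]
        _ = (d * z) ^ 4 := by rw [← pow_mul]
        _ = 1 := h4
    have h7 := (commute_iff (H.sq d hd) (H.sq y hyD)).mp h6
    rw [← pow_two, h5, pow_two] at h7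
    exact hdz ((commute_iff (H.sq d hd) hz2).mpr h7)

/-- A triple of type 4 gives a quadruple. -/
theorem quad_of_type_four (H : Odd5 D p) (hNP : NP D) (hx : x ∈ D) (he : e ∈ D) (hd : d ∈ D)
    (hne : x ≠ e) (hxe : Commute x e) (hdx : ¬ Commute d x) (hde : ¬ Commute d e)
    (h4 : (d * (x * e)) ^ 4 = 1) :
    ∃ v ∈ D, ∃ v' ∈ D, v ≠ x ∧ v ≠ e ∧ Commute v x ∧ Commute v e ∧ Commute v' x ∧ Commute v' e ∧
      Commute v v' ∧ v * v' = x * e := by
  have h42 := type_four_next H hNP hx he hd hne hxe hdx hde h4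
  set z := x * e with hz
  have hxd : ¬ Commute x d := fun h => hdx h.symm
  have hx2 := H.sq x hx
  have hd2 := H.sq d hd
  have hz2 : z * z = 1 := (commute_iff hx2 (H.sq e he)).mp hxe
  have hzi : z⁻¹ = z := inv_eq_self hz2
  have hxi : x⁻¹ = x := inv_eq_self hx2
  have hdi : d⁻¹ = d := inv_eq_self hd2
  have hxz : Commute x z := (Commute.refl x).mul_right hxe
  have hd2D : d * x * d ∈ D := H.conj' hx hd
  have hn1 : ¬ Commute (d * x * d) x := fun h => hxd (H.commute_of_commute_conj hx hd h.symm)
  -- commuting with conjugates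
  have conj_comm : ∀ u : G, u * u = 1 → (u * z) ^ 4 = 1 → Commute (u * z * u) z := by
    intro u hu h
    have hu' : (u * z * u) * (u * z * u) = 1 := by
      calc (u * z * u) * (u * z * u) = u * z * (u * u) * z * u := by group
        _ = u * (z * z) * u := by rw [hu]; group
        _ = 1 := by rw [hz2, mul_one, hu]
    rw [commute_iff hu' hz2]
    calc u * z * u * z * (u * z * u * z) = (u * z) ^ 4 := by
          simp only [pow_succ, pow_zero, one_mul]; group
      _ = 1 := h
  have hA : Commute (d * z * d) z := conj_comm d hd2 h4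
  have hB : Commute ((d * x * d) * z * (d * x * d)) z := conj_comm _ (H.sq _ hd2D) h42
  -- conjugation by x preserves z
  have hcx : ∀ u : G, Commute u z → Commute (x * u * x) z := by
    intro u hu
    have h1 := (@commute_conj_iff G _ x u z).mpr hu
    have h2 : x * z * x⁻¹ = z := by rw [hxz.eq]; group
    rw [h2, hxi] at h1
    exact h1
  have hz1z : Commute (x * (d * z * d) * x) z := hcx _ hA
  set z1 := x * (d * z * d) * x with hz1
  set c := x * d with hc
  have hcp : c ^ p = 1 := H.pow' hx hd hxd
  have hci : c⁻¹ = d * x := by rw [hc, mul_inv_rev, hxi, hdi]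
  have hz1c : z1 = c * z * c⁻¹ := by
    rw [hci, hz1, hc]; group
  have hz1sq : z1 * z1 = 1 := by
    rw [hz1c]
    calc c * z * c⁻¹ * (c * z * c⁻¹) = c * (z * z) * c⁻¹ := by group
      _ = 1 := by rw [hz2]; group
  have hz1i : z1⁻¹ = z1 := inv_eq_self hz1sq
  have hzm : x * z1 * x = d * z * d := by
    rw [hz1]
    calc x * (x * (d * z * d) * x) * x = (x * x) * (d * z * d) * (x * x) := by group
      _ = d * z * d := by rw [hx2]; group
  have hzm' : d * z * d = c⁻¹ * z * c := by
    rw [hci, hc]
    calc d * z * d = d * (z * (x * x)) * d := by rw [hx2, mul_one]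
      _ = d * ((z * x) * x) * d := by group
      _ = d * ((x * z) * x) * d := by rw [hxz.eq]
      _ = _ := by group
  -- z commutes with z2 = c^2 z c^-2
  have hz2z : Commute (c * z1 * c⁻¹) z := by
    have h1 := hcx _ hB
    have h2 : x * (d * x * d * z * (d * x * d)) * x = c * z1 * c⁻¹ := by
      rw [hz1c, hci, hc]; group
    rwa [h2] at h1
  -- z1 and z_{-1} commute
  have hz1zm : Commute z1 (d * z * d) := by
    rw [hzm']
    have h1 := (@commute_conj_iff G _ c⁻¹ (c * z1 * c⁻¹) z).mpr hz2z
    have h2 : c⁻¹ * (c * z1 * c⁻¹) * c⁻¹⁻¹ = z1 := by group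
    rw [h2, inv_inv] at h1
    exact h1
  have hvD : z1 * x * z1 ∈ D := by have := H.conj x hx z1; rwa [hz1i] at this
  have hv'D : z1 * e * z1 ∈ D := by have := H.conj e he z1; rwa [hz1i] at this
  have hvx1 : z1 * x * z1 * x = z1 * (d * z * d) := by
    rw [← hzm]; group
  have hzmsq : (d * z * d) * (d * z * d) = 1 := by
    calc (d * z * d) * (d * z * d) = d * z * (d * d) * z * d := by group
      _ = d * (z * z) * d := by rw [hd2]; group
      _ = 1 := by rw [hz2, mul_one, hd2]
  have hvx : Commute (z1 * x * z1) x := by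
    rw [commute_iff (H.sq _ hvD) hx2, hvx1]
    exact (commute_iff hz1sq hzmsq).mp hz1zm
  have hvv' : z1 * x * z1 * (z1 * e * z1) = z := by
    calc z1 * x * z1 * (z1 * e * z1) = z1 * x * (z1 * z1) * e * z1 := by group
      _ = z1 * (x * e) * z1 := by rw [hz1sq]; group
      _ = z1 * z * z1 := rfl
      _ = z * (z1 * z1) := by rw [hz1z.eq]; group
      _ = z := by rw [hz1sq, mul_one]
  have hcvv' : Commute (z1 * x * z1) (z1 * e * z1) := by
    have := (@commute_conj_iff G _ z1 x e).mpr hxe
    rwa [hz1i] at this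
  have hvz : Commute (z1 * x * z1) z := by
    rw [← hvv']; exact (Commute.refl _).mul_right hcvv'
  have hv'z : Commute (z1 * e * z1) z := by
    rw [← hvv']; exact hcvv'.symm.mul_right (Commute.refl _)
  have hexz : e = x * z := by rw [hz, ← mul_assoc, hx2, one_mul]
  have hv'vz : z1 * e * z1 = (z1 * x * z1) * z := by
    calc z1 * e * z1 = (z1 * x * z1) * (z1 * x * z1) * (z1 * e * z1) := by
          rw [H.sq _ hvD, one_mul]
      _ = (z1 * x * z1) * ((z1 * x * z1) * (z1 * e * z1)) := mul_assoc _ _ _
      _ = (z1 * x * z1) * z := by rw [hvv']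
  have hv'x : Commute (z1 * e * z1) x := by
    rw [hv'vz]; exact hvx.mul_left hxz.symm
  have hne1 : z1 * x * z1 ≠ x := by
    intro h
    -- z1 commutes with x
    have h1 : Commute z1 x := by
      show z1 * x = x * z1
      calc z1 * x = z1 * x * (z1 * z1) := by rw [hz1sq, mul_one]
        _ = (z1 * x * z1) * z1 := by group
        _ = x * z1 := by rw [h]
    rw [hz1c] at h1
    have h2 := (@commute_conj_iff G _ c⁻¹ (c * z * c⁻¹) x).mpr h1
    have h3 : c⁻¹ * (c * z * c⁻¹) * c⁻¹⁻¹ = z := by group
    have h4 : c⁻¹ * x * c⁻¹⁻¹ = d * x * d := by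
      rw [inv_inv, hci, hc]
      calc d * x * x * (x * d) = d * (x * x) * x * d := by group
        _ = d * x * d := by rw [hx2]; group
    rw [h3, h4] at h2
    exact hn1 (H.commute_left_of_commute_mul hx he hd2D hne hxe h2.symm)
  refine ⟨z1 * x * z1, hvD, z1 * e * z1, hv'D, hne1, ?_, hvx, ?_, hv'x, ?_, hcvv', hvv'⟩
  · intro h
    -- z1 * zm = z
    have h1 : z1 * (d * z * d) = z := by
      rw [← hvx1, h, hz, hxe.eq]
    have h2 : d * z * d = z1 * z := by
      calc d * z * d = (z1 * z1) * (d * z * d) := by rw [hz1sq, one_mul]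
        _ = z1 * (z1 * (d * z * d)) := by group
        _ = z1 * z := by rw [h1]
    -- conjugate h1 by c
    have h3 : (c * z1 * c⁻¹) * z = z1 := by
      have : c * (z1 * (d * z * d)) * c⁻¹ = c * z * c⁻¹ := by rw [h1]
      rw [hzm'] at this
      calc (c * z1 * c⁻¹) * z = c * (z1 * (c⁻¹ * z * c)) * c⁻¹ := by group
        _ = c * z * c⁻¹ := this
        _ = z1 := hz1c.symm
    have h5 : c * z1 * c⁻¹ = z1 * z := by
      calc c * z1 * c⁻¹ = (c * z1 * c⁻¹) * (z * z) := by rw [hz2, mul_one]
        _ = (c * z1 * c⁻¹) * z * z := by group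
        _ = z1 * z := by rw [h3]
    have h6 : c * (c * z * c⁻¹) * c⁻¹ = c⁻¹ * z * c := by
      rw [← hzm', h2, ← h5, hz1c]
    have h7 : Commute z (c ^ 3) := by
      show z * c ^ 3 = c ^ 3 * z
      have : c * (c * (c * z * c⁻¹) * c⁻¹) * c⁻¹ = c * (c⁻¹ * z * c) * c⁻¹ := by rw [h6]
      have h8 : c ^ 3 * z * (c ^ 3)⁻¹ = z := by
        calc c ^ 3 * z * (c ^ 3)⁻¹ = c * (c * (c * z * c⁻¹) * c⁻¹) * c⁻¹ := by
              simp only [pow_succ, pow_zero, one_mul]; group
          _ = c * (c⁻¹ * z * c) * c⁻¹ := this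
          _ = z := by group
      calc z * c ^ 3 = (c ^ 3 * z * (c ^ 3)⁻¹) * c ^ 3 := by rw [h8]
        _ = c ^ 3 * z := by group
    have h8 : Commute z c := comm_of_pow hcp H.coprime_three h7
    apply hne1
    have h9 : z1 = z := by rw [hz1c, ← h8.eq]; group
    rw [h9, ← hxz.eq, mul_assoc, hz2, mul_one]
  · have := hvx.mul_right hvz
    rwa [← hexz] at this
  · have := hv'x.mul_right hv'z
    rwa [← hexz] at this

end

end Cfsg.Agent.SporadicStructure.RankThreeTypes
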