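import Mathlib
import Cfsg.Agent.SporadicStructure.RankThreeTypes

/-!
# Rank three classes, the case where maximal intersections of cliques have co-size one
-/

set_option autoImplicit false

namespace Cfsg.Agent.SporadicStructure.RankThreeCaseTwo

open Cfsg.Agent.SporadicStructure.RankThreeBase Cfsg.Agent.SporadicStructure.RankThreeClq
  Cfsg.Agent.SporadicStructure.RankThreeTypes

variable {G : Type*} [Group G] {D : Set G} {p : ℕ}

/-- Rank three situation with products of order 2, p. -/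
structure Rk3 (D : Set G) (p : ℕ) : Prop extends Odd5 D p where
  transN : ∀ x ∈ D, ∀ y ∈ D, ∀ x' ∈ D, ∀ y' ∈ D, ¬ Commute x y → ¬ Commute x' y' →
    ∃ g : G, g * x * g⁻¹ = x' ∧ g * y * g⁻¹ = y'
  transC : ∀ x ∈ D, ∀ y ∈ D, ∀ x' ∈ D, ∀ y' ∈ D, x ≠ y → x' ≠ y' → Commute x y → Commute x' y' →
    ∃ g : G, g * x * g⁻¹ = x' ∧ g * y * g⁻¹ = y'
  no2 : ∀ N : Subgroup G, N.Normal → IsPGroup 2 N → N = ⊥

theorem np_of (R : Rk3 D p) {x y d : G} (hx : x ∈ D) (hy : y ∈ D) (hd : d ∈ D)
    (hxy : Commute x y) (hdy : Commute d y) (hdx : ¬ Commute d x) : NP D := by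
  intro a ha b hb hab hc hm
  have hne : x ≠ y := fun h => hdx (h ▸ hdy)
  obtain ⟨g, hg1, hg2⟩ := R.transC a ha b hb x hx y hy hab hne hc hxy
  have hxyD : x * y ∈ D := by
    have := R.conj _ hm g
    have h2 : g * (a * b) * g⁻¹ = x * y := by
      rw [← hg1, ← hg2]; group
    rwa [h2] at this
  have h1 : x * (x * y) = y := by rw [← mul_assoc, R.sq x hx, one_mul]
  have h2 : x ≠ x * y := by
    intro h
    exact R.ne_one y hy (mul_left_cancel (a := x) (by rw [← h, mul_one]))
  exact hdx (R.commute_left_of_commute_mul hx hxyD hd h2 ((Commute.refl x).mul_right hxy)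
    (by rw [h1]; exact hdy))

/-- every commuting pair lies in a quadruple. -/
def Quad (D : Set G) : Prop := ∀ a ∈ D, ∀ b ∈ D, a ≠ b → Commute a b →
  ∃ v ∈ D, ∃ v' ∈ D, v ≠ a ∧ v ≠ b ∧ Commute v a ∧ Commute v b ∧ Commute v' a ∧ Commute v' b ∧
      Commute v v' ∧ v * v' = a * b

theorem quad_of (R : Rk3 D p) (hNP : NP D) {x e d : G} (hx : x ∈ D) (he : e ∈ D) (hd : d ∈ D)
    (hne : x ≠ e) (hxe : Commute x e) (hdx : ¬ Commute d x) (hde : ¬ Commute d e)
    (h4 : (d * (x * e)) ^ 4 = 1) : Quad D := by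
  intro a ha b hb hab hc
  obtain ⟨g, rfl, rfl⟩ := R.transC x hx e he a ha b hb hne hab hxe hc
  obtain ⟨v, hv, v', hv', h1, h2, h3, h4, h5, h6, h7, h8⟩ :=
    quad_of_type_four R.toOdd5 hNP hx he hd hne hxe hdx hde h4
  refine ⟨g * v * g⁻¹, R.conj v hv g, g * v' * g⁻¹, R.conj v' hv' g, ?_, ?_,
    commute_conj_iff.mpr h3, commute_conj_iff.mpr h4, commute_conj_iff.mpr h5,
    commute_conj_iff.mpr h6, commute_conj_iff.mpr h7, ?_⟩
  · intro h; exact h1 (by simpa using h)
  · intro h; exact h2 (by simpa using h)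
  · calc g * v * g⁻¹ * (g * v' * g⁻¹) = g * (v * v') * g⁻¹ := by group
      _ = g * (x * e) * g⁻¹ := by rw [h8]
      _ = _ := by group

variable [Finite G]

theorem ncard_two (R : Rk3 D p) {E E' : Set G} (h : IsClq D ∅ E) (h' : IsClq D ∅ E') :
    E'.ncard = E.ncard := ncard_clq R.toOdd5 h h'

/-- sizes of cliques of `D ∩ C(x,y)`, `x,y` noncommuting, are all equal. -/
theorem ncard_rel (R : Rk3 D p) {x y x' y' : G} (hx : x ∈ D) (hy : y ∈ D) (hx' : x' ∈ D)
    (hy' : y' ∈ D) (hn : ¬ Commute x y) (hn' : ¬ Commute x' y') {F F' : Set G}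
    (hF : IsClq D {x, y} F) (hF' : IsClq D {x', y'} F') : F'.ncard = F.ncard := by
  obtain ⟨g, rfl, rfl⟩ := R.transN x hx y hy x' hx' y' hy' hn hn'
  have h1 := hF.cj R.conj g
  have h2 : cj g {x, y} = {g * x * g⁻¹, g * y * g⁻¹} := by
    rw [cj_eq_image]
    simp [Set.image_pair]
  rw [h2] at h1
  rw [ncard_clq R.toOdd5 h1 hF', ncard_cj]

/-- The members of a set commuting with `d`. -/
def cE (E : Set G) (d : G) : Set G := {a | a ∈ E ∧ Commute a d}

/-- Case II : if `m = f₀ + 1` then for commuting `x ≠ e` every `d` commutes with `x` or `e`. -/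
theorem case_two (R : Rk3 D p)
    (hm : ∀ x ∈ D, ∀ y ∈ D, ¬ Commute x y → ∀ E F : Set G, IsClq D ∅ E → IsClq D {x, y} F →
      E.ncard = F.ncard + 1)
    {x e d : G} (hx : x ∈ D) (he : e ∈ D) (hd : d ∈ D) (hne : x ≠ e) (hxe : Commute x e) :
    Commute d x ∨ Commute d e := by
  classical
  by_contra hcon
  rw [not_or] at hcon
  obtain ⟨hdx, hde⟩ := hcon
  have H := R.toOdd5
  -- a clique which loses exactly one member
  obtain ⟨F, hF, -⟩ := exists_clq (D := D) (S := {x, d}) (F := ∅) (Set.empty_subset _)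
    (by simp) (by simp)
  have hxF : x ∉ F := fun h => hdx ((hF.cen x h d (by simp)).symm)
  obtain ⟨E₁, hE₁, hsub⟩ := exists_clq (D := D) (S := ∅) (F := insert x F)
    (Set.insert_subset hx hF.sub) (by simp) (by
      intro a ha b hb
      rcases Set.mem_insert_iff.mp ha with ha' | ha'
      · rcases Set.mem_insert_iff.mp hb with hb' | hb'
        · rw [ha', hb']
        · rw [ha']; exact (hF.cen b hb' x (by simp)).symm
      · rcases Set.mem_insert_iff.mp hb with hb' | hb'
        · rw [hb']; exact (hF.cen a ha' x (by simp))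
        · exact hF.comm a ha' b hb')
  have hcard := hm x hx d hd (fun h => hdx h.symm) E₁ F hE₁ hF
  have hE₁eq : insert x F = E₁ := by
    apply Set.eq_of_subset_of_ncard_le hsub _ (Set.toFinite _)
    rw [Set.ncard_insert_of_notMem hxF (Set.toFinite _), hcard]
  -- F is nonempty
  have hm2 : 2 ≤ E₁.ncard := by
    obtain ⟨E₂, hE₂, hsub2⟩ := exists_clq (D := D) (S := ∅) (F := {x, e})
      (by intro a ha; rcases ha with rfl | rfl <;> assumption) (by simp) (by
        intro a ha b hb
        rcases ha with rfl | rfl <;> rcases hb with rfl | rfl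
        · exact Commute.refl _
        · exact hxe
        · exact hxe.symm
        · exact Commute.refl _)
    rw [ncard_two R hE₂ hE₁, ← Set.ncard_pair hne]
    exact Set.ncard_le_ncard hsub2 (Set.toFinite _)
  have hFne : F.Nonempty := by
    rw [← Set.ncard_pos (Set.toFinite _)]; omega
  obtain ⟨y, hy⟩ := hFne
  have hyx : Commute y x := hF.cen y hy x (by simp)
  have hyd : Commute y d := hF.cen y hy d (by simp)
  have hNP : NP D := np_of R hx (hF.sub hy) hd hyx.symm hyd.symm hdx
  -- no quadruples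
  have hnq : ¬ Quad D := by
    intro hq
    have hxy : x ≠ y := fun h => hxF (h ▸ hy)
    obtain ⟨v, hv, v', hv', h1, h2, h3, h4, h5, h6, h7, h8⟩ := hq x hx y (hF.sub hy) hxy hyx.symm
    have hvv' : v ≠ v' := by
      intro h
      rw [← h, H.sq v hv] at h8
      exact hxy (by rw [← inv_eq_self (H.sq x hx)]; exact inv_eq_of_mul_eq_one_right h8.symm)
    have hcomm : ∀ a ∈ E₁, Commute a v ∧ Commute a v' := by
      intro a ha
      have hax : Commute a x := hE₁.comm a ha x (hsub (Set.mem_insert _ _))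
      have hay : Commute a y := hE₁.comm a ha y (hsub (Set.mem_insert_of_mem _ hy))
      have h9 : Commute a (v * v') := by rw [h8]; exact hax.mul_right hay
      exact ⟨H.commute_left_of_commute_mul hv hv' (hE₁.sub ha) hvv' h7 h9,
        H.commute_right_of_commute_mul hv hv' (hE₁.sub ha) hvv' h7 h9⟩
    have hvE : v ∈ E₁ := hE₁.max v hv (by simp) fun a ha => (hcomm a ha).1.symm
    have hv'E : v' ∈ E₁ := hE₁.max v' hv' (by simp) fun a ha => (hcomm a ha).2.symm
    have hv'x : v' ≠ x := by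
      intro h
      apply h2
      rw [h] at h8 h7
      rw [h7.eq] at h8
      exact mul_left_cancel h8
    rw [← hE₁eq] at hvE hv'E
    have hvF : v ∈ F := (Set.mem_insert_iff.mp hvE).resolve_left h1
    have hv'F : v' ∈ F := (Set.mem_insert_iff.mp hv'E).resolve_left hv'x
    apply hdx
    have hxe' : x = v * v' * y := by rw [h8, mul_assoc, H.sq y (hF.sub hy), mul_one]
    rw [hxe']
    exact ((hF.cen v hvF d (by simp)).symm.mul_right (hF.cen v' hv'F d (by simp)).symm).mul_right
      hyd.symm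
  -- hence all triples are of type 2p
  have htyp : ∀ x ∈ D, ∀ e ∈ D, ∀ d ∈ D, x ≠ e → Commute x e → ¬ Commute d x → ¬ Commute d e →
      ∃ y ∈ D, y ≠ x ∧ y ≠ e ∧ Commute y x ∧ Commute y e ∧ ¬ Commute d y ∧
      (∀ v : G, Commute v d → Commute v (x * e) → Commute v y) := by
    intro x hx e he d hd hne hxe hdx hde
    rcases types H hNP hx he hd hne hxe hdx hde with h | ⟨y, a1, a2, a3, a4, a5, a6, -, a8⟩
    · exact absurd (quad_of R hNP hx he hd hne hxe hdx hde h) hnq
    · exact ⟨y, a1, a2, a3, a4, a5, a6, a8⟩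
  -- (II.1)
  have hII1 : ∀ E : Set G, IsClq D ∅ E → ∀ x ∈ E, ∀ e ∈ E, ∀ d ∈ D, x ≠ e → ¬ Commute d x →
      ¬ Commute d e → ¬ (∀ a ∈ E, a ≠ x → a ≠ e → Commute a d) := by
    intro E hE x hx e he d hd hne hdx hde hall
    obtain ⟨y, hyD, hyx, hye, hcyx, hcye, hdy, hv⟩ := htyp x (hE.sub hx) e (hE.sub he) d hd hne
      (hE.comm x hx e he) hdx hde
    have hyE : y ∈ E := by
      refine hE.max y hyD (by simp) fun a ha => ?_
      by_cases hax : a = x
      · rw [hax]; exact hcyx
      by_cases hae : a = e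
      · rw [hae]; exact hcye
      exact (hv a (hall a ha hax hae) ((hE.comm a ha x hx).mul_right (hE.comm a ha e he))).symm
    exact hdy (hall y hyE hyx hye).symm
  -- choose (E, d) with C_E(d) maximal
  obtain ⟨E₂, hE₂, hsub2⟩ := exists_clq (D := D) (S := ∅) (F := {x, e})
    (by intro a ha; rcases ha with rfl | rfl <;> assumption) (by simp) (by
      intro a ha b hb
      rcases ha with rfl | rfl <;> rcases hb with rfl | rfl
      · exact Commute.refl _
      · exact hxe
      · exact hxe.symm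
      · exact Commute.refl _)
  let 𝒮 : Set (Set G × G) := {q | IsClq D ∅ q.1 ∧ q.2 ∈ D ∧ ∃ a ∈ q.1, ∃ b ∈ q.1, a ≠ b ∧
    ¬ Commute q.2 a ∧ ¬ Commute q.2 b}
  have h𝒮 : 𝒮.Nonempty := ⟨(E₂, d), hE₂, hd, x, hsub2 (by simp), e, hsub2 (by simp), hne, hdx, hde⟩
  obtain ⟨⟨E, t⟩, ⟨hE, ht, a, ha, b, hb, hab, hta, htb⟩, hmax⟩ :=
    Set.exists_max_image 𝒮 (fun q => (cE q.1 q.2).ncard) (Set.toFinite _) h𝒮
  simp only at hE ht ha hb hta htb
  have hmax' : ∀ E' : Set G, ∀ t' ∈ D, IsClq D ∅ E' → (∃ a ∈ E', ∃ b ∈ E', a ≠ b ∧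
      ¬ Commute t' a ∧ ¬ Commute t' b) → (cE E' t').ncard ≤ (cE E t).ncard :=
    fun E' t' ht' hE' h => hmax (E', t') ⟨hE', ht', h⟩
  set F' := cE E t with hF'
  have haD := hE.sub ha
  -- extend F' to a relative clique for (a, t)
  obtain ⟨F₂, hF₂, hsubF⟩ := exists_clq (D := D) (S := {a, t}) (F := F')
    (fun u hu => hE.sub hu.1) (by
      intro u hu s hs
      rcases hs with rfl | rfl
      · exact hE.comm u hu.1 _ ha
      · exact hu.2) (fun u hu v hv => hE.comm u hu.1 v hv.1)
  have hcard2 := hm a haD t ht (fun h => hta h.symm) E F₂ hE hF₂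
  -- F' has size at most m - 2
  have hF'card : F'.ncard + 2 ≤ E.ncard := by
    have hd1 : Disjoint F' {a, b} := by
      rw [Set.disjoint_left]
      intro u hu hu'
      rcases hu' with rfl | rfl
      · exact hta hu.2.symm
      · exact htb hu.2.symm
    have h1 : F' ∪ {a, b} ⊆ E := by
      apply Set.union_subset (fun u hu => hu.1)
      intro u hu; rcases hu with rfl | rfl <;> assumption
    have h2 := Set.ncard_le_ncard h1 (Set.toFinite _)
    rw [Set.ncard_union_eq hd1 (Set.toFinite _) (Set.toFinite _), Set.ncard_pair hab] at h2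
    exact h2
  obtain ⟨u, huF₂, huF'⟩ : ∃ u ∈ F₂, u ∉ F' := by
    by_contra hh
    push Not at hh
    have := Set.ncard_le_ncard (show F₂ ⊆ F' from hh) (Set.toFinite _)
    omega
  have huD := hF₂.sub huF₂
  have hua : Commute u a := hF₂.cen u huF₂ a (by simp)
  have hut : Commute u t := hF₂.cen u huF₂ t (by simp)
  have huE : u ∉ E := fun h => huF' ⟨h, hut⟩
  have huF'c : ∀ v ∈ F', Commute v u := fun v hv => hF₂.comm v (hsubF hv) u huF₂
  -- C_E(u) is bigger
  have hEu : F'.ncard + 1 ≤ (cE E u).ncard := by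
    have h1 : insert a F' ⊆ cE E u := by
      refine Set.insert_subset (show a ∈ cE E u from ⟨ha, hua.symm⟩) ?_
      intro v hv; exact ⟨hv.1, huF'c v hv⟩
    have h2 : a ∉ F' := fun h => hta h.2.symm
    have := Set.ncard_le_ncard h1 (Set.toFinite _)
    rwa [Set.ncard_insert_of_notMem h2 (Set.toFinite _)] at this
  have huniq : ∀ v ∈ E, ∀ w ∈ E, ¬ Commute u v → ¬ Commute u w → v = w := by
    intro v hv w hw h1 h2
    by_contra hvw
    have := hmax' E u huD hE ⟨v, hv, w, hw, hvw, h1, h2⟩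
    omega
  obtain ⟨r, hrE, hru⟩ : ∃ r ∈ E, ¬ Commute u r := by
    by_contra hh
    push Not at hh
    exact huE (hE.max u huD (by simp) hh)
  have hrest : ∀ v ∈ E, v ≠ r → Commute u v := by
    intro v hv hvr
    by_contra h
    exact hvr (huniq v hv r hrE h hru)
  have hrF' : r ∉ F' := fun h => hru (huF'c r h).symm
  -- the new clique
  have hE₃c : ∀ v ∈ insert u (E \ {r}), ∀ w ∈ insert u (E \ {r}), Commute v w := by
    intro v hv w hw
    rcases Set.mem_insert_iff.mp hv with hv' | hv'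
    · rcases Set.mem_insert_iff.mp hw with hw' | hw'
      · rw [hv', hw']
      · rw [hv']; exact hrest w hw'.1 (by simpa using hw'.2)
    · rcases Set.mem_insert_iff.mp hw with hw' | hw'
      · rw [hw']; exact (hrest v hv'.1 (by simpa using hv'.2)).symm
      · exact hE.comm v hv'.1 w hw'.1
  have hE₃D : insert u (E \ {r}) ⊆ D := Set.insert_subset huD fun v hv => hE.sub hv.1
  obtain ⟨E₃, hE₃, hsub3⟩ := exists_clq (D := D) (S := ∅) hE₃D (by simp) hE₃c
  have hE₃card : (insert u (E \ {r})).ncard = E.ncard := by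
    rw [Set.ncard_insert_of_notMem (fun h => huE h.1) (Set.toFinite _)]
    exact Set.ncard_sdiff_singleton_add_one hrE (Set.toFinite _)
  have hE₃eq : insert u (E \ {r}) = E₃ := by
    apply Set.eq_of_subset_of_ncard_le hsub3 _ (Set.toFinite _)
    rw [hE₃card, ncard_two R hE hE₃]
  have hF'3 : insert u F' ⊆ cE E₃ t := by
    rw [← hE₃eq]
    refine Set.insert_subset (show u ∈ cE _ t from ⟨Set.mem_insert _ _, hut⟩) ?_
    intro v hv
    exact ⟨Set.mem_insert_of_mem _ ⟨hv.1, fun h => hrF' (by rw [← Set.mem_singleton_iff.mp h]; exact hv)⟩, hv.2⟩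
  have hcard3 : F'.ncard + 1 ≤ (cE E₃ t).ncard := by
    have := Set.ncard_le_ncard hF'3 (Set.toFinite _)
    rwa [Set.ncard_insert_of_notMem huF' (Set.toFinite _)] at this
  have huniq3 : ∀ v ∈ E₃, ∀ w ∈ E₃, ¬ Commute t v → ¬ Commute t w → v = w := by
    intro v hv w hw h1 h2
    by_contra hvw
    have := hmax' E₃ t ht hE₃ ⟨v, hv, w, hw, hvw, h1, h2⟩
    omega
  -- all members of E except two commute with t
  have hfin : ∀ v ∈ E, ¬ Commute t v → v = r ∨ ∀ w ∈ E, w ≠ r → ¬ Commute t w → w = v := by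
    intro v hv htv
    by_cases hvr : v = r
    · exact Or.inl hvr
    · right
      intro w hw hwr htw
      apply huniq3
      · rw [← hE₃eq]; exact Set.mem_insert_of_mem _ ⟨hw, by simpa using hwr⟩
      · rw [← hE₃eq]; exact Set.mem_insert_of_mem _ ⟨hv, by simpa using hvr⟩
      · exact htw
      · exact htv
  refine hII1 E hE a ha b hb t ht hab hta htb ?_
  intro v hv hva hvb
  by_contra hvt
  have hvt' : ¬ Commute t v := fun h => hvt h.symm
  by_cases har : a = r
  · -- then b ≠ r, v ≠ r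
    have hbr : b ≠ r := fun h => hab (har.trans h.symm)
    have hvr : v ≠ r := fun h => hva (h.trans har.symm)
    rcases hfin b hb htb with h | h
    · exact hbr h
    · exact hvb (h v hv hvr hvt')
  · rcases hfin a ha hta with h | h
    · exact har h
    · by_cases hvr : v = r
      · have hbr : b ≠ r := fun h => hvb (hvr.trans h.symm)
        exact hab (h b hb hbr htb).symm
      · exact hva (h v hv hvr hvt')

end Cfsg.Agent.SporadicStructure.RankThreeCaseTwo
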