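import Mathlib
import Cfsg.Prelude.Def_SporadicB
import Cfsg.Agent.SporadicStructure.RankThreeCaseTwo
import Cfsg.Agent.S0200

/-!
# Rank three involution classes: reductions

`D` is a generating conjugacy class of involutions such that the centraliser of each member has
exactly three orbits on `D`.  If two distinct members commute then the group is transitive on
commuting pairs and on noncommuting pairs, the noncommuting pairs have products of one fixed order,
which is `4` or an odd prime `p`; order `4` gives a normal 2-subgroup.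
-/

set_option autoImplicit false

namespace Cfsg.Agent.SporadicStructure.RankThreeReduce

open RankThreeBase

variable {G : Type*} [Group G]

/-- orbit of `y` under the centraliser of `x`. -/
def orb (x y : G) : Set G := {w : G | ∃ g : G, Commute g x ∧ g * y * g⁻¹ = w}

theorem orb_self (x : G) : orb x x = {x} := by
  ext w
  constructor
  · rintro ⟨g, hg, rfl⟩
    rw [Set.mem_singleton_iff, hg.eq, mul_inv_cancel_right]
  · intro h
    rw [Set.mem_singleton_iff] at h
    exact ⟨1, Commute.one_left x, by rw [h]; group⟩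

theorem commute_iff_of_mem_orb {x y w : G} (h : w ∈ orb x y) : Commute w x ↔ Commute y x := by
  obtain ⟨g, hg, rfl⟩ := h
  constructor
  · intro hc
    have h1 : Commute (g⁻¹ * (g * y * g⁻¹) * g) x := (hg.inv_left.mul_left hc).mul_left hg
    have h2 : g⁻¹ * (g * y * g⁻¹) * g = y := by group
    rwa [h2] at h1
  · intro hc
    exact (hg.mul_left hc).mul_left hg.inv_left

theorem mem_orb_of_mem {x y u w : G} (hu : u ∈ orb x y) (hw : w ∈ orb x y) : w ∈ orb x u := by
  obtain ⟨g, hg, rfl⟩ := hu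
  obtain ⟨h, hh, rfl⟩ := hw
  exact ⟨h * g⁻¹, hh.mul_left hg.inv_left, by group⟩

/-- The hypotheses of the theorem. -/
structure Rank (D : Set G) : Prop where
  inv : ∀ d ∈ D, orderOf d = 2
  conj : ∃ d ∈ D, D = conjugatesOf d
  gen : Subgroup.closure D = ⊤
  rank : ∀ x ∈ D, ∃ y ∈ D, ∃ z ∈ D, orb x y ≠ orb x x ∧ orb x z ≠ orb x x ∧ orb x y ≠ orb x z ∧
    D = orb x x ∪ orb x y ∪ orb x z

variable {D : Set G}

namespace Rank

theorem sq (R : Rank D) {x : G} (hx : x ∈ D) : x * x = 1 := by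
  have := pow_orderOf_eq_one x
  rwa [R.inv x hx, pow_two] at this

theorem ne_one (R : Rank D) {x : G} (hx : x ∈ D) : x ≠ 1 := by
  intro h
  have := R.inv x hx
  rw [h, orderOf_one] at this
  omega

theorem inv_self (R : Rank D) {x : G} (hx : x ∈ D) : x⁻¹ = x := inv_eq_self (R.sq hx)

theorem mem_conj (R : Rank D) {x : G} (hx : x ∈ D) (g : G) : g * x * g⁻¹ ∈ D := by
  obtain ⟨d, -, hD⟩ := R.conj
  rw [hD] at hx ⊢
  have hx' : IsConj d x := hx
  exact hx'.trans (isConj_iff.mpr ⟨g, rfl⟩)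

theorem exists_conj (R : Rank D) {x y : G} (hx : x ∈ D) (hy : y ∈ D) : ∃ g : G, g * x * g⁻¹ = y := by
  obtain ⟨d, -, hD⟩ := R.conj
  rw [hD] at hx hy
  have hx' : IsConj d x := hx
  have hy' : IsConj d y := hy
  exact isConj_iff.mp (hx'.symm.trans hy')

/-- an element commuting with all of `D` is central -/
theorem central_of (R : Rank D) {x : G} (h : ∀ d ∈ D, Commute d x) (g : G) : Commute g x := by
  have hle : Subgroup.closure D ≤ Subgroup.centralizer ({x} : Set G) := by
    rw [Subgroup.closure_le]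
    intro d hd
    rw [SetLike.mem_coe, Subgroup.mem_centralizer_singleton_iff]
    exact (h d hd).eq
  have hg : g ∈ Subgroup.centralizer ({x} : Set G) := hle (by rw [R.gen]; trivial)
  rw [Subgroup.mem_centralizer_singleton_iff] at hg
  exact hg

theorem not_central (R : Rank D) {x : G} (hx : x ∈ D) (h : ∀ g : G, Commute g x) : False := by
  obtain ⟨y, hy, z, hz, h1, h2, h3, h4⟩ := R.rank x hx
  obtain ⟨g, hg⟩ := R.exists_conj hx hy
  rw [(h g).eq, mul_inv_cancel_right] at hg
  exact h1 (by rw [hg])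

/-- Either distinct members never commute, or the centraliser of `x ∈ D` is transitive on the
members of `D` other than `x` of the same commuting type. -/
theorem trans_stab (R : Rank D) {x₀ y₀ : G} (hx₀ : x₀ ∈ D) (hy₀ : y₀ ∈ D) (hne : x₀ ≠ y₀)
    (hc : Commute x₀ y₀) {x u w : G} (hx : x ∈ D) (hu : u ∈ D) (hw : w ∈ D) (hux : u ≠ x)
    (hwx : w ≠ x) (huw : Commute u x ↔ Commute w x) : w ∈ orb x u := by
  obtain ⟨y, hy, z, hz, h1, h2, h3, h4⟩ := R.rank x hx
  obtain ⟨g, hg⟩ := R.exists_conj hx₀ hx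
  have hmem : ∀ v ∈ D, v ≠ x → v ∈ orb x y ∨ v ∈ orb x z := by
    intro v hv hvx
    have hv' : v ∈ orb x x ∪ orb x y ∪ orb x z := h4 ▸ hv
    rcases hv' with (hv' | hv') | hv'
    · rw [orb_self, Set.mem_singleton_iff] at hv'
      exact absurd hv' hvx
    · exact Or.inl hv'
    · exact Or.inr hv'
  have hy1 : g * y₀ * g⁻¹ ∈ D := R.mem_conj hy₀ g
  have hy2 : g * y₀ * g⁻¹ ≠ x := by
    intro h
    rw [← hg] at h
    exact hne (mul_left_cancel (mul_right_cancel h)).symm
  have hy3 : Commute (g * y₀ * g⁻¹) x := by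
    rw [← hg]
    have := hc.symm.eq
    show g * y₀ * g⁻¹ * (g * x₀ * g⁻¹) = g * x₀ * g⁻¹ * (g * y₀ * g⁻¹)
    calc g * y₀ * g⁻¹ * (g * x₀ * g⁻¹) = g * (y₀ * x₀) * g⁻¹ := by group
      _ = g * (x₀ * y₀) * g⁻¹ := by rw [this]
      _ = g * x₀ * g⁻¹ * (g * y₀ * g⁻¹) := by group
  have hsome : Commute y x ∨ Commute z x := by
    rcases hmem _ hy1 hy2 with h | h
    · exact Or.inl ((commute_iff_of_mem_orb h).mp hy3)
    · exact Or.inr ((commute_iff_of_mem_orb h).mp hy3)
  have hnot : ¬ (Commute y x ∧ Commute z x) := by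
    rintro ⟨ha, hb⟩
    refine R.not_central hx (R.central_of ?_)
    intro d hd
    by_cases hdx : d = x
    · rw [hdx]
    · rcases hmem d hd hdx with h | h
      · exact (commute_iff_of_mem_orb h).mpr ha
      · exact (commute_iff_of_mem_orb h).mpr hb
  rcases hmem u hu hux with hu' | hu' <;> rcases hmem w hw hwx with hw' | hw'
  · exact mem_orb_of_mem hu' hw'
  · exfalso
    have e1 := commute_iff_of_mem_orb hu'
    have e2 := commute_iff_of_mem_orb hw'
    tauto
  · exfalso
    have e1 := commute_iff_of_mem_orb hu'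
    have e2 := commute_iff_of_mem_orb hw'
    tauto
  · exact mem_orb_of_mem hu' hw'

theorem conj_commute_iff {x y g : G} : Commute (g * x * g⁻¹) (g * y * g⁻¹) ↔ Commute x y := by
  constructor
  · intro h
    have h1 : g * x * g⁻¹ * (g * y * g⁻¹) = g * y * g⁻¹ * (g * x * g⁻¹) := h
    have h2 : g * (x * y) * g⁻¹ = g * (y * x) * g⁻¹ := by
      calc g * (x * y) * g⁻¹ = g * x * g⁻¹ * (g * y * g⁻¹) := by group
        _ = g * y * g⁻¹ * (g * x * g⁻¹) := h1
        _ = g * (y * x) * g⁻¹ := by group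
    exact mul_left_cancel (mul_right_cancel h2)
  · intro h
    show g * x * g⁻¹ * (g * y * g⁻¹) = g * y * g⁻¹ * (g * x * g⁻¹)
    calc g * x * g⁻¹ * (g * y * g⁻¹) = g * (x * y) * g⁻¹ := by group
      _ = g * (y * x) * g⁻¹ := by rw [h.eq]
      _ = g * y * g⁻¹ * (g * x * g⁻¹) := by group

/-- transitivity on pairs of distinct members of the same commuting type -/
theorem trans_pairs (R : Rank D) {x₀ y₀ : G} (hx₀ : x₀ ∈ D) (hy₀ : y₀ ∈ D) (hne : x₀ ≠ y₀)
    (hc : Commute x₀ y₀) {x y x' y' : G} (hx : x ∈ D) (hy : y ∈ D) (hx' : x' ∈ D) (hy' : y' ∈ D)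
    (h : x ≠ y) (h' : x' ≠ y') (hi : Commute x y ↔ Commute x' y') :
    ∃ g : G, g * x * g⁻¹ = x' ∧ g * y * g⁻¹ = y' := by
  obtain ⟨g, hg⟩ := R.exists_conj hx hx'
  have h1 : g * y * g⁻¹ ≠ x' := by
    intro hh
    rw [← hg] at hh
    exact h (mul_left_cancel (mul_right_cancel hh)).symm
  have h2 : Commute (g * y * g⁻¹) x' ↔ Commute y' x' := by
    rw [← hg, conj_commute_iff, hg]
    constructor
    · intro hh; exact (hi.mp hh.symm).symm
    · intro hh; exact (hi.mpr hh.symm).symm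
  obtain ⟨k, hk, hk'⟩ := R.trans_stab hx₀ hy₀ hne hc hx' (R.mem_conj hy g) hy' h1 h'.symm h2
  refine ⟨k * g, ?_, ?_⟩
  · calc k * g * x * (k * g)⁻¹ = k * (g * x * g⁻¹) * k⁻¹ := by group
      _ = k * x' * k⁻¹ := by rw [hg]
      _ = x' * k * k⁻¹ := by rw [hk.eq]
      _ = x' := by group
  · calc k * g * y * (k * g)⁻¹ = k * (g * y * g⁻¹) * k⁻¹ := by group
      _ = y' := hk'

/-- there are noncommuting members -/
theorem exists_not_commute (R : Rank D) {x : G} (hx : x ∈ D) : ∃ y ∈ D, ¬ Commute y x := by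
  by_contra hcon
  push Not at hcon
  exact R.not_central hx (R.central_of hcon)

theorem conj_pow_eq (R : Rank D) {x y : G} (hx : x ∈ D) (hy : y ∈ D) (k : ℕ) :
    (x * y) ^ k * x * ((x * y) ^ k)⁻¹ = (x * y) ^ (2 * k) * x := by
  have h := conj_pow_inv (R.sq hx) (conj_self (R.sq hx) (R.sq hy)) k
  have h2 : x * ((x * y) ^ k)⁻¹ = (x * y) ^ k * x := by
    rw [← h]
    calc x * (x * (x * y) ^ k * x) = (x * x) * (x * y) ^ k * x := by group
      _ = _ := by rw [R.sq hx, one_mul]
  rw [mul_assoc, h2, ← mul_assoc, ← pow_add]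
  congr 2
  ring

/-- The order of a noncommuting product is `4` or an odd prime. -/
theorem order_cases [Finite G] (R : Rank D) {x₀ y₀ : G} (hx₀ : x₀ ∈ D) (hy₀ : y₀ ∈ D)
    (hne : x₀ ≠ y₀) (hc : Commute x₀ y₀) :
    ∃ n : ℕ, (n = 4 ∨ (n.Prime ∧ n ≠ 2)) ∧ ∀ x ∈ D, ∀ y ∈ D, ¬ Commute x y → orderOf (x * y) = n := by
  obtain ⟨z₀, hz₀, hz₀'⟩ := R.exists_not_commute hx₀
  have hall : ∀ x ∈ D, ∀ y ∈ D, ¬ Commute x y → orderOf (x * y) = orderOf (z₀ * x₀) := by
    intro x hx y hy hxy
    have h1 : x ≠ y := fun h => hxy (h ▸ Commute.refl x)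
    have h2 : z₀ ≠ x₀ := fun h => hz₀' (h ▸ Commute.refl _)
    obtain ⟨g, hg1, hg2⟩ := R.trans_pairs hx₀ hy₀ hne hc hz₀ hx₀ hx hy h2 h1
      ⟨fun h => absurd h hz₀', fun h => absurd h hxy⟩
    have h3 : x * y = g * (z₀ * x₀) * g⁻¹ := by
      rw [← hg1, ← hg2]; group
    rw [h3]
    refine (SemiconjBy.orderOf_eq g ?_).symm
    show g * (z₀ * x₀) = g * (z₀ * x₀) * g⁻¹ * g
    group
  refine ⟨orderOf (z₀ * x₀), ?_, hall⟩
  set r := z₀ * x₀ with hr
  set n := orderOf r with hn
  have hnpos : 0 < n := orderOf_pos r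
  have hr2 : r * r ≠ 1 := fun h => hz₀' ((commute_iff (R.sq hz₀) (R.sq hx₀)).mpr h)
  have hkey : ∀ k : ℕ, (r ^ (2 * k)) ^ 2 = 1 ∨ orderOf (r ^ (2 * k)) = n := by
    intro k
    have h1 : r ^ k * z₀ * (r ^ k)⁻¹ ∈ D := R.mem_conj hz₀ _
    have h2 : r ^ (2 * k) = (r ^ k * z₀ * (r ^ k)⁻¹) * z₀ := by
      rw [hr, R.conj_pow_eq hz₀ hx₀ k, mul_assoc, R.sq hz₀, mul_one]
    by_cases hcm : Commute (r ^ k * z₀ * (r ^ k)⁻¹) z₀
    · left
      rw [h2, pow_two]
      exact (commute_iff (R.sq h1) (R.sq hz₀)).mp hcm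
    · right
      rw [h2]
      exact hall _ h1 _ hz₀ hcm
  have hn1 : n ≠ 1 := by
    intro h
    have := orderOf_eq_one_iff.mp h
    exact hr2 (by rw [this, one_mul])
  have hn2 : n ≠ 2 := by
    intro h
    have := pow_orderOf_eq_one r
    rw [← hn, h, pow_two] at this
    exact hr2 this
  rcases Nat.even_or_odd n with he | ho
  · left
    obtain ⟨m, hm⟩ := he
    have h1 : orderOf (r ^ (2 * 1)) = m := by
      rw [mul_one, orderOf_pow, ← hn, hm]
      have : Nat.gcd (m + m) 2 = 2 := Nat.gcd_eq_right ⟨m, by ring⟩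
      rw [this]; omega
    rcases hkey 1 with h | h
    · have h4 : r ^ 4 = 1 := by rw [← pow_mul] at h; exact h
      have h5 : n ∣ 4 := orderOf_dvd_of_pow_eq_one h4
      have h6 : n ≤ 4 := Nat.le_of_dvd (by norm_num) h5
      interval_cases n <;> omega
    · omega
  · right
    refine ⟨?_, hn2⟩
    obtain ⟨p, hp, m, hm⟩ := Nat.exists_prime_and_dvd hn1
    have hpodd : p ≠ 2 := by
      intro h
      rw [h] at hm
      rw [hm] at ho
      exact (Nat.not_even_iff_odd.mpr ho) (even_two_mul m)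
    have hmpos : 0 < m := by
      rcases Nat.eq_zero_or_pos m with h | h
      · rw [h, mul_zero] at hm; omega
      · exact h
    have h1 : orderOf (r ^ (2 * m)) = p := by
      rw [orderOf_pow, ← hn, hm]
      have : Nat.gcd (p * m) (2 * m) = m := by
        rw [Nat.gcd_mul_right, (Nat.coprime_primes hp Nat.prime_two).mpr hpodd, one_mul]
      rw [this, Nat.mul_div_cancel _ hmpos]
    rcases hkey m with h | h
    · exfalso
      have h2 : p ∣ 2 := h1 ▸ orderOf_dvd_of_pow_eq_one h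
      exact hpodd ((Nat.prime_dvd_prime_iff_eq hp Nat.prime_two).mp h2)
    · rw [← h, h1]; exact hp

/-- Order 4 is impossible. -/
theorem not_four [Finite G] (R : Rank D) (no2 : ∀ N : Subgroup G, N.Normal → IsPGroup 2 N → N = ⊥)
    (h4 : ∀ x ∈ D, ∀ y ∈ D, ¬ Commute x y → orderOf (x * y) = 4) : False := by
  obtain ⟨x, hx, -⟩ := R.conj
  obtain ⟨h, hh1, hhodd, hinv⟩ := Cfsg.Agent.S0200.result x (R.inv x hx) (by
    intro N hN hN2 hxN
    rw [no2 N hN hN2, Subgroup.mem_bot] at hxN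
    exact R.ne_one hx hxN)
  obtain ⟨m, hm⟩ := hhodd
  -- `g = h ^ (m+1)` satisfies `g ^ 2 = h`
  have hg : h ^ (m + 1) * h ^ (m + 1) = h := by
    rw [← pow_add]
    have : m + 1 + (m + 1) = orderOf h + 1 := by omega
    rw [this, pow_succ, pow_orderOf_eq_one, one_mul]
  have hginv : x * h ^ (m + 1) * x⁻¹ = (h ^ (m + 1))⁻¹ := by
    rw [← conj_pow, hinv, inv_pow]
  have h1 : h ^ (m + 1) * x * (h ^ (m + 1))⁻¹ ∈ D := R.mem_conj hx _
  have h2 : (h ^ (m + 1) * x * (h ^ (m + 1))⁻¹) * x = h := by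
    rw [← hginv]
    calc h ^ (m + 1) * x * (x * h ^ (m + 1) * x⁻¹) * x
        = h ^ (m + 1) * (x * x) * h ^ (m + 1) := by group
      _ = h := by rw [R.sq hx, mul_one, hg]
  by_cases hc : Commute (h ^ (m + 1) * x * (h ^ (m + 1))⁻¹) x
  · have h3 := (commute_iff (R.sq h1) (R.sq hx)).mp hc
    rw [h2] at h3
    have h4 : orderOf h ∣ 2 := orderOf_dvd_of_pow_eq_one (by rw [pow_two]; exact h3)
    have h5 : orderOf h ≤ 2 := Nat.le_of_dvd (by norm_num) h4
    have h6 : orderOf h = 1 := by omega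
    exact hh1 (orderOf_eq_one_iff.mp h6)
  · have h3 := h4 _ h1 _ hx hc
    rw [h2] at h3
    omega

/-- The case of primes at least 5, from the main theorem on rank three classes. -/
theorem not_ge_five (R : Rank D) {x₀ y₀ : G} (hx₀ : x₀ ∈ D) (hy₀ : y₀ ∈ D)
    (hne : x₀ ≠ y₀) (hc : Commute x₀ y₀)
    (hmain : ∀ x ∈ D, ∀ e ∈ D, ∀ d ∈ D, x ≠ e → Commute x e → Commute d x ∨ Commute d e) :
    False := by
  -- `K` is generated by `x₀` and everything in `D` not commuting with `x₀`.
  set S : Set G := {d | d ∈ D ∧ (d = x₀ ∨ ¬ Commute d x₀)} with hS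
  set K : Subgroup G := Subgroup.closure S with hK
  -- members of `D` commuting with `x₀`, other than `x₀`, centralise `K`
  have hcent : ∀ b ∈ D, b ≠ x₀ → Commute x₀ b → ∀ k ∈ K, Commute k b := by
    intro b hb hbx hxb k hk
    have hle : K ≤ Subgroup.centralizer ({b} : Set G) := by
      rw [hK, Subgroup.closure_le]
      rintro d ⟨hd, hd'⟩
      rw [SetLike.mem_coe, Subgroup.mem_centralizer_singleton_iff]
      rcases hd' with rfl | hd'
      · exact hxb.eq
      · rcases hmain x₀ hx₀ b hb d hd hbx.symm hxb with h | h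
        · exact absurd h hd'
        · exact h.eq
    have := hle hk
    rw [Subgroup.mem_centralizer_singleton_iff] at this
    exact this
  have hnorm : K.Normal := by
    have htop : (⊤ : Subgroup G) ≤ Subgroup.normalizer (K : Set G) := by
      rw [← R.gen, Subgroup.closure_le]
      intro d hd
      by_cases hdS : d ∈ S
      · exact Subgroup.le_normalizer (Subgroup.subset_closure hdS)
      · have hdx : d ≠ x₀ := fun h => hdS ⟨hd, Or.inl h⟩
        have hdc : Commute d x₀ := by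
          by_contra h
          exact hdS ⟨hd, Or.inr h⟩
        rw [SetLike.mem_coe, Subgroup.mem_normalizer_iff]
        intro k
        constructor
        · intro hk
          have h1 := hcent d hd hdx hdc.symm k hk
          rw [h1.symm.eq, mul_inv_cancel_right]
          exact hk
        · intro hk
          have h1 := hcent d hd hdx hdc.symm _ hk
          have h2 : d⁻¹ * (d * k * d⁻¹) * d = d * k * d⁻¹ := by
            rw [mul_assoc, h1.eq, inv_mul_cancel_left]
          have h3 : d⁻¹ * (d * k * d⁻¹) * d = k := by group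
          rw [← h3, h2]
          exact hk
    exact Subgroup.normalizer_eq_top_iff.mp (top_le_iff.mp htop)
  have hDK : D ⊆ K := by
    intro d hd
    obtain ⟨g, hg⟩ := R.exists_conj hx₀ hd
    rw [← hg]
    exact hnorm.conj_mem x₀ (Subgroup.subset_closure ⟨hx₀, Or.inl rfl⟩) g
  refine R.not_central hy₀ (R.central_of ?_)
  intro d hd
  exact hcent y₀ hy₀ hne.symm hc d (hDK hd)

end Rank

end Cfsg.Agent.SporadicStructure.RankThreeReduce
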