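import Mathlib
import Cfsg.Agent.SporadicStructure.RankThreeReduce
import Cfsg.Agent.S0215

/-!
# Rank three involution classes: the case without commuting pairs

If distinct members of `D` never commute, then products of two members have odd order, and by
Glauberman's Z*-theorem the group has a normal subgroup of odd order containing all `[x, g]`,
`x ∈ D`.
-/

set_option autoImplicit false

namespace Cfsg.Agent.SporadicStructure.RankThreeIsolated

open RankThreeBase RankThreeReduce

variable {G : Type*} [Group G] {D : Set G}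

theorem odd_products [Finite G] (R : Rank D) (hI : ∀ x ∈ D, ∀ y ∈ D, Commute x y → x = y)
    {x y : G} (hx : x ∈ D) (hy : y ∈ D) : Odd (orderOf (x * y)) := by
  rw [← Nat.not_even_iff_odd]
  rintro ⟨m, hm⟩
  have hmpos : 0 < m := by
    have := orderOf_pos (x * y)
    omega
  -- `j = (x y)^m` is an involution commuting with `x`, and `x j ∈ D`.
  have hj2 : (x * y) ^ m * (x * y) ^ m = 1 := by
    rw [← pow_add, ← hm, pow_orderOf_eq_one]
  have hj1 : (x * y) ^ m ≠ 1 := by
    intro h
    have := orderOf_dvd_of_pow_eq_one h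
    have := Nat.le_of_dvd hmpos this
    omega
  have hjinv : ((x * y) ^ m)⁻¹ = (x * y) ^ m := inv_eq_self hj2
  have hjx : x * (x * y) ^ m * x = (x * y) ^ m := by
    rw [conj_pow_inv (R.sq hx) (conj_self (R.sq hx) (R.sq hy)) m, hjinv]
  have hcomm : x * (x * y) ^ m = (x * y) ^ m * x := by
    calc x * (x * y) ^ m = x * (x * y) ^ m * x * x := by
          rw [mul_assoc (x * (x * y) ^ m) x x, R.sq hx, mul_one]
      _ = _ := by rw [hjx]
  have hmem : (x * y) ^ m * x ∈ D := by
    rcases Nat.even_or_odd m with ⟨k, hk⟩ | ⟨k, hk⟩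
    · have h1 := R.conj_pow_eq hx hy k
      have h2 : 2 * k = m := by omega
      rw [h2] at h1
      rw [← h1]
      exact R.mem_conj hx _
    · -- `(x y)^m x = (x y)^(2k) (x y x)`, a conjugate of `x y x`
      have h1 := R.conj_pow_eq hx hy k
      have h2 : (x * y) ^ m * x = (x * y) ^ k * (x * y * x⁻¹) * ((x * y) ^ k)⁻¹ := by
        have h3 : (x * y) ^ k * (x * y * x⁻¹) * ((x * y) ^ k)⁻¹
            = (x * y) * ((x * y) ^ k * x * ((x * y) ^ k)⁻¹) := by
          rw [R.inv_self hx]
          have h4 : (x * y) ^ k * (x * y) = (x * y) * (x * y) ^ k := by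
            rw [← pow_succ, pow_succ']
          calc (x * y) ^ k * (x * y * x) * ((x * y) ^ k)⁻¹
              = ((x * y) ^ k * (x * y)) * x * ((x * y) ^ k)⁻¹ := by group
            _ = ((x * y) * (x * y) ^ k) * x * ((x * y) ^ k)⁻¹ := by rw [h4]
            _ = _ := by group
        rw [h3, h1, ← mul_assoc, ← pow_succ', hk]
      rw [h2]
      exact R.mem_conj (R.mem_conj hy x) _
  have hc : Commute x ((x * y) ^ m * x) := by
    show x * ((x * y) ^ m * x) = (x * y) ^ m * x * x
    rw [← mul_assoc, hcomm]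
  have h := hI x hx _ hmem hc
  exact hj1 (mul_right_cancel (b := x) (by rw [one_mul, ← h]))

/-- Members of `D` are isolated involutions. -/
theorem isolated [Finite G] (R : Rank D) (hI : ∀ x ∈ D, ∀ y ∈ D, Commute x y → x = y)
    {x : G} (hx : x ∈ D) :
    ∃ N : Subgroup G, N.Normal ∧ Odd (Nat.card N) ∧ ∀ g : G, (x * g * x⁻¹ * g⁻¹) ∈ N := by
  have fact2 : Fact (Nat.Prime 2) := ⟨Nat.prime_two⟩
  have hxp : IsPGroup 2 (Subgroup.zpowers x) := by
    rw [IsPGroup.iff_card]
    exact ⟨1, by rw [Nat.card_zpowers, R.inv x hx, pow_one]⟩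
  obtain ⟨P, hP⟩ := hxp.exists_le_sylow
  have hxP : x ∈ P := hP (Subgroup.mem_zpowers x)
  refine Cfsg.Agent.S0215.result P x (R.inv x hx) hxP ?_
  intro g hg
  have hD := R.mem_conj hx g
  have hodd := odd_products R hI hx hD
  have hxy : x * (g * x * g⁻¹) ∈ P := mul_mem hxP hg
  obtain ⟨k, hk⟩ := P.isPGroup' ⟨_, hxy⟩
  have hk' : (x * (g * x * g⁻¹)) ^ 2 ^ k = 1 := by
    have := congrArg Subtype.val hk
    simpa using this
  have h1 : orderOf (x * (g * x * g⁻¹)) ∣ 2 ^ k := orderOf_dvd_of_pow_eq_one hk'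
  have h2 : Nat.Coprime (orderOf (x * (g * x * g⁻¹))) (2 ^ k) :=
    Nat.Coprime.pow_right _ (Nat.coprime_two_right.mpr hodd)
  have h3 : orderOf (x * (g * x * g⁻¹)) = 1 := Nat.eq_one_of_dvd_coprimes h2 dvd_rfl h1
  have h4 := orderOf_eq_one_iff.mp h3
  exact (inv_eq_of_mul_eq_one_right h4).symm.trans (R.inv_self hx)

end Cfsg.Agent.SporadicStructure.RankThreeIsolated
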