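import Mathlib
import Cfsg.Agent.SporadicStructure.RankThreeCaseTwo

/-!
# Rank three classes of involutions with products of order 2, p, `p ≥ 5`
-/

set_option autoImplicit false

namespace Cfsg.Agent.SporadicStructure.RankThreeMain

open Cfsg.Agent.SporadicStructure.RankThreeBase Cfsg.Agent.SporadicStructure.RankThreeClq
  Cfsg.Agent.SporadicStructure.RankThreeTypes Cfsg.Agent.SporadicStructure.RankThreeCaseTwo

variable {G : Type*} [Group G] {D : Set G} {p : ℕ}

/-- The members of `D` outside `F` commuting with `F`. -/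
def DF (D F : Set G) : Set G := {u | u ∈ D ∧ u ∉ F ∧ ∀ a ∈ F, Commute u a}

/-- The cliques containing `F`. -/
def Om (D F : Set G) : Set (Set G) := {E | IsClq D ∅ E ∧ F ⊆ E}

/-- The data of case I: `F` is a maximal commuting subset of `D ∩ C(x₀,d₀)`. -/
structure Cs (D : Set G) (p : ℕ) (F : Set G) (x₀ d₀ : G) : Prop extends Rk3 D p where
  hx₀ : x₀ ∈ D
  hd₀ : d₀ ∈ D
  hn₀ : ¬ Commute x₀ d₀
  hF : IsClq D {x₀, d₀} F
  two : ∀ E : Set G, IsClq D ∅ E → F.ncard + 2 ≤ E.ncard

namespace Cs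

variable {F : Set G} {x₀ d₀ : G}

theorem clq_sub_DF {E : Set G} (hE : E ∈ Om D F) {u : G} (hu : u ∈ E) (huF : u ∉ F) :
    u ∈ DF D F :=
  ⟨hE.1.sub hu, huF, fun a ha => hE.1.comm u hu a (hE.2 ha)⟩

variable [Finite G] (C : Cs D p F x₀ d₀)
include C

theorem mem_of_commute {u e : G} {E : Set G} (hu : u ∈ DF D F) (hE : E ∈ Om D F) (he : e ∈ E)
    (heF : e ∉ F) (h : Commute u e) : u ∈ E := by
  by_contra huE
  obtain ⟨x, hx, hux⟩ : ∃ x ∈ E, ¬ Commute u x := by
    by_contra hh
    push Not at hh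
    exact huE (hE.1.max u hu.1 (by simp) hh)
  obtain ⟨F₂, hF₂, hsub⟩ := exists_clq (D := D) (S := {x, u}) (F := cE E u)
    (fun a ha => hE.1.sub ha.1) (by
      intro a ha s hs
      rcases hs with rfl | rfl
      · exact hE.1.comm a ha.1 _ hx
      · exact ha.2) (fun a ha b hb => hE.1.comm a ha.1 b hb.1)
  have hcard := ncard_rel C.toRk3 C.hx₀ C.hd₀ (hE.1.sub hx) hu.1 C.hn₀ (fun h => hux h.symm) C.hF hF₂
  have h1 : insert e F ⊆ cE E u := by
    refine Set.insert_subset (show e ∈ cE E u from ⟨he, h.symm⟩) ?_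
    intro a ha
    exact ⟨hE.2 ha, (hu.2.2 a ha).symm⟩
  have h2 := Set.ncard_le_ncard (h1.trans hsub) (Set.toFinite _)
  rw [Set.ncard_insert_of_notMem heF (Set.toFinite _)] at h2
  omega

theorem exists_om {u : G} (hu : u ∈ DF D F) : ∃ E ∈ Om D F, u ∈ E := by
  obtain ⟨E, hE, hsub⟩ := exists_clq (D := D) (S := ∅) (F := insert u F)
    (Set.insert_subset hu.1 C.hF.sub) (by simp) (by
      intro a ha b hb
      rcases Set.mem_insert_iff.mp ha with ha' | ha'
      · rcases Set.mem_insert_iff.mp hb with hb' | hb'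
        · rw [ha', hb']
        · rw [ha']; exact hu.2.2 b hb'
      · rcases Set.mem_insert_iff.mp hb with hb' | hb'
        · rw [hb']; exact (hu.2.2 a ha').symm
        · exact C.hF.comm a ha' b hb')
  exact ⟨E, ⟨hE, (Set.subset_insert _ _).trans hsub⟩, hsub (Set.mem_insert _ _)⟩

theorem om_unique {u : G} {E E' : Set G} (hu : u ∉ F) (hE : E ∈ Om D F) (hE' : E' ∈ Om D F)
    (h : u ∈ E) (h' : u ∈ E') : E = E' := by
  have key : ∀ E E' : Set G, E ∈ Om D F → E' ∈ Om D F → u ∈ E → u ∈ E' → E' ⊆ E := by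
    intro E E' hE hE' h h' v hv
    by_cases hvF : v ∈ F
    · exact hE.2 hvF
    · exact C.mem_of_commute (clq_sub_DF hE' hv hvF) hE h hu (hE'.1.comm v hv u h')
  exact Set.Subset.antisymm (key E' E hE' hE h' h) (key E E' hE hE' h h')

theorem exists_not_mem {E : Set G} (hE : E ∈ Om D F) : ∃ x ∈ E, x ∉ F := by
  by_contra hh
  push Not at hh
  have := Set.ncard_le_ncard (show E ⊆ F from hh) (Set.toFinite _)
  have := C.two E hE.1
  omega

theorem exists_two {E : Set G} (hE : E ∈ Om D F) : ∃ x ∈ E, x ∉ F ∧ ∃ e ∈ E, e ∉ F ∧ x ≠ e := by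
  obtain ⟨x, hx, hxF⟩ := C.exists_not_mem hE
  by_contra hh
  push Not at hh
  have h1 : E ⊆ insert x F := by
    intro e he
    by_cases heF : e ∈ F
    · exact Set.mem_insert_of_mem _ heF
    · rw [← hh x hx hxF e he heF]; exact Set.mem_insert _ _
  have h2 := Set.ncard_le_ncard h1 (Set.toFinite _)
  rw [Set.ncard_insert_of_notMem hxF (Set.toFinite _)] at h2
  have := C.two E hE.1
  omega

theorem not_commute {x x' : G} {E E' : Set G} (hE : E ∈ Om D F) (hE' : E' ∈ Om D F) (hne : E ≠ E')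
    (hx : x ∈ E) (hxF : x ∉ F) (hx' : x' ∈ E') (hxF' : x' ∉ F) : ¬ Commute x x' := by
  intro h
  exact hne (C.om_unique hxF hE hE' hx (C.mem_of_commute (clq_sub_DF hE hx hxF) hE' hx' hxF' h))

omit [Finite G] C in
theorem cj_F {d : G} (hd : ∀ a ∈ F, Commute d a) : cj d F = F := cj_of_commute hd

theorem cj_mem {d : G} (hd : d ∈ DF D F) {E : Set G} (hE : E ∈ Om D F) : cj d E ∈ Om D F := by
  constructor
  · have := hE.1.cj C.conj d
    have h2 : cj d (∅ : Set G) = ∅ := by ext y; simp [mem_cj]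
    rwa [h2] at this
  · intro a ha
    rw [mem_cj]
    have := (hd.2.2 a ha).eq
    have h2 : d⁻¹ * a * d = a := by rw [mul_assoc, ← this]; group
    rw [h2]; exact hE.2 ha

theorem mem_of_cj_eq {d : G} (hd : d ∈ DF D F) {E : Set G} (hE : E ∈ Om D F) (h : cj d E = E) :
    d ∈ E := by
  obtain ⟨x, hx, hxF⟩ := C.exists_not_mem hE
  have h1 : d * x * d ∈ E := by
    have : d * x * d⁻¹ ∈ cj d E := conj_mem_cj.mpr hx
    rwa [h, inv_eq_self (C.sq d hd.1)] at this
  have h2 := hE.1.comm x hx _ h1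
  exact C.mem_of_commute hd hE hx hxF
    (C.commute_of_commute_conj (hE.1.sub hx) hd.1 h2).symm

theorem cj_eq_of_mem {d : G} {E : Set G} (hE : E ∈ Om D F) (h : d ∈ E) : cj d E = E :=
  cj_of_commute fun a ha => hE.1.comm d h a ha

theorem isClq_pair {x d : G} (hx : x ∈ DF D F) (hd : d ∈ DF D F) (hn : ¬ Commute x d) :
    IsClq D {x, d} F := by
  refine ⟨C.hF.sub, ?_, C.hF.comm, ?_⟩
  · intro a ha s hs
    rcases hs with rfl | rfl
    · exact (hx.2.2 a ha).symm
    · exact (hd.2.2 a ha).symm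
  · intro u hu hus hua
    by_contra huF
    have huDF : u ∈ DF D F := ⟨hu, huF, hua⟩
    obtain ⟨E, hE, hxE⟩ := C.exists_om hx
    obtain ⟨E', hE', hdE'⟩ := C.exists_om hd
    have h1 := C.mem_of_commute huDF hE hxE hx.2.1 (hus x (by simp))
    have h2 := C.mem_of_commute huDF hE' hdE' hd.2.1 (hus d (by simp))
    have h3 := C.om_unique huF hE hE' h1 h2
    exact hn (hE.1.comm x hxE d (h3 ▸ hdE'))

/-- `N_G(F)` is transitive on noncommuting pairs of `DF`. -/
theorem trans_pairs {x d x' d' : G} (hx : x ∈ DF D F) (hd : d ∈ DF D F) (hn : ¬ Commute x d)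
    (hx' : x' ∈ DF D F) (hd' : d' ∈ DF D F) (hn' : ¬ Commute x' d') :
    ∃ g : G, g * x * g⁻¹ = x' ∧ g * d * g⁻¹ = d' ∧ cj g F = F := by
  obtain ⟨g, hg1, hg2⟩ := C.transN x hx.1 d hd.1 x' hx'.1 d' hd'.1 hn hn'
  have h1 := (C.isClq_pair hx hd hn).cj C.conj g
  have h2 : cj g {x, d} = {x', d'} := by
    rw [cj_eq_image]
    simp [Set.image_pair, hg1, hg2]
  rw [h2] at h1
  obtain ⟨h, hh, hF⟩ := clq_conj C.toOdd5 h1 (C.isClq_pair hx' hd' hn')
  refine ⟨h * g, ?_, ?_, ?_⟩
  · have h3 := (hh x' (by simp)).eq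
    calc h * g * x * (h * g)⁻¹ = h * (g * x * g⁻¹) * h⁻¹ := by group
      _ = h * x' * h⁻¹ := by rw [hg1]
      _ = x' := by rw [h3]; group
  · have h3 := (hh d' (by simp)).eq
    calc h * g * d * (h * g)⁻¹ = h * (g * d * g⁻¹) * h⁻¹ := by group
      _ = h * d' * h⁻¹ := by rw [hg2]
      _ = d' := by rw [h3]; group
  · rw [cj_mul]; exact hF.symm

theorem om_cj {g : G} (hg : cj g F = F) {E : Set G} (hE : E ∈ Om D F) : cj g E ∈ Om D F := by
  constructor
  · have := hE.1.cj C.conj g
    have h2 : cj g (∅ : Set G) = ∅ := by ext y; simp [mem_cj]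
    rwa [h2] at this
  · rw [← hg]
    intro a ha
    exact hE.2 ha

theorem ncard_diff {E : Set G} (hE : E ∈ Om D F) {E' : Set G} (hE' : E' ∈ Om D F) :
    (E' \ F).ncard = (E \ F).ncard := by
  rw [Set.ncard_sdiff hE.2 (Set.toFinite _), Set.ncard_sdiff hE'.2 (Set.toFinite _),
    ncard_two C.toRk3 hE.1 hE'.1]

/-- the map `d ↦ d e d` is injective on elements moving `E`. -/
theorem inj_on {E : Set G} (hE : E ∈ Om D F) {e : G} (he : e ∈ E) (heF : e ∉ F) {w w' : G}
    (hw : w ∈ DF D F) (hw' : w' ∈ DF D F) (h1 : w ∉ E) (h2 : w' ∉ E)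
    (h : w * e * w = w' * e * w') : w = w' := by
  apply C.mid_unique (hE.1.sub he) hw.1 hw'.1 _ _ h
  · intro hc; exact h1 (C.mem_of_commute hw hE he heF hc)
  · intro hc; exact h2 (C.mem_of_commute hw' hE he heF hc)

/-- (I.1) -/
theorem cj_ne {x d : G} (hx : x ∈ DF D F) (hd : d ∈ DF D F) (hn : ¬ Commute x d) {E : Set G}
    (hE : E ∈ Om D F) : cj x E ≠ cj d E := by
  classical
  intro heq
  -- all noncommuting pairs have this property
  have hall : ∀ x' ∈ DF D F, ∀ d' ∈ DF D F, ¬ Commute x' d' → ∃ E' ∈ Om D F, cj x' E' = cj d' E' := by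
    intro x' hx' d' hd' hn'
    obtain ⟨g, rfl, rfl, hg⟩ := C.trans_pairs hx hd hn hx' hd' hn'
    refine ⟨cj g E, C.om_cj hg hE, ?_⟩
    rw [← cj_mul, ← cj_mul]
    have h1 : g * x * g⁻¹ * g = g * x := by group
    have h2 : g * d * g⁻¹ * g = g * d := by group
    rw [h1, h2, cj_mul, cj_mul, heq]
  -- finite sets
  have := Fintype.ofFinite G
  have : Fintype (Set G) := Fintype.ofFinite _
  let Ω : Finset (Set G) := Finset.univ.filter fun E' => E' ∈ Om D F ∧ x ∉ E'
  let B : Finset G := Finset.univ.filter fun u => u ∈ DF D F ∧ ¬ Commute x u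
  let T : Set G → Finset G := fun E' => Finset.univ.filter fun u =>
    u ∈ DF D F ∧ u ≠ x ∧ cj u E' = cj x E'
  let P : Set G → Finset G := fun E' => Finset.univ.filter fun u => u ∈ E' \ F
  obtain ⟨E₀, hE₀, hxE₀⟩ := C.exists_om hx
  set r := (E₀ \ F).ncard with hr
  have hPcard : ∀ E' ∈ Om D F, (P E').card = r := by
    intro E' hE'
    rw [hr, ← C.ncard_diff hE₀ hE', Set.ncard_eq_toFinset_card' (E' \ F)]
    congr 1
    ext u; simp [P]
  have hrpos : 0 < r := by
    rw [hr, Set.ncard_pos (Set.toFinite _)]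
    exact ⟨x, hxE₀, hx.2.1⟩
  -- lower bound
  have hdisj : ∀ E₁ ∈ Ω, ∀ E₂ ∈ Ω, E₁ ≠ E₂ → Disjoint (P E₁) (P E₂) := by
    intro E₁ h1 E₂ h2 hne
    rw [Finset.disjoint_left]
    intro u hu1 hu2
    simp only [P, Finset.mem_filter, Finset.mem_univ, true_and] at hu1 hu2
    simp only [Ω, Finset.mem_filter, Finset.mem_univ, true_and] at h1 h2
    exact hne (C.om_unique hu1.2 h1.1 h2.1 hu1.1 hu2.1)
  have hlow : Ω.card * r ≤ B.card := by
    have h1 : (Ω.biUnion P) ⊆ B := by
      intro u hu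
      rw [Finset.mem_biUnion] at hu
      obtain ⟨E', hE', hu'⟩ := hu
      simp only [P, Finset.mem_filter, Finset.mem_univ, true_and] at hu'
      simp only [Ω, Finset.mem_filter, Finset.mem_univ, true_and] at hE'
      simp only [B, Finset.mem_filter, Finset.mem_univ, true_and]
      refine ⟨clq_sub_DF hE'.1 hu'.1 hu'.2, ?_⟩
      intro hc
      exact hE'.2 (C.mem_of_commute hx hE'.1 hu'.1 hu'.2 hc)
    have h2 := Finset.card_le_card h1
    rw [Finset.card_biUnion hdisj] at h2
    have h3 : ∑ E' ∈ Ω, (P E').card = Ω.card * r := by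
      rw [Finset.sum_congr rfl (fun E' hE' => hPcard E' ?_), Finset.sum_const, smul_eq_mul]
      simp only [Ω, Finset.mem_filter, Finset.mem_univ, true_and] at hE'
      exact hE'.1
    rwa [h3] at h2
  -- upper bound
  have hT : ∀ E' ∈ Ω, (T E').card + 1 ≤ r := by
    intro E' hE'
    simp only [Ω, Finset.mem_filter, Finset.mem_univ, true_and] at hE'
    obtain ⟨e, he, heF⟩ := C.exists_not_mem hE'.1
    have hmem : cj x E' ∈ Om D F := C.cj_mem hx hE'.1
    rw [← hPcard _ hmem]
    have hxT : x ∉ T E' := by simp [T]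
    rw [← Finset.card_insert_of_notMem hxT]
    have hins : ∀ u ∈ insert x (T E'), u ∈ DF D F ∧ cj u E' = cj x E' := by
      intro u hu
      rcases Finset.mem_insert.mp hu with rfl | hu
      · exact ⟨hx, rfl⟩
      · simp only [T, Finset.mem_filter, Finset.mem_univ, true_and] at hu
        exact ⟨hu.1, hu.2.2⟩
    have hnE : ∀ u ∈ insert x (T E'), u ∉ E' := by
      intro u hu huE
      have h1 := (hins u hu).2
      rw [C.cj_eq_of_mem hE'.1 huE] at h1
      exact hE'.2 (C.mem_of_cj_eq hx hE'.1 h1.symm)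
    apply Finset.card_le_card_of_injOn (fun u => u * e * u)
    · intro u hu
      have hu' : u ∈ insert x (T E') := hu
      obtain ⟨h1, h2⟩ := hins u hu'
      have h3 : u * e * u ∈ cj x E' := by
        rw [← h2]
        have : u * e * u⁻¹ ∈ cj u E' := conj_mem_cj.mpr he
        rwa [inv_eq_self (C.sq u h1.1)] at this
      have h4 : u * e * u ∉ F := by
        intro h5
        apply heF
        have h6 := (h1.2.2 _ h5).eq
        have h7 : u * e * u = e := by
          calc u * e * u = (u * e * u) * (u * u) := by rw [C.sq u h1.1, mul_one]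
            _ = (u * e * u) * u * u := by group
            _ = u * (u * e * u) * u := by rw [h6]
            _ = (u * u) * e * (u * u) := by group
            _ = e := by rw [C.sq u h1.1]; group
        rwa [h7] at h5
      simp only [P, Finset.coe_filter, Finset.mem_univ, true_and]
      exact ⟨h3, h4⟩
    · intro u hu u' hu' h
      exact C.inj_on hE'.1 he heF (hins u hu).1 (hins u' hu').1 (hnE u hu) (hnE u' hu') h
  have hup : B ⊆ Ω.biUnion T := by
    intro u hu
    simp only [B, Finset.mem_filter, Finset.mem_univ, true_and] at hu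
    obtain ⟨E', hE', hEq⟩ := hall x hx u hu.1 hu.2
    rw [Finset.mem_biUnion]
    refine ⟨E', ?_, ?_⟩
    · simp only [Ω, Finset.mem_filter, Finset.mem_univ, true_and]
      refine ⟨hE', fun hxE' => ?_⟩
      rw [C.cj_eq_of_mem hE' hxE'] at hEq
      exact hu.2 (hE'.1.comm x hxE' u (C.mem_of_cj_eq hu.1 hE' hEq.symm))
    · simp only [T, Finset.mem_filter, Finset.mem_univ, true_and]
      exact ⟨hu.1, fun h => hu.2 (by rw [h]), hEq.symm⟩
  have hup2 : B.card ≤ Ω.card * (r - 1) := by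
    calc B.card ≤ (Ω.biUnion T).card := Finset.card_le_card hup
      _ ≤ ∑ E' ∈ Ω, (T E').card := Finset.card_biUnion_le
      _ ≤ ∑ E' ∈ Ω, (r - 1) := Finset.sum_le_sum fun E' hE' => by
          have := hT E' hE'; omega
      _ = Ω.card * (r - 1) := by rw [Finset.sum_const, smul_eq_mul]
  -- Ω is nonempty
  have hΩ : 0 < Ω.card := by
    rw [Finset.card_pos]
    refine ⟨E, ?_⟩
    simp only [Ω, Finset.mem_filter, Finset.mem_univ, true_and]
    refine ⟨hE, fun hxE => ?_⟩
    rw [C.cj_eq_of_mem hE hxE] at heq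
    exact hn (hE.1.comm x hxE d (C.mem_of_cj_eq hd hE heq.symm))
  have : Ω.card * (r - 1) < Ω.card * r := by
    apply Nat.mul_lt_mul_of_pos_left _ hΩ
    omega
  omega

/-- (I.4) all elements of one clique act in the same way on `Om`. -/
theorem cj_eq_cj {x e : G} {E₂ : Set G} (hE₂ : E₂ ∈ Om D F) (hx : x ∈ E₂) (hxF : x ∉ F)
    (he : e ∈ E₂) (heF : e ∉ F) {E : Set G} (hE : E ∈ Om D F) : cj x E = cj e E := by
  classical
  by_cases hEE : E = E₂
  · subst hEE
    rw [C.cj_eq_of_mem hE hx, C.cj_eq_of_mem hE he]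
  have hxDF := clq_sub_DF hE₂ hx hxF
  have heDF := clq_sub_DF hE₂ he heF
  have hxE : x ∉ E := fun h => hEE (C.om_unique hxF hE hE₂ h hx)
  set E' := cj x E with hE'def
  have hE' : E' ∈ Om D F := C.cj_mem hxDF hE
  have hne : E ≠ E' := fun h => hxE (C.mem_of_cj_eq hxDF hE h.symm)
  obtain ⟨e₀, he₀, he₀F⟩ := C.exists_not_mem hE
  let T : Set G := {u | u ∈ DF D F ∧ cj u E = E'}
  have hTsub : T ⊆ E₂ \ F := by
    intro u hu
    refine ⟨?_, hu.1.2.1⟩
    apply C.mem_of_commute hu.1 hE₂ hx hxF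
    by_contra hc
    exact C.cj_ne hu.1 hxDF hc hE hu.2
  have hcard : (E' \ F).ncard ≤ T.ncard := by
    -- choose midpoints
    have hmid : ∀ x' ∈ E' \ F, ∃ w ∈ T, w * e₀ * w = x' := by
      intro x' hx'
      have hnc : ¬ Commute e₀ x' := C.not_commute hE hE' hne he₀ he₀F hx'.1 hx'.2
      obtain ⟨w, hw, hwe, hcw⟩ := C.exists_mid (hE.1.sub he₀) (hE'.1.sub hx'.1) hnc
      have hwF : ∀ a ∈ F, Commute w a := fun a ha =>
        (hcw a (hE.1.comm a (hE.2 ha) e₀ he₀) (hE'.1.comm a (hE'.2 ha) x' hx'.1)).symm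
      have hwnF : w ∉ F := by
        intro h
        apply hnc
        have h1 : Commute w e₀ := hE.1.comm w (hE.2 h) e₀ he₀
        rw [← hwe, h1.eq, mul_assoc, C.sq w hw, mul_one]
      have hwDF : w ∈ DF D F := ⟨hw, hwnF, hwF⟩
      refine ⟨w, ⟨hwDF, ?_⟩, hwe⟩
      apply C.om_unique hx'.2 (C.cj_mem hwDF hE) hE' _ hx'.1
      have : w * e₀ * w⁻¹ ∈ cj w E := conj_mem_cj.mpr he₀
      rwa [inv_eq_self (C.sq w hw), hwe] at this
    choose! f hf1 hf2 using hmid
    apply Set.ncard_le_ncard_of_injOn f hf1 _ (Set.toFinite _)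
    intro a ha b hb hab
    rw [← hf2 a ha, ← hf2 b hb, hab]
  have hTeq : T = E₂ \ F := by
    apply Set.eq_of_subset_of_ncard_le hTsub _ (Set.toFinite _)
    rw [C.ncard_diff hE' hE₂]
    exact hcard
  have heT : e ∈ T := by rw [hTeq]; exact ⟨he, heF⟩
  exact heT.2.symm

/-- products of two elements of one clique (outside `F`) fix all members of `Om`. -/
theorem cj_mul_eq {x e : G} {E₂ : Set G} (hE₂ : E₂ ∈ Om D F) (hx : x ∈ E₂) (hxF : x ∉ F)
    (he : e ∈ E₂) (heF : e ∉ F) {E : Set G} (hE : E ∈ Om D F) : cj (x * e) E = E := by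
  rw [cj_mul, ← C.cj_eq_cj hE₂ hx hxF he heF hE, ← cj_mul, C.sq x (hE₂.1.sub hx), cj_one]

/-- all triples in `DF` are of type 4 -/
theorem type_four {x e d : G} {E E' : Set G} (hE : E ∈ Om D F) (hE' : E' ∈ Om D F)
    (hx : x ∈ E) (hxF : x ∉ F) (he : e ∈ E) (heF : e ∉ F) (hd : d ∈ E') :
    (d * (x * e)) ^ 4 = 1 := by
  have hz2 : (x * e) * (x * e) = 1 :=
    (commute_iff (C.sq x (hE.1.sub hx)) (C.sq e (hE.1.sub he))).mp (hE.1.comm x hx e he)
  have h1 : (x * e) * d * (x * e) ∈ E' := by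
    have : (x * e) * d * (x * e)⁻¹ ∈ cj (x * e) E' := conj_mem_cj.mpr hd
    rwa [C.cj_mul_eq hE hx hxF he heF hE', inv_eq_self hz2] at this
  have h2 := (commute_iff (C.sq d (hE'.1.sub hd)) (C.sq _ (hE'.1.sub h1))).mp
    (hE'.1.comm d hd _ h1)
  calc (d * (x * e)) ^ 4 = d * (x * e * d * (x * e)) * (d * (x * e * d * (x * e))) := by
        simp only [pow_succ, pow_zero, one_mul]; group
    _ = 1 := h2

/-- two different members of `Om` -/
theorem exists_ne : ∃ E ∈ Om D F, ∃ E' ∈ Om D F, E ≠ E' := by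
  have h1 : x₀ ∈ DF D F := ⟨C.hx₀, fun h => C.hn₀ (C.hF.cen x₀ h d₀ (by simp)),
    fun a ha => (C.hF.cen a ha x₀ (by simp)).symm⟩
  have h2 : d₀ ∈ DF D F := ⟨C.hd₀, fun h => C.hn₀ (C.hF.cen d₀ h x₀ (by simp)).symm,
    fun a ha => (C.hF.cen a ha d₀ (by simp)).symm⟩
  obtain ⟨E, hE, hxE⟩ := C.exists_om h1
  obtain ⟨E', hE', hdE'⟩ := C.exists_om h2
  refine ⟨E, hE, E', hE', fun h => ?_⟩
  exact C.hn₀ (hE.1.comm _ hxE _ (h ▸ hdE'))

/-- `F` nonempty is contradictory. -/
theorem false_of_nonempty (hFne : F.Nonempty) : False := by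
  have H := C.toOdd5
  obtain ⟨y, hy⟩ := hFne
  have hyD : y ∈ D := C.hF.sub hy
  obtain ⟨E, hE, E', hE', hne⟩ := C.exists_ne
  obtain ⟨x, hx, hxF, e, he, heF, hxe⟩ := C.exists_two hE
  obtain ⟨d, hd, hdF⟩ := C.exists_not_mem hE'
  have hxD := hE.1.sub hx
  have heD := hE.1.sub he
  have hdD := hE'.1.sub hd
  have hdx : ¬ Commute d x := C.not_commute hE' hE hne.symm hd hdF hx hxF
  have hde : ¬ Commute d e := C.not_commute hE' hE hne.symm hd hdF he heF
  have hxy : Commute x y := hE.1.comm x hx y (hE.2 hy)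
  have hdy : Commute d y := hE'.1.comm d hd y (hE'.2 hy)
  have hNP : NP D := np_of C.toRk3 hxD hyD hdD hxy hdy hdx
  have hQ : Quad D := quad_of C.toRk3 hNP hxD heD hdD hxe (hE.1.comm x hx e he) hdx hde
    (C.type_four hE hE' hx hxF he heF hd)
  have hxyne : x ≠ y := fun h => hxF (h ▸ hy)
  obtain ⟨v, hv, v', hv', h1, h2, h3, h4, h5, h6, h7, h8⟩ := hQ x hxD y hyD hxyne hxy
  have hvv' : v ≠ v' := by
    intro h
    rw [← h, H.sq v hv] at h8
    exact hxyne (by rw [← inv_eq_self (H.sq x hxD)]; exact inv_eq_of_mul_eq_one_right h8.symm)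
  have hcomm : ∀ a ∈ E, Commute a v ∧ Commute a v' := by
    intro a ha
    have h9 : Commute a (v * v') := by
      rw [h8]; exact (hE.1.comm a ha x hx).mul_right (hE.1.comm a ha y (hE.2 hy))
    exact ⟨H.commute_left_of_commute_mul hv hv' (hE.1.sub ha) hvv' h7 h9,
      H.commute_right_of_commute_mul hv hv' (hE.1.sub ha) hvv' h7 h9⟩
  have hvE : v ∈ E := hE.1.max v hv (by simp) fun a ha => (hcomm a ha).1.symm
  have hv'E : v' ∈ E := hE.1.max v' hv' (by simp) fun a ha => (hcomm a ha).2.symm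
  have hv'x : v' ≠ x := by
    intro h
    apply h2
    rw [h] at h8 h7
    rw [h7.eq] at h8
    exact mul_left_cancel h8
  have hx2 := H.sq x hxD
  have hy2 := H.sq y hyD
  have hv2 := H.sq v hv
  have hv'2 := H.sq v' hv'
  -- x * v = v' * y
  have hxv : x * v = v' * y := by
    calc x * v = x * (y * y) * v := by rw [hy2, mul_one]
      _ = (x * y) * (y * v) := by group
      _ = (v * v') * (y * v) := by rw [h8]
      _ = (v' * v) * (y * v) := by rw [h7.eq]
      _ = v' * v * (v * y) := by rw [h4.eq]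
      _ = v' * (v * v) * y := by group
      _ = v' * y := by rw [hv2, mul_one]
  have hxv' : x * v' = v * y := by
    calc x * v' = x * (y * y) * v' := by rw [hy2, mul_one]
      _ = (x * y) * (y * v') := by group
      _ = (v * v') * (y * v') := by rw [h8]
      _ = (v * v') * (v' * y) := by rw [h6.eq]
      _ = v * (v' * v') * y := by group
      _ = v * y := by rw [hv'2, mul_one]
  have hvF : v ∉ F := by
    intro h
    apply hdx
    apply H.commute_left_of_commute_mul hxD hv' hdD hv'x.symm h5.symm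
    rw [hxv']
    exact (hE'.1.comm d hd v (hE'.2 h)).mul_right hdy
  have hv'F : v' ∉ F := by
    intro h
    apply hdx
    apply H.commute_left_of_commute_mul hxD hv hdD h1.symm h3.symm
    rw [hxv]
    exact (hE'.1.comm d hd v' (hE'.2 h)).mul_right hdy
  have h4' := C.type_four hE hE' hx hxF hvE hvF hd
  rw [hxv, ← mul_assoc] at h4'
  have hc2 : Commute (d * v') y := hdy.mul_left h6
  rw [hc2.mul_pow] at h4'
  have hy4 : y ^ 4 = 1 := by
    calc y ^ 4 = (y * y) * (y * y) := by simp only [pow_succ, pow_zero, one_mul]; group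
      _ = 1 := by rw [hy2, mul_one]
  rw [hy4, mul_one] at h4'
  exact C.not_commute hE' hE hne.symm hd hdF hv'E hv'F (H.commute_of_four hdD hv' h4')

/-- `F` empty is contradictory. -/
theorem false_of_empty (hFe : F = ∅) : False := by
  classical
  subst hFe
  have H := C.toOdd5
  have : Fact (Nat.Prime 2) := ⟨Nat.prime_two⟩
  let S : Set G := {z | ∃ x ∈ D, ∃ e ∈ D, Commute x e ∧ z = x * e}
  let N : Subgroup G := Subgroup.normalClosure S
  have hSconj : Group.conjugatesOfSet S ⊆ S := by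
    intro z hz
    rw [Group.mem_conjugatesOfSet_iff] at hz
    obtain ⟨a, ⟨x, hx, e, he, hc, rfl⟩, hconj⟩ := hz
    obtain ⟨g, hg⟩ := isConj_iff.mp hconj
    refine ⟨g * x * g⁻¹, H.conj x hx g, g * e * g⁻¹, H.conj e he g, commute_conj_iff.mpr hc, ?_⟩
    rw [← hg]; group
  have hOm : ∀ E : Set G, IsClq D ∅ E → E ∈ Om D ∅ := fun E hE => ⟨hE, Set.empty_subset _⟩
  have hclq : ∀ x ∈ D, ∀ e ∈ D, Commute x e → ∃ E, IsClq D ∅ E ∧ x ∈ E ∧ e ∈ E := by
    intro x hx e he hc
    obtain ⟨E, hE, hsub⟩ := exists_clq (D := D) (S := ∅) (F := {x, e})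
      (by intro a ha; rcases ha with rfl | rfl <;> assumption) (by simp) (by
        intro a ha b hb
        rcases ha with rfl | rfl <;> rcases hb with rfl | rfl
        · exact Commute.refl _
        · exact hc
        · exact hc.symm
        · exact Commute.refl _)
    exact ⟨E, hE, hsub (by simp), hsub (by simp)⟩
  -- N fixes every clique
  have hfix : ∀ g ∈ N, ∀ E : Set G, IsClq D ∅ E → cj g E = E := by
    intro g hg
    induction hg using Subgroup.closure_induction with
    | mem z hz =>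
      intro E hE
      obtain ⟨x, hx, e, he, hc, rfl⟩ := hSconj hz
      obtain ⟨E₂, hE₂, hxE, heE⟩ := hclq x hx e he hc
      exact C.cj_mul_eq (hOm _ hE₂) hxE (by simp) heE (by simp) (hOm _ hE)
    | one => intro E _; exact cj_one E
    | mul a b _ _ iha ihb => intro E hE; rw [cj_mul, ihb E hE, iha E hE]
    | inv a _ iha =>
      intro E hE
      have := iha E hE
      calc cj a⁻¹ E = cj a⁻¹ (cj a E) := by rw [this]
        _ = cj (a⁻¹ * a) E := (cj_mul _ _ _).symm
        _ = E := by rw [inv_mul_cancel, cj_one]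
  -- the subgroups A_E
  let A : Set G → Subgroup G := fun E => Subgroup.closure {z | ∃ x ∈ E, ∃ e ∈ E, z = x * e}
  have hAle : ∀ E : Set G, A E ≤ Subgroup.closure E := by
    intro E
    rw [Subgroup.closure_le]
    rintro z ⟨x, hx, e, he, rfl⟩
    exact Subgroup.mul_mem _ (Subgroup.subset_closure hx) (Subgroup.subset_closure he)
  have hAN : ∀ E : Set G, IsClq D ∅ E → ∀ g ∈ N, ∀ a ∈ A E, g * a * g⁻¹ ∈ A E := by
    intro E hE g hg a ha
    induction ha using Subgroup.closure_induction with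
    | mem z hz =>
      obtain ⟨x, hx, e, he, rfl⟩ := hz
      apply Subgroup.subset_closure
      refine ⟨g * x * g⁻¹, ?_, g * e * g⁻¹, ?_, by group⟩
      · rw [← hfix g hg E hE]; exact conj_mem_cj.mpr hx
      · rw [← hfix g hg E hE]; exact conj_mem_cj.mpr he
    | one => simp
    | mul a b _ _ iha ihb =>
      have : g * (a * b) * g⁻¹ = (g * a * g⁻¹) * (g * b * g⁻¹) := by group
      rw [this]; exact Subgroup.mul_mem _ iha ihb
    | inv a _ iha =>
      have : g * a⁻¹ * g⁻¹ = (g * a * g⁻¹)⁻¹ := by group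
      rw [this]; exact Subgroup.inv_mem _ iha
  -- N is a 2-group
  have hNp : IsPGroup 2 N := by
    obtain ⟨P⟩ : Nonempty (Sylow 2 N) := inferInstance
    have hAP : ∀ E : Set G, IsClq D ∅ E → (A E).subgroupOf N ≤ (P : Subgroup N) := by
      intro E hE
      have hnorm : ((A E).subgroupOf N).Normal := by
        constructor
        intro a ha g
        rw [Subgroup.mem_subgroupOf] at ha ⊢
        simpa using hAN E hE g.1 g.2 a.1 ha
      have hp : IsPGroup 2 ((A E).subgroupOf N) := by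
        rintro ⟨g, hg⟩
        refine ⟨1, ?_⟩
        have := closure_sq H hE.sub hE.comm g.1 (hAle E (Subgroup.mem_subgroupOf.mp hg))
        apply Subtype.ext
        apply Subtype.ext
        simpa [pow_two] using this
      have h1 : IsPGroup 2 (((A E).subgroupOf N) ⊔ (P : Subgroup N) : Subgroup N) :=
        hp.to_sup_of_normal_left P.isPGroup'
      have h2 := P.is_maximal' h1 le_sup_right
      rw [← h2]; exact le_sup_left
    have hle : N ≤ (P : Subgroup N).map N.subtype := by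
      have : Subgroup.closure (Group.conjugatesOfSet S) ≤ (P : Subgroup N).map N.subtype := by
        rw [Subgroup.closure_le]
        intro z hz
        have hzN : z ∈ N := Subgroup.subset_closure hz
        obtain ⟨x, hx, e, he, hc, rfl⟩ := hSconj hz
        obtain ⟨E₂, hE₂, hxE, heE⟩ := hclq x hx e he hc
        refine ⟨⟨x * e, hzN⟩, hAP E₂ hE₂ ?_, rfl⟩
        rw [Subgroup.mem_subgroupOf]
        exact Subgroup.subset_closure ⟨x, hxE, e, heE, rfl⟩
      exact this
    exact (P.isPGroup'.map N.subtype).to_le hle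
  have hbot := C.no2 N Subgroup.normalClosure_normal hNp
  obtain ⟨E, hE, -, -, -⟩ := C.exists_ne
  obtain ⟨x, hx, hxF, e, he, heF, hxe⟩ := C.exists_two hE
  have h1 : x * e ∈ N := Subgroup.subset_normalClosure
    ⟨x, hE.1.sub hx, e, hE.1.sub he, hE.1.comm x hx e he, rfl⟩
  rw [hbot, Subgroup.mem_bot] at h1
  exact hxe (by rw [← inv_eq_self (H.sq x (hE.1.sub hx))]; exact inv_eq_of_mul_eq_one_right h1)

theorem false : False := by
  rcases F.eq_empty_or_nonempty with h | h
  · exact C.false_of_empty h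
  · exact C.false_of_nonempty h

end Cs

/-- Main theorem: in the rank three situation with products of order 2, p (p ≥ 5), noncommuting
(or equal) is an equivalence relation. -/
theorem main [Finite G] (R : Rk3 D p) {x e d : G} (hx : x ∈ D) (he : e ∈ D) (hd : d ∈ D)
    (hne : x ≠ e) (hxe : Commute x e) : Commute d x ∨ Commute d e := by
  refine case_two R ?_ hx he hd hne hxe
  intro x hx y hy hn E F hE hF
  have hxF : x ∉ F := fun h => hn ((hF.cen x h y (by simp)))
  have hge : F.ncard + 1 ≤ E.ncard := by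
    obtain ⟨E₁, hE₁, hsub⟩ := exists_clq (D := D) (S := ∅) (F := insert x F)
      (Set.insert_subset hx hF.sub) (by simp) (by
        intro a ha b hb
        rcases Set.mem_insert_iff.mp ha with ha' | ha'
        · rcases Set.mem_insert_iff.mp hb with hb' | hb'
          · rw [ha', hb']
          · rw [ha']; exact (hF.cen b hb' x (by simp)).symm
        · rcases Set.mem_insert_iff.mp hb with hb' | hb'
          · rw [hb']; exact (hF.cen a ha' x (by simp))
          · exact hF.comm a ha' b hb')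
    rw [ncard_two R hE₁ hE, ← Set.ncard_insert_of_notMem hxF (Set.toFinite _)]
    exact Set.ncard_le_ncard hsub (Set.toFinite _)
  by_contra hcon
  have hC : Cs D p F x y := ⟨R, hx, hy, hn, hF, fun E' hE' => by
    have := ncard_two R hE hE'
    omega⟩
  exact hC.false

end Cfsg.Agent.SporadicStructure.RankThreeMain
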