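import Mathlib

/-!
Poisson summation for real positive definite quadratic forms in `n` variables, by induction on the
dimension from the one-variable formula of Mathlib.
-/

set_option autoImplicit false

namespace Cfsg.Agent.SporadicStructure.ThetaPoisson

open Complex Matrix
open scoped Real

/-- the value of the quadratic form with matrix `A` -/
noncomputable def quad {n : ℕ} (A : Matrix (Fin n) (Fin n) ℝ) (x : Fin n → ℝ) : ℝ :=
  ∑ i, ∑ j, A i j * x i * x j

theorem quad_eq_dotProduct {n : ℕ} (A : Matrix (Fin n) (Fin n) ℝ) (x : Fin n → ℝ) :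
    quad A x = x ⬝ᵥ (A *ᵥ x) := by
  simp only [quad, dotProduct, mulVec, Finset.mul_sum]
  refine Finset.sum_congr rfl fun i _ => Finset.sum_congr rfl fun j _ => ?_
  ring

/-- positive definite (no symmetry required) -/
def Pos {n : ℕ} (A : Matrix (Fin n) (Fin n) ℝ) : Prop := ∀ x : Fin n → ℝ, x ≠ 0 → 0 < quad A x

variable {n : ℕ}

/-- off-diagonal part of the first row -/
def bvec (A : Matrix (Fin (n + 1)) (Fin (n + 1)) ℝ) : Fin n → ℝ := fun i => A 0 i.succ

/-- Schur complement -/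
noncomputable def schur (A : Matrix (Fin (n + 1)) (Fin (n + 1)) ℝ) : Matrix (Fin n) (Fin n) ℝ :=
  fun i j => A i.succ j.succ - A 0 i.succ * A 0 j.succ / A 0 0

/-- lower right block -/
def low (A : Matrix (Fin (n + 1)) (Fin (n + 1)) ℝ) : Matrix (Fin n) (Fin n) ℝ :=
  fun i j => A i.succ j.succ

theorem quad_cons_expand (A : Matrix (Fin (n + 1)) (Fin (n + 1)) ℝ) (hA : A.IsSymm)
    (x₀ : ℝ) (y : Fin n → ℝ) :
    quad A (Fin.cons x₀ y) = A 0 0 * x₀ ^ 2 + 2 * x₀ * (∑ i, A 0 (Fin.succ i) * y i)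
      + ∑ i, ∑ j, A (Fin.succ i) (Fin.succ j) * y i * y j := by
  simp only [quad, Fin.sum_univ_succ, Fin.cons_zero, Fin.cons_succ]
  have h1 : ∀ i : Fin n, A i.succ 0 = A 0 i.succ := fun i => hA.apply 0 i.succ
  simp only [h1, Finset.sum_add_distrib, Finset.mul_sum]
  have : ∀ i : Fin n, 2 * x₀ * (A 0 i.succ * y i) = A 0 i.succ * x₀ * y i + A 0 i.succ * y i * x₀ := by
    intro i; ring
  simp only [this, Finset.sum_add_distrib]
  ring

theorem quad_cons (A : Matrix (Fin (n + 1)) (Fin (n + 1)) ℝ) (hA : A.IsSymm) (h0 : A 0 0 ≠ 0)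
    (x₀ : ℝ) (y : Fin n → ℝ) :
    quad A (Fin.cons x₀ y) = A 0 0 * (x₀ + (bvec A ⬝ᵥ y) / A 0 0) ^ 2 + quad (schur A) y := by
  rw [quad_cons_expand A hA]
  have h2 : quad (schur A) y = (∑ i, ∑ j, A (Fin.succ i) (Fin.succ j) * y i * y j)
      - (bvec A ⬝ᵥ y) ^ 2 / A 0 0 := by
    simp only [quad, schur, dotProduct, bvec, sq, Finset.sum_mul_sum, Finset.sum_div,
      ← Finset.sum_sub_distrib]
    refine Finset.sum_congr rfl fun i _ => Finset.sum_congr rfl fun j _ => ?_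
    ring
  rw [h2]
  have h3 : (∑ i, A 0 (Fin.succ i) * y i) = bvec A ⬝ᵥ y := rfl
  rw [h3]
  field_simp
  ring

theorem pos_zero_zero (A : Matrix (Fin (n + 1)) (Fin (n + 1)) ℝ) (hA : A.IsSymm) (hp : Pos A) :
    0 < A 0 0 := by
  have h := hp (Fin.cons 1 0) (by
    intro h
    have := congrFun h 0
    simp at this)
  rw [quad_cons_expand A hA] at h
  simpa using h

theorem pos_schur (A : Matrix (Fin (n + 1)) (Fin (n + 1)) ℝ) (hA : A.IsSymm) (hp : Pos A) :
    Pos (schur A) := by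
  intro y hy
  have h0 := pos_zero_zero A hA hp
  have h := hp (Fin.cons (-(bvec A ⬝ᵥ y) / A 0 0) y) (by
    intro h
    apply hy
    funext i
    have := congrFun h i.succ
    simpa using this)
  rw [quad_cons A hA h0.ne'] at h
  have : -(bvec A ⬝ᵥ y) / A 0 0 + bvec A ⬝ᵥ y / A 0 0 = 0 := by ring
  rw [this] at h
  simpa using h

theorem schur_symm (A : Matrix (Fin (n + 1)) (Fin (n + 1)) ℝ) (hA : A.IsSymm) :
    (schur A).IsSymm := by
  ext i j
  simp only [schur, transpose_apply]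
  rw [hA.apply i.succ j.succ]
  ring

theorem low_symm (A : Matrix (Fin (n + 1)) (Fin (n + 1)) ℝ) (hA : A.IsSymm) :
    (low A).IsSymm := by
  ext i j
  simp only [low, transpose_apply]
  rw [hA.apply i.succ j.succ]

theorem mul_eq_one_entries (A A' : Matrix (Fin (n + 1)) (Fin (n + 1)) ℝ) (h : A * A' = 1)
    (i j : Fin (n + 1)) :
    A i 0 * A' 0 j + ∑ k : Fin n, A i k.succ * A' k.succ j = if i = j then 1 else 0 := by
  have := congrFun (congrFun h i) j
  rw [Matrix.mul_apply, Fin.sum_univ_succ] at this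
  rw [this, Matrix.one_apply]

theorem schur_mul_low (A A' : Matrix (Fin (n + 1)) (Fin (n + 1)) ℝ) (hA : A.IsSymm)
    (h0 : A 0 0 ≠ 0) (h : A * A' = 1) : schur A * low A' = 1 := by
  ext i j
  rw [Matrix.mul_apply, Matrix.one_apply]
  have h1 := mul_eq_one_entries A A' h i.succ j.succ
  have h2 := mul_eq_one_entries A A' h 0 j.succ
  rw [if_neg (Fin.succ_ne_zero j).symm] at h2
  have h3 : ∑ k, schur A i k * low A' k j
      = (∑ k : Fin n, A i.succ k.succ * A' k.succ j.succ)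
        - A 0 i.succ / A 0 0 * ∑ k : Fin n, A 0 k.succ * A' k.succ j.succ := by
    simp only [schur, low, Finset.mul_sum, ← Finset.sum_sub_distrib]
    refine Finset.sum_congr rfl fun k _ => ?_
    ring
  have h4 : A i.succ 0 = A 0 i.succ := hA.apply 0 i.succ
  rw [h3]
  have h5 : (∑ k : Fin n, A i.succ k.succ * A' k.succ j.succ)
      = (if i.succ = j.succ then 1 else 0) - A 0 i.succ * A' 0 j.succ := by
    rw [← h1, h4]; ring
  have h6 : (∑ k : Fin n, A 0 k.succ * A' k.succ j.succ) = - (A 0 0 * A' 0 j.succ) := by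
    linarith
  rw [h5, h6]
  simp only [Fin.succ_inj]
  field_simp
  ring

theorem quad_inv_cons (A A' : Matrix (Fin (n + 1)) (Fin (n + 1)) ℝ)
    (hA' : A'.IsSymm) (h0 : A 0 0 ≠ 0) (h : A * A' = 1) (x₀ : ℝ) (y : Fin n → ℝ) :
    quad A' (Fin.cons x₀ y) = x₀ ^ 2 / A 0 0 + quad (low A') (y - (x₀ / A 0 0) • bvec A) := by
  rw [quad_cons_expand A' hA']
  -- formulas for the first row of A'
  have hrow : ∀ j : Fin n, A' 0 j.succ = - (1 / A 0 0) * ∑ k : Fin n, bvec A k * low A' k j := by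
    intro j
    have h2 := mul_eq_one_entries A A' h 0 j.succ
    rw [if_neg (Fin.succ_ne_zero j).symm] at h2
    have : (∑ k : Fin n, bvec A k * low A' k j) = - (A 0 0 * A' 0 j.succ) := by
      simp only [bvec, low]; linarith
    rw [this]; field_simp
  have h00 : A' 0 0 = 1 / A 0 0 + (1 / A 0 0 ^ 2) * ∑ k, ∑ l, bvec A k * low A' k l * bvec A l := by
    have h2 := mul_eq_one_entries A A' h 0 0
    rw [if_pos rfl] at h2
    have h3 : (∑ k : Fin n, A 0 k.succ * A' k.succ 0)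
        = - (1 / A 0 0) * ∑ k, ∑ l, bvec A k * low A' k l * bvec A l := by
      have : ∀ k : Fin n, A' k.succ 0 = A' 0 k.succ := fun k => hA'.apply 0 k.succ
      simp only [this, hrow]
      simp only [Finset.mul_sum]
      rw [Finset.sum_comm]
      refine Finset.sum_congr rfl fun k _ => Finset.sum_congr rfl fun l _ => ?_
      simp only [bvec]
      ring
    rw [h3] at h2
    have h4 : A' 0 0 = (1 + (1 / A 0 0) * ∑ k, ∑ l, bvec A k * low A' k l * bvec A l) / A 0 0 := by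
      field_simp
      field_simp at h2
      linarith
    rw [h4]; field_simp
  have hlow : (low A').IsSymm := low_symm A' hA'
  have hquad : quad (low A') (y - (x₀ / A 0 0) • bvec A)
      = quad (low A') y - 2 * (x₀ / A 0 0) * (∑ k, ∑ l, bvec A k * low A' k l * y l)
        + (x₀ / A 0 0) ^ 2 * ∑ k, ∑ l, bvec A k * low A' k l * bvec A l := by
    have hswap : (∑ k, ∑ l, y k * low A' k l * bvec A l) = ∑ k, ∑ l, bvec A k * low A' k l * y l := by
      rw [Finset.sum_comm]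
      refine Finset.sum_congr rfl fun k _ => Finset.sum_congr rfl fun l _ => ?_
      rw [hlow.apply k l]; ring
    have : 2 * (x₀ / A 0 0) * (∑ k, ∑ l, bvec A k * low A' k l * y l)
        = (x₀ / A 0 0) * (∑ k, ∑ l, bvec A k * low A' k l * y l)
          + (x₀ / A 0 0) * (∑ k, ∑ l, y k * low A' k l * bvec A l) := by rw [hswap]; ring
    rw [this]
    simp only [quad, Finset.mul_sum, ← Finset.sum_add_distrib, ← Finset.sum_sub_distrib,
      Pi.sub_apply, Pi.smul_apply, smul_eq_mul]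
    refine Finset.sum_congr rfl fun k _ => Finset.sum_congr rfl fun l _ => ?_
    ring
  rw [hquad, h00]
  have h5 : (∑ i : Fin n, A' 0 i.succ * y i)
      = - (1 / A 0 0) * ∑ k, ∑ l, bvec A k * low A' k l * y l := by
    simp only [hrow, Finset.mul_sum, Finset.sum_mul]
    rw [Finset.sum_comm]
    refine Finset.sum_congr rfl fun k _ => Finset.sum_congr rfl fun l _ => ?_
    ring
  rw [h5]
  have h6 : (∑ i : Fin n, ∑ j : Fin n, A' i.succ j.succ * y i * y j) = quad (low A') y := rfl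
  rw [h6]
  field_simp
  ring

theorem quad_smul (A : Matrix (Fin n) (Fin n) ℝ) (c : ℝ) (x : Fin n → ℝ) :
    quad A (c • x) = c ^ 2 * quad A x := by
  simp only [quad, Pi.smul_apply, smul_eq_mul, Finset.mul_sum]
  refine Finset.sum_congr rfl fun k _ => Finset.sum_congr rfl fun l _ => ?_
  ring

theorem quad_zero (A : Matrix (Fin n) (Fin n) ℝ) : quad A 0 = 0 := by
  simp [quad]

theorem continuous_quad (A : Matrix (Fin n) (Fin n) ℝ) : Continuous (quad A) := by
  unfold quad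
  fun_prop

theorem exists_lower_bound (A : Matrix (Fin n) (Fin n) ℝ) (hp : Pos A) :
    ∃ c : ℝ, 0 < c ∧ ∀ x : Fin n → ℝ, c * ∑ i, x i ^ 2 ≤ quad A x := by
  let K : Set (Fin n → ℝ) := {x | ∑ i, x i ^ 2 = 1}
  have hKc : IsClosed K := isClosed_eq (by fun_prop) continuous_const
  have hKb : Bornology.IsBounded K := by
    refine (Metric.isBounded_iff_subset_closedBall 0).2 ⟨1, fun x hx => ?_⟩
    rw [mem_closedBall_zero_iff, pi_norm_le_iff_of_nonneg zero_le_one]
    intro i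
    have h1 : x i ^ 2 ≤ 1 := by
      have : x i ^ 2 ≤ ∑ i, x i ^ 2 :=
        Finset.single_le_sum (f := fun i => x i ^ 2) (fun i _ => sq_nonneg _) (Finset.mem_univ i)
      have hx' : ∑ i, x i ^ 2 = 1 := hx
      linarith
    rw [Real.norm_eq_abs]
    exact abs_le_one_iff_mul_self_le_one.2 (by nlinarith)
  have hK : IsCompact K := Metric.isCompact_of_isClosed_isBounded hKc hKb
  rcases K.eq_empty_or_nonempty with hE | hne
  · refine ⟨1, one_pos, fun x => ?_⟩
    have hx : x = 0 := by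
      by_contra hx
      have hs : 0 < ∑ i, x i ^ 2 := by
        obtain ⟨i, hi⟩ := Function.ne_iff.1 hx
        refine Finset.sum_pos' (fun i _ => sq_nonneg _) ⟨i, Finset.mem_univ i, ?_⟩
        exact pow_pos (abs_pos.2 hi) 2 |>.trans_le (by rw [sq_abs])
      have : (1 / Real.sqrt (∑ i, x i ^ 2)) • x ∈ K := by
        show ∑ i, ((1 / Real.sqrt (∑ i, x i ^ 2)) • x) i ^ 2 = 1
        simp only [Pi.smul_apply, smul_eq_mul, mul_pow, ← Finset.mul_sum, div_pow, one_pow]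
        rw [Real.sq_sqrt hs.le]
        field_simp
      rw [hE] at this
      exact this
    subst hx
    simp [quad]
  · obtain ⟨u, huK, hu⟩ := hK.exists_isMinOn hne (continuous_quad A).continuousOn
    have hu0 : u ≠ 0 := by
      rintro rfl
      have : ∑ i : Fin n, ((0 : Fin n → ℝ) i) ^ 2 = 1 := huK
      simp at this
    refine ⟨quad A u, hp u hu0, fun x => ?_⟩
    by_cases hx : x = 0
    · subst hx; simp [quad]
    · have hs : 0 < ∑ i, x i ^ 2 := by
        obtain ⟨i, hi⟩ := Function.ne_iff.1 hx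
        refine Finset.sum_pos' (fun i _ => sq_nonneg _) ⟨i, Finset.mem_univ i, ?_⟩
        exact pow_pos (abs_pos.2 hi) 2 |>.trans_le (by rw [sq_abs])
      have hmem : (1 / Real.sqrt (∑ i, x i ^ 2)) • x ∈ K := by
        show ∑ i, ((1 / Real.sqrt (∑ i, x i ^ 2)) • x) i ^ 2 = 1
        simp only [Pi.smul_apply, smul_eq_mul, mul_pow, ← Finset.mul_sum, div_pow, one_pow]
        rw [Real.sq_sqrt hs.le]
        field_simp
      have h1 : quad A u ≤ quad A ((1 / Real.sqrt (∑ i, x i ^ 2)) • x) := hu hmem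
      rw [quad_smul, div_pow, one_pow, Real.sq_sqrt hs.le] at h1
      have h2 := mul_le_mul_of_nonneg_right h1 hs.le
      have h3 : 1 / (∑ i, x i ^ 2) * quad A x * ∑ i, x i ^ 2 = quad A x := by
        field_simp
      linarith

theorem summable_exp_neg_sq_int {c : ℝ} (hc : 0 < c) :
    Summable fun k : ℤ => Real.exp (-c * (k : ℝ) ^ 2) := by
  have h := ((summable_jacobiTheta₂_term_iff 0 ((c / π : ℝ) * I)).2 (by simp; positivity)).norm
  refine h.congr fun k => ?_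
  rw [norm_jacobiTheta₂_term]
  congr 1
  have hpi : π ≠ 0 := Real.pi_ne_zero
  simp
  field_simp

theorem summable_exp_neg_sq_pi {c : ℝ} (hc : 0 < c) (n : ℕ) :
    Summable fun k : Fin n → ℤ => Real.exp (-c * ∑ i, (k i : ℝ) ^ 2) := by
  induction n with
  | zero => exact Summable.of_finite
  | succ n ih =>
    rw [← (Fin.consEquiv (fun _ : Fin (n + 1) => ℤ)).summable_iff]
    have := (summable_exp_neg_sq_int hc).mul_of_nonneg ih (fun _ => (Real.exp_pos _).le)
      (fun _ => (Real.exp_pos _).le)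
    refine this.congr fun p => ?_
    simp only [Function.comp_apply, Fin.consEquiv_apply, Fin.sum_univ_succ, Fin.cons_zero,
      Fin.cons_succ]
    rw [← Real.exp_add]
    congr 1
    ring

theorem summable_gauss (A : Matrix (Fin n) (Fin n) ℝ) (hp : Pos A) {c : ℝ} (hc : 0 < c)
    (v : Fin n → ℝ) :
    Summable fun k : Fin n → ℤ => Real.exp (-c * quad A (fun i => (k i : ℝ) - v i)) := by
  obtain ⟨c₀, hc₀, hb⟩ := exists_lower_bound A hp
  have hs := (summable_exp_neg_sq_pi (c := c * c₀ / 2) (by positivity) n).mul_left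
    (Real.exp (c * c₀ * ∑ i, v i ^ 2))
  refine Summable.of_nonneg_of_le (fun _ => (Real.exp_pos _).le) (fun k => ?_) hs
  rw [← Real.exp_add]
  apply Real.exp_le_exp.2
  have h1 := hb (fun i => (k i : ℝ) - v i)
  have h2 : (1 / 2) * (∑ i, (k i : ℝ) ^ 2) - ∑ i, v i ^ 2 ≤ ∑ i, ((k i : ℝ) - v i) ^ 2 := by
    rw [Finset.mul_sum, ← Finset.sum_sub_distrib]
    refine Finset.sum_le_sum fun i _ => ?_
    nlinarith [sq_nonneg ((k i : ℝ) - 2 * v i)]
  have h3 := mul_le_mul_of_nonneg_left h2 hc₀.le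
  have h4 := mul_le_mul_of_nonneg_left (h3.trans h1) hc.le
  nlinarith

theorem pos_low (A : Matrix (Fin (n + 1)) (Fin (n + 1)) ℝ) (hA : A.IsSymm) (hp : Pos A) :
    Pos (low A) := by
  intro y hy
  have h := hp (Fin.cons 0 y) (by
    intro h
    apply hy
    funext i
    have := congrFun h i.succ
    simpa using this)
  rw [quad_cons_expand A hA] at h
  simpa [quad, low] using h

/-- summands of the theta series with a character -/
noncomputable def lhsTerm (A : Matrix (Fin n) (Fin n) ℝ) (s : ℂ) (v : Fin n → ℝ)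
    (x : Fin n → ℤ) : ℂ :=
  cexp (-π * s * (quad A (fun i => (x i : ℝ)) : ℝ) + 2 * π * I * ((∑ i, v i * (x i : ℝ) : ℝ) : ℂ))

/-- summands of the shifted theta series -/
noncomputable def rhsTerm (A : Matrix (Fin n) (Fin n) ℝ) (s : ℂ) (v : Fin n → ℝ)
    (x : Fin n → ℤ) : ℂ :=
  cexp (-π / s * (quad A (fun i => (x i : ℝ) - v i) : ℝ))

theorem norm_lhsTerm (A : Matrix (Fin n) (Fin n) ℝ) (s : ℂ) (v : Fin n → ℝ)
    (x : Fin n → ℤ) : ‖lhsTerm A s v x‖ = Real.exp (-(π * s.re) * quad A (fun i => (x i : ℝ))) := by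
  rw [lhsTerm, Complex.norm_exp]
  congr 1
  have : 2 * π * I * ((∑ i, v i * (x i : ℝ) : ℝ) : ℂ)
    = ((2 * π * (∑ i, v i * (x i : ℝ)) : ℝ) : ℂ) * I := by push_cast; ring
  rw [this]
  have h2 : -π * s * (quad A (fun i => (x i : ℝ)) : ℝ)
    = ((-π * quad A (fun i => (x i : ℝ)) : ℝ) : ℂ) * s := by push_cast; ring
  rw [h2, Complex.add_re, Complex.re_ofReal_mul, Complex.re_ofReal_mul, I_re]
  ring

theorem summable_lhsTerm (A : Matrix (Fin n) (Fin n) ℝ) (hp : Pos A) (s : ℂ) (hs : 0 < s.re)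
    (v : Fin n → ℝ) : Summable (lhsTerm A s v) := by
  have h := summable_gauss A hp (c := π * s.re) (by positivity) 0
  refine Summable.of_norm (h.congr fun x => ?_)
  rw [norm_lhsTerm]
  simp

theorem re_inv_pos {s : ℂ} (hs : 0 < s.re) : 0 < (1 / s).re := by
  rw [one_div, Complex.inv_re]
  have : s ≠ 0 := by rintro rfl; simp at hs
  exact div_pos hs (Complex.normSq_pos.2 this)

theorem norm_rhsTerm (A : Matrix (Fin n) (Fin n) ℝ) (s : ℂ) (v : Fin n → ℝ)
    (x : Fin n → ℤ) :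
    ‖rhsTerm A s v x‖ = Real.exp (-(π * (1 / s).re) * quad A (fun i => (x i : ℝ) - v i)) := by
  rw [rhsTerm, Complex.norm_exp]
  congr 1
  have h2 : -π / s * (quad A (fun i => (x i : ℝ) - v i) : ℝ)
    = ((-π * quad A (fun i => (x i : ℝ) - v i) : ℝ) : ℂ) * (1 / s) := by push_cast; ring
  rw [h2, Complex.re_ofReal_mul]
  ring

theorem summable_rhsTerm (A : Matrix (Fin n) (Fin n) ℝ) (hp : Pos A) (s : ℂ) (hs : 0 < s.re)
    (v : Fin n → ℝ) : Summable (rhsTerm A s v) := by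
  have h := summable_gauss A hp (c := π * (1 / s).re) (mul_pos Real.pi_pos (re_inv_pos hs)) v
  refine Summable.of_norm (h.congr fun x => ?_)
  rw [norm_rhsTerm]

/-- the mixed family in the induction step -/
noncomputable def mixed (A : Matrix (Fin (n + 1)) (Fin (n + 1)) ℝ) (s : ℂ) (v : Fin (n + 1) → ℝ)
    (k₀ : ℤ) (y : Fin n → ℤ) : ℂ :=
  cexp (-π / (s * (A 0 0 : ℝ)) * (((k₀ : ℝ) - v 0 : ℝ) : ℂ) ^ 2) *
    lhsTerm (schur A) s (fun i => v i.succ + ((k₀ : ℝ) - v 0) / A 0 0 * A 0 i.succ) y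

theorem inner_sum (A : Matrix (Fin (n + 1)) (Fin (n + 1)) ℝ) (hA : A.IsSymm) (hp : Pos A)
    (s : ℂ) (hs : 0 < s.re) (v : Fin (n + 1) → ℝ) (y : Fin n → ℤ) :
    ∑' x₀ : ℤ, lhsTerm A s v (Fin.cons x₀ y)
      = ∑' k₀ : ℤ, (1 / (s * (A 0 0 : ℝ)) ^ (1 / 2 : ℂ)) * mixed A s v k₀ y := by
  have ha := pos_zero_zero A hA hp
  have hs0 : s ≠ 0 := by rintro rfl; simp at hs
  have ha' : ((A 0 0 : ℝ) : ℂ) ≠ 0 := by exact_mod_cast ha.ne'
  set β : ℝ := bvec A ⬝ᵥ (fun i => (y i : ℝ)) with hβ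
  have h1 : ∀ x₀ : ℤ, lhsTerm A s v (Fin.cons x₀ y)
      = cexp (-π * (s * (A 0 0 : ℝ)) * (x₀ : ℂ) ^ 2 + 2 * π * (I * v 0 - s * β) * x₀)
        * cexp (-π * s * ((β ^ 2 / A 0 0 + quad (schur A) (fun i => (y i : ℝ)) : ℝ) : ℂ)
          + 2 * π * I * ((∑ i : Fin n, v i.succ * (y i : ℝ) : ℝ) : ℂ)) := by
    intro x₀
    rw [lhsTerm, ← Complex.exp_add]
    congr 1
    have hc : (fun i => ((Fin.cons x₀ y : Fin (n + 1) → ℤ) i : ℝ))
        = (Fin.cons (x₀ : ℝ) (fun i => (y i : ℝ)) : Fin (n + 1) → ℝ) := by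
      funext i
      refine Fin.cases ?_ (fun i => ?_) i <;> simp
    rw [hc, quad_cons A hA ha.ne', Fin.sum_univ_succ]
    simp only [Fin.cons_zero, Fin.cons_succ]
    rw [← hβ]
    push_cast
    field_simp
    ring
  simp_rw [h1]
  rw [tsum_mul_right, Complex.tsum_exp_neg_quadratic (a := s * (A 0 0 : ℝ))
    (by rw [mul_comm, Complex.re_ofReal_mul]; positivity), mul_assoc, ← tsum_mul_right,
    ← tsum_mul_left]
  refine tsum_congr fun k₀ => ?_
  congr 1
  rw [mixed, lhsTerm, ← Complex.exp_add, ← Complex.exp_add]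
  congr 1
  have hsum : (∑ i : Fin n, (v i.succ + ((k₀ : ℝ) - v 0) / A 0 0 * A 0 i.succ) * (y i : ℝ))
      = (∑ i : Fin n, v i.succ * (y i : ℝ)) + ((k₀ : ℝ) - v 0) / A 0 0 * β := by
    rw [hβ]
    simp only [dotProduct, bvec, Finset.mul_sum, ← Finset.sum_add_distrib]
    refine Finset.sum_congr rfl fun i _ => ?_
    ring
  rw [hsum]
  have hI : (I : ℂ) ^ 2 = -1 := I_sq
  have key : ((k₀ : ℂ) + I * (I * (v 0 : ℂ) - s * (β : ℂ))) ^ 2
      = ((k₀ : ℂ) - v 0) ^ 2 - 2 * I * s * β * ((k₀ : ℂ) - v 0) - s ^ 2 * β ^ 2 := by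
    linear_combination (2 * (k₀ : ℂ) * v 0 + I ^ 2 * (v 0 : ℂ) ^ 2 - (v 0 : ℂ) ^ 2
      - 2 * I * s * v 0 * β + s ^ 2 * β ^ 2) * hI
  rw [key]
  push_cast
  field_simp
  ring

theorem norm_mixed (A : Matrix (Fin (n + 1)) (Fin (n + 1)) ℝ)
    (s : ℂ) (v : Fin (n + 1) → ℝ) (k₀ : ℤ) (y : Fin n → ℤ) :
    ‖mixed A s v k₀ y‖ = Real.exp (-(π / A 0 0 * (1 / s).re) * ((k₀ : ℝ) - v 0) ^ 2) *
      Real.exp (-(π * s.re) * quad (schur A) (fun i => (y i : ℝ))) := by
  rw [mixed, norm_mul, norm_lhsTerm, Complex.norm_exp]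
  congr 2
  have h2 : -π / (s * (A 0 0 : ℝ)) * (((k₀ : ℝ) - v 0 : ℝ) : ℂ) ^ 2
    = ((-π / A 0 0 * ((k₀ : ℝ) - v 0) ^ 2 : ℝ) : ℂ) * (1 / s) := by
      push_cast
      rw [div_mul_eq_mul_div, div_mul_eq_mul_div, ← mul_div_assoc, mul_one, div_div, mul_comm s]
  rw [h2, Complex.re_ofReal_mul]
  ring

theorem summable_gauss_int {c : ℝ} (hc : 0 < c) (v : ℝ) :
    Summable fun k : ℤ => Real.exp (-c * ((k : ℝ) - v) ^ 2) := by
  have hs := (summable_exp_neg_sq_int (c := c / 2) (by positivity)).mul_left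
    (Real.exp (c * v ^ 2))
  refine Summable.of_nonneg_of_le (fun _ => (Real.exp_pos _).le) (fun k => ?_) hs
  rw [← Real.exp_add]
  apply Real.exp_le_exp.2
  nlinarith [mul_nonneg hc.le (sq_nonneg ((k : ℝ) - 2 * v))]

theorem summable_mixed (A : Matrix (Fin (n + 1)) (Fin (n + 1)) ℝ) (hA : A.IsSymm) (hp : Pos A)
    (s : ℂ) (hs : 0 < s.re) (v : Fin (n + 1) → ℝ) :
    Summable (fun p : ℤ × (Fin n → ℤ) => mixed A s v p.1 p.2) := by
  have ha := pos_zero_zero A hA hp
  have h1 := summable_gauss_int (c := π / A 0 0 * (1 / s).re)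
    (mul_pos (div_pos Real.pi_pos ha) (re_inv_pos hs)) (v 0)
  have h2 := summable_gauss (schur A) (pos_schur A hA hp) (c := π * s.re) (by positivity) 0
  refine Summable.of_norm ?_
  refine (h1.mul_of_nonneg h2 (fun _ => (Real.exp_pos _).le)
    (fun _ => (Real.exp_pos _).le)).congr fun p => ?_
  rw [norm_mixed]
  simp

theorem rhsTerm_cons (A A' : Matrix (Fin (n + 1)) (Fin (n + 1)) ℝ)
    (hA' : A'.IsSymm) (h0 : A 0 0 ≠ 0) (h : A * A' = 1)
    (s : ℂ) (v : Fin (n + 1) → ℝ) (k₀ : ℤ) (k : Fin n → ℤ) :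
    rhsTerm A' s v (Fin.cons k₀ k) =
      cexp (-π / (s * (A 0 0 : ℝ)) * (((k₀ : ℝ) - v 0 : ℝ) : ℂ) ^ 2) *
      rhsTerm (low A') s (fun i => v i.succ + ((k₀ : ℝ) - v 0) / A 0 0 * A 0 i.succ) k := by
  rw [rhsTerm, rhsTerm, ← Complex.exp_add]
  congr 1
  have hc : (fun i => ((Fin.cons k₀ k : Fin (n + 1) → ℤ) i : ℝ) - v i)
      = (Fin.cons ((k₀ : ℝ) - v 0) (fun i => (k i : ℝ) - v i.succ) : Fin (n + 1) → ℝ) := by
    funext i
    refine Fin.cases ?_ (fun i => ?_) i <;> simp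
  rw [hc, quad_inv_cons A A' hA' h0 h]
  have hv : ((fun i => (k i : ℝ) - v i.succ) - (((k₀ : ℝ) - v 0) / A 0 0) • bvec A)
      = fun i => (k i : ℝ) - (v i.succ + ((k₀ : ℝ) - v 0) / A 0 0 * A 0 i.succ) := by
    funext i
    simp [bvec]
    ring
  rw [hv]
  generalize quad (low A') _ = Q
  push_cast
  by_cases hs : s = 0
  · subst hs; simp
  · have ha' : ((A 0 0 : ℝ) : ℂ) ≠ 0 := by exact_mod_cast h0
    field_simp
    ring

theorem ofReal_mul_cpow {a : ℝ} (ha : 0 < a) {s : ℂ} (hs : s ≠ 0) (r : ℂ) :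
    ((a : ℂ) * s) ^ r = (a : ℂ) ^ r * s ^ r := by
  have ha' : (a : ℂ) ≠ 0 := by exact_mod_cast ha.ne'
  rw [Complex.cpow_def_of_ne_zero (mul_ne_zero ha' hs), Complex.cpow_def_of_ne_zero ha',
    Complex.cpow_def_of_ne_zero hs, ← Complex.exp_add, Complex.log_ofReal_mul ha hs,
    Complex.ofReal_log ha.le]
  congr 1
  ring

theorem theta_transform (n : ℕ) : ∀ (A A' : Matrix (Fin n) (Fin n) ℝ), A.IsSymm → A'.IsSymm →
    Pos A → Pos A' → A * A' = 1 → ∃ C : ℂ, ∀ s : ℂ, 0 < s.re → ∀ v : Fin n → ℝ,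
      ∑' x : Fin n → ℤ, lhsTerm A s v x
        = C / (s ^ (1 / 2 : ℂ)) ^ n * ∑' k : Fin n → ℤ, rhsTerm A' s v k := by
  induction n with
  | zero =>
    intro A A' _ _ _ _ _
    refine ⟨1, fun s _ v => ?_⟩
    rw [tsum_fintype, tsum_fintype]
    simp [lhsTerm, rhsTerm, quad]
  | succ n ih =>
    intro A A' hA hA' hp hp' hinv
    have ha := pos_zero_zero A hA hp
    obtain ⟨C, hC⟩ := ih (schur A) (low A') (schur_symm A hA) (low_symm A' hA')
      (pos_schur A hA hp) (pos_low A' hA' hp') (schur_mul_low A A' hA ha.ne' hinv)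
    refine ⟨C / ((A 0 0 : ℝ) : ℂ) ^ (1 / 2 : ℂ), fun s hs v => ?_⟩
    have hs0 : s ≠ 0 := by rintro rfl; simp at hs
    set K : ℂ := 1 / (s * (A 0 0 : ℝ)) ^ (1 / 2 : ℂ) with hK
    have hK' : K = 1 / (((A 0 0 : ℝ) : ℂ) ^ (1 / 2 : ℂ) * s ^ (1 / 2 : ℂ)) := by
      rw [hK, mul_comm s, ofReal_mul_cpow ha hs0]
    calc ∑' x : Fin (n + 1) → ℤ, lhsTerm A s v x
        = ∑' p : ℤ × (Fin n → ℤ), lhsTerm A s v (Fin.cons p.1 p.2) :=
          ((Fin.consEquiv (fun _ : Fin (n + 1) => ℤ)).tsum_eq (lhsTerm A s v)).symm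
      _ = ∑' p : (Fin n → ℤ) × ℤ, lhsTerm A s v (Fin.cons p.2 p.1) :=
          ((Equiv.prodComm (Fin n → ℤ) ℤ).tsum_eq
            (fun p : ℤ × (Fin n → ℤ) => lhsTerm A s v (Fin.cons p.1 p.2))).symm
      _ = ∑' y : Fin n → ℤ, ∑' x₀ : ℤ, lhsTerm A s v (Fin.cons x₀ y) := by
          have hsum : Summable (fun p : (Fin n → ℤ) × ℤ => lhsTerm A s v (Fin.cons p.2 p.1)) := by
            have h1 := (Fin.consEquiv (fun _ : Fin (n + 1) => ℤ)).summable_iff.2
              (summable_lhsTerm A hp s hs v)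
            exact (Equiv.prodComm (Fin n → ℤ) ℤ).summable_iff.2 h1
          exact hsum.tsum_prod
      _ = ∑' y : Fin n → ℤ, ∑' k₀ : ℤ, K * mixed A s v k₀ y := by
          refine tsum_congr fun y => ?_
          rw [inner_sum A hA hp s hs v y]
      _ = K * ∑' k₀ : ℤ, ∑' y : Fin n → ℤ, mixed A s v k₀ y := by
          simp_rw [tsum_mul_left]
          congr 1
          have hsum := summable_mixed A hA hp s hs v
          exact (Summable.tsum_comm (f := fun k₀ y => mixed A s v k₀ y) hsum)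
      _ = K * ∑' k₀ : ℤ, ∑' k : Fin n → ℤ,
            C / (s ^ (1 / 2 : ℂ)) ^ n * rhsTerm A' s v (Fin.cons k₀ k) := by
          congr 1
          refine tsum_congr fun k₀ => ?_
          simp_rw [mixed, tsum_mul_left]
          rw [hC s hs]
          simp_rw [rhsTerm_cons A A' hA' ha.ne' hinv, tsum_mul_left]
          ring
      _ = K * (C / (s ^ (1 / 2 : ℂ)) ^ n) * ∑' p : ℤ × (Fin n → ℤ),
            rhsTerm A' s v (Fin.cons p.1 p.2) := by
          have hsum : Summable (fun p : ℤ × (Fin n → ℤ) => rhsTerm A' s v (Fin.cons p.1 p.2)) :=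
            (Fin.consEquiv (fun _ : Fin (n + 1) => ℤ)).summable_iff.2
              (summable_rhsTerm A' hp' s hs v)
          rw [hsum.tsum_prod]
          simp_rw [tsum_mul_left]
          ring
      _ = _ := by
          rw [← (Fin.consEquiv (fun _ : Fin (n + 1) => ℤ)).tsum_eq (rhsTerm A' s v)]
          have h3 : K * (C / (s ^ (1 / 2 : ℂ)) ^ n)
              = C / ((A 0 0 : ℝ) : ℂ) ^ (1 / 2 : ℂ) / (s ^ (1 / 2 : ℂ)) ^ (n + 1) := by
            rw [hK', pow_succ]
            ring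
          rw [h3]
          rfl

end Cfsg.Agent.SporadicStructure.ThetaPoisson
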