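import Mathlib
import Cfsg.Agent.SporadicStructure.ThetaPoisson

/-!
The theta series of a positive definite even unimodular integral quadratic form in 24 variables is a
modular form of weight 12 and level one.
-/

set_option autoImplicit false

namespace Cfsg.Agent.SporadicStructure.ThetaModular

open Complex Matrix Cfsg.Agent.SporadicStructure.ThetaPoisson
open scoped Real

/-- the real matrix of an integral form -/
noncomputable def realMat {n : ℕ} (B : Matrix (Fin n) (Fin n) ℤ) : Matrix (Fin n) (Fin n) ℝ :=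
  B.map (Int.cast : ℤ → ℝ)

/-- integral quadratic form -/
def iquad {n : ℕ} (B : Matrix (Fin n) (Fin n) ℤ) (x : Fin n → ℤ) : ℤ := x ⬝ᵥ (B *ᵥ x)

theorem quad_realMat {n : ℕ} (B : Matrix (Fin n) (Fin n) ℤ) (x : Fin n → ℤ) :
    quad (realMat B) (fun i => (x i : ℝ)) = (iquad B x : ℝ) := by
  rw [quad_eq_dotProduct, iquad]
  simp only [dotProduct, mulVec, realMat, Matrix.map_apply]
  push_cast
  rfl

theorem realMat_symm {n : ℕ} {B : Matrix (Fin n) (Fin n) ℤ} (h : B.IsSymm) :
    (realMat B).IsSymm := by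
  ext i j
  simp only [realMat, transpose_apply, Matrix.map_apply]
  rw [h.apply i j]

theorem realMat_mul {n : ℕ} {B B' : Matrix (Fin n) (Fin n) ℤ} (h : B * B' = 1) :
    realMat B * realMat B' = 1 := by
  have : realMat B * realMat B' = realMat (B * B') := by
    simp only [realMat]
    exact (Matrix.map_mul (f := Int.castRingHom ℝ)).symm
  rw [this, h, realMat, Matrix.map_one _ Int.cast_zero Int.cast_one]

theorem quad_nonneg_of_int {n : ℕ} {B : Matrix (Fin n) (Fin n) ℤ}
    (hpos : ∀ x : Fin n → ℤ, x ≠ 0 → 0 < iquad B x) (x : Fin n → ℝ) :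
    0 ≤ quad (realMat B) x := by
  have hdense : DenseRange (Pi.map (fun (_ : Fin n) (q : ℚ) => (q : ℝ))) :=
    DenseRange.piMap fun _ => Rat.denseRange_cast
  refine hdense.induction_on (p := fun x => 0 ≤ quad (realMat B) x) x
    (isClosed_le continuous_const (continuous_quad _)) ?_
  intro q
  -- common denominator
  let N : ℕ := ∏ i, (q i).den
  have hN : 0 < N := Finset.prod_pos fun i _ => (q i).den_pos
  let m : Fin n → ℤ := fun i => (q i).num * (N / (q i).den : ℕ)
  have hm : ∀ i, (m i : ℝ) = N * (q i : ℝ) := by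
    intro i
    have hd : (q i).den ∣ N := Finset.dvd_prod_of_mem _ (Finset.mem_univ i)
    have h1 : ((N / (q i).den : ℕ) : ℝ) = (N : ℝ) / (q i).den :=
      Nat.cast_div hd (by exact_mod_cast (q i).den_ne_zero)
    have h2 : ((q i : ℚ) : ℝ) = (q i).num / (q i).den := by
      rw [Rat.cast_def]
    simp only [m]
    rw [Int.cast_mul, Int.cast_natCast, h1, h2]
    ring
  have h3 : (Pi.map (fun (_ : Fin n) (q : ℚ) => (q : ℝ))) q = (1 / (N : ℝ)) • fun i => (m i : ℝ) := by
    funext i
    simp only [Pi.map_apply, Pi.smul_apply, smul_eq_mul, hm]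
    have : (N : ℝ) ≠ 0 := by exact_mod_cast hN.ne'
    field_simp
  show 0 ≤ quad (realMat B) ((Pi.map (fun (_ : Fin n) (q : ℚ) => (q : ℝ))) q)
  rw [h3, quad_smul, quad_realMat]
  have h4 : 0 ≤ iquad B m := by
    by_cases hm0 : m = 0
    · rw [hm0]; simp [iquad]
    · exact (hpos m hm0).le
  positivity

theorem pos_realMat {n : ℕ} {B B' : Matrix (Fin n) (Fin n) ℤ} (hs : B.IsSymm)
    (hpos : ∀ x : Fin n → ℤ, x ≠ 0 → 0 < iquad B x) (hinv : B * B' = 1) : Pos (realMat B) := by
  intro x hx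
  have hnn := quad_nonneg_of_int hpos x
  rcases hnn.lt_or_eq with h | h
  · exact h
  exfalso
  have hpsd : (realMat B).PosSemidef := by
    refine Matrix.PosSemidef.of_dotProduct_mulVec_nonneg ?_ ?_
    · ext i j
      simp only [conjTranspose_apply, star_trivial]
      exact (realMat_symm hs).apply i j
    · intro y
      have := quad_nonneg_of_int hpos y
      rw [quad_eq_dotProduct] at this
      simpa using this
  have h0 : realMat B *ᵥ x = 0 := by
    rw [← hpsd.dotProduct_mulVec_zero_iff]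
    rw [quad_eq_dotProduct] at h
    simpa using h.symm
  have hinv' : realMat B' * realMat B = 1 := by
    rw [mul_eq_one_comm]
    exact realMat_mul hinv
  apply hx
  have : (realMat B' * realMat B) *ᵥ x = 0 := by
    rw [← Matrix.mulVec_mulVec, h0, Matrix.mulVec_zero]
  rwa [hinv', Matrix.one_mulVec] at this

theorem pos_inv {n : ℕ} {A A' : Matrix (Fin n) (Fin n) ℝ} (hA : Pos A) (hinv : A * A' = 1) :
    Pos A' := by
  intro x hx
  have h1 : A *ᵥ (A' *ᵥ x) = x := by rw [Matrix.mulVec_mulVec, hinv, Matrix.one_mulVec]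
  have h2 := hA (A' *ᵥ x) (by
    intro h
    rw [h, Matrix.mulVec_zero] at h1
    exact hx h1.symm)
  rw [quad_eq_dotProduct, h1] at h2
  rw [quad_eq_dotProduct, dotProduct_comm]
  exact h2

theorem symm_inv {n : ℕ} {B B' : Matrix (Fin n) (Fin n) ℤ} (hs : B.IsSymm) (hinv : B * B' = 1) :
    B'.IsSymm := by
  have h1 : B' * B = 1 := mul_eq_one_comm.1 hinv
  have h2 : B'.transpose * B = 1 := by
    have := congrArg Matrix.transpose hinv
    rw [Matrix.transpose_mul, Matrix.transpose_one, hs.eq] at this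
    exact this
  have : B'.transpose = B' := by
    calc B'.transpose = B'.transpose * (B * B') := by rw [hinv, Matrix.mul_one]
      _ = B' := by rw [← Matrix.mul_assoc, h2, Matrix.one_mul]
  exact this

/-- the data used below: a symmetric positive definite unimodular integral matrix with inverse -/
structure Unimod {n : ℕ} (B B' : Matrix (Fin n) (Fin n) ℤ) : Prop where
  symm : B.IsSymm
  pos : ∀ x : Fin n → ℤ, x ≠ 0 → 0 < iquad B x
  inv : B * B' = 1

variable {n : ℕ} {B B' : Matrix (Fin n) (Fin n) ℤ}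

theorem Unimod.posR (h : Unimod B B') : Pos (realMat B) := pos_realMat h.symm h.pos h.inv

/-- the theta series as a function of `s`, `Re s > 0` -/
noncomputable def Theta (B : Matrix (Fin n) (Fin n) ℤ) (s : ℂ) : ℂ :=
  ∑' x : Fin n → ℤ, cexp (-π * s * (iquad B x : ℂ))

theorem lhsTerm_eq (B : Matrix (Fin n) (Fin n) ℤ) (s : ℂ) (x : Fin n → ℤ) :
    lhsTerm (realMat B) s 0 x = cexp (-π * s * (iquad B x : ℂ)) := by
  rw [lhsTerm, quad_realMat]
  simp

theorem summable_theta (h : Unimod B B') {s : ℂ} (hs : 0 < s.re) :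
    Summable fun x : Fin n → ℤ => cexp (-π * s * (iquad B x : ℂ)) :=
  (summable_lhsTerm (realMat B) h.posR s hs 0).congr fun x => lhsTerm_eq B s x

theorem rhs_reindex (h : Unimod B B') (s : ℂ) :
    ∑' k : Fin n → ℤ, rhsTerm (realMat B') s 0 k = Theta B (1 / s) := by
  have h' : B' * B = 1 := mul_eq_one_comm.1 h.inv
  let e : (Fin n → ℤ) ≃ (Fin n → ℤ) :=
    { toFun := fun x => B *ᵥ x
      invFun := fun x => B' *ᵥ x
      left_inv := fun x => by
        show B' *ᵥ (B *ᵥ x) = x
        rw [Matrix.mulVec_mulVec, h', Matrix.one_mulVec]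
      right_inv := fun x => by
        show B *ᵥ (B' *ᵥ x) = x
        rw [Matrix.mulVec_mulVec, h.inv, Matrix.one_mulVec] }
  rw [← e.tsum_eq, Theta]
  refine tsum_congr fun x => ?_
  rw [rhsTerm]
  simp only [Pi.zero_apply, sub_zero]
  have : iquad B' (e x) = iquad B x := by
    show (B *ᵥ x) ⬝ᵥ (B' *ᵥ (B *ᵥ x)) = x ⬝ᵥ (B *ᵥ x)
    rw [Matrix.mulVec_mulVec, h', Matrix.one_mulVec, dotProduct_comm]
  rw [quad_realMat, this]
  congr 1
  push_cast
  ring

theorem theta_const (h : Unimod B B') : ∃ C : ℂ, ∀ s : ℂ, 0 < s.re →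
    Theta B s = C / (s ^ (1 / 2 : ℂ)) ^ n * Theta B (1 / s) := by
  obtain ⟨C, hC⟩ := theta_transform n (realMat B) (realMat B') (realMat_symm h.symm)
    (realMat_symm (symm_inv h.symm h.inv)) h.posR (pos_inv h.posR (realMat_mul h.inv))
    (realMat_mul h.inv)
  refine ⟨C, fun s hs => ?_⟩
  have := hC s hs 0
  rw [rhs_reindex h] at this
  rw [← this, Theta]
  exact tsum_congr fun x => (lhsTerm_eq B s x).symm

theorem theta_one_ne_zero (h : Unimod B B') : Theta B 1 ≠ 0 := by
  have h1 : Theta B 1 = ((∑' x : Fin n → ℤ, Real.exp (-π * iquad B x) : ℝ) : ℂ) := by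
    rw [Theta, Complex.ofReal_tsum]
    refine tsum_congr fun x => ?_
    push_cast
    ring_nf
  rw [h1]
  have hsum : Summable fun x : Fin n → ℤ => Real.exp (-π * iquad B x) := by
    have := summable_gauss (realMat B) h.posR Real.pi_pos 0
    refine this.congr fun x => ?_
    simp [quad_realMat]
  have : 0 < ∑' x : Fin n → ℤ, Real.exp (-π * iquad B x) :=
    hsum.tsum_pos (fun x => (Real.exp_pos _).le) 0 (Real.exp_pos _)
  exact_mod_cast this.ne'

theorem theta_inversion (h : Unimod B B') {s : ℂ} (hs : 0 < s.re) :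
    Theta B s = 1 / (s ^ (1 / 2 : ℂ)) ^ n * Theta B (1 / s) := by
  obtain ⟨C, hC⟩ := theta_const h
  have h1 := hC 1 (by simp)
  simp only [Complex.one_cpow, one_pow, div_one] at h1
  have hC1 : C = 1 := by
    have h2 : (C - 1) * Theta B 1 = 0 := by linear_combination -h1
    rcases mul_eq_zero.1 h2 with h3 | h3
    · linear_combination h3
    · exact absurd h3 (theta_one_ne_zero h)
  rw [hC s hs, hC1]

/-- the theta function on the upper half-plane -/
noncomputable def thetaH (B : Matrix (Fin n) (Fin n) ℤ) (τ : UpperHalfPlane) : ℂ :=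
  Theta B (-I * τ)

theorem re_neg_I_mul (τ : UpperHalfPlane) : 0 < (-I * (τ : ℂ)).re := by
  have : (-I * (τ : ℂ)).re = τ.im := by simp
  rw [this]
  exact τ.im_pos

/-- half the value of the form -/
def half (B : Matrix (Fin n) (Fin n) ℤ) (x : Fin n → ℤ) : ℕ := (iquad B x / 2).toNat

theorem two_mul_half (h : Unimod B B') (he : ∀ x : Fin n → ℤ, (2 : ℤ) ∣ iquad B x)
    (x : Fin n → ℤ) : (2 : ℤ) * (half B x : ℤ) = iquad B x := by
  have h0 : 0 ≤ iquad B x := by
    by_cases hx : x = 0
    · rw [hx]; simp [iquad]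
    · exact (h.pos x hx).le
  obtain ⟨m, hm⟩ := he x
  rw [half, Int.toNat_of_nonneg (by omega)]
  omega

theorem exp_eq_q_pow (h : Unimod B B') (he : ∀ x : Fin n → ℤ, (2 : ℤ) ∣ iquad B x)
    (τ : ℂ) (x : Fin n → ℤ) :
    cexp (-π * (-I * τ) * (iquad B x : ℂ)) = Function.Periodic.qParam 1 τ ^ half B x := by
  rw [Function.Periodic.qParam, ← Complex.exp_nat_mul]
  congr 1
  have h1 : (iquad B x : ℂ) = 2 * (half B x : ℂ) := by
    have := two_mul_half h he x
    exact_mod_cast this.symm
  rw [h1]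
  push_cast
  ring

theorem finite_fiber (h : Unimod B B') (m : ℕ) : {x : Fin n → ℤ | half B x = m}.Finite := by
  have hsum : Summable fun x : Fin n → ℤ => Real.exp (-π * iquad B x) := by
    have := summable_gauss (realMat B) h.posR Real.pi_pos 0
    refine this.congr fun x => ?_
    simp [quad_realMat]
  have h1 := hsum.tendsto_cofinite_zero
  have h2 : ∀ᶠ x : Fin n → ℤ in Filter.cofinite,
      Real.exp (-π * iquad B x) < Real.exp (-π * (2 * m + 2)) :=
    h1.eventually (gt_mem_nhds (Real.exp_pos _))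
  rw [Filter.eventually_cofinite] at h2
  refine h2.subset ?_
  intro x hx
  simp only [Set.mem_ofPred_eq] at hx ⊢
  rw [not_lt, Real.exp_le_exp]
  have h3 : iquad B x ≤ 2 * m + 2 := by
    rw [half] at hx
    omega
  have h4 : (iquad B x : ℝ) ≤ 2 * m + 2 := by exact_mod_cast h3
  nlinarith [Real.pi_pos]

/-- number of vectors with half norm `m` -/
noncomputable def count (B : Matrix (Fin n) (Fin n) ℤ) (m : ℕ) : ℕ :=
  {x : Fin n → ℤ | half B x = m}.ncard

theorem hasSum_thetaH (h : Unimod B B') (he : ∀ x : Fin n → ℤ, (2 : ℤ) ∣ iquad B x)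
    (τ : UpperHalfPlane) :
    HasSum (fun m : ℕ => (count B m : ℂ) • Function.Periodic.qParam 1 (τ : ℂ) ^ m)
      (thetaH B τ) := by
  have h1 : HasSum (fun x : Fin n → ℤ => Function.Periodic.qParam 1 (τ : ℂ) ^ half B x)
      (thetaH B τ) := by
    have := (summable_theta h (re_neg_I_mul τ)).hasSum
    rw [show (∑' x : Fin n → ℤ, cexp (-π * (-I * τ) * (iquad B x : ℂ))) = thetaH B τ from rfl] at this
    exact this.congr_fun (fun x => (exp_eq_q_pow h he τ x).symm)
  have h2 := (Equiv.sigmaFiberEquiv (half B)).hasSum_iff.2 h1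
  refine h2.sigma fun m => ?_
  have hfin := finite_fiber h m
  have : Fintype {x : Fin n → ℤ // half B x = m} := hfin.fintype
  have h3 : ∀ c : {x : Fin n → ℤ // half B x = m},
      ((fun x : Fin n → ℤ => Function.Periodic.qParam 1 (τ : ℂ) ^ half B x) ∘
        (Equiv.sigmaFiberEquiv (half B))) ⟨m, c⟩ = Function.Periodic.qParam 1 (τ : ℂ) ^ m := by
    intro c
    simp only [Function.comp_apply, Equiv.sigmaFiberEquiv_apply]
    rw [c.2]
  simp only [h3]
  convert hasSum_fintype (fun _ : {x : Fin n → ℤ // half B x = m} =>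
    Function.Periodic.qParam 1 (τ : ℂ) ^ m) using 1
  rw [Finset.sum_const, Finset.card_univ, nsmul_eq_mul, smul_eq_mul, count]
  congr 2
  rw [← Nat.card_coe_set_eq, ← Nat.card_eq_fintype_card]
  rfl

theorem thetaH_bounded (h : Unimod B B') (he : ∀ x : Fin n → ℤ, (2 : ℤ) ∣ iquad B x) :
    UpperHalfPlane.IsBoundedAtImInfty (thetaH B) :=
  UpperHalfPlane.isBoundedAtImInfty_of_hasSum_qExpansion one_pos (hasSum_thetaH h he)

theorem norm_term (B : Matrix (Fin n) (Fin n) ℤ) (τ : ℂ) (x : Fin n → ℤ) :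
    ‖cexp (-π * (-I * τ) * (iquad B x : ℂ))‖ = Real.exp (-π * τ.im * iquad B x) := by
  rw [Complex.norm_exp]
  congr 1
  have : -π * (-I * τ) * (iquad B x : ℂ) = ((π * iquad B x : ℝ) : ℂ) * (I * τ) := by
    push_cast; ring
  rw [this, Complex.re_ofReal_mul]
  simp
  ring

theorem differentiableOn_theta (h : Unimod B B') :
    DifferentiableOn ℂ (fun τ : ℂ => Theta B (-I * τ)) {z | 0 < z.im} := by
  intro z hz
  have hz' : 0 < z.im := hz
  have hopen : IsOpen {w : ℂ | z.im / 2 < w.im} := isOpen_lt continuous_const Complex.continuous_im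
  have hsum : Summable fun x : Fin n → ℤ => Real.exp (-π * (z.im / 2) * iquad B x) := by
    have := summable_gauss (realMat B) h.posR (c := π * (z.im / 2)) (by positivity) 0
    refine this.congr fun x => ?_
    simp [quad_realMat]
  have hd := differentiableOn_tsum_of_summable_norm
    (F := fun (x : Fin n → ℤ) (τ : ℂ) => cexp (-π * (-I * τ) * (iquad B x : ℂ)))
    (U := {w : ℂ | z.im / 2 < w.im}) hsum
    (fun x => by
      apply Differentiable.differentiableOn
      fun_prop) hopen
    (fun x w hw => by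
      rw [norm_term]
      apply Real.exp_le_exp.2
      have hw' : z.im / 2 < w.im := hw
      have h0 : (0 : ℝ) ≤ iquad B x := by
        by_cases hx : x = 0
        · rw [hx]; simp [iquad]
        · exact_mod_cast (h.pos x hx).le
      have := mul_le_mul_of_nonneg_right hw'.le h0
      nlinarith [Real.pi_pos, mul_le_mul_of_nonneg_left this Real.pi_pos.le])
  have hmem : z ∈ {w : ℂ | z.im / 2 < w.im} := by
    show z.im / 2 < z.im
    linarith
  exact ((hd z hmem).differentiableAt (hopen.mem_nhds hmem)).differentiableWithinAt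

theorem mdiff_thetaH (h : Unimod B B') :
    MDifferentiable (modelWithCornersSelf ℂ ℂ) (modelWithCornersSelf ℂ ℂ) (thetaH B) := by
  rw [UpperHalfPlane.mdifferentiable_iff]
  refine (differentiableOn_theta h).congr fun z hz => ?_
  simp only [Function.comp_apply, thetaH]
  rw [UpperHalfPlane.ofComplex_apply_of_im_pos hz]

theorem thetaH_T (h : Unimod B B') (he : ∀ x : Fin n → ℤ, (2 : ℤ) ∣ iquad B x)
    (τ : UpperHalfPlane) : thetaH B ((1 : ℝ) +ᵥ τ) = thetaH B τ := by
  rw [thetaH, thetaH, Theta, Theta]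
  refine tsum_congr fun x => ?_
  rw [exp_eq_q_pow h he, exp_eq_q_pow h he]
  congr 1
  rw [UpperHalfPlane.coe_vadd, Function.Periodic.qParam, Function.Periodic.qParam]
  rw [show (2 * π * I * (((1 : ℝ) : ℂ) + (τ : ℂ)) / ((1 : ℝ) : ℂ))
    = 2 * π * I * (τ : ℂ) / ((1 : ℝ) : ℂ) + 2 * π * I by push_cast; ring]
  exact Complex.exp_periodic _

theorem thetaH_S {B B' : Matrix (Fin 24) (Fin 24) ℤ} (h : Unimod B B')
    (τ : UpperHalfPlane) :
    Theta B (-I * (-(τ : ℂ))⁻¹) = (τ : ℂ) ^ 12 * thetaH B τ := by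
  have hs := re_neg_I_mul τ
  have h1 := theta_inversion h hs
  have hτ : (τ : ℂ) ≠ 0 := τ.ne_zero
  have h2 : 1 / (-I * (τ : ℂ)) = -I * (-(τ : ℂ))⁻¹ := by
    have hI : (I : ℂ) ≠ 0 := Complex.I_ne_zero
    field_simp
    rw [Complex.I_sq]
  have h3 : ((-I * (τ : ℂ)) ^ (1 / 2 : ℂ)) ^ 24 = (τ : ℂ) ^ 12 := by
    rw [← Complex.cpow_nat_mul]
    rw [show ((24 : ℕ) : ℂ) * (1 / 2 : ℂ) = ((12 : ℕ) : ℂ) by norm_num, Complex.cpow_natCast,
      mul_pow, neg_pow, show (12 : ℕ) = 4 * 3 by norm_num, pow_mul I, Complex.I_pow_four]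
    norm_num
  rw [h2, h3] at h1
  rw [thetaH, h1]
  field_simp

open UpperHalfPlane ModularForm MatrixGroups SlashInvariantForm in
theorem thetaH_slash_T {B B' : Matrix (Fin 24) (Fin 24) ℤ} (h : Unimod B B')
    (he : ∀ x : Fin 24 → ℤ, (2 : ℤ) ∣ iquad B x) :
    (thetaH B) ∣[(12 : ℤ)] ModularGroup.T = thetaH B := by
  ext z
  rw [SL_slash_apply, modular_T_smul, thetaH_T h he]
  have : denom (ModularGroup.T : SL(2, ℤ)) z = 1 := by
    rw [ModularGroup.denom_apply]
    simp [ModularGroup.T]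
  rw [this]
  simp

open UpperHalfPlane ModularForm MatrixGroups SlashInvariantForm in
theorem thetaH_slash_S {B B' : Matrix (Fin 24) (Fin 24) ℤ} (h : Unimod B B') :
    (thetaH B) ∣[(12 : ℤ)] ModularGroup.S = thetaH B := by
  ext z
  rw [SL_slash_apply, UpperHalfPlane.modular_S_smul]
  have h1 : denom (ModularGroup.S : SL(2, ℤ)) z = z := ModularGroup.denom_S z
  rw [h1]
  have h2 : thetaH B (UpperHalfPlane.mk (-z : ℂ)⁻¹ z.im_inv_neg_coe_pos)
      = (z : ℂ) ^ 12 * thetaH B z := thetaH_S h z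
  rw [h2]
  have hz : (z : ℂ) ≠ 0 := z.ne_zero
  rw [_root_.zpow_neg, show ((12 : ℤ)) = ((12 : ℕ) : ℤ) from rfl, _root_.zpow_natCast]
  field_simp

open UpperHalfPlane ModularForm MatrixGroups SlashInvariantForm in
/-- the theta series as a modular form -/
noncomputable def thetaForm {B B' : Matrix (Fin 24) (Fin 24) ℤ} (h : Unimod B B')
    (he : ∀ x : Fin 24 → ℤ, (2 : ℤ) ∣ iquad B x) : ModularForm 𝒮ℒ 12 where
  toFun := thetaH B
  slash_action_eq' A hA := by
    obtain ⟨A, rfl⟩ := hA
    exact slash_action_generators_SL2Z (thetaH_slash_S h) (thetaH_slash_T h he) A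
  holo' := mdiff_thetaH h
  bdd_at_cusps' {c} hc := by
    rw [Subgroup.IsArithmetic.isCusp_iff_isCusp_SL2Z] at hc
    rw [OnePoint.isBoundedAt_iff_forall_SL2Z hc]
    intro γ _
    rw [slash_action_generators_SL2Z (thetaH_slash_S h) (thetaH_slash_T h he)]
    exact thetaH_bounded h he

open UpperHalfPlane ModularForm MatrixGroups SlashInvariantForm in
theorem thetaForm_coeff {B B' : Matrix (Fin 24) (Fin 24) ℤ} (h : Unimod B B')
    (he : ∀ x : Fin 24 → ℤ, (2 : ℤ) ∣ iquad B x) (m : ℕ) :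
    (qExpansion 1 (thetaForm h he)).coeff m = (count B m : ℂ) :=
  (ModularFormClass.qExpansion_coeff_unique (f := thetaForm h he) one_pos
    one_mem_strictPeriods_SL (hasSum_thetaH h he) m).symm

theorem count_eq (h : Unimod B B') (he : ∀ x : Fin n → ℤ, (2 : ℤ) ∣ iquad B x) (m : ℕ) :
    count B m = {x : Fin n → ℤ | x ⬝ᵥ (B *ᵥ x) = 2 * (m : ℤ)}.ncard := by
  rw [count]
  congr 1
  ext x
  have h1 := two_mul_half h he x
  have h2 : iquad B x = x ⬝ᵥ (B *ᵥ x) := rfl
  simp only [Set.mem_ofPred_eq]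
  rw [← h2, ← h1]
  constructor
  · intro h; rw [h]
  · intro h; exact_mod_cast mul_left_cancel₀ two_ne_zero h

theorem count_zero (h : Unimod B B') (he : ∀ x : Fin n → ℤ, (2 : ℤ) ∣ iquad B x) :
    count B 0 = 1 := by
  rw [count_eq h he, Set.ncard_eq_one]
  refine ⟨0, ?_⟩
  ext x
  simp only [Set.mem_ofPred_eq, Set.mem_singleton_iff]
  constructor
  · intro h0
    by_contra hx
    have := h.pos x hx
    rw [iquad, h0] at this
    simp at this
  · rintro rfl
    simp

end Cfsg.Agent.SporadicStructure.ThetaModular
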