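import Mathlib

/-! Modular forms of weight 12 and level one with `q`-expansion `1 + 0 q + ...`.
Used for S1632 (part B). -/

set_option autoImplicit false

namespace Cfsg.Agent.SporadicStructure.Weight12

open UpperHalfPlane ModularForm ModularFormClass MatrixGroups EisensteinSeries

theorem bern4 : bernoulli 4 = -1 / 30 := by decide +kernel

theorem bern6 : bernoulli 6 = 1 / 42 := by decide +kernel

theorem sigma3_two : ArithmeticFunction.sigma 3 2 = 9 := by decide +kernel
theorem sigma3_three : ArithmeticFunction.sigma 3 3 = 28 := by decide +kernel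
theorem sigma3_four : ArithmeticFunction.sigma 3 4 = 73 := by decide +kernel
theorem sigma5_two : ArithmeticFunction.sigma 5 2 = 33 := by decide +kernel
theorem sigma5_three : ArithmeticFunction.sigma 5 3 = 244 := by decide +kernel
theorem sigma5_four : ArithmeticFunction.sigma 5 4 = 1057 := by decide +kernel

theorem E4_0 : (qExpansion 1 E₄).coeff 0 = 1 := E_qExpansion_coeff_zero _ ⟨2, rfl⟩
theorem E4_1 : (qExpansion 1 E₄).coeff 1 = 240 := E₄_qExpansion_coeff_one
theorem E4_2 : (qExpansion 1 E₄).coeff 2 = 2160 := by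
  norm_num [E_qExpansion_coeff _ ⟨2, rfl⟩, bern4, sigma3_two]
theorem E4_3 : (qExpansion 1 E₄).coeff 3 = 6720 := by
  norm_num [E_qExpansion_coeff _ ⟨2, rfl⟩, bern4, sigma3_three]
theorem E4_4 : (qExpansion 1 E₄).coeff 4 = 17520 := by
  norm_num [E_qExpansion_coeff _ ⟨2, rfl⟩, bern4, sigma3_four]

theorem E6_0 : (qExpansion 1 E₆).coeff 0 = 1 := E_qExpansion_coeff_zero _ ⟨3, rfl⟩
theorem E6_1 : (qExpansion 1 E₆).coeff 1 = -504 := E₆_qExpansion_coeff_one
theorem E6_2 : (qExpansion 1 E₆).coeff 2 = -16632 := by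
  norm_num [E_qExpansion_coeff _ ⟨3, rfl⟩, bern6, sigma5_two]
theorem E6_3 : (qExpansion 1 E₆).coeff 3 = -122976 := by
  norm_num [E_qExpansion_coeff _ ⟨3, rfl⟩, bern6, sigma5_three]
theorem E6_4 : (qExpansion 1 E₆).coeff 4 = -532728 := by
  norm_num [E_qExpansion_coeff _ ⟨3, rfl⟩, bern6, sigma5_four]

/-- The form `(7 E₄³ + 5 E₆²) / 12`. -/
noncomputable def G : ModularForm 𝒮ℒ 12 :=
  (7 / 12 : ℂ) • ModularForm.mcast (by decide) (E₄.pow 3) +
    (5 / 12 : ℂ) • ModularForm.mcast (by decide) (E₆.pow 2)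

theorem qExpansion_G : qExpansion 1 G =
    (7 / 12 : ℂ) • (qExpansion 1 E₄ * (qExpansion 1 E₄ * qExpansion 1 E₄)) +
      (5 / 12 : ℂ) • (qExpansion 1 E₆ * qExpansion 1 E₆) := by
  have h4 : qExpansion 1 (ModularForm.mcast (b := 12) (by decide) (E₄.pow 3) :
      ModularForm 𝒮ℒ 12) = qExpansion 1 E₄ ^ 3 := by
    rw [ModularForm.qExpansion_mcast,
      ModularForm.qExpansion_pow one_pos one_mem_strictPeriods_SL]
  have h6 : qExpansion 1 (ModularForm.mcast (b := 12) (by decide) (E₆.pow 2) :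
      ModularForm 𝒮ℒ 12) = qExpansion 1 E₆ ^ 2 := by
    rw [ModularForm.qExpansion_mcast,
      ModularForm.qExpansion_pow one_pos one_mem_strictPeriods_SL]
  rw [G, FunLike.coe_add, ModularForm.qExpansion_add one_pos one_mem_strictPeriods_SL,
    FunLike.coe_smul, FunLike.coe_smul,
    ModularForm.qExpansion_smul one_pos one_mem_strictPeriods_SL,
    ModularForm.qExpansion_smul one_pos one_mem_strictPeriods_SL, h4, h6,
    pow_succ' (qExpansion 1 E₄) 2, pow_two (qExpansion 1 E₄), pow_two (qExpansion 1 E₆)]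

theorem G_0 : (qExpansion 1 G).coeff 0 = 1 := by
  rw [qExpansion_G]
  norm_num [PowerSeries.coeff_smul, PowerSeries.coeff_mul,
    E4_0, E6_0, -PowerSeries.coeff_zero_eq_constantCoeff]

theorem G_1 : (qExpansion 1 G).coeff 1 = 0 := by
  rw [qExpansion_G]
  norm_num [PowerSeries.coeff_smul, PowerSeries.coeff_mul, Finset.Nat.antidiagonal_succ,
    E4_0, E6_0, E4_1, E6_1, -PowerSeries.coeff_zero_eq_constantCoeff]

theorem G_2 : (qExpansion 1 G).coeff 2 = 196560 := by
  rw [qExpansion_G]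
  norm_num [PowerSeries.coeff_smul, PowerSeries.coeff_mul, Finset.Nat.antidiagonal_succ,
    E4_0, E6_0, E4_1, E6_1, E4_2, E6_2, -PowerSeries.coeff_zero_eq_constantCoeff]

theorem G_3 : (qExpansion 1 G).coeff 3 = 16773120 := by
  rw [qExpansion_G]
  norm_num [PowerSeries.coeff_smul, PowerSeries.coeff_mul, Finset.Nat.antidiagonal_succ,
    E4_0, E6_0, E4_1, E6_1, E4_2, E6_2, E4_3, E6_3, -PowerSeries.coeff_zero_eq_constantCoeff]

theorem G_4 : (qExpansion 1 G).coeff 4 = 398034000 := by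
  rw [qExpansion_G]
  norm_num [PowerSeries.coeff_smul, PowerSeries.coeff_mul, Finset.Nat.antidiagonal_succ,
    E4_0, E6_0, E4_1, E6_1, E4_2, E6_2, E4_3, E6_3, E4_4, E6_4,
    -PowerSeries.coeff_zero_eq_constantCoeff]

theorem coeffs_of_weight_twelve (f : ModularForm 𝒮ℒ 12)
    (h0 : (qExpansion 1 f).coeff 0 = 1) (h1 : (qExpansion 1 f).coeff 1 = 0) :
    (qExpansion 1 f).coeff 2 = 196560 ∧ (qExpansion 1 f).coeff 3 = 16773120 ∧
      (qExpansion 1 f).coeff 4 = 398034000 := by
  have hfG : f = G := by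
    have hq : qExpansion 1 (f - G : ModularForm 𝒮ℒ 12) = qExpansion 1 f - qExpansion 1 G := by
      rw [FunLike.coe_sub, ModularForm.qExpansion_sub one_pos one_mem_strictPeriods_SL]
    have hz : ModularForm.mcast (a := 12) (b := ((12 : ℕ) : ℤ)) (by norm_num) (f - G) = 0 := by
      apply sturm_bound_levelOne_nat
      rw [ModularForm.qExpansion_mcast, hq]
      have h2 : ((2 : ℕ) : ℕ∞) ≤ (qExpansion 1 f - qExpansion 1 G).order := by
        apply PowerSeries.nat_le_order
        intro i hi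
        interval_cases i
        · rw [map_sub, h0, G_0, sub_self]
        · rw [map_sub, h1, G_1, sub_self]
      refine lt_of_lt_of_le ?_ h2
      norm_num
    rw [mcast_eq_zero_iff] at hz
    exact sub_eq_zero.1 hz
  rw [hfG]
  exact ⟨G_2, G_3, G_4⟩

end Cfsg.Agent.SporadicStructure.Weight12
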