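import Mathlib
import Cfsg.Prelude.Def_SporadicCombinatorics
import Cfsg.Agent.SporadicA.SteinerCount

set_option autoImplicit false
open scoped Pointwise
open Cfsg

/-! S1638: counting the pairs in an octad with four given points. -/

namespace Cfsg.Agent.SporadicStructure.DuadsCount

open Finset

theorem card_pt : Fintype.card GolayPt = 24 := by decide

/-- The four points `p, q` and `s`. -/
theorem card_four {p q : GolayPt} (hpq : p ≠ q) {s : Finset GolayPt}
    (hs : s.card = 2 ∧ p ∉ s ∧ q ∉ s) : (insert p (insert q s)).card = 4 := by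
  rw [Finset.card_insert_of_notMem, Finset.card_insert_of_notMem hs.2.2, hs.1]
  rw [Finset.mem_insert, not_or]
  exact ⟨hpq, hs.2.1⟩

theorem ncard_five (hSt : IsSteinerSystem 5 8 octads) (F : Finset (Finset GolayPt))
    (hF : ∀ b, b ∈ F ↔ b ∈ octads) (f : Finset GolayPt) (hf : f.card = 4) :
    (F.filter (fun b => f ⊆ b)).card = 5 := by
  have h := Cfsg.Agent.SporadicA.SteinerCount.card_blocks_containing hSt F hF f (by omega)
  rw [hf, card_pt] at h
  norm_num at h
  omega

theorem counts (hSt : IsSteinerSystem 5 8 octads) (p q : GolayPt) (hpq : p ≠ q)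
    (s : Finset GolayPt) (hs : s.card = 2 ∧ p ∉ s ∧ q ∉ s) :
    {t : Finset GolayPt | (t.card = 2 ∧ p ∉ t ∧ q ∉ t) ∧ Disjoint s t ∧
      (∃ o ∈ Cfsg.octads, p ∈ o ∧ q ∈ o ∧ s ∪ t ⊆ o)}.ncard = 30 ∧
    {t : Finset GolayPt | (t.card = 2 ∧ p ∉ t ∧ q ∉ t) ∧ Disjoint s t ∧
      ¬ (∃ o ∈ Cfsg.octads, p ∈ o ∧ q ∈ o ∧ s ∪ t ⊆ o)}.ncard = 160 := by
  classical
  set f : Finset GolayPt := insert p (insert q s) with hfdef
  have hf : f.card = 4 := card_four hpq hs
  have hpf : p ∈ f := by simp [hfdef]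
  have hqf : q ∈ f := by simp [hfdef]
  have hsf : s ⊆ f := by
    intro x hx; simp [hfdef, hx]
  obtain ⟨F, hF⟩ : ∃ F : Finset (Finset GolayPt), ∀ b, b ∈ F ↔ b ∈ octads :=
    ⟨(Set.toFinite octads).toFinset, fun b => by simp⟩
  set G := F.filter (fun b => f ⊆ b) with hG
  have hG5 : G.card = 5 := ncard_five hSt F hF f hf
  -- the pairs disjoint from the four points
  set A : Finset (Finset GolayPt) := fᶜ.powersetCard 2 with hA
  have hAcard : A.card = 190 := by
    rw [hA, Finset.card_powersetCard, Finset.card_compl, card_pt, hf]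
    decide
  have hmemA : ∀ t : Finset GolayPt, t ∈ A ↔ (t.card = 2 ∧ p ∉ t ∧ q ∉ t) ∧ Disjoint s t := by
    intro t
    rw [hA, Finset.mem_powersetCard]
    constructor
    · rintro ⟨h1, h2⟩
      have h3 : ∀ x ∈ f, x ∉ t := fun x hx hxt => by
        have := h1 hxt
        rw [Finset.mem_compl] at this
        exact this hx
      refine ⟨⟨h2, h3 p hpf, h3 q hqf⟩, ?_⟩
      rw [Finset.disjoint_left]
      exact fun x hx => h3 x (hsf hx)
    · rintro ⟨⟨h2, h3, h4⟩, h5⟩
      refine ⟨?_, h2⟩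
      intro x hx
      rw [Finset.mem_compl, hfdef, Finset.mem_insert, Finset.mem_insert, not_or, not_or]
      refine ⟨?_, ?_, ?_⟩
      · rintro rfl; exact h3 hx
      · rintro rfl; exact h4 hx
      · exact fun hxs => (Finset.disjoint_left.1 h5 hxs) hx
  set B : Finset (Finset GolayPt) := G.biUnion (fun o => (o \ f).powersetCard 2) with hB
  have hmemB : ∀ t : Finset GolayPt, t ∈ B ↔ (t.card = 2 ∧ p ∉ t ∧ q ∉ t) ∧ Disjoint s t ∧
      (∃ o ∈ Cfsg.octads, p ∈ o ∧ q ∈ o ∧ s ∪ t ⊆ o) := by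
    intro t
    rw [hB, Finset.mem_biUnion]
    constructor
    · rintro ⟨o, ho, ht⟩
      rw [hG, Finset.mem_filter, hF] at ho
      rw [Finset.mem_powersetCard] at ht
      have htA : t ∈ A := by
        rw [hA, Finset.mem_powersetCard]
        refine ⟨fun x hx => ?_, ht.2⟩
        rw [Finset.mem_compl]
        exact (Finset.mem_sdiff.1 (ht.1 hx)).2
      obtain ⟨h1, h2⟩ := (hmemA t).1 htA
      refine ⟨h1, h2, o, ho.1, ho.2 hpf, ho.2 hqf, ?_⟩
      intro x hx
      rcases Finset.mem_union.1 hx with hx | hx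
      · exact ho.2 (hsf hx)
      · exact (Finset.mem_sdiff.1 (ht.1 hx)).1
    · rintro ⟨h1, h2, o, ho, hpo, hqo, hso⟩
      have htA : t ∈ A := (hmemA t).2 ⟨h1, h2⟩
      rw [hA, Finset.mem_powersetCard] at htA
      refine ⟨o, ?_, ?_⟩
      · rw [hG, Finset.mem_filter, hF]
        refine ⟨ho, ?_⟩
        intro x hx
        rw [hfdef, Finset.mem_insert, Finset.mem_insert] at hx
        rcases hx with rfl | rfl | hx
        · exact hpo
        · exact hqo
        · exact hso (Finset.mem_union_left _ hx)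
      · rw [Finset.mem_powersetCard]
        refine ⟨fun x hx => ?_, h1.1⟩
        rw [Finset.mem_sdiff]
        exact ⟨hso (Finset.mem_union_right _ hx), by simpa using htA.1 hx⟩
  have hBcard : B.card = 30 := by
    rw [hB, Finset.card_biUnion]
    · have : ∀ o ∈ G, ((o \ f).powersetCard 2).card = 6 := by
        intro o ho
        rw [hG, Finset.mem_filter, hF] at ho
        rw [Finset.card_powersetCard, Finset.card_sdiff_of_subset ho.2, hf, hSt.1 o ho.1]
        decide
      rw [Finset.sum_congr rfl this, Finset.sum_const, hG5]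
      rfl
    · intro o ho o' ho' hne
      show Disjoint ((o \ f).powersetCard 2) ((o' \ f).powersetCard 2)
      rw [Finset.mem_coe] at ho ho'
      rw [Finset.disjoint_left]
      intro t ht ht'
      rw [Finset.mem_powersetCard] at ht ht'
      rw [hG, Finset.mem_filter, hF] at ho ho'
      apply hne
      -- a 5-subset of both
      have hsub : f ∪ t ⊆ o ∩ o' := by
        intro x hx
        rw [Finset.mem_inter]
        rcases Finset.mem_union.1 hx with hx | hx
        · exact ⟨ho.2 hx, ho'.2 hx⟩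
        · exact ⟨(Finset.mem_sdiff.1 (ht.1 hx)).1, (Finset.mem_sdiff.1 (ht'.1 hx)).1⟩
      have hft : (f ∪ t).card = 6 := by
        rw [Finset.card_union_of_disjoint, hf, ht.2]
        rw [Finset.disjoint_left]
        intro x hx hxt
        exact (Finset.mem_sdiff.1 (ht.1 hxt)).2 hx
      by_contra hne'
      have := Cfsg.Agent.SporadicA.SteinerCount.card_inter_lt hSt ho.1 ho'.1 hne'
      have h6 := Finset.card_le_card hsub
      omega
  have hBA : B ⊆ A := by
    intro t ht
    obtain ⟨h1, h2, -⟩ := (hmemB t).1 ht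
    exact (hmemA t).2 ⟨h1, h2⟩
  constructor
  · have : {t : Finset GolayPt | (t.card = 2 ∧ p ∉ t ∧ q ∉ t) ∧ Disjoint s t ∧
      (∃ o ∈ Cfsg.octads, p ∈ o ∧ q ∈ o ∧ s ∪ t ⊆ o)} = (B : Set (Finset GolayPt)) := by
      ext t
      rw [Finset.mem_coe, hmemB]
      rfl
    rw [this, Set.ncard_coe_finset, hBcard]
  · have : {t : Finset GolayPt | (t.card = 2 ∧ p ∉ t ∧ q ∉ t) ∧ Disjoint s t ∧
      ¬ (∃ o ∈ Cfsg.octads, p ∈ o ∧ q ∈ o ∧ s ∪ t ⊆ o)} =
        ((A \ B : Finset (Finset GolayPt)) : Set (Finset GolayPt)) := by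
      ext t
      rw [Finset.mem_coe, Finset.mem_sdiff, hmemB, hmemA]
      show ((t.card = 2 ∧ p ∉ t ∧ q ∉ t) ∧ Disjoint s t ∧
        ¬ (∃ o ∈ Cfsg.octads, p ∈ o ∧ q ∈ o ∧ s ∪ t ⊆ o)) ↔ _
      constructor
      · rintro ⟨h1, h2, h3⟩
        exact ⟨⟨h1, h2⟩, fun h => h3 h.2.2⟩
      · rintro ⟨⟨h1, h2⟩, h3⟩
        exact ⟨h1, h2, fun h => h3 ⟨h1, h2, h⟩⟩
    rw [this, Set.ncard_coe_finset, Finset.card_sdiff_of_subset hBA, hAcard, hBcard]

end Cfsg.Agent.SporadicStructure.DuadsCount
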