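import Cfsg.Agent.SporadicStructure.GolayCnt
import Cfsg.Agent.SporadicStructure.DodecadM12

set_option autoImplicit false
open scoped Pointwise
open Cfsg

/-! The stabiliser of a dodecad `d` and a point `x ∈ d` acting on the dodecads through `x`. -/

namespace Cfsg.Agent.SporadicStructure.DodecadRank

open Cfsg.Agent.SporadicStructure.M12Core Cfsg.Agent.SporadicStructure.DodecadM12

/-! ### tuples -/

/-- enumerate a finset of given size -/
theorem exists_enum {s : Finset GolayPt} {n : ℕ} (h : s.card = n) :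
    ∃ a : Fin n → GolayPt, Function.Injective a ∧ ∀ p, p ∈ s ↔ ∃ i, a i = p := by
  refine ⟨fun i => ((Finset.equivFinOfCardEq h).symm i : GolayPt), ?_, ?_⟩
  · intro i j hij
    exact (Finset.equivFinOfCardEq h).symm.injective (Subtype.ext hij)
  · intro p
    constructor
    · intro hp
      exact ⟨Finset.equivFinOfCardEq h ⟨p, hp⟩, by simp⟩
    · rintro ⟨i, rfl⟩
      exact ((Finset.equivFinOfCardEq h).symm i).2

/-- a 5-tuple of distinct points of `s` starting with `x` -/
theorem exists_tuple {s : Finset GolayPt} {x : GolayPt} (hx : x ∈ s) (hs : 5 ≤ s.card) :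
    ∃ a : Fin 5 → GolayPt, Function.Injective a ∧ a 0 = x ∧ ∀ i, a i ∈ s := by
  obtain ⟨t, ht, htc⟩ := Finset.exists_subset_card_eq (s := s.erase x) (n := 4) (by
    rw [Finset.card_erase_of_mem hx]; omega)
  obtain ⟨a, ha, hat⟩ := exists_enum htc
  refine ⟨Fin.cons x a, ?_, rfl, ?_⟩
  · rw [Fin.cons_injective_iff]
    refine ⟨?_, ha⟩
    rintro ⟨i, hi⟩
    have h1 : a i ∈ t := (hat _).2 ⟨i, rfl⟩
    rw [hi] at h1
    exact (Finset.notMem_erase x s) (ht h1)
  · intro i
    refine Fin.cases ?_ (fun j => ?_) i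
    · exact hx
    · exact Finset.mem_of_mem_erase (ht ((hat _).2 ⟨j, rfl⟩))

/-! ### moving subsets of at most four points -/

theorem map_four {d : Finset GolayPt} (hd : d ∈ dodecads) {x : GolayPt} (hx : x ∈ d)
    {A B : Finset GolayPt} (hA : A ⊆ d) (hB : B ⊆ d) (hxA : x ∉ A) (hxB : x ∉ B)
    (hA4 : A.card = 4) (hB4 : B.card = 4) :
    ∃ g : Equiv.Perm GolayPt, g ∈ M24 ∧ g • d = d ∧ g x = x ∧ g • A = B := by
  obtain ⟨a, ha, haA⟩ := exists_enum hA4
  obtain ⟨b, hb, hbB⟩ := exists_enum hB4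
  obtain ⟨g, ⟨hg, hgd, hgi⟩, -⟩ := exists_unique_dodecad_map d d hd hd
    (Fin.cons x a) (Fin.cons x b)
    (by
      rw [Fin.cons_injective_iff]
      exact ⟨fun h => hxA ((haA x).2 h), ha⟩)
    (by
      rw [Fin.cons_injective_iff]
      exact ⟨fun h => hxB ((hbB x).2 h), hb⟩)
    (by
      intro i
      refine Fin.cases hx (fun j => ?_) i
      exact hA ((haA _).2 ⟨j, rfl⟩))
    (by
      intro i
      refine Fin.cases hx (fun j => ?_) i
      exact hB ((hbB _).2 ⟨j, rfl⟩))
  refine ⟨g, hg, hgd, hgi 0, ?_⟩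
  have hgi' : ∀ i : Fin 4, g (a i) = b i := fun i => hgi i.succ
  ext p
  rw [Finset.mem_smul_finset, hbB]
  constructor
  · rintro ⟨q, hq, rfl⟩
    obtain ⟨i, rfl⟩ := (haA q).1 hq
    exact ⟨i, (hgi' i).symm⟩
  · rintro ⟨i, rfl⟩
    exact ⟨a i, (haA _).2 ⟨i, rfl⟩, hgi' i⟩

theorem map_three {d : Finset GolayPt} (hd : d ∈ dodecads) {x : GolayPt} (hx : x ∈ d)
    {A B : Finset GolayPt} (hA : A ⊆ d) (hB : B ⊆ d) (hxA : x ∉ A) (hxB : x ∉ B)
    (hA3 : A.card = 3) (hB3 : B.card = 3) :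
    ∃ g : Equiv.Perm GolayPt, g ∈ M24 ∧ g • d = d ∧ g x = x ∧ g • A = B := by
  have hcard : d.card = 12 := hd.2
  have ext : ∀ A : Finset GolayPt, A ⊆ d → x ∉ A → A.card = 3 →
      ∃ y, y ∈ d ∧ y ∉ A ∧ y ≠ x := by
    intro A hA hxA hA3
    have h1 : (insert x A).card < d.card := by
      rw [Finset.card_insert_of_notMem hxA, hA3, hcard]; norm_num
    obtain ⟨y, hy, hy2⟩ := Finset.exists_mem_notMem_of_card_lt_card h1
    rw [Finset.mem_insert, not_or] at hy2
    exact ⟨y, hy, hy2.2, hy2.1⟩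
  obtain ⟨y, hyd, hyA, hyx⟩ := ext A hA hxA hA3
  obtain ⟨z, hzd, hzB, hzx⟩ := ext B hB hxB hB3
  obtain ⟨a, ha, haA⟩ := exists_enum hA3
  obtain ⟨b, hb, hbB⟩ := exists_enum hB3
  obtain ⟨g, ⟨hg, hgd, hgi⟩, -⟩ := exists_unique_dodecad_map d d hd hd
    (Fin.cons x (Fin.cons y a)) (Fin.cons x (Fin.cons z b))
    (by
      rw [Fin.cons_injective_iff, Fin.cons_injective_iff]
      refine ⟨?_, fun h => hyA ((haA y).2 h), ha⟩
      rintro ⟨i, hi⟩
      revert hi
      refine Fin.cases ?_ (fun j => ?_) i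
      · exact fun h => hyx h
      · exact fun h => hxA ((haA x).2 ⟨j, h⟩))
    (by
      rw [Fin.cons_injective_iff, Fin.cons_injective_iff]
      refine ⟨?_, fun h => hzB ((hbB z).2 h), hb⟩
      rintro ⟨i, hi⟩
      revert hi
      refine Fin.cases ?_ (fun j => ?_) i
      · exact fun h => hzx h
      · exact fun h => hxB ((hbB x).2 ⟨j, h⟩))
    (by
      intro i
      refine Fin.cases hx (fun j => ?_) i
      refine Fin.cases hyd (fun k => ?_) j
      exact hA ((haA _).2 ⟨k, rfl⟩))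
    (by
      intro i
      refine Fin.cases hx (fun j => ?_) i
      refine Fin.cases hzd (fun k => ?_) j
      exact hB ((hbB _).2 ⟨k, rfl⟩))
  refine ⟨g, hg, hgd, hgi 0, ?_⟩
  have hgi' : ∀ i : Fin 3, g (a i) = b i := fun i => hgi i.succ.succ
  ext p
  rw [Finset.mem_smul_finset, hbB]
  constructor
  · rintro ⟨q, hq, rfl⟩
    obtain ⟨i, rfl⟩ := (haA q).1 hq
    exact ⟨i, (hgi' i).symm⟩
  · rintro ⟨i, rfl⟩
    exact ⟨a i, (haA _).2 ⟨i, rfl⟩, hgi' i⟩

/-! ### a dodecad is determined by its intersection of size 4 or 8 with another one -/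

theorem card_pt : Fintype.card GolayPt = 24 := by decide

theorem inter_cases {d d' : Finset GolayPt} (hd : d ∈ dodecads) (hd' : d' ∈ dodecads) :
    (d ∩ d').card = 0 ∨ (d ∩ d').card = 4 ∨ (d ∩ d').card = 6 ∨ (d ∩ d').card = 8 ∨
      (d ∩ d').card = 12 := by
  have h1 := SporadicA.GolayBase.symmDiff_mem_supports hd.1 hd'.1
  have h2 := SporadicA.GolayBase.card_of_mem_supports h1
  have h3 := SporadicA.GolayBase.card_symmDiff_add d d'
  have h4 : d.card = 12 := hd.2
  have h5 : d'.card = 12 := hd'.2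
  omega

theorem unique_of_inter {d d₁ d₂ : Finset GolayPt} (hd : d ∈ dodecads) (h₁ : d₁ ∈ dodecads)
    (h₂ : d₂ ∈ dodecads) (hi : d ∩ d₁ = d ∩ d₂)
    (hc : (d ∩ d₁).card = 4 ∨ (d ∩ d₁).card = 8) : d₁ = d₂ := by
  have e : d.card = 12 := hd.2
  have e1 : d₁.card = 12 := h₁.2
  have e2 : d₂.card = 12 := h₂.2
  set S := symmDiff d₁ d₂ with hS
  have hSm := SporadicA.GolayBase.symmDiff_mem_supports h₁.1 h₂.1
  have hS2 := SporadicA.GolayBase.card_of_mem_supports hSm
  have hS3 := SporadicA.GolayBase.card_symmDiff_add d₁ d₂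
  -- S is disjoint from d
  have hdis : d ∩ S = ∅ := by
    ext p
    rw [Finset.mem_inter, hS, Finset.mem_symmDiff]
    have hp : p ∈ d ∩ d₁ ↔ p ∈ d ∩ d₂ := by rw [hi]
    rw [Finset.mem_inter, Finset.mem_inter] at hp
    constructor
    · rintro ⟨hpd, h | h⟩
      · exact absurd ((hp.1 ⟨hpd, h.1⟩).2) h.2
      · exact absurd ((hp.2 ⟨hpd, h.1⟩).2) h.2
    · intro h; simp at h
  have hT := SporadicA.GolayBase.symmDiff_mem_supports hd.1 hSm
  have hT2 := SporadicA.GolayBase.card_of_mem_supports hT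
  have hT3 := SporadicA.GolayBase.card_symmDiff_add d S
  rw [hdis, Finset.card_empty] at hT3
  rw [← hS] at hS2 hS3 hT2
  -- |S| ≤ 8
  have hle : S.card ≤ 8 := by
    rcases hc with hc | hc
    · -- d₁ ∪ d₂ ⊆ dᶜ ∪ (d ∩ d₁)
      have hsub : d₁ ∪ d₂ ⊆ dᶜ ∪ (d ∩ d₁) := by
        intro p hp
        rw [Finset.mem_union, Finset.mem_compl]
        by_cases hpd : p ∈ d
        · right
          rcases Finset.mem_union.1 hp with h | h
          · exact Finset.mem_inter.2 ⟨hpd, h⟩
          · rw [hi]; exact Finset.mem_inter.2 ⟨hpd, h⟩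
        · exact Or.inl hpd
      have h3 := Finset.card_le_card hsub
      have h4 := Finset.card_union_le dᶜ (d ∩ d₁)
      have h5 : dᶜ.card = 12 := by rw [Finset.card_compl, card_pt, e]
      have h6 := Finset.card_union_add_card_inter d₁ d₂
      omega
    · have hsub : d ∩ d₁ ⊆ d₁ ∩ d₂ := by
        intro p hp
        have hp2 := hp
        rw [hi] at hp2
        exact Finset.mem_inter.2 ⟨(Finset.mem_inter.1 hp).2, (Finset.mem_inter.1 hp2).2⟩
      have h3 := Finset.card_le_card hsub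
      omega
  have h0 : S.card = 0 := by omega
  rw [Finset.card_eq_zero, hS, ← Finset.bot_eq_empty, symmDiff_eq_bot] at h0
  exact h0

/-! ### the twelve dodecads meeting the base dodecad in a 6-set through the base points -/

/-- a dodecad meeting the base dodecad in six points, among them the five base points -/
def e0 : ℕ := 0xe408bf

def E0 : Finset GolayPt := fin e0

/-- elements fixing the base dodecad and the first base point, mapping `e0` to the twelve dodecads
through the base points that meet the base dodecad in six points -/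
def sixTabs : List ℕ := [
  0xbdab49ca307b9ac5a928398a418820, 0xbc605952b67996c6910e1a66a10027,
  0xbd156695714b2af24dc719a5012020, 0xbae322d9544988fac0ec139b340023,
  0xbcdb554a2463a89859e7320ab10023, 0xbd2b0991b2720a98adec11d56180c1,
  0xbc6c5ad1aa31c8894d2e0b17010c0f, 0xbc485aca9063e666d8ee1a14b08809,
  0xbcaabb4e8d718a78a9280be0410183, 0xbb54ba16d133248241c7126b31bc01,
  0xb96d1ad2504a267690ce1bd6a1040c, 0xbc0b28cd4d43c86aad871ba9648022]

theorem sixTabs_good : sixTabs.all (fun t => goodFix [23] t && (act t d0 == d0)) = true := by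
  decide +kernel

theorem six_cover : allWords (fun m => !(m &&& bits baseL == bits baseL) ||
    !(popc m 24 == 12) || !(popc (d0 &&& m) 24 == 6) || sixTabs.any fun t => act t e0 == m)
    basisMasks 0 = true := by
  decide +kernel

theorem exists_six {e : Finset GolayPt} (he : e ∈ dodecads) (hb : ∀ j ∈ baseL, ofPos j ∈ e)
    (h6 : (D0 ∩ e).card = 6) :
    ∃ k : Equiv.Perm GolayPt, k ∈ M24 ∧ k • D0 = D0 ∧ k (base 0) = base 0 ∧ k • E0 = e := by
  have h1 := (mem_supports_iff e).mp he.1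
  have h2 := forall_of_allWords six_cover h1
  have h3 : popc (mask e) 24 = 12 := by rw [← card_fin, fin_mask]; exact he.2
  have h4 : mask e &&& bits baseL = bits baseL := by
    have : fin (mask e &&& bits baseL) = fin (bits baseL) := by
      rw [fin_and, fin_mask, Finset.inter_eq_right]
      intro p hp
      rw [mem_fin_bits] at hp
      have := hb _ hp
      rwa [ofPos_pos] at this
    exact fin_injective (lt_of_le_of_lt Nat.and_le_left (mask_lt e)) (by decide +kernel) this
  have h5 : popc (d0 &&& mask e) 24 = 6 := by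
    rw [← card_fin, fin_and, fin_mask]; exact h6
  simp only [h3, h4, h5, beq_self_eq_true, Bool.not_true, Bool.false_or, List.any_eq_true,
    beq_iff_eq] at h2
  obtain ⟨t, ht, h7⟩ := h2
  have hg := sixTabs_good
  rw [List.all_eq_true] at hg
  have hgt := hg t ht
  rw [Bool.and_eq_true, beq_iff_eq] at hgt
  have hfix := perm_mem_FixL hgt.1
  have hval : valid t = true := by
    have := hgt.1
    rw [goodFix, Bool.and_eq_true] at this
    exact valid_of_good this.1
  refine ⟨perm t, hfix.1, ?_, ?_, ?_⟩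
  · rw [D0, smul_fin hval, hgt.2]
  · exact hfix.2 23 (by simp)
  · rw [E0, smul_fin hval, h7, fin_mask]

theorem map_six {d : Finset GolayPt} (hd : d ∈ dodecads) {x : GolayPt} (hx : x ∈ d)
    {d' : Finset GolayPt} (hd' : d' ∈ dodecads) (hx' : x ∈ d') (h6 : (d ∩ d').card = 6) :
    ∃ g : Equiv.Perm GolayPt, g ∈ M24 ∧ g • D0 = d ∧ g (base 0) = x ∧ g • E0 = d' := by
  obtain ⟨a, ha, ha0, haI⟩ := exists_tuple (s := d ∩ d') (Finset.mem_inter.2 ⟨hx, hx'⟩)
    (by omega)
  obtain ⟨g, hg, hgd, hga⟩ := exists_map_D0 hd a ha (fun i => (Finset.mem_inter.1 (haI i)).1)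
  have he : g⁻¹ • d' ∈ dodecads := smul_mem_dodecads (inv_mem hg) hd'
  have hbase : ∀ i : Fin 5, base i ∈ g⁻¹ • d' := by
    intro i
    rw [Finset.mem_inv_smul_finset_iff, Equiv.Perm.smul_def, hga]
    exact (Finset.mem_inter.1 (haI i)).2
  obtain ⟨k, hk, hkd, hk0, hke⟩ := exists_six he (by
    intro j hj
    simp only [baseL, List.mem_cons, List.not_mem_nil, or_false] at hj
    rcases hj with rfl | rfl | rfl | rfl | rfl
    · exact hbase 0
    · exact hbase 1
    · exact hbase 2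
    · exact hbase 3
    · exact hbase 4) (by
    have : D0 ∩ g⁻¹ • d' = g⁻¹ • (d ∩ d') := by
      rw [Finset.smul_finset_inter, ← hgd, inv_smul_smul]
    rw [this, Finset.card_smul_finset, h6])
  refine ⟨g * k, mul_mem hg hk, ?_, ?_, ?_⟩
  · rw [mul_smul, hkd, hgd]
  · rw [Equiv.Perm.mul_apply, hk0, hga, ha0]
  · rw [mul_smul, hke, smul_inv_smul]

/-! ### transitivity -/

theorem transitive {x : GolayPt} {d : Finset GolayPt} (hd : d ∈ dodecads) (hx : x ∈ d)
    (d' d'' : Finset GolayPt) (hd' : d' ∈ dodecads) (hd'' : d'' ∈ dodecads) (hx' : x ∈ d')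
    (hx'' : x ∈ d'') (h : (d ∩ d').card = (d ∩ d'').card) :
    ∃ g : Equiv.Perm GolayPt, g ∈ M24 ∧ g x = x ∧ g • d = d ∧ g • d' = d'' := by
  have e : d.card = 12 := hd.2
  have e1 : d'.card = 12 := hd'.2
  have e2 : d''.card = 12 := hd''.2
  have key : ∀ g : Equiv.Perm GolayPt, g • d = d → g • (d ∩ d') = d ∩ g • d' := by
    intro g hg
    rw [Finset.smul_finset_inter, hg]
  have fin : ∀ g : Equiv.Perm GolayPt, g ∈ M24 → g • d = d → g • (d ∩ d') = d ∩ d'' →
      ((d ∩ d'').card = 4 ∨ (d ∩ d'').card = 8) → g • d' = d'' := by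
    intro g hg hgd hgi hc
    rw [key g hgd] at hgi
    refine unique_of_inter hd (smul_mem_dodecads hg hd') hd'' hgi ?_
    rw [hgi]
    exact hc
  rcases inter_cases hd hd' with hc | hc | hc | hc | hc
  · exfalso
    rw [Finset.card_eq_zero] at hc
    have : x ∈ d ∩ d' := Finset.mem_inter.2 ⟨hx, hx'⟩
    rw [hc] at this
    simp at this
  · -- 4
    have hxI : x ∈ d ∩ d' := Finset.mem_inter.2 ⟨hx, hx'⟩
    have hxI' : x ∈ d ∩ d'' := Finset.mem_inter.2 ⟨hx, hx''⟩
    obtain ⟨g, hg, hgd, hgx, hgA⟩ := map_three hd hx (A := (d ∩ d').erase x)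
      (B := (d ∩ d'').erase x)
      ((Finset.erase_subset _ _).trans Finset.inter_subset_left)
      ((Finset.erase_subset _ _).trans Finset.inter_subset_left)
      (Finset.notMem_erase _ _) (Finset.notMem_erase _ _)
      (by rw [Finset.card_erase_of_mem hxI, hc])
      (by rw [Finset.card_erase_of_mem hxI', ← h, hc])
    refine ⟨g, hg, hgx, hgd, fin g hg hgd ?_ (Or.inl (by omega))⟩
    rw [← Finset.insert_erase hxI, ← Finset.insert_erase hxI', Finset.smul_finset_insert, hgA,
      Equiv.Perm.smul_def, hgx]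
  · -- 6
    obtain ⟨g, hg, hgD, hg0, hgE⟩ := map_six hd hx hd' hx' hc
    obtain ⟨k, hk, hkD, hk0, hkE⟩ := map_six hd hx hd'' hx'' (by omega)
    refine ⟨k * g⁻¹, mul_mem hk (inv_mem hg), ?_, ?_, ?_⟩
    · rw [Equiv.Perm.mul_apply, (Equiv.Perm.inv_eq_iff_eq (f := g)).2 hg0.symm, hk0]
    · rw [mul_smul, (inv_smul_eq_iff (g := g)).2 hgD.symm, hkD]
    · rw [mul_smul, (inv_smul_eq_iff (g := g)).2 hgE.symm, hkE]
  · -- 8
    have hA : (d \ d').card = 4 := by
      have := Finset.card_sdiff_add_card_inter d d'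
      omega
    have hB : (d \ d'').card = 4 := by
      have := Finset.card_sdiff_add_card_inter d d''
      omega
    obtain ⟨g, hg, hgd, hgx, hgA⟩ := map_four hd hx (A := d \ d') (B := d \ d'')
      Finset.sdiff_subset Finset.sdiff_subset
      (fun h => (Finset.mem_sdiff.1 h).2 hx') (fun h => (Finset.mem_sdiff.1 h).2 hx'') hA hB
    refine ⟨g, hg, hgx, hgd, fin g hg hgd ?_ (Or.inr (by omega))⟩
    have i1 : ∀ t : Finset GolayPt, d ∩ t = d \ (d \ t) := by
      intro t; ext p
      simp only [Finset.mem_inter, Finset.mem_sdiff]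
      tauto
    rw [i1 d', i1 d'', Finset.smul_finset_sdiff, hgA, hgd]
  · -- 12
    have hdd : ∀ t : Finset GolayPt, t.card = 12 → (d ∩ t).card = 12 → t = d := by
      intro t ht hti
      have h1 : d ∩ t = t := Finset.eq_of_subset_of_card_le Finset.inter_subset_right (by omega)
      have h2 : d ∩ t = d := Finset.eq_of_subset_of_card_le Finset.inter_subset_left (by omega)
      exact h1.symm.trans h2
    have := hdd d' e1 hc
    have h3 := hdd d'' e2 (by omega)
    subst this
    subst h3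
    exact ⟨1, one_mem _, rfl, one_smul _ _, one_smul _ _⟩

/-! ### counting -/

theorem pos_eq_idx (p : GolayPt) : pos p = SporadicA.GolayBase.idx p := by
  cases p <;> rfl

theorem fin_eq (m : ℕ) : fin m = SporadicA.GolayBase.fin m := by
  ext p
  rw [mem_fin, SporadicA.GolayBase.mem_fin, pos_eq_idx]

/-- decision procedure on masks -/
def good12 (k m : ℕ) : Bool :=
  (SporadicA.GolayBase.popcount m == 12) && m.testBit 23 &&
    (SporadicA.GolayBase.popcount (d0 &&& m) == k)

theorem base_zero : base 0 = none := rfl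

theorem count_std (k : ℕ) : {d' : Finset GolayPt | d' ∈ dodecads ∧ base 0 ∈ d' ∧
    (D0 ∩ d').card = k}.ncard =
      GolayCnt.cnt 12 0 (fun i => good12 k (SporadicA.GolayBase.enc i)) := by
  rw [← GolayCnt.ncard_supports (fun s => s.card = 12 ∧ base 0 ∈ s ∧ (D0 ∩ s).card = k)
    (good12 k)]
  · congr 1
    ext s
    constructor
    · rintro ⟨h1, h2, h3⟩
      exact ⟨h1.1, h1.2, h2, h3⟩
    · rintro ⟨h1, h2, h3, h4⟩
      exact ⟨⟨h1, h2⟩, h3, h4⟩
  · intro m _
    rw [good12, Bool.and_eq_true, Bool.and_eq_true, beq_iff_eq, beq_iff_eq,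
      ← SporadicA.GolayBase.card_fin, ← SporadicA.GolayBase.card_fin,
      SporadicA.GolayBase.fin_and, ← fin_eq d0, base_zero, SporadicA.GolayBase.mem_fin]
    exact and_assoc

theorem cnt4 : GolayCnt.cnt 12 0 (fun i => good12 4 (SporadicA.GolayBase.enc i)) = 165 := by
  decide +kernel

theorem cnt8 : GolayCnt.cnt 12 0 (fun i => good12 8 (SporadicA.GolayBase.enc i)) = 330 := by
  decide +kernel

theorem cnt6 : GolayCnt.cnt 12 0 (fun i => good12 6 (SporadicA.GolayBase.enc i)) = 792 := by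
  decide +kernel

theorem count_eq {x : GolayPt} {d : Finset GolayPt} (hd : d ∈ dodecads) (hx : x ∈ d) (k : ℕ) :
    {d' : Finset GolayPt | d' ∈ dodecads ∧ x ∈ d' ∧ (d ∩ d').card = k}.ncard =
      GolayCnt.cnt 12 0 (fun i => good12 k (SporadicA.GolayBase.enc i)) := by
  have hd12 : d.card = 12 := hd.2
  obtain ⟨a, ha, ha0, haI⟩ := exists_tuple (s := d) hx (by omega)
  obtain ⟨g, hg, hgd, hga⟩ := exists_map_D0 hd a ha haI
  rw [← count_std k, ← Set.ncard_smul_set g
    {d' : Finset GolayPt | d' ∈ dodecads ∧ base 0 ∈ d' ∧ (D0 ∩ d').card = k}]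
  congr 1
  ext s
  rw [Set.mem_smul_set_iff_inv_smul_mem]
  have hgx : g (base 0) = x := by rw [hga, ha0]
  have h1 : (g⁻¹ • s ∈ dodecads) ↔ s ∈ dodecads := by
    constructor
    · intro h
      have := smul_mem_dodecads hg h
      rwa [smul_inv_smul] at this
    · exact fun h => smul_mem_dodecads (inv_mem hg) h
  have h2 : base 0 ∈ g⁻¹ • s ↔ x ∈ s := by
    rw [Finset.mem_inv_smul_finset_iff, Equiv.Perm.smul_def, hgx]
  have h3 : (D0 ∩ g⁻¹ • s).card = (d ∩ s).card := by
    have : D0 ∩ g⁻¹ • s = g⁻¹ • (d ∩ s) := by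
      rw [Finset.smul_finset_inter, ← hgd, inv_smul_smul]
    rw [this, Finset.card_smul_finset]
  show (s ∈ dodecads ∧ x ∈ s ∧ (d ∩ s).card = k) ↔
    (g⁻¹ • s ∈ dodecads ∧ base 0 ∈ g⁻¹ • s ∧ (D0 ∩ g⁻¹ • s).card = k)
  rw [h1, h2, h3]

end Cfsg.Agent.SporadicStructure.DodecadRank
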