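import Cfsg.Agent.SporadicStructure.LeechPack

/-!
# The orbits of the stabiliser of a pair (u, x) on the 11178 vectors, explicitly

`u = (5, 1^23)`, `x = (-4, 4, 0^22)`.  The elements `ga`, `gb` (coordinate permutations in `M24` fixing
the extra point and 0) and `gt` (a product of a coordinate permutation and two sextet maps) fix `u` and `x`.
The four orbits on the remaining vectors are listed by trees.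
-/

set_option autoImplicit false
set_option maxRecDepth 100000
set_option maxHeartbeats 400000
open Cfsg

namespace Cfsg.Agent.SporadicStructure.Co3Rank5

open Cfsg.Agent.SporadicA Cfsg.Agent.SporadicA.GolayBase Cfsg.Agent.SporadicA.GolayPerm
open Cfsg.Agent.SporadicStructure.LeechPack


/-- Packed permutation. -/
def Pa : ℕ := 983435072843990828779021698901151808

theorem isPerm_a : isPerm Pa = true := by decide +kernel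

theorem isAut_a : isAut Pa = true := by decide +kernel

/-- Positions to gather. -/
def sa : List ℕ := [0, 48, 4, 52, 8, 56, 12, 60, 16, 64, 20, 68, 24, 72, 28, 76, 32, 80, 36, 84, 40, 88, 44, 92]

theorem sa_length : sa.length = 24 := by decide +kernel

theorem sa_spec : ∀ i < 24, sa.getD (papp Pa i) 0 = 4 * i := by decide +kernel

/-- The gathering function, unrolled. -/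
def fa (N : ℕ) : ℕ :=
  (nib 0 N (nib 48 N (nib 4 N (nib 52 N (nib 8 N (nib 56 N (nib 12 N (nib 60 N (nib 16 N (nib 64 N (nib 20 N (nib 68 N (nib 24 N (nib 72 N (nib 28 N (nib 76 N (nib 32 N (nib 80 N (nib 36 N (nib 84 N (nib 40 N (nib 88 N (nib 44 N (nib 92 N 0))))))))))))))))))))))))

theorem fa_eq (N : ℕ) : fa N = gat sa N := by
  simp only [fa, sa, gat_cons_nib, gat_nil]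

/-- Packed permutation. -/
def Pb : ℕ := 967903890813354716348503051930355840

theorem isPerm_b : isPerm Pb = true := by decide +kernel

theorem isAut_b : isAut Pb = true := by decide +kernel

/-- Positions to gather. -/
def sb : List ℕ := [0, 36, 24, 20, 4, 12, 32, 28, 72, 88, 40, 52, 56, 68, 60, 64, 48, 76, 8, 44, 84, 80, 16, 92]

theorem sb_length : sb.length = 24 := by decide +kernel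

theorem sb_spec : ∀ i < 24, sb.getD (papp Pb i) 0 = 4 * i := by decide +kernel

/-- The gathering function, unrolled. -/
def fb (N : ℕ) : ℕ :=
  (nib 0 N (nib 36 N (nib 24 N (nib 20 N (nib 4 N (nib 12 N (nib 32 N (nib 28 N (nib 72 N (nib 88 N (nib 40 N (nib 52 N (nib 56 N (nib 68 N (nib 60 N (nib 64 N (nib 48 N (nib 76 N (nib 8 N (nib 44 N (nib 84 N (nib 80 N (nib 16 N (nib 92 N 0))))))))))))))))))))))))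

theorem fb_eq (N : ℕ) : fb N = gat sb N := by
  simp only [fb, sb, gat_cons_nib, gat_nil]

/-- Packed permutation. -/
def Pi : ℕ := 1795248432537898728475572672376535

theorem isPerm_i : isPerm Pi = true := by decide +kernel

theorem isAut_i : isAut Pi = true := by decide +kernel

/-- Positions to gather. -/
def si : List ℕ := [92, 88, 44, 60, 68, 36, 76, 52, 80, 20, 64, 8, 84, 28, 72, 12, 40, 16, 56, 24, 32, 48, 4, 0]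

theorem si_length : si.length = 24 := by decide +kernel

theorem si_spec : ∀ i < 24, si.getD (papp Pi i) 0 = 4 * i := by decide +kernel

/-- The gathering function, unrolled. -/
def fi (N : ℕ) : ℕ :=
  (nib 92 N (nib 88 N (nib 44 N (nib 60 N (nib 68 N (nib 36 N (nib 76 N (nib 52 N (nib 80 N (nib 20 N (nib 64 N (nib 8 N (nib 84 N (nib 28 N (nib 72 N (nib 12 N (nib 40 N (nib 16 N (nib 56 N (nib 24 N (nib 32 N (nib 48 N (nib 4 N (nib 0 N 0))))))))))))))))))))))))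

theorem fi_eq (N : ℕ) : fi N = gat si N := by
  simp only [fi, si, gat_cons_nib, gat_nil]

/-- Colours of a sextet. -/
def T1 (p : GolayPt) : Fin 6 := Fin.ofNat 6 ((112314239460565491717 >>> (3 * idx p)) % 8)

/-- Colours of a sextet. -/
def T2 (p : GolayPt) : Fin 6 := Fin.ofNat 6 ((3214717359417103126528 >>> (3 * idx p)) % 8)

theorem isSextet_of {T : GolayPt → Fin 6} (h1 : ∀ k, (Xi.fib T k).card = 4)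
    (h2 : ∀ k l : Fin 6, k ≠ l → isCode (maskOf (Xi.fib T k ∪ Xi.fib T l)) = true) : Xi.IsSextet T :=
  ⟨h1, fun k l hkl => (mem_supports_iff _).2 (h2 k l hkl)⟩

theorem hT1 : Xi.IsSextet T1 := isSextet_of (by decide +kernel) (by decide +kernel)

theorem hT2 : Xi.IsSextet T2 := isSextet_of (by decide +kernel) (by decide +kernel)

/-- The first permutation. -/
noncomputable def ga : ↥Co0 := Co0Basic.permCo0 (permOf Pa isPerm_a) (permOf_mem_M24 isPerm_a isAut_a)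

/-- The second permutation. -/
noncomputable def gb : ↥Co0 := Co0Basic.permCo0 (permOf Pb isPerm_b) (permOf_mem_M24 isPerm_b isAut_b)

/-- The element which is not a coordinate permutation. -/
noncomputable def gt : ↥Co0 := Co0Basic.permCo0 (permOf Pi isPerm_i) (permOf_mem_M24 isPerm_i isAut_i) *
  (Xi.xiCo0 T2 hT2 * Xi.xiCo0 T1 hT1)

theorem perm_smul {P : ℕ} (hP : isPerm P = true) (hA : isAut P = true) {s : List ℕ}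
    (hs : s.length = 24) (hc : ∀ i < 24, s.getD (papp P i) 0 = 4 * i) {v : ↥leechLattice} {N : ℕ}
    (hv : (v : GolayPt → ℤ) = dec N) :
    ((Co0Basic.permCo0 (permOf P hP) (permOf_mem_M24 hP hA) • v : ↥leechLattice) : GolayPt → ℤ)
      = dec (gat s N) := by
  funext p
  rw [dec_gat hP hs hc, ← hv]
  exact Co0Basic.permCo0_apply _ _ v p

theorem ga_smul {v : ↥leechLattice} {N : ℕ} (hv : (v : GolayPt → ℤ) = dec N) :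
    ((ga • v : ↥leechLattice) : GolayPt → ℤ) = dec (fa N) := by
  rw [fa_eq]
  exact perm_smul isPerm_a isAut_a sa_length sa_spec hv

theorem gb_smul {v : ↥leechLattice} {N : ℕ} (hv : (v : GolayPt → ℤ) = dec N) :
    ((gb • v : ↥leechLattice) : GolayPt → ℤ) = dec (fb N) := by
  rw [fb_eq]
  exact perm_smul isPerm_b isAut_b sb_length sb_spec hv

/-- Check that `gt` maps the vector packed in `N` to the one packed in `N'`, through `M1` and `M2`. -/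
def TChk (N M1 M2 N' : ℕ) : Prop :=
  (∀ p, Xi.xiFun T1 (dec N) p = dec M1 p) ∧ (∀ p, Xi.xiFun T2 (dec M1) p = dec M2 p) ∧ fi M2 = N'

theorem gt_smul {v : ↥leechLattice} {N M1 M2 N' : ℕ} (h : TChk N M1 M2 N')
    (hv : (v : GolayPt → ℤ) = dec N) :
    ((gt • v : ↥leechLattice) : GolayPt → ℤ) = dec N' := by
  obtain ⟨h1, h2, h3⟩ := h
  rw [← h3, fi_eq]
  unfold gt
  rw [mul_smul, mul_smul]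
  refine perm_smul isPerm_i isAut_i si_length si_spec ?_
  rw [Xi.xiCo0_smul, Xi.xiCo0_smul, hv, ← funext h2]
  rw [funext h1]

theorem mem_of (N : ℕ) (m : ℤ) (h1 : ∀ p, (dec N p - m) % 2 = 0)
    (h2 : (∑ p, (dec N p - m) / 2 - 2 * m) % 4 = 0)
    (h3 : isCode (maskW (LeechBase.red (fun p => (dec N p - m) / 2))) = true) :
    dec N ∈ leechLattice := by
  rw [LeechBase.mem_leech_iff]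
  refine ⟨m, fun p => (dec N p - m) / 2, (mem_golayCode_iff _).2 h3, ?_, fun p => ?_⟩
  · show (∑ p, (dec N p - m) / 2) % 4 = (2 * m) % 4
    omega
  · have := h1 p
    show dec N p = m + 2 * ((dec N p - m) / 2)
    omega

/-- Packed `(5, 1^23)`. -/
def U : ℕ := 67343938137124686954512357785

theorem U_mem : dec U ∈ leechLattice :=
  mem_of _ 1 (by decide +kernel) (by decide +kernel) (by decide +kernel)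

/-- Packed `(-4, 4, 0^22)`. -/
def X : ℕ := 22447979379041562318170785932

theorem X_mem : dec X ∈ leechLattice :=
  mem_of _ 0 (by decide +kernel) (by decide +kernel) (by decide +kernel)

theorem chkU : TChk U 47536897508558602556126352729 47536897508558602556126370205 U :=
  ⟨by decide +kernel, by decide +kernel, by decide +kernel⟩

theorem chkX : TChk X 32351500283764530064147393190 62062060636173731114942761092 X :=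
  ⟨by decide +kernel, by decide +kernel, by decide +kernel⟩

/-- The vector `u`. -/
def u0 : ↥leechLattice := ⟨dec U, U_mem⟩

/-- The vector `x`. -/
def x0 : ↥leechLattice := ⟨dec X, X_mem⟩

theorem faU : fa U = U := by decide +kernel

theorem fbU : fb U = U := by decide +kernel

theorem faX : fa X = X := by decide +kernel

theorem fbX : fb X = X := by decide +kernel

theorem ga_u : ga • u0 = u0 := Subtype.ext ((ga_smul rfl).trans (by rw [faU]; rfl))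

theorem gb_u : gb • u0 = u0 := Subtype.ext ((gb_smul rfl).trans (by rw [fbU]; rfl))

theorem ga_x : ga • x0 = x0 := Subtype.ext ((ga_smul rfl).trans (by rw [faX]; rfl))

theorem gb_x : gb • x0 = x0 := Subtype.ext ((gb_smul rfl).trans (by rw [fbX]; rfl))

theorem gt_u : gt • u0 = u0 := Subtype.ext (gt_smul chkU rfl)

theorem gt_x : gt • x0 = x0 := Subtype.ext (gt_smul chkX rfl)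

/-- `N` packs a vector in the orbit of `y` under the stabiliser of `u` and `x`. -/
def Reach (y : ↥leechLattice) (N : ℕ) : Prop :=
  N < 16 ^ 24 ∧ ∃ g : ↥Co0, g • u0 = u0 ∧ g • x0 = x0 ∧
    ((g • y : ↥leechLattice) : GolayPt → ℤ) = dec N

theorem Reach.a {y : ↥leechLattice} {N : ℕ} (h : Reach y N) : Reach y (fa N) := by
  obtain ⟨-, g, h1, h2, h3⟩ := h
  refine ⟨by rw [fa_eq, ← sa_length]; exact gat_lt _ _, ga * g, ?_, ?_, ?_⟩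
  · rw [mul_smul, h1, ga_u]
  · rw [mul_smul, h2, ga_x]
  · rw [mul_smul]; exact ga_smul h3

theorem Reach.b {y : ↥leechLattice} {N : ℕ} (h : Reach y N) : Reach y (fb N) := by
  obtain ⟨-, g, h1, h2, h3⟩ := h
  refine ⟨by rw [fb_eq, ← sb_length]; exact gat_lt _ _, gb * g, ?_, ?_, ?_⟩
  · rw [mul_smul, h1, gb_u]
  · rw [mul_smul, h2, gb_x]
  · rw [mul_smul]; exact gb_smul h3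

theorem Reach.t {y : ↥leechLattice} {N M1 M2 N' : ℕ} (h : Reach y N) (hc : TChk N M1 M2 N') :
    Reach y N' := by
  obtain ⟨-, g, h1, h2, h3⟩ := h
  refine ⟨?_, gt * g, ?_, ?_, ?_⟩
  · have := hc.2.2
    rw [← this]
    rw [fi_eq, ← si_length]; exact gat_lt _ _
  · rw [mul_smul, h1, gt_u]
  · rw [mul_smul, h2, gt_x]
  · rw [mul_smul]; exact gt_smul hc h3

/-- Packed root. -/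
def RA0 : ℕ := 37011828760217810088175826805

/-- Packed root. -/
def RA1 : ℕ := 41636049948765025089125648006

theorem RA0_mem : dec RA0 ∈ leechLattice :=
  mem_of _ 1 (by decide +kernel) (by decide +kernel) (by decide +kernel)

theorem chkA1 : TChk RA0 46915348484060926740585224603 32312814030203410852958725736 RA1 :=
  ⟨by decide +kernel, by decide +kernel, by decide +kernel⟩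

/-- Tree. -/
def TA0 : Tr := (Tr.N 0 (Tr.N 2 Tr.L (Tr.N 4 Tr.L (Tr.N 7 Tr.L Tr.L))) (Tr.N 1 (Tr.N 3 Tr.L (Tr.N 4 Tr.L (Tr.N 6 Tr.L Tr.L))) (Tr.N 2 Tr.L (Tr.N 4 (Tr.N 4 Tr.L Tr.L) (Tr.N 5 Tr.L (Tr.N 6 Tr.L (Tr.N 8 Tr.L (Tr.N 10 Tr.L Tr.L))))))))

/-- Tree. -/
def TA1 : Tr := (Tr.N 0 (Tr.N 0 Tr.L (Tr.N 2 Tr.L (Tr.N 5 Tr.L (Tr.N 6 Tr.L Tr.L)))) (Tr.N 2 (Tr.N 0 Tr.L Tr.L) (Tr.N 3 Tr.L (Tr.N 4 (Tr.N 1 Tr.L Tr.L) (Tr.N 5 Tr.L (Tr.N 7 Tr.L (Tr.N 8 Tr.L (Tr.N 9 Tr.L (Tr.N 10 Tr.L Tr.L)))))))))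

/-- The list of the packed vectors of the orbit. -/
noncomputable def LA : List ℕ := (cyc fa 11 RA0 (kids fa fb TA0 RA0 (cyc fa 11 RA1 (kids fa fb TA1 RA1 []))))

/-- The first vector of the orbit. -/
def yA : ↥leechLattice := ⟨dec RA0, RA0_mem⟩

theorem RA0_reach : Reach yA RA0 := ⟨by decide +kernel, 1, one_smul _ _, one_smul _ _, by rw [one_smul]; rfl⟩

theorem RA1_reach : Reach yA RA1 := RA0_reach.t chkA1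

theorem LA_reach : ∀ N ∈ LA, Reach yA N :=
  (cyc_spec (fun _ h => Reach.a h) 11 _ _ RA0_reach (kids_spec (fun _ h => Reach.a h) (fun _ h => Reach.b h) _ _ _ RA0_reach (cyc_spec (fun _ h => Reach.a h) 11 _ _ RA1_reach (kids_spec (fun _ h => Reach.a h) (fun _ h => Reach.b h) _ _ _ RA1_reach (fun _ hw => absurd hw List.not_mem_nil)))))

theorem LA_length : len LA = 352 := by decide +kernel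

theorem LA_nodupB : nodupB 2147483647 LA = true := by decide +kernel

/-- Packed root. -/
def RB0 : ℕ := 32312662951369484554623026794

/-- Packed root. -/
def RB1 : ℕ := 27110735154172845311246563193

/-- Packed root. -/
def RB2 : ℕ := 22447979379041562318174980232

theorem RB0_mem : dec RB0 ∈ leechLattice :=
  mem_of _ 0 (by decide +kernel) (by decide +kernel) (by decide +kernel)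

theorem chkB1 : TChk RB0 46915509600373587334242351511 46879081299921948385553651573 RB1 :=
  ⟨by decide +kernel, by decide +kernel, by decide +kernel⟩

theorem chkB2 : TChk RB1 42873990027250371900973034150 42255020007607646991434680452 RB2 :=
  ⟨by decide +kernel, by decide +kernel, by decide +kernel⟩

/-- Tree. -/
def TB0 : Tr := (Tr.N 0 (Tr.N 0 Tr.L (Tr.N 2 Tr.L (Tr.N 3 Tr.L (Tr.N 5 Tr.L (Tr.N 6 Tr.L (Tr.N 7 Tr.L (Tr.N 8 Tr.L Tr.L))))))) (Tr.N 1 (Tr.N 0 Tr.L (Tr.N 1 Tr.L (Tr.N 3 Tr.L (Tr.N 4 Tr.L (Tr.N 5 Tr.L (Tr.N 6 Tr.L Tr.L)))))) (Tr.N 2 (Tr.N 0 Tr.L (Tr.N 1 Tr.L (Tr.N 6 Tr.L (Tr.N 10 Tr.L Tr.L)))) (Tr.N 3 (Tr.N 1 Tr.L Tr.L) (Tr.N 4 (Tr.N 0 Tr.L (Tr.N 1 Tr.L (Tr.N 2 Tr.L (Tr.N 3 Tr.L Tr.L)))) (Tr.N 5 (Tr.N 6 Tr.L Tr.L) (Tr.N 6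 (Tr.N 0 Tr.L (Tr.N 1 Tr.L (Tr.N 6 Tr.L Tr.L))) (Tr.N 7 (Tr.N 0 Tr.L (Tr.N 5 Tr.L Tr.L)) (Tr.N 8 Tr.L (Tr.N 9 (Tr.N 4 Tr.L Tr.L) (Tr.N 10 (Tr.N 6 Tr.L Tr.L) Tr.L)))))))))))

/-- Tree. -/
def TB1 : Tr := (Tr.N 0 (Tr.N 1 (Tr.N 5 Tr.L (Tr.N 8 Tr.L (Tr.N 9 Tr.L Tr.L))) (Tr.N 3 (Tr.N 5 Tr.L (Tr.N 6 Tr.L Tr.L)) (Tr.N 6 (Tr.N 1 Tr.L Tr.L) (Tr.N 7 Tr.L (Tr.N 9 Tr.L (Tr.N 10 Tr.L Tr.L)))))) (Tr.N 1 (Tr.N 0 Tr.L (Tr.N 1 Tr.L (Tr.N 2 Tr.L (Tr.N 5 Tr.L (Tr.N 6 Tr.L (Tr.N 7 Tr.L (Tr.N 9 Tr.L Tr.L))))))) (Tr.N 2 (Tr.N 0 Tr.L (Tr.N 1 Tr.L (Tr.N 4 Tr.L (Tr.N 6 Tr.L (Tr.N 7 Tr.L (Tr.N 10 Tr.L Tr.L)))))) (Tr.N 3 (Tr.N 0 Tr.L (Tr.N 3 Tr.L (Tr.N 8 Tr.L Tr.L))) (Tr.N 4 (Tr.N 0 Tr.L (Tr.N 3 Tr.L (Tr.N 8 Tr.L Tr.L))) (Tr.N 5 (Tr.N 7 Tr.L (Tr.N 8 Tr.L (Tr.N 10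 Tr.L Tr.L))) (Tr.N 6 (Tr.N 1 Tr.L (Tr.N 2 Tr.L (Tr.N 3 Tr.L Tr.L))) (Tr.N 7 (Tr.N 1 Tr.L (Tr.N 8 Tr.L (Tr.N 10 Tr.L Tr.L))) (Tr.N 8 (Tr.N 4 Tr.L (Tr.N 5 Tr.L Tr.L)) (Tr.N 10 (Tr.N 0 Tr.L (Tr.N 6 Tr.L (Tr.N 10 Tr.L Tr.L))) Tr.L))))))))))

/-- Tree. -/
def TB2 : Tr := (Tr.N 0 Tr.L Tr.L)

/-- The list of the packed vectors of the orbit. -/
noncomputable def LB : List ℕ := (cyc fa 11 RB0 (kids fa fb TB0 RB0 (cyc fa 11 RB1 (kids fa fb TB1 RB1 (cyc fa 11 RB2 (kids fa fb TB2 RB2 []))))))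

/-- The first vector of the orbit. -/
def yB : ↥leechLattice := ⟨dec RB0, RB0_mem⟩

theorem RB0_reach : Reach yB RB0 := ⟨by decide +kernel, 1, one_smul _ _, one_smul _ _, by rw [one_smul]; rfl⟩

theorem RB1_reach : Reach yB RB1 := RB0_reach.t chkB1

theorem RB2_reach : Reach yB RB2 := RB1_reach.t chkB2

theorem LB_reach : ∀ N ∈ LB, Reach yB N :=
  (cyc_spec (fun _ h => Reach.a h) 11 _ _ RB0_reach (kids_spec (fun _ h => Reach.a h) (fun _ h => Reach.b h) _ _ _ RB0_reach (cyc_spec (fun _ h => Reach.a h) 11 _ _ RB1_reach (kids_spec (fun _ h => Reach.a h) (fun _ h => Reach.b h) _ _ _ RB1_reach (cyc_spec (fun _ h => Reach.a h) 11 _ _ RB2_reach (kids_spec (fun _ h => Reach.a h) (fun _ h => Reach.b h) _ _ _ RB2_reach (fun _ hw => absurd hw List.not_mem_nil)))))))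

theorem LB_length : len LB = 1100 := by decide +kernel

theorem LB_nodupB : nodupB 2147483647 LB = true := by decide +kernel

/-- Packed root. -/
def RC0 : ℕ := 37014397102556885443753244535

/-- Packed root. -/
def RC1 : ℕ := 32310396215457704925865748614

/-- Packed root. -/
def RC2 : ℕ := 41635889427504503826762066056

theorem RC0_mem : dec RC0 ∈ leechLattice :=
  mem_of _ 1 (by decide +kernel) (by decide +kernel) (by decide +kernel)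

theorem chkC1 : TChk RC0 47495632875179673694038890903 32351499658727389358799227014 RC1 :=
  ⟨by decide +kernel, by decide +kernel, by decide +kernel⟩

theorem chkC2 : TChk RC1 31732529636788391039531001994 42254868299134426194442225256 RC2 :=
  ⟨by decide +kernel, by decide +kernel, by decide +kernel⟩

/-- Tree. -/
def TC0 : Tr := (Tr.N 0 (Tr.N 0 (Tr.N 0 Tr.L (Tr.N 1 Tr.L (Tr.N 2 Tr.L (Tr.N 3 Tr.L (Tr.N 4 Tr.L (Tr.N 5 Tr.L (Tr.N 10 Tr.L Tr.L))))))) (Tr.N 1 (Tr.N 2 Tr.L (Tr.N 4 Tr.L (Tr.N 5 Tr.L (Tr.N 7 Tr.L (Tr.N 9 Tr.L (Tr.N 10 Tr.L Tr.L)))))) (Tr.N 2 (Tr.N 0 Tr.L (Tr.N 2 Tr.L (Tr.N 9 Tr.L (Tr.N 10 Tr.L Tr.L)))) (Tr.N 3 (Tr.N 0 Tr.L (Tr.N 2 Tr.L (Tr.N 3 Tr.L (Tr.N 7 Tr.L (Tr.N 8 Tr.L (Tr.N 9 Tr.L Tr.L)))))) (Tr.N 4 (Tr.N 2 Tr.L (Tr.N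 3 Tr.L (Tr.N 4 Tr.L (Tr.N 8 Tr.L (Tr.N 9 Tr.L Tr.L))))) (Tr.N 5 (Tr.N 0 Tr.L (Tr.N 2 Tr.L (Tr.N 3 Tr.L (Tr.N 4 Tr.L (Tr.N 7 Tr.L (Tr.N 8 Tr.L (Tr.N 9 Tr.L (Tr.N 10 Tr.L Tr.L)))))))) (Tr.N 6 (Tr.N 1 Tr.L (Tr.N 3 Tr.L (Tr.N 5 Tr.L (Tr.N 9 Tr.L Tr.L)))) (Tr.N 8 (Tr.N 0 Tr.L (Tr.N 1 Tr.L (Tr.N 2 Tr.L (Tr.N 4 Tr.L (Tr.N 5 Tr.L (Tr.N 6 Tr.L (Tr.N 7 Tr.L (Tr.N 9 Tr.L Tr.L)))))))) (Tr.N 9 (Tr.N 1 Tr.L (Tr.N 2 Tr.L (Tr.N 4 Tr.L (Tr.N 6 Tr.L (Tr.N 8 Tr.L Tr.L))))) (Tr.N 10 (Tr.N 0 Tr.L (Tr.N 2 Tr.L (Tr.N 4 Tr.L (Tr.N 5 Tr.L (Tr.N 6 Tr.L Tr.L))))) Tr.L)))))))))) (Tr.N 1 (Tr.N 0 (Tr.N 3 Tr.L (Tr.N 5 Tr.L (Tr.N 6 Tr.L (Tr.N 8 Tr.L (Tr.N 10 Tr.L Tr.L))))) (Tr.N 1 (Tr.N 1 Tr.L (Tr.N 3 Tr.L (Tr.N 7 Tr.L (Tr.N 9 Tr.L Tr.L)))) (Tr.N 2 (Tr.N 9 Tr.L Tr.L)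 (Tr.N 3 (Tr.N 0 Tr.L (Tr.N 5 Tr.L (Tr.N 7 Tr.L (Tr.N 9 Tr.L Tr.L)))) (Tr.N 4 (Tr.N 1 Tr.L (Tr.N 4 Tr.L (Tr.N 5 Tr.L (Tr.N 6 Tr.L (Tr.N 9 Tr.L Tr.L))))) (Tr.N 6 (Tr.N 7 Tr.L (Tr.N 10 Tr.L Tr.L)) (Tr.N 7 (Tr.N 1 Tr.L (Tr.N 9 Tr.L Tr.L)) (Tr.N 8 (Tr.N 0 Tr.L (Tr.N 1 Tr.L (Tr.N 2 Tr.L (Tr.N 7 Tr.L (Tr.N 9 Tr.L Tr.L))))) (Tr.N 9 (Tr.N 1 Tr.L (Tr.N 3 Tr.L (Tr.N 4 Tr.L Tr.L))) (Tr.N 10 (Tr.N 0 Tr.L (Tr.N 4 Tr.L Tr.L)) Tr.L)))))))))) (Tr.N 2 (Tr.N 1 (Tr.N 0 Tr.L (Tr.N 10 Tr.L Tr.L)) (Tr.N 2 (Tr.N 0 Tr.L (Tr.N 4 Tr.L (Tr.N 8 Tr.L (Tr.N 10 Tr.L Tr.L)))) (Tr.N 4 (Tr.N 1 Tr.L (Tr.N 3 Tr.L (Tr.N 4 Tr.L (Tr.N 8 Tr.L Tr.L)))) (Tr.N 5 (Tr.N 3 Tr.L (Tr.N 5 Tr.L (Tr.N 8 Tr.L Tr.L))) (Tr.N 6 (Tr.N 9 Tr.L Tr.L) (Tr.N 7 (Tr.N 4 Tr.L (Tr.N 9 Tr.L Tr.L)) (Tr.N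 9 (Tr.N 0 Tr.L (Tr.N 1 Tr.L (Tr.N 8 Tr.L Tr.L))) (Tr.N 10 (Tr.N 2 Tr.L Tr.L) Tr.L)))))))) (Tr.N 3 (Tr.N 0 (Tr.N 6 Tr.L (Tr.N 8 Tr.L Tr.L)) (Tr.N 1 Tr.L (Tr.N 2 (Tr.N 6 Tr.L (Tr.N 8 Tr.L (Tr.N 10 Tr.L Tr.L))) (Tr.N 3 (Tr.N 7 Tr.L (Tr.N 8 Tr.L (Tr.N 9 Tr.L Tr.L))) (Tr.N 4 (Tr.N 0 Tr.L Tr.L) (Tr.N 5 (Tr.N 2 Tr.L (Tr.N 5 Tr.L (Tr.N 9 Tr.L Tr.L))) (Tr.N 7 (Tr.N 2 Tr.L Tr.L) (Tr.N 8 Tr.L (Tr.N 9 (Tr.N 0 Tr.L (Tr.N 7 Tr.L Tr.L)) (Tr.N 10 (Tr.N 7 Tr.L Tr.L) Tr.L)))))))))) (Tr.N 4 (Tr.N 0 (Tr.N 2 Tr.L (Tr.N 5 Tr.L Tr.L)) (Tr.N 1 (Tr.N 0 Tr.L Tr.L) (Tr.N 2 (Tr.N 3 Tr.L Tr.L) (Tr.N 3 Tr.L (Tr.N 4 Tr.L (Tr.N 5 (Tr.N 1 Tr.L Tr.L) (Tr.N 6 Tr.L (Tr.N 7 Tr.L (Tr.N 10 (Tr.N 6 Tr.L (Tr.N 7 Tr.L (Tr.N 10 Tr.L Tr.L))) Tr.L))))))))) (Tr.N 5 (Tr.N 0 (Tr.N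 3 Tr.L Tr.L) (Tr.N 1 Tr.L (Tr.N 2 Tr.L (Tr.N 4 (Tr.N 7 Tr.L Tr.L) (Tr.N 5 Tr.L (Tr.N 6 Tr.L (Tr.N 7 Tr.L (Tr.N 8 Tr.L (Tr.N 9 Tr.L (Tr.N 10 Tr.L Tr.L)))))))))) (Tr.N 6 (Tr.N 0 Tr.L (Tr.N 2 (Tr.N 6 Tr.L Tr.L) (Tr.N 3 Tr.L (Tr.N 4 Tr.L (Tr.N 5 Tr.L (Tr.N 6 Tr.L (Tr.N 7 Tr.L (Tr.N 8 Tr.L (Tr.N 9 Tr.L Tr.L))))))))) (Tr.N 7 (Tr.N 0 Tr.L (Tr.N 1 Tr.L (Tr.N 2 Tr.L (Tr.N 3 Tr.L (Tr.N 4 Tr.L (Tr.N 8 Tr.L (Tr.N 9 Tr.L (Tr.N 10 Tr.L Tr.L)))))))) (Tr.N 8 (Tr.N 0 Tr.L (Tr.N 1 Tr.L (Tr.N 4 Tr.L (Tr.N 8 Tr.L Tr.L)))) (Tr.N 9 (Tr.N 0 Tr.L (Tr.N 1 Tr.L (Tr.N 2 Tr.L (Tr.N 3 Tr.L (Tr.N 5 Tr.L (Tr.N 6 Tr.L (Tr.N 7 Tr.L (Tr.N 9 Tr.L (Tr.N 10 Tr.L Tr.L))))))))) (Tr.N 10 (Tr.N 1 Tr.L (Tr.N 2 Tr.L (Tr.N 8 Tr.L Tr.L))) Tr.L)))))))))))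

/-- Tree. -/
def TC1 : Tr := (Tr.N 1 (Tr.N 0 (Tr.N 0 Tr.L (Tr.N 4 Tr.L (Tr.N 5 Tr.L (Tr.N 6 Tr.L Tr.L)))) (Tr.N 1 (Tr.N 0 Tr.L (Tr.N 2 Tr.L (Tr.N 8 Tr.L Tr.L))) (Tr.N 2 (Tr.N 0 Tr.L (Tr.N 1 Tr.L (Tr.N 2 Tr.L (Tr.N 6 Tr.L (Tr.N 9 Tr.L Tr.L))))) (Tr.N 4 (Tr.N 3 Tr.L (Tr.N 7 Tr.L (Tr.N 10 Tr.L Tr.L))) (Tr.N 5 (Tr.N 1 Tr.L (Tr.N 10 Tr.L Tr.L)) (Tr.N 7 (Tr.N 2 Tr.L (Tr.N 8 Tr.L Tr.L)) (Tr.N 8 (Tr.N 1 Tr.L (Tr.N 2 Tr.L (Tr.N 5 Tr.L Tr.L))) (Tr.N 9 (Tr.N 4 Tr.L Tr.L) (Tr.N 10 (Tr.N 3 Tr.L (Tr.N 7 Tr.L (Tr.N 8 Tr.L Tr.L))) Tr.L))))))))) (Tr.N 2 (Tr.N 1 Tr.L (Tr.N 2 Tr.L (Tr.N 3 Tr.L (Tr.N 4 Tr.L (Tr.N 5 Tr.L (Tr.N 6 Tr.L (Tr.N 7 Tr.L (Tr.N 8 Tr.L (Tr.N 9 (Tr.N 1 Tr.L Tr.L) Tr.L))))))))) (Tr.N 3 (Tr.N 0 Tr.L (Tr.N 1 Tr.L (Tr.N 2 Tr.L (Tr.N 3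 Tr.L (Tr.N 4 Tr.L (Tr.N 5 Tr.L (Tr.N 7 (Tr.N 4 Tr.L Tr.L) (Tr.N 10 (Tr.N 7 Tr.L Tr.L) Tr.L)))))))) (Tr.N 4 (Tr.N 0 Tr.L (Tr.N 1 Tr.L (Tr.N 2 Tr.L (Tr.N 3 Tr.L (Tr.N 4 Tr.L (Tr.N 5 Tr.L (Tr.N 6 Tr.L (Tr.N 7 Tr.L (Tr.N 9 Tr.L Tr.L))))))))) (Tr.N 5 (Tr.N 0 (Tr.N 10 Tr.L Tr.L) (Tr.N 1 Tr.L (Tr.N 2 Tr.L (Tr.N 3 Tr.L (Tr.N 7 Tr.L (Tr.N 9 Tr.L Tr.L)))))) (Tr.N 6 (Tr.N 1 Tr.L (Tr.N 2 Tr.L (Tr.N 4 Tr.L (Tr.N 5 Tr.L (Tr.N 9 Tr.L Tr.L))))) (Tr.N 7 (Tr.N 1 Tr.L (Tr.N 5 Tr.L (Tr.N 6 Tr.L (Tr.N 8 Tr.L (Tr.N 10 Tr.L Tr.L))))) (Tr.N 8 (Tr.N 2 Tr.L (Tr.N 4 Tr.L (Tr.N 6 Tr.L (Tr.N 8 Tr.L (Tr.N 10 Tr.L Tr.L))))) (Tr.N 9 (Tr.N 1 Tr.L (Tr.N 4 Tr.L (Tr.N 6 Tr.L (Tr.N 9 Tr.L (Tr.N 10 Tr.L Tr.L))))) (Tr.N 10 (Tr.N 0 Tr.L (Tr.N 1 Tr.L (Tr.N 3 Tr.L Tr.L))) Tr.L))))))))))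

/-- Tree. -/
def TC2 : Tr := (Tr.N 0 (Tr.N 0 Tr.L (Tr.N 2 Tr.L (Tr.N 5 Tr.L (Tr.N 7 Tr.L (Tr.N 8 Tr.L (Tr.N 10 Tr.L Tr.L)))))) (Tr.N 1 (Tr.N 1 Tr.L (Tr.N 3 Tr.L (Tr.N 5 Tr.L (Tr.N 7 Tr.L (Tr.N 10 Tr.L Tr.L))))) (Tr.N 2 (Tr.N 4 Tr.L (Tr.N 9 Tr.L Tr.L)) (Tr.N 3 (Tr.N 4 Tr.L (Tr.N 9 Tr.L Tr.L)) (Tr.N 4 (Tr.N 7 Tr.L (Tr.N 8 Tr.L Tr.L)) (Tr.N 5 (Tr.N 7 Tr.L Tr.L) (Tr.N 6 (Tr.N 1 Tr.L Tr.L) (Tr.N 7 Tr.L (Tr.N 8 (Tr.N 0 Tr.L Tr.L) Tr.L)))))))))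

/-- The list of the packed vectors of the orbit. -/
noncomputable def LC : List ℕ := (cyc fa 11 RC0 (kids fa fb TC0 RC0 (cyc fa 11 RC1 (kids fa fb TC1 RC1 (cyc fa 11 RC2 (kids fa fb TC2 RC2 []))))))

/-- The first vector of the orbit. -/
def yC : ↥leechLattice := ⟨dec RC0, RC0_mem⟩

theorem RC0_reach : Reach yC RC0 := ⟨by decide +kernel, 1, one_smul _ _, one_smul _ _, by rw [one_smul]; rfl⟩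

theorem RC1_reach : Reach yC RC1 := RC0_reach.t chkC1

theorem RC2_reach : Reach yC RC2 := RC1_reach.t chkC2

theorem LC_reach : ∀ N ∈ LC, Reach yC N :=
  (cyc_spec (fun _ h => Reach.a h) 11 _ _ RC0_reach (kids_spec (fun _ h => Reach.a h) (fun _ h => Reach.b h) _ _ _ RC0_reach (cyc_spec (fun _ h => Reach.a h) 11 _ _ RC1_reach (kids_spec (fun _ h => Reach.a h) (fun _ h => Reach.b h) _ _ _ RC1_reach (cyc_spec (fun _ h => Reach.a h) 11 _ _ RC2_reach (kids_spec (fun _ h => Reach.a h) (fun _ h => Reach.b h) _ _ _ RC2_reach (fun _ hw => absurd hw List.not_mem_nil)))))))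

theorem LC_length : len LC = 4125 := by decide +kernel

theorem LC_nodupB : nodupB 2147483647 LC = true := by decide +kernel

/-- Packed root. -/
def RD0 : ℕ := 27729847398356493975760107383

/-- Packed root. -/
def RD1 : ℕ := 31730111819736804728989329544

/-- Packed root. -/
def RD2 : ℕ := 36975711476338787321428531065

theorem RD0_mem : dec RD0 ∈ leechLattice :=
  mem_of _ 1 (by decide +kernel) (by decide +kernel) (by decide +kernel)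

theorem chkD1 : TChk RD0 42254868926467840034705287850 42255171088747453398408259174 RD1 :=
  ⟨by decide +kernel, by decide +kernel, by decide +kernel⟩

theorem chkD2 : TChk RD1 32312814032509291236407421064 46915348481755046357136545655 RD2 :=
  ⟨by decide +kernel, by decide +kernel, by decide +kernel⟩

/-- Tree. -/
def TD0 : Tr := (Tr.N 0 (Tr.N 0 (Tr.N 0 (Tr.N 5 Tr.L Tr.L) (Tr.N 1 (Tr.N 2 Tr.L Tr.L) (Tr.N 2 Tr.L (Tr.N 3 (Tr.N 6 Tr.L Tr.L) (Tr.N 4 (Tr.N 8 Tr.L Tr.L) (Tr.N 5 Tr.L (Tr.N 6 Tr.L (Tr.N 8 Tr.L (Tr.N 10 (Tr.N 2 Tr.L Tr.L) Tr.L))))))))) (Tr.N 1 (Tr.N 0 Tr.L (Tr.N 2 Tr.L (Tr.N 3 Tr.L (Tr.N 6 Tr.L (Tr.N 7 Tr.L (Tr.N 8 Tr.L Tr.L)))))) (Tr.N 2 (Tr.N 1 Tr.L (Tr.N 4 Tr.L (Tr.N 5 Tr.L (Tr.N 6 Tr.L (Tr.N 9 Tr.L (Tr.N 10 Tr.L Tr.L))))))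 (Tr.N 3 (Tr.N 2 Tr.L (Tr.N 4 Tr.L (Tr.N 5 Tr.L (Tr.N 6 Tr.L (Tr.N 7 Tr.L (Tr.N 8 Tr.L (Tr.N 9 Tr.L (Tr.N 10 Tr.L Tr.L)))))))) (Tr.N 4 (Tr.N 0 Tr.L (Tr.N 4 Tr.L (Tr.N 7 Tr.L Tr.L))) (Tr.N 5 (Tr.N 2 Tr.L (Tr.N 3 Tr.L (Tr.N 6 Tr.L (Tr.N 8 Tr.L (Tr.N 10 Tr.L Tr.L))))) (Tr.N 6 (Tr.N 4 Tr.L Tr.L) (Tr.N 7 (Tr.N 3 Tr.L (Tr.N 4 Tr.L (Tr.N 8 Tr.L Tr.L))) (Tr.N 8 (Tr.N 6 Tr.L Tr.L) (Tr.N 9 (Tr.N 1 Tr.L (Tr.N 3 Tr.L (Tr.N 5 Tr.L Tr.L))) Tr.L)))))))))) Tr.L)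

/-- Tree. -/
def TD1 : Tr := (Tr.N 0 (Tr.N 0 (Tr.N 0 Tr.L (Tr.N 1 Tr.L (Tr.N 2 Tr.L (Tr.N 3 Tr.L (Tr.N 5 Tr.L (Tr.N 7 Tr.L (Tr.N 9 (Tr.N 1 Tr.L Tr.L) (Tr.N 10 (Tr.N 7 Tr.L Tr.L) Tr.L)))))))) (Tr.N 1 (Tr.N 0 Tr.L (Tr.N 1 Tr.L (Tr.N 2 Tr.L (Tr.N 4 Tr.L (Tr.N 6 Tr.L (Tr.N 7 Tr.L (Tr.N 8 Tr.L (Tr.N 9 Tr.L (Tr.N 10 Tr.L Tr.L))))))))) (Tr.N 2 (Tr.N 0 Tr.L (Tr.N 1 Tr.L (Tr.N 4 Tr.L (Tr.N 6 Tr.L (Tr.N 8 Tr.L (Tr.N 10 Tr.L Tr.L)))))) (Tr.N 3 (Tr.N 0 Tr.L (Tr.N 1 Tr.L (Tr.N 4 Tr.L (Tr.N 8 Tr.L (Tr.N 10 Tr.L Tr.L))))) (Tr.N 4 (Tr.N 1 Tr.L (Tr.N 2 Tr.L (Tr.N 3 Tr.L (Tr.N 4 Tr.L (Tr.N 6 Tr.L (Tr.N 7 Tr.L (Tr.N 9 Tr.L (Tr.N 10 Tr.L Tr.L)))))))) (Tr.N 5 (Tr.N 0 Tr.L (Tr.N 2 Tr.L (Tr.N 6 Tr.L (Tr.N 7 Tr.L (Tr.N 8 Tr.L (Tr.N 9 Tr.L (Tr.N 10 Tr.L Tr.L)))))))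 (Tr.N 6 (Tr.N 0 Tr.L (Tr.N 2 Tr.L (Tr.N 4 Tr.L (Tr.N 5 Tr.L (Tr.N 8 Tr.L (Tr.N 9 Tr.L (Tr.N 10 Tr.L Tr.L))))))) (Tr.N 7 (Tr.N 0 Tr.L (Tr.N 1 Tr.L (Tr.N 2 Tr.L (Tr.N 8 Tr.L (Tr.N 10 Tr.L Tr.L))))) (Tr.N 8 (Tr.N 0 Tr.L (Tr.N 1 Tr.L (Tr.N 2 Tr.L (Tr.N 3 Tr.L (Tr.N 4 Tr.L (Tr.N 6 Tr.L (Tr.N 7 Tr.L (Tr.N 8 Tr.L Tr.L)))))))) (Tr.N 9 (Tr.N 0 Tr.L (Tr.N 4 Tr.L (Tr.N 5 Tr.L (Tr.N 6 Tr.L (Tr.N 7 Tr.L (Tr.N 9 Tr.L Tr.L)))))) (Tr.N 10 (Tr.N 1 Tr.L (Tr.N 2 Tr.L (Tr.N 3 Tr.L (Tr.N 4 Tr.L (Tr.N 5 Tr.L (Tr.N 8 Tr.L (Tr.N 9 Tr.L Tr.L))))))) Tr.L))))))))))) (Tr.N 1 (Tr.N 0 (Tr.N 0 Tr.L (Tr.N 3 Tr.L (Tr.N 4 Tr.L (Tr.N 8 Tr.L (Tr.N 9 Tr.L Tr.L))))) (Tr.N 1 (Tr.N 2 Tr.L (Tr.N 3 Tr.L (Tr.N 5 Tr.L (Tr.N 7 Tr.L (Tr.N 8 Tr.L (Tr.N 9 Tr.L Tr.L)))))) (Tr.N 2 (Tr.N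 0 Tr.L (Tr.N 7 Tr.L Tr.L)) (Tr.N 3 (Tr.N 0 Tr.L (Tr.N 3 Tr.L Tr.L)) (Tr.N 4 (Tr.N 0 Tr.L (Tr.N 2 Tr.L (Tr.N 7 Tr.L (Tr.N 8 Tr.L (Tr.N 9 Tr.L (Tr.N 10 Tr.L Tr.L)))))) (Tr.N 5 (Tr.N 4 Tr.L (Tr.N 5 Tr.L (Tr.N 6 Tr.L (Tr.N 7 Tr.L (Tr.N 8 Tr.L Tr.L))))) (Tr.N 6 (Tr.N 0 Tr.L (Tr.N 3 Tr.L (Tr.N 4 Tr.L (Tr.N 8 Tr.L Tr.L)))) (Tr.N 7 (Tr.N 0 Tr.L (Tr.N 2 Tr.L (Tr.N 4 Tr.L (Tr.N 5 Tr.L (Tr.N 7 Tr.L Tr.L))))) (Tr.N 8 (Tr.N 0 Tr.L (Tr.N 2 Tr.L (Tr.N 3 Tr.L (Tr.N 4 Tr.L (Tr.N 7 Tr.L (Tr.N 10 Tr.L Tr.L)))))) (Tr.N 10 (Tr.N 0 Tr.L (Tr.N 10 Tr.L Tr.L)) Tr.L)))))))))) (Tr.N 2 (Tr.N 0 (Tr.N 5 Tr.L (Tr.N 9 Tr.L (Tr.N 10 Tr.L Tr.L))) (Tr.N 1 (Tr.N 0 Tr.L (Tr.N 9 Tr.L (Tr.N 10 Tr.L Tr.L))) (Tr.N 2 (Tr.N 0 Tr.L (Tr.N 1 Tr.L (Tr.N 4 Tr.L (Tr.N 5 Tr.L (Tr.N 6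 Tr.L (Tr.N 7 Tr.L Tr.L)))))) (Tr.N 3 (Tr.N 3 Tr.L (Tr.N 5 Tr.L (Tr.N 8 Tr.L Tr.L))) (Tr.N 4 (Tr.N 0 Tr.L (Tr.N 2 Tr.L (Tr.N 6 Tr.L (Tr.N 8 Tr.L Tr.L)))) (Tr.N 5 (Tr.N 4 Tr.L (Tr.N 9 Tr.L Tr.L)) (Tr.N 6 (Tr.N 1 Tr.L (Tr.N 5 Tr.L Tr.L)) (Tr.N 7 (Tr.N 0 Tr.L (Tr.N 4 Tr.L Tr.L)) (Tr.N 8 (Tr.N 0 Tr.L (Tr.N 9 Tr.L Tr.L)) (Tr.N 9 (Tr.N 0 Tr.L (Tr.N 1 Tr.L (Tr.N 2 Tr.L (Tr.N 3 Tr.L (Tr.N 7 Tr.L (Tr.N 9 Tr.L Tr.L)))))) (Tr.N 10 (Tr.N 3 Tr.L (Tr.N 4 Tr.L (Tr.N 7 Tr.L (Tr.N 8 Tr.L Tr.L)))) Tr.L))))))))))) (Tr.N 3 (Tr.N 0 (Tr.N 8 Tr.L (Tr.N 9 Tr.L Tr.L)) (Tr.N 1 (Tr.N 3 Tr.L (Tr.N 6 Tr.L (Tr.N 9 Tr.L Tr.L))) (Tr.N 2 (Tr.N 0 Tr.L (Tr.N 5 Tr.L Tr.L)) (Tr.N 3 (Tr.N 1 Tr.L (Tr.N 7 Tr.L (Tr.N 10 Tr.L Tr.L))) (Tr.N 4 (Tr.N 3 Tr.L (Tr.N 5 Tr.L Tr.L)) (Tr.N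 5 (Tr.N 5 Tr.L (Tr.N 10 Tr.L Tr.L)) (Tr.N 7 (Tr.N 1 Tr.L (Tr.N 3 Tr.L (Tr.N 4 Tr.L (Tr.N 5 Tr.L (Tr.N 9 Tr.L Tr.L))))) (Tr.N 8 (Tr.N 9 Tr.L Tr.L) (Tr.N 9 (Tr.N 0 Tr.L (Tr.N 1 Tr.L (Tr.N 2 Tr.L Tr.L))) (Tr.N 10 (Tr.N 2 Tr.L (Tr.N 8 Tr.L Tr.L)) Tr.L)))))))))) (Tr.N 4 (Tr.N 0 Tr.L (Tr.N 1 (Tr.N 2 Tr.L Tr.L) (Tr.N 3 (Tr.N 7 Tr.L (Tr.N 9 Tr.L Tr.L)) (Tr.N 4 Tr.L (Tr.N 5 (Tr.N 2 Tr.L (Tr.N 3 Tr.L (Tr.N 6 Tr.L (Tr.N 7 Tr.L (Tr.N 8 Tr.L Tr.L))))) (Tr.N 6 (Tr.N 8 Tr.L (Tr.N 9 Tr.L Tr.L)) (Tr.N 7 (Tr.N 4 Tr.L Tr.L) (Tr.N 8 Tr.L (Tr.N 9 (Tr.N 0 Tr.L (Tr.N 1 Tr.L Tr.L)) (Tr.N 10 (Tr.N 4 Tr.L (Tr.N 8 Tr.L Tr.L)) Tr.L)))))))))) (Tr.N 5 (Tr.N 1 (Tr.N 2 Tr.L (Tr.N 3 Tr.L (Tr.N 9 Tr.L Tr.L))) (Tr.N 2 (Tr.N 1 Tr.L Tr.L) (Tr.N 3 (Tr.N 10 Tr.L Tr.L) (Tr.N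 5 (Tr.N 6 Tr.L (Tr.N 7 Tr.L (Tr.N 10 Tr.L Tr.L))) (Tr.N 6 (Tr.N 0 Tr.L (Tr.N 3 Tr.L Tr.L)) (Tr.N 7 Tr.L (Tr.N 8 Tr.L (Tr.N 10 (Tr.N 3 Tr.L Tr.L) Tr.L)))))))) (Tr.N 6 (Tr.N 1 (Tr.N 2 Tr.L Tr.L) (Tr.N 2 (Tr.N 9 Tr.L Tr.L) (Tr.N 3 Tr.L (Tr.N 4 Tr.L (Tr.N 6 (Tr.N 10 Tr.L Tr.L) (Tr.N 7 (Tr.N 8 Tr.L Tr.L) (Tr.N 9 (Tr.N 4 Tr.L Tr.L) (Tr.N 10 Tr.L Tr.L)))))))) (Tr.N 7 (Tr.N 1 (Tr.N 4 Tr.L Tr.L) (Tr.N 2 (Tr.N 10 Tr.L Tr.L) (Tr.N 3 (Tr.N 3 Tr.L Tr.L) (Tr.N 4 Tr.L (Tr.N 5 (Tr.N 7 Tr.L (Tr.N 8 Tr.L (Tr.N 9 Tr.L Tr.L))) (Tr.N 6 Tr.L (Tr.N 8 (Tr.N 9 Tr.L Tr.L) Tr.L))))))) (Tr.N 8 (Tr.N 2 (Tr.N 4 Tr.L Tr.L) (Tr.N 5 (Tr.N 8 Tr.L Tr.L) (Tr.N 6 Tr.L (Tr.N 8 Tr.L (Tr.N 9 Tr.L (Tr.N 10 Tr.L Tr.L)))))) (Tr.N 9 (Tr.N 1 Tr.L (Tr.N 2 Tr.L (Tr.N 4 (Tr.N 0 Tr.L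 (Tr.N 7 Tr.L Tr.L)) (Tr.N 5 Tr.L (Tr.N 7 Tr.L (Tr.N 8 Tr.L (Tr.N 9 (Tr.N 7 Tr.L Tr.L) (Tr.N 10 Tr.L Tr.L)))))))) (Tr.N 10 (Tr.N 2 Tr.L (Tr.N 3 Tr.L (Tr.N 4 Tr.L (Tr.N 5 Tr.L (Tr.N 6 Tr.L (Tr.N 7 Tr.L (Tr.N 9 (Tr.N 2 Tr.L Tr.L) (Tr.N 10 Tr.L Tr.L)))))))) Tr.L)))))))))))

/-- Tree. -/
def TD2 : Tr := (Tr.N 0 (Tr.N 1 (Tr.N 3 Tr.L (Tr.N 7 Tr.L (Tr.N 8 Tr.L (Tr.N 10 Tr.L Tr.L)))) (Tr.N 2 (Tr.N 2 Tr.L (Tr.N 3 Tr.L Tr.L)) (Tr.N 3 (Tr.N 0 Tr.L (Tr.N 5 Tr.L (Tr.N 7 Tr.L (Tr.N 9 Tr.L Tr.L)))) (Tr.N 4 (Tr.N 0 Tr.L Tr.L) (Tr.N 5 (Tr.N 0 Tr.L (Tr.N 1 Tr.L (Tr.N 3 Tr.L (Tr.N 4 Tr.L Tr.L)))) (Tr.N 6 (Tr.N 1 Tr.L Tr.L) (Tr.N 7 (Tr.N 4 Tr.L (Tr.N 6 Tr.L (Tr.N 9 Tr.L Tr.L))) (Tr.N 8 (Tr.N 6 Tr.L (Tr.N 8 Tr.L Tr.L)) (Tr.N 10 Tr.L Tr.L))))))))) (Tr.N 1 (Tr.N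 0 (Tr.N 1 Tr.L (Tr.N 2 Tr.L (Tr.N 4 Tr.L (Tr.N 10 Tr.L Tr.L)))) (Tr.N 1 Tr.L (Tr.N 2 (Tr.N 8 Tr.L Tr.L) (Tr.N 3 (Tr.N 9 Tr.L Tr.L) (Tr.N 5 (Tr.N 5 Tr.L (Tr.N 6 Tr.L (Tr.N 9 Tr.L Tr.L))) (Tr.N 7 (Tr.N 0 Tr.L Tr.L) (Tr.N 8 Tr.L (Tr.N 9 Tr.L (Tr.N 10 (Tr.N 10 Tr.L Tr.L) Tr.L))))))))) (Tr.N 2 (Tr.N 0 Tr.L (Tr.N 2 Tr.L (Tr.N 3 Tr.L (Tr.N 4 Tr.L (Tr.N 5 Tr.L (Tr.N 6 Tr.L (Tr.N 7 Tr.L (Tr.N 9 Tr.L Tr.L)))))))) (Tr.N 4 (Tr.N 0 Tr.L (Tr.N 1 (Tr.N 9 Tr.L Tr.L) (Tr.N 2 Tr.L (Tr.N 3 Tr.L (Tr.N 4 Tr.L (Tr.N 7 (Tr.N 8 Tr.L Tr.L) (Tr.N 9 Tr.L (Tr.N 10 Tr.L Tr.L)))))))) (Tr.N 5 (Tr.N 1 Tr.L (Tr.N 3 Tr.L (Tr.N 5 Tr.L (Tr.N 6 Tr.L (Tr.N 7 Tr.L (Tr.N 8 Tr.L (Tr.N 9 Tr.L (Tr.N 10 Tr.L Tr.L)))))))) (Tr.N 6 (Tr.N 0 Tr.L (Tr.N 4 Tr.L (Tr.N 8 Tr.L (Tr.N 9 (Tr.N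 10 Tr.L Tr.L) Tr.L)))) (Tr.N 7 (Tr.N 0 Tr.L (Tr.N 2 Tr.L (Tr.N 3 Tr.L (Tr.N 5 Tr.L (Tr.N 6 Tr.L (Tr.N 9 Tr.L (Tr.N 10 Tr.L Tr.L))))))) (Tr.N 8 (Tr.N 1 Tr.L (Tr.N 2 Tr.L (Tr.N 3 Tr.L (Tr.N 4 Tr.L (Tr.N 5 Tr.L (Tr.N 9 Tr.L (Tr.N 10 Tr.L Tr.L))))))) (Tr.N 9 (Tr.N 0 Tr.L (Tr.N 1 Tr.L (Tr.N 2 Tr.L (Tr.N 5 Tr.L Tr.L)))) (Tr.N 10 (Tr.N 2 Tr.L (Tr.N 8 Tr.L Tr.L)) Tr.L))))))))))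

/-- The list of the packed vectors of the orbit. -/
noncomputable def LD : List ℕ := (cyc fa 1 RD0 (kids fa fb TD0 RD0 (cyc fa 11 RD1 (kids fa fb TD1 RD1 (cyc fa 11 RD2 (kids fa fb TD2 RD2 []))))))

/-- The first vector of the orbit. -/
def yD : ↥leechLattice := ⟨dec RD0, RD0_mem⟩

theorem RD0_reach : Reach yD RD0 := ⟨by decide +kernel, 1, one_smul _ _, one_smul _ _, by rw [one_smul]; rfl⟩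

theorem RD1_reach : Reach yD RD1 := RD0_reach.t chkD1

theorem RD2_reach : Reach yD RD2 := RD1_reach.t chkD2

theorem LD_reach : ∀ N ∈ LD, Reach yD N :=
  (cyc_spec (fun _ h => Reach.a h) 1 _ _ RD0_reach (kids_spec (fun _ h => Reach.a h) (fun _ h => Reach.b h) _ _ _ RD0_reach (cyc_spec (fun _ h => Reach.a h) 11 _ _ RD1_reach (kids_spec (fun _ h => Reach.a h) (fun _ h => Reach.b h) _ _ _ RD1_reach (cyc_spec (fun _ h => Reach.a h) 11 _ _ RD2_reach (kids_spec (fun _ h => Reach.a h) (fun _ h => Reach.b h) _ _ _ RD2_reach (fun _ hw => absurd hw List.not_mem_nil)))))))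

theorem LD_length : len LD = 5600 := by decide +kernel

theorem LD_nodupB : nodupB 2147483647 LD = true := by decide +kernel

end Cfsg.Agent.SporadicStructure.Co3Rank5
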