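import Cfsg.Agent.SporadicA.Co0Basic
import Cfsg.Agent.SporadicA.GolayBase
import Cfsg.Agent.SporadicStructure.LeechBase
import Cfsg.Agent.S0401
import Cfsg.Agent.S1640

/-!
Transitivity of `Co0` on the pairs of lattice vectors of sum of squares 48 with dot product -32, and on the
pairs (norm 48, norm 32, dot product -16), from S0401 and S1640.
-/

set_option autoImplicit false
open Cfsg

namespace Cfsg.Agent.SporadicStructure.HSPair

open Cfsg.Agent.SporadicA

theorem smul_eq (g : ↥Co0) (v : ↥leechLattice) : g • v = g.1 v := rfl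

theorem smul_add' (g : ↥Co0) (v w : ↥leechLattice) : g • (v + w) = g • v + g • w :=
  Co0Basic.map_add g v w

theorem smul_neg' (g : ↥Co0) (v : ↥leechLattice) : g • (-v) = -(g • v) :=
  Co0Basic.map_neg g v

theorem smul_dot (g : ↥Co0) (v w : ↥leechLattice) :
    dotInt ((g • v : ↥leechLattice) : GolayPt → ℤ) ((g • w : ↥leechLattice) : GolayPt → ℤ) =
      dotInt (v : GolayPt → ℤ) (w : GolayPt → ℤ) := Co0Basic.map_dot g v w

theorem smul_norm (g : ↥Co0) (v : ↥leechLattice) :
    sqNorm ((g • v : ↥leechLattice) : GolayPt → ℤ) = sqNorm (v : GolayPt → ℤ) :=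
  Co0Basic.map_sqNorm g v

theorem dot_comm (x y : GolayPt → ℤ) : dotInt x y = dotInt y x := by
  unfold dotInt
  exact Finset.sum_congr rfl fun i _ => mul_comm _ _

theorem dot_self (x : GolayPt → ℤ) : dotInt x x = sqNorm x := by
  unfold dotInt sqNorm
  exact Finset.sum_congr rfl fun i _ => (sq _).symm

theorem dot_add_right (x y z : GolayPt → ℤ) : dotInt x (y + z) = dotInt x y + dotInt x z := by
  unfold dotInt
  rw [← Finset.sum_add_distrib]
  exact Finset.sum_congr rfl fun i _ => by rw [Pi.add_apply, mul_add]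

theorem dot_neg_right (x y : GolayPt → ℤ) : dotInt x (-y) = - dotInt x y := by
  unfold dotInt
  rw [← Finset.sum_neg_distrib]
  exact Finset.sum_congr rfl fun i _ => by rw [Pi.neg_apply, mul_neg]

theorem dot_add_left (x y z : GolayPt → ℤ) : dotInt (x + y) z = dotInt x z + dotInt y z := by
  rw [dot_comm, dot_add_right, dot_comm z x, dot_comm z y]

theorem dot_neg_left (x y : GolayPt → ℤ) : dotInt (-x) y = - dotInt x y := by
  rw [dot_comm, dot_neg_right, dot_comm y x]

/-- `Co0` is transitive on the pairs (u, x) with u of sum of squares 48, x of sum of squares 32 and dot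
product -16. -/
theorem exists_smul_eq_of_pair (u x u' x' : ↥leechLattice) (hu : sqNorm (u : GolayPt → ℤ) = 48)
    (hx : sqNorm (x : GolayPt → ℤ) = 32) (hd : dotInt (u : GolayPt → ℤ) (x : GolayPt → ℤ) = -16)
    (hu' : sqNorm (u' : GolayPt → ℤ) = 48)
    (hx' : sqNorm (x' : GolayPt → ℤ) = 32) (hd' : dotInt (u' : GolayPt → ℤ) (x' : GolayPt → ℤ) = -16) :
    ∃ g : ↥Co0, g • u = u' ∧ g • x = x' := by
  obtain ⟨g, hg⟩ := Cfsg.Agent.S0401.result u u' hu hu'
  obtain ⟨h, hh, hh'⟩ := (Cfsg.Agent.S1640.result u' hu').2 (g • x)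
    ⟨by rw [smul_norm]; exact hx, by rw [← hg, smul_dot]; exact hd⟩ x' ⟨hx', hd'⟩
  exact ⟨h * g, by rw [mul_smul, hg, hh], by rw [mul_smul, hh']⟩

/-- `Co0` is transitive on the pairs (v, w) of vectors of sum of squares 48 with dot product -32. -/
theorem exists_smul_eq_of_pair48 (v w v' w' : ↥leechLattice) (hv : sqNorm (v : GolayPt → ℤ) = 48)
    (hw : sqNorm (w : GolayPt → ℤ) = 48) (hd : dotInt (v : GolayPt → ℤ) (w : GolayPt → ℤ) = -32)
    (hv' : sqNorm (v' : GolayPt → ℤ) = 48)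
    (hw' : sqNorm (w' : GolayPt → ℤ) = 48) (hd' : dotInt (v' : GolayPt → ℤ) (w' : GolayPt → ℤ) = -32) :
    ∃ g : ↥Co0, g • v = v' ∧ g • w = w' := by
  have key : ∀ v w : ↥leechLattice, sqNorm (v : GolayPt → ℤ) = 48 → sqNorm (w : GolayPt → ℤ) = 48 →
      dotInt (v : GolayPt → ℤ) (w : GolayPt → ℤ) = -32 →
      sqNorm ((-(v + w) : ↥leechLattice) : GolayPt → ℤ) = 32 ∧
      dotInt (v : GolayPt → ℤ) ((-(v + w) : ↥leechLattice) : GolayPt → ℤ) = -16 := by
    intro v w hv hw hd
    have hdw : dotInt (w : GolayPt → ℤ) (v : GolayPt → ℤ) = -32 := by rw [dot_comm]; exact hd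
    rw [NegMemClass.coe_neg, AddSubgroup.coe_add]
    constructor
    · rw [Co0Basic.sqNorm_neg, Co0Basic.sqNorm_add, hv, hw, hd]; norm_num
    · rw [dot_neg_right, dot_add_right, dot_self, hv, hd]; norm_num
  obtain ⟨h1, h2⟩ := key v w hv hw hd
  obtain ⟨h1', h2'⟩ := key v' w' hv' hw' hd'
  obtain ⟨g, hg, hg'⟩ := exists_smul_eq_of_pair v (-(v + w)) v' (-(v' + w')) hv h1 h2 hv' h1' h2'
  refine ⟨g, hg, ?_⟩
  rw [smul_neg', smul_add', hg] at hg'
  exact add_left_cancel (neg_injective hg')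

end Cfsg.Agent.SporadicStructure.HSPair
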