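import Mathlib
import Cfsg.Prelude.Def_Sporadic_a

/-!
Affine maps `x ↦ u x + b` of the residues modulo 23 as permutations of the 24 points, the group
`23:11` of those with `u` a square, and parity checks for the group `M24` of the length-24 code.
-/

set_option autoImplicit false

namespace Cfsg.Agent.SporadicStructure.Affine23

open Cfsg

/-- the function `x ↦ a x + b` on the 24 points, fixing the extra point -/
def affFun (a b : ZMod 23) : GolayPt → GolayPt
  | none => none
  | some x => some (a * x + b)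

/-- the permutation `x ↦ u x + b` of the 24 points, fixing the extra point -/
def aff (u : (ZMod 23)ˣ) (b : ZMod 23) : Equiv.Perm GolayPt where
  toFun := affFun u b
  invFun := affFun (u⁻¹ : (ZMod 23)ˣ) (-((u⁻¹ : (ZMod 23)ˣ) * b))
  left_inv := by
    rintro (_ | x)
    · rfl
    · simp only [affFun, mul_add, Units.inv_mul_cancel_left]
      congr 1
      ring
  right_inv := by
    rintro (_ | x)
    · rfl
    · simp only [affFun, mul_add, mul_neg, Units.mul_inv_cancel_left]
      congr 1
      ring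

theorem aff_none (u : (ZMod 23)ˣ) (b : ZMod 23) : aff u b none = none := rfl

theorem aff_some (u : (ZMod 23)ˣ) (b x : ZMod 23) : aff u b (some x) = some (u * x + b) := rfl

theorem aff_apply (u : (ZMod 23)ˣ) (b : ZMod 23) (p : GolayPt) : aff u b p = affFun u b p := rfl

theorem aff_mul (u v : (ZMod 23)ˣ) (b c : ZMod 23) :
    aff u b * aff v c = aff (u * v) (u * c + b) := by
  apply Equiv.ext
  rintro (_ | x)
  · rfl
  · show some ((u : ZMod 23) * (v * x + c) + b) = some (((u * v : (ZMod 23)ˣ) : ZMod 23) * x + (u * c + b))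
    congr 1
    rw [Units.val_mul]
    ring

theorem aff_one_zero : aff 1 0 = 1 := by
  apply Equiv.ext
  rintro (_ | x)
  · rfl
  · show some (((1 : (ZMod 23)ˣ) : ZMod 23) * x + 0) = some x
    simp

theorem aff_inv (u : (ZMod 23)ˣ) (b : ZMod 23) :
    (aff u b)⁻¹ = aff u⁻¹ (-((u⁻¹ : (ZMod 23)ˣ) * b)) := by
  rw [inv_eq_iff_mul_eq_one, aff_mul, mul_inv_cancel, ← aff_one_zero]
  congr 1
  rw [mul_neg, Units.mul_inv_cancel_left]
  ring

theorem optionCongr_addRight : Equiv.optionCongr (Equiv.addRight (1 : ZMod 23)) = aff 1 1 := by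
  apply Equiv.ext
  rintro (_ | x)
  · rfl
  · show some (x + 1) = some (((1 : (ZMod 23)ˣ) : ZMod 23) * x + 1)
    simp

theorem optionCongr_mulLeft (u : (ZMod 23)ˣ) : Equiv.optionCongr (Units.mulLeft u) = aff u 0 := by
  apply Equiv.ext
  rintro (_ | x)
  · rfl
  · show some ((u : ZMod 23) * x) = some ((u : ZMod 23) * x + 0)
    simp

theorem aff_injective {u v : (ZMod 23)ˣ} {b c : ZMod 23} (h : aff u b = aff v c) :
    u = v ∧ b = c := by
  have h0 : aff u b (some 0) = aff v c (some 0) := by rw [h]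
  have h1 : aff u b (some 1) = aff v c (some 1) := by rw [h]
  rw [aff_some, aff_some, Option.some.injEq] at h0 h1
  rw [mul_zero, mul_zero, zero_add, zero_add] at h0
  subst h0
  refine ⟨Units.ext ?_, rfl⟩
  simpa using h1

theorem aff_one_pow (b : ZMod 23) (n : ℕ) : (aff 1 b) ^ n = aff 1 (n * b) := by
  induction n with
  | zero => simp [aff_one_zero]
  | succ n ih =>
    rw [pow_succ, ih, aff_mul, mul_one, Units.val_one, one_mul]
    congr 1
    push_cast
    ring

/-- `23:11`, the affine maps with square multiplier -/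
def K : Subgroup (Equiv.Perm GolayPt) where
  carrier := {g | ∃ (u : (ZMod 23)ˣ) (b : ZMod 23), IsSquare u ∧ g = aff u b}
  one_mem' := ⟨1, 0, ⟨1, by simp⟩, aff_one_zero.symm⟩
  mul_mem' := by
    rintro _ _ ⟨u, b, hu, rfl⟩ ⟨v, c, hv, rfl⟩
    exact ⟨u * v, _, hu.mul hv, aff_mul _ _ _ _⟩
  inv_mem' := by
    rintro _ ⟨u, b, hu, rfl⟩
    exact ⟨u⁻¹, _, hu.inv, aff_inv _ _⟩

theorem mem_K {g : Equiv.Perm GolayPt} :
    g ∈ K ↔ ∃ (u : (ZMod 23)ˣ) (b : ZMod 23), IsSquare u ∧ g = aff u b := Iff.rfl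

theorem closure_eq_K : Subgroup.closure ({Equiv.optionCongr (Equiv.addRight (1 : ZMod 23))} ∪
    {g : Equiv.Perm Cfsg.GolayPt | ∃ u : (ZMod 23)ˣ, IsSquare u ∧
      g = Equiv.optionCongr (Units.mulLeft u)}) = K := by
  apply le_antisymm
  · rw [Subgroup.closure_le]
    rintro g (hg | ⟨u, hu, rfl⟩)
    · rw [Set.mem_singleton_iff] at hg
      subst hg
      exact ⟨1, 1, ⟨1, by simp⟩, optionCongr_addRight⟩
    · exact ⟨u, 0, hu, optionCongr_mulLeft u⟩
  · rintro g ⟨u, b, hu, rfl⟩
    have h1 : aff 1 b = aff 1 1 ^ b.val := by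
      rw [aff_one_pow, mul_one, ZMod.natCast_zmod_val]
    have h2 : aff u b = aff 1 1 ^ b.val * aff u 0 := by
      rw [← h1, aff_mul, one_mul]
      simp
    rw [h2]
    apply Subgroup.mul_mem
    · apply Subgroup.pow_mem
      apply Subgroup.subset_closure
      left
      rw [Set.mem_singleton_iff, optionCongr_addRight]
    · apply Subgroup.subset_closure
      right
      exact ⟨u, hu, (optionCongr_mulLeft u).symm⟩

theorem card_squares : Nat.card {u : (ZMod 23)ˣ // IsSquare u} = 11 := by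
  rw [Nat.card_eq_fintype_card]
  decide +kernel

theorem card_K : Nat.card K = 253 := by
  have e : {u : (ZMod 23)ˣ // IsSquare u} × ZMod 23 ≃ K := Equiv.ofBijective
    (fun p => ⟨aff p.1.1 p.2, p.1.1, p.2, p.1.2, rfl⟩) (by
      constructor
      · rintro ⟨⟨u, hu⟩, b⟩ ⟨⟨v, hv⟩, c⟩ h
        have h' := aff_injective (congrArg Subtype.val h)
        simp only [Prod.mk.injEq, Subtype.mk.injEq]
        exact h'
      · rintro ⟨g, u, b, hu, rfl⟩
        exact ⟨⟨⟨u, hu⟩, b⟩, rfl⟩)
  rw [← Nat.card_congr e, Nat.card_prod, card_squares, Nat.card_zmod]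

end Cfsg.Agent.SporadicStructure.Affine23
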