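import Mathlib
import Cfsg.Prelude.Def_Sporadic_a
import Cfsg.Agent.SporadicA.M24Mem
import Cfsg.Agent.SporadicStructure.Affine23

/-!
Self-orthogonality of the length-24 code and parity checks for elements of `M24`; the
centraliser of `x ↦ 2x` and the normaliser of `⟨x ↦ x + 1⟩` in the stabiliser of the extra point.
-/

set_option autoImplicit false

namespace Cfsg.Agent.SporadicStructure.QRParity

open Cfsg
open Cfsg.Agent.SporadicA.M24Mem
open Cfsg.Agent.SporadicStructure.Affine23

/-- squares modulo 23 (zero included), by a bit mask -/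
def sqb (x : ZMod 23) : Bool := Nat.testBit 340831 x.val

theorem sqb_iff : ∀ x : ZMod 23, (∃ r : ZMod 23, x = r ^ 2) ↔ sqb x = true := by
  decide +kernel

theorem sqb_iff' (x t : ZMod 23) : (∃ r : ZMod 23, x = r ^ 2 + t) ↔ sqb (x - t) = true := by
  rw [← sqb_iff]
  constructor
  · rintro ⟨r, hr⟩
    exact ⟨r, by rw [hr]; ring⟩
  · rintro ⟨r, hr⟩
    exact ⟨r, by rw [← hr]; ring⟩

theorem qrWord_some_sqb (t x : ZMod 23) : qrWord t (some x) = if sqb (x - t) = true then 1 else 0 := by
  rw [qrWord_some]
  congr 1
  exact propext (sqb_iff' x t)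

/-- parity of the overlap of the translate by `s` of the squares with the preimage under `h` of
the translate by `t` of the squares -/
def par (h : ZMod 23 → ZMod 23) (s t : ZMod 23) : Bool :=
  (List.finRange 23).foldr (fun i acc => xor (sqb ((i : ZMod 23) - s) && sqb (h i - t)) acc) false

theorem par_eq (h : ZMod 23 → ZMod 23) (s t : ZMod 23) :
    (if par h s t = true then (1 : ZMod 2) else 0) =
      ∑ x : ZMod 23, qrWord s (some x) * qrWord t (some (h x)) := by
  have key : ∀ l : List (ZMod 23),
      (if (l.foldr (fun i acc => xor (sqb (i - s) && sqb (h i - t)) acc) false) = true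
        then (1 : ZMod 2) else 0) =
      (l.map fun x => qrWord s (some x) * qrWord t (some (h x))).sum := by
    intro l
    induction l with
    | nil => simp
    | cons a l ih =>
      rw [List.foldr_cons, List.map_cons, List.sum_cons, ← ih, qrWord_some_sqb, qrWord_some_sqb]
      cases sqb (a - s) <;> cases sqb (h a - t) <;>
        cases (l.foldr (fun i acc => xor (sqb (i - s) && sqb (h i - t)) acc) false) <;> decide
  have h2 := key (List.finRange 23)
  rw [show par h s t = (List.finRange 23).foldr
    (fun i acc => xor (sqb ((i : ZMod 23) - s) && sqb (h i - t)) acc) false from rfl]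
  rw [h2]
  exact (Fin.sum_univ_def (n := 23) (fun x : Fin 23 => qrWord s (some (x : ZMod 23)) * qrWord t (some (h x)))).symm

/-- the length-24 code is self-orthogonal -/
theorem golay_orth {v w : GolayPt → ZMod 2} (hv : v ∈ golayCode) (hw : w ∈ golayCode) :
    ∑ p, v p * w p = 0 := by
  have base : ∀ a ∈ (Set.range qrWord ∪ {1} : Set (GolayPt → ZMod 2)),
      ∀ b ∈ (Set.range qrWord ∪ {1} : Set (GolayPt → ZMod 2)), ∑ p, a p * b p = 0 := by
    have h1 : ∀ s t : ZMod 23, par id s t = false := by decide +kernel
    have h2 : ∀ s t : ZMod 23, ∑ p, qrWord s p * qrWord t p = 0 := by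
      intro s t
      have := par_eq id s t
      rw [h1 s t] at this
      rw [Fintype.sum_option, qrWord_none, zero_mul, zero_add]
      simpa using this.symm
    have h3 : ∀ s : ZMod 23, ∑ p, qrWord s p = 0 := by
      intro s
      rw [← h2 s s]
      apply Finset.sum_congr rfl
      intro p _
      generalize qrWord s p = a
      revert a
      decide
    rintro a (⟨s, rfl⟩ | rfl) b (⟨t, rfl⟩ | rfl)
    · exact h2 s t
    · simpa using h3 s
    · simpa using h3 t
    · simp only [Pi.one_apply, mul_one, Finset.sum_const, Finset.card_univ]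
      decide +kernel
  have step1 : ∀ a ∈ (Set.range qrWord ∪ {1} : Set (GolayPt → ZMod 2)), ∑ p, a p * w p = 0 := by
    intro a ha
    have hw' : w ∈ Submodule.span (ZMod 2) (Set.range qrWord ∪ {1}) := hw
    induction hw' using Submodule.span_induction with
    | mem x hx => exact base a ha x hx
    | zero => simp
    | add x y _ _ hx hy =>
      simp only [Pi.add_apply, mul_add, Finset.sum_add_distrib]
      rw [hx ‹_›, hy ‹_›, add_zero]
    | smul c x _ hx =>
      simp only [Pi.smul_apply, smul_eq_mul]
      rw [← mul_zero c, ← hx ‹_›, Finset.mul_sum]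
      exact Finset.sum_congr rfl fun p _ => by ring
  have hv' : v ∈ Submodule.span (ZMod 2) (Set.range qrWord ∪ {1}) := hv
  induction hv' using Submodule.span_induction with
  | mem x hx => exact step1 x hx
  | zero => simp
  | add x y _ _ hx hy =>
    simp only [Pi.add_apply, add_mul, Finset.sum_add_distrib]
    rw [hx ‹_›, hy ‹_›, add_zero]
  | smul c x _ hx =>
    simp only [Pi.smul_apply, smul_eq_mul]
    rw [← mul_zero c, ← hx ‹_›, Finset.mul_sum]
    exact Finset.sum_congr rfl fun p _ => by ring

/-- parity check for elements of `M24` fixing the extra point -/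
theorem par_of_mem_M24 {g : Equiv.Perm GolayPt} (hg : g ∈ M24) {h : ZMod 23 → ZMod 23}
    (hh : ∀ x, g (some x) = some (h x)) (s t : ZMod 23) : par h s t = false := by
  have h1 : qrWord t ∘ g ∈ golayCode := (mem_M24_iff' g).1 hg _ (qrWord_mem_golayCode t)
  have h2 := golay_orth (qrWord_mem_golayCode s) h1
  rw [Fintype.sum_option, qrWord_none, zero_mul, zero_add] at h2
  have h3 := par_eq h s t
  simp only [Function.comp_apply, hh] at h2
  rw [h2] at h3
  by_contra hne
  rw [Bool.not_eq_false] at hne
  rw [hne] at h3
  exact absurd h3 (by decide)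

end Cfsg.Agent.SporadicStructure.QRParity
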