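import Mathlib
import Cfsg.Prelude.Def_Sporadic_a
import Cfsg.Agent.SporadicStructure.QRParity

/-!
The centraliser of `x ↦ 2x` and the normaliser of `⟨x ↦ x + 1⟩` in the stabiliser of the extra
point in `M24`.
-/

set_option autoImplicit false

namespace Cfsg.Agent.SporadicStructure.QRNormalizer

open Cfsg
open Cfsg.Agent.SporadicA.M24Mem
open Cfsg.Agent.SporadicStructure.Affine23
open Cfsg.Agent.SporadicStructure.QRParity

theorem fact_prime23 : Fact (Nat.Prime 23) := ⟨by norm_num⟩

attribute [local instance] fact_prime23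

/-- the unit 2 modulo 23 -/
def u2 : (ZMod 23)ˣ := ⟨2, 12, by decide, by decide⟩

theorem isSquare_u2 : IsSquare u2 := ⟨⟨5, 14, by decide, by decide⟩, by decide⟩

theorem u2_pow_eleven : u2 ^ 11 = 1 := by decide +kernel

theorem orderOf_u2 : orderOf u2 = 11 := by
  have : Fact (Nat.Prime 11) := ⟨by norm_num⟩
  apply orderOf_eq_prime u2_pow_eleven
  decide

theorem aff_zero_pow (u : (ZMod 23)ˣ) (n : ℕ) : (aff u 0) ^ n = aff (u ^ n) 0 := by
  induction n with
  | zero => simp [aff_one_zero]
  | succ n ih => rw [pow_succ, ih, aff_mul, pow_succ, mul_zero, zero_add]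

theorem orderOf_aff_u2 : orderOf (aff u2 0) = 11 := by
  have : Fact (Nat.Prime 11) := ⟨by norm_num⟩
  apply orderOf_eq_prime
  · rw [aff_zero_pow, u2_pow_eleven, aff_one_zero]
  · intro h
    rw [← aff_one_zero] at h
    exact absurd (aff_injective h).1 (by decide)

theorem orderOf_aff_one_one : orderOf (aff 1 1) = 23 := by
  apply orderOf_eq_prime
  · rw [aff_one_pow, ← aff_one_zero]
    congr 1
  · intro h
    rw [← aff_one_zero] at h
    exact absurd (aff_injective h).2 (by decide)

/-- every square unit is a power of 2 -/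
theorem exists_pow_u2 : ∀ u : (ZMod 23)ˣ, IsSquare u → ∃ n : Fin 11, u = u2 ^ (n : ℕ) := by
  decide +kernel

/-- the candidates for elements commuting with `x ↦ 2x` -/
def hc (a b x : ZMod 23) : ZMod 23 := if sqb x = true then x * a else -x * b

theorem hc_check : ∀ a b : ZMod 23, a ≠ 0 → b ≠ 0 →
    (b = -a ∧ sqb a = true) ∨ par (hc a b) 0 0 = true ∨
      ∃ i : Fin 8, par (hc a b) 1 ((i : ℕ) : ZMod 23) = true := by
  decide +kernel

theorem sqb_of_pow : ∀ i : Fin 11, sqb (((u2 ^ (i : ℕ) : (ZMod 23)ˣ) : ZMod 23)) = true := by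
  decide +kernel

theorem cases_pow : ∀ x : ZMod 23, x = 0 ∨ ∃ i : Fin 11,
    (x = ((u2 ^ (i : ℕ) : (ZMod 23)ˣ) : ZMod 23) ∧ sqb x = true) ∨
    (x = -((u2 ^ (i : ℕ) : (ZMod 23)ˣ) : ZMod 23) ∧ sqb x = false) := by
  decide +kernel

theorem isSquare_of_sqb : ∀ u : (ZMod 23)ˣ, sqb u = true → IsSquare u := by
  decide +kernel

theorem isSquare_or_neg : ∀ u : (ZMod 23)ˣ, IsSquare u ∨ IsSquare (-u) := by
  decide +kernel

/-- an element of `M24` fixing the extra point and commuting with `x ↦ 2x` is `x ↦ a x`, `a` a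
square -/
theorem eq_aff_of_commute {g : Equiv.Perm GolayPt} (hg : g ∈ M24) (h0 : g none = none)
    (hc' : g * aff u2 0 = aff u2 0 * g) : ∃ a : (ZMod 23)ˣ, IsSquare a ∧ g = aff a 0 := by
  -- values on residues
  have hsome : ∀ x : ZMod 23, ∃ y : ZMod 23, g (some x) = some y := by
    intro x
    rcases hy : g (some x) with _ | y
    · rw [← h0] at hy
      exact absurd (g.injective hy) (by simp)
    · exact ⟨y, rfl⟩
  choose h hh using hsome
  have hcomm : ∀ x : ZMod 23, h (2 * x) = 2 * h x := by
    intro x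
    have h1 : (g * aff u2 0) (some x) = (aff u2 0 * g) (some x) := by rw [hc']
    rw [Equiv.Perm.mul_apply, Equiv.Perm.mul_apply, aff_some, hh, hh, aff_some, add_zero, add_zero]
      at h1
    exact Option.some.inj h1
  have hinj : Function.Injective h := by
    intro x y hxy
    have : g (some x) = g (some y) := by rw [hh, hh, hxy]
    exact Option.some.inj (g.injective this)
  have hzero : h 0 = 0 := by
    have := hcomm 0
    rw [mul_zero] at this
    have h2 : h 0 * 1 = 0 := by linear_combination -this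
    simpa using h2
  have hpow : ∀ (n : ℕ) (x : ZMod 23), h (((u2 ^ n : (ZMod 23)ˣ) : ZMod 23) * x) =
      ((u2 ^ n : (ZMod 23)ˣ) : ZMod 23) * h x := by
    intro n
    induction n with
    | zero => intro x; simp
    | succ n ih =>
      intro x
      rw [pow_succ, Units.val_mul, mul_assoc, ih, mul_assoc]
      congr 1
      exact hcomm x
  have ha : h 1 ≠ 0 := by
    intro h1
    rw [← hzero] at h1
    exact absurd (hinj h1) (by decide)
  have hb : h (-1) ≠ 0 := by
    intro h1
    rw [← hzero] at h1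
    exact absurd (hinj h1) (by decide)
  have heq : h = hc (h 1) (h (-1)) := by
    funext x
    rcases cases_pow x with rfl | ⟨i, ⟨hx, hs⟩ | ⟨hx, hs⟩⟩
    · rw [hzero]
      simp [hc]
    · rw [hc, if_pos hs]
      have := hpow i 1
      rw [mul_one] at this
      rw [hx, this]
    · have hs' : ¬ sqb x = true := by rw [hs]; decide
      rw [hc, if_neg hs']
      have := hpow i (-1)
      rw [mul_neg_one] at this
      rw [hx, this, neg_neg]
  have hpar : ∀ s t, par (hc (h 1) (h (-1))) s t = false := by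
    intro s t
    rw [← heq]
    exact par_of_mem_M24 hg hh s t
  rcases hc_check (h 1) (h (-1)) ha hb with ⟨h1, h2⟩ | h1 | ⟨i, h1⟩
  · refine ⟨Units.mk0 (h 1) ha, isSquare_of_sqb _ h2, ?_⟩
    apply Equiv.ext
    rintro (_ | x)
    · rw [h0]; rfl
    · rw [hh, aff_some, add_zero, Units.val_mk0]
      congr 1
      rw [heq]
      unfold hc
      have hs1 : sqb 1 = true := by decide
      rw [if_pos hs1, h1]
      split_ifs <;> ring
  · rw [hpar] at h1
    exact absurd h1 (by decide)
  · rw [hpar] at h1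
    exact absurd h1 (by decide)

theorem aff_mem_M24 {u : (ZMod 23)ˣ} (hu : IsSquare u) (b : ZMod 23) (hK : K ≤ M24) :
    aff u b ∈ M24 := hK ⟨u, b, hu, rfl⟩

theorem neg_par : par (fun x => -x) 0 0 = true := by decide +kernel

/-- an element of `M24` fixing the extra point and normalising `⟨x ↦ x + 1⟩` is in `23:11` -/
theorem mem_K_of_normalize {g : Equiv.Perm GolayPt} (hg : g ∈ M24) (h0 : g none = none)
    (hK : K ≤ M24) (n : ℕ) (hn : g * aff 1 1 = (aff 1 1) ^ n * g) : g ∈ K := by
  have hsome : ∀ x : ZMod 23, ∃ y : ZMod 23, g (some x) = some y := by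
    intro x
    rcases hy : g (some x) with _ | y
    · rw [← h0] at hy
      exact absurd (g.injective hy) (by simp)
    · exact ⟨y, rfl⟩
  choose h hh using hsome
  have hstep : ∀ x : ZMod 23, h (x + 1) = h x + n := by
    intro x
    have h1 : (g * aff 1 1) (some x) = (aff 1 1 ^ n * g) (some x) := by rw [hn]
    rw [Equiv.Perm.mul_apply, Equiv.Perm.mul_apply, aff_some, aff_one_pow, hh, hh, aff_some] at h1
    have := Option.some.inj h1
    rw [Units.val_one, one_mul, one_mul, mul_one] at this
    exact this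
  have hnat : ∀ m : ℕ, h (m : ZMod 23) = n * m + h 0 := by
    intro m
    induction m with
    | zero => simp
    | succ m ih =>
      rw [Nat.cast_succ, hstep, ih]
      ring
  have hall : ∀ x : ZMod 23, h x = n * x + h 0 := by
    intro x
    have := hnat x.val
    rw [ZMod.natCast_zmod_val] at this
    exact this
  have hn0 : (n : ZMod 23) ≠ 0 := by
    intro h1
    have h2 : h 1 = h 0 := by rw [hall 1, h1, zero_mul, zero_add]
    have h3 : g (some 1) = g (some 0) := by rw [hh, hh, h2]
    exact absurd (Option.some.inj (g.injective h3)) (by decide)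
  have hgaff : g = aff (Units.mk0 (n : ZMod 23) hn0) (h 0) := by
    apply Equiv.ext
    rintro (_ | x)
    · rw [h0]; rfl
    · rw [hh, aff_some, Units.val_mk0, hall]
  rcases isSquare_or_neg (Units.mk0 (n : ZMod 23) hn0) with hs | hs
  · exact ⟨_, _, hs, hgaff⟩
  · exfalso
    set u := Units.mk0 (n : ZMod 23) hn0 with hu
    have h1 : (aff (-u) (h 0))⁻¹ * g ∈ M24 :=
      M24.mul_mem (M24.inv_mem (aff_mem_M24 hs _ hK)) hg
    rw [hgaff, aff_inv, aff_mul] at h1
    have h2 : (-u)⁻¹ * u = -1 := by rw [inv_neg, neg_mul, inv_mul_cancel]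
    rw [h2] at h1
    have h3 : ((-u)⁻¹ : (ZMod 23)ˣ) * h 0 + -(((-u)⁻¹ : (ZMod 23)ˣ) * h 0) = 0 := by ring
    rw [h3] at h1
    have h4 := par_of_mem_M24 h1 (h := fun x => -x) (by
      intro x
      rw [aff_some, add_zero]
      simp) 0 0
    rw [neg_par] at h4
    exact absurd h4 (by decide)

end Cfsg.Agent.SporadicStructure.QRNormalizer
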