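import Mathlib
import Cfsg.Prelude.Def_Sporadic_a
import Cfsg.Agent.SporadicStructure.QRNormalizer

/-!
The group of order 6072 generated by `x ↦ x + 1`, `x ↦ u x` (`u` a square), `x ↦ -1/x`:
Bruhat decomposition and order.
-/

set_option autoImplicit false

namespace Cfsg.Agent.SporadicStructure.Psl223

open Cfsg
open Cfsg.Agent.SporadicStructure.Affine23
open Cfsg.Agent.SporadicStructure.QRNormalizer

attribute [local instance] fact_prime23

theorem projInv_apply (p : GolayPt) : projInv p = projInvFun p := rfl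

theorem projInv_mul_self : projInv * projInv = 1 := by
  apply Equiv.ext
  intro p
  exact projInv.left_inv p

theorem projInv_inv : projInv⁻¹ = projInv := by
  rw [inv_eq_iff_mul_eq_one, projInv_mul_self]

theorem projInv_aff_fun : ∀ (u : (ZMod 23)ˣ) (x : GolayPt),
    projInvFun (affFun u 0 x) = affFun ((u⁻¹ : (ZMod 23)ˣ) : ZMod 23) 0 (projInvFun x) := by
  decide +kernel

theorem projInv_aff (u : (ZMod 23)ˣ) : projInv * aff u 0 = aff u⁻¹ 0 * projInv := by
  apply Equiv.ext
  intro p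
  exact projInv_aff_fun u p

theorem bruhat_fun : ∀ (c : (ZMod 23)ˣ) (x : GolayPt),
    projInvFun (affFun 1 c (projInvFun x)) =
      affFun (((c⁻¹ * c⁻¹ : (ZMod 23)ˣ)) : ZMod 23) (-((c⁻¹ : (ZMod 23)ˣ) : ZMod 23))
        (projInvFun (affFun 1 (-((c⁻¹ : (ZMod 23)ˣ) : ZMod 23)) x)) := by
  decide +kernel

theorem bruhat (c : (ZMod 23)ˣ) :
    projInv * aff 1 c * projInv =
      aff (c⁻¹ * c⁻¹) (-((c⁻¹ : (ZMod 23)ˣ) : ZMod 23)) * projInv *
        aff 1 (-((c⁻¹ : (ZMod 23)ˣ) : ZMod 23)) := by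
  apply Equiv.ext
  intro p
  exact bruhat_fun c p

/-- the generators of the group `PSL(2, 23)` -/
def gens : Set (Equiv.Perm GolayPt) :=
  {Equiv.optionCongr (Equiv.addRight (1 : ZMod 23)), Cfsg.projInv} ∪
    {g : Equiv.Perm Cfsg.GolayPt | ∃ u : (ZMod 23)ˣ, IsSquare u ∧
      g = Equiv.optionCongr (Units.mulLeft u)}

/-- the group `PSL(2, 23)` -/
def L : Subgroup (Equiv.Perm GolayPt) := Subgroup.closure gens

/-- the two double cosets -/
def bruhatSet : Set (Equiv.Perm GolayPt) :=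
  {g | g ∈ K ∨ ∃ k ∈ K, ∃ c : ZMod 23, g = k * projInv * aff 1 c}

theorem mul_aff_mem {g : Equiv.Perm GolayPt} (hg : g ∈ bruhatSet) {v : (ZMod 23)ˣ}
    (hv : IsSquare v) (d : ZMod 23) : g * aff v d ∈ bruhatSet := by
  rcases hg with hg | ⟨k, hk, c, rfl⟩
  · exact Or.inl (K.mul_mem hg ⟨v, d, hv, rfl⟩)
  · right
    refine ⟨k * aff v⁻¹ 0, K.mul_mem hk ⟨v⁻¹, 0, hv.inv, rfl⟩,
      ((v⁻¹ : (ZMod 23)ˣ) : ZMod 23) * (d + c), ?_⟩
    have h1 : aff 1 c * aff v d = aff v 0 * aff 1 (((v⁻¹ : (ZMod 23)ˣ) : ZMod 23) * (d + c)) := by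
      rw [aff_mul, aff_mul, one_mul, mul_one, Units.val_one, one_mul, Units.mul_inv_cancel_left,
        add_zero]
    rw [mul_assoc, h1, mul_assoc k projInv, ← mul_assoc projInv, projInv_aff]
    simp only [mul_assoc]

theorem mul_projInv_mem {g : Equiv.Perm GolayPt} (hg : g ∈ bruhatSet) :
    g * projInv ∈ bruhatSet := by
  rcases hg with hg | ⟨k, hk, c, rfl⟩
  · right
    exact ⟨g, hg, 0, by rw [aff_one_zero, mul_one]⟩
  · by_cases hc : c = 0
    · subst hc
      left
      rw [aff_one_zero, mul_one, mul_assoc, projInv_mul_self, mul_one]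
      exact hk
    · right
      set u := Units.mk0 c hc with hu
      refine ⟨k * aff (u⁻¹ * u⁻¹) (-((u⁻¹ : (ZMod 23)ˣ) : ZMod 23)), ?_,
        -((u⁻¹ : (ZMod 23)ˣ) : ZMod 23), ?_⟩
      · apply K.mul_mem hk
        exact ⟨_, _, ⟨_, rfl⟩, rfl⟩
      · have := bruhat u
        rw [hu, Units.val_mk0] at this
        rw [mul_assoc k, mul_assoc k, this]
        simp only [mul_assoc]
        rfl

theorem L_subset {g : Equiv.Perm GolayPt} (hg : g ∈ L) : g ∈ bruhatSet := by
  have key : ∀ x y : Equiv.Perm GolayPt, y ∈ gens → x ∈ bruhatSet →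
      x * y ∈ bruhatSet ∧ x * y⁻¹ ∈ bruhatSet := by
    rintro x y ((hy | hy) | ⟨u, hu, rfl⟩) hx
    · rw [hy, optionCongr_addRight, aff_inv]
      exact ⟨mul_aff_mem hx ⟨1, by simp⟩ _, mul_aff_mem hx ⟨1, by simp⟩ _⟩
    · rw [Set.mem_singleton_iff] at hy
      rw [hy, projInv_inv]
      exact ⟨mul_projInv_mem hx, mul_projInv_mem hx⟩
    · rw [optionCongr_mulLeft, aff_inv]
      exact ⟨mul_aff_mem hx hu _, mul_aff_mem hx hu.inv _⟩
  induction hg using Subgroup.closure_induction_right with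
  | one => exact Or.inl K.one_mem
  | mul_right x _ y hy hx => exact (key x y hy hx).1
  | mul_inv_cancel x _ y hy hx => exact (key x y hy hx).2

theorem K_le_L : K ≤ L := by
  rw [← closure_eq_K]
  apply Subgroup.closure_mono
  rintro g (hg | hg)
  · left; left; exact hg
  · right; exact hg

theorem projInv_mem_L : projInv ∈ L := Subgroup.subset_closure (Or.inl (Or.inr rfl))

theorem card_L_le : Nat.card L ≤ 6072 := by
  let f : K ⊕ (K × ZMod 23) → Equiv.Perm GolayPt := fun x => match x with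
    | Sum.inl k => k
    | Sum.inr (k, c) => k * projInv * aff 1 c
  have h1 : (L : Set (Equiv.Perm GolayPt)) ⊆ Set.range f := by
    intro g hg
    rcases L_subset hg with h | ⟨k, hk, c, rfl⟩
    · exact ⟨Sum.inl ⟨g, h⟩, rfl⟩
    · exact ⟨Sum.inr (⟨k, hk⟩, c), rfl⟩
  calc Nat.card L = (L : Set (Equiv.Perm GolayPt)).ncard := rfl
    _ ≤ (Set.range f).ncard := Set.ncard_le_ncard h1 (Set.finite_range f)
    _ ≤ Nat.card (K ⊕ (K × ZMod 23)) := by
        rw [← Set.image_univ, ← Set.ncard_univ]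
        exact Set.ncard_image_le Set.finite_univ
    _ = 6072 := by
        rw [Nat.card_sum, Nat.card_prod, card_K, Nat.card_zmod]

/-- `L` is transitive on the 24 points: the orbit of the extra point under any group containing `L` -/
theorem exists_mem_L (p : GolayPt) : ∃ g ∈ L, g none = p := by
  rcases p with _ | x
  · exact ⟨1, L.one_mem, rfl⟩
  · refine ⟨aff 1 x * projInv, L.mul_mem (K_le_L ⟨1, x, ⟨1, by simp⟩, rfl⟩) projInv_mem_L, ?_⟩
    rw [Equiv.Perm.mul_apply]
    show aff 1 x (some 0) = some x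
    rw [aff_some]
    simp

/-- orbit counting for a group containing `L` -/
theorem card_eq_of_L_le {H : Subgroup (Equiv.Perm GolayPt)} (hH : L ≤ H) :
    Nat.card H = 24 * Nat.card ↥(H ⊓ MulAction.stabilizer (Equiv.Perm GolayPt) (none : GolayPt)) := by
  have h1 : MulAction.orbit H (none : GolayPt) = Set.univ := by
    rw [Set.eq_univ_iff_forall]
    intro p
    obtain ⟨g, hg, hgp⟩ := exists_mem_L p
    exact ⟨⟨g, hH hg⟩, hgp⟩
  have h2 := Subgroup.card_mul_index (MulAction.stabilizer H (none : GolayPt))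
  rw [MulAction.index_stabilizer, h1, Set.ncard_univ, Nat.card_eq_fintype_card (α := GolayPt),
    show Fintype.card GolayPt = 24 from rfl] at h2
  rw [← h2, mul_comm]
  congr 1
  have h4 : MulAction.stabilizer H (none : GolayPt) =
      (MulAction.stabilizer (Equiv.Perm GolayPt) (none : GolayPt)).subgroupOf H := by
    ext x
    rfl
  rw [h4, ← Subgroup.inf_subgroupOf_left]
  exact Nat.card_congr (Subgroup.subgroupOfEquivOfLe inf_le_left).toEquiv

theorem K_le_stab : K ≤ MulAction.stabilizer (Equiv.Perm GolayPt) (none : GolayPt) := by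
  rintro g ⟨u, b, _, rfl⟩
  exact aff_none u b

theorem card_L : Nat.card L = 6072 := by
  apply le_antisymm card_L_le
  rw [card_eq_of_L_le le_rfl]
  have h1 : Nat.card K ≤
      Nat.card ↥(L ⊓ MulAction.stabilizer (Equiv.Perm GolayPt) (none : GolayPt)) :=
    Nat.card_le_card_of_injective _ (Subgroup.inclusion_injective (le_inf K_le_L K_le_stab))
  rw [card_K] at h1
  omega

theorem L_inf_stab : L ⊓ MulAction.stabilizer (Equiv.Perm GolayPt) (none : GolayPt) = K := by
  symm
  apply Subgroup.eq_of_le_of_card_ge (le_inf K_le_L K_le_stab)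
  have h := card_eq_of_L_le (le_refl L)
  rw [card_L] at h
  rw [card_K]
  omega

end Cfsg.Agent.SporadicStructure.Psl223
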