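import Mathlib

/-!
Counting Sylow subgroups of prime order inside an intermediate subgroup, and the arithmetic that
makes `23:11` a maximal subgroup of a group of order 10200960.
-/

set_option autoImplicit false

namespace Cfsg.Agent.SporadicStructure.SylowCount

/-- Sylow's counting theorem for a subgroup `Q` of prime order `p` inside a subgroup `H` whose order
is not divisible by `p ^ 2`: `|H| = |N_H(Q)| * n` with `n ≡ 1` modulo `p`. -/
theorem sylow_count {G : Type*} [Group G] [Finite G] (p : ℕ) [hp : Fact p.Prime]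
    (Q H : Subgroup G) (hQH : Q ≤ H) (hQ : Nat.card Q = p) (hp2 : ¬ p ^ 2 ∣ Nat.card H) :
    ∃ n, n ≡ 1 [MOD p] ∧ Nat.card H = Nat.card ↥(Subgroup.normalizer (Q : Set G) ⊓ H) * n := by
  have hQ' : Nat.card (Q.subgroupOf H) = p :=
    (Nat.card_congr (Subgroup.subgroupOfEquivOfLe hQH).toEquiv).trans hQ
  have hpg : IsPGroup p (Q.subgroupOf H) := IsPGroup.of_card (n := 1) (by rw [hQ', pow_one])
  have hidx : ¬ p ∣ (Q.subgroupOf H).index := by
    intro h
    apply hp2
    rw [← Subgroup.card_mul_index (Q.subgroupOf H), hQ', pow_two]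
    exact mul_dvd_mul_left _ h
  have hcard : Nat.card (Sylow p H) = (Subgroup.normalizer ((Q.subgroupOf H : Subgroup H) : Set H)).index :=
    (hpg.toSylow hidx).card_eq_index_normalizer
  refine ⟨Nat.card (Sylow p H), card_sylow_modEq_one p H, ?_⟩
  rw [hcard, ← Subgroup.subgroupOf_normalizer_eq hQH]
  have h2 : Nat.card ↥(Subgroup.normalizer (Q : Set G) ⊓ H) =
      Nat.card ((Subgroup.normalizer (Q : Set G)).subgroupOf H) := by
    rw [← Subgroup.inf_subgroupOf_right]
    exact (Nat.card_congr (Subgroup.subgroupOfEquivOfLe inf_le_right).toEquiv).symm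
  rw [h2, Subgroup.card_mul_index]

/-- the order of `N_M(Q)` is `|C_M(Q)|` times a divisor of `p - 1` -/
theorem card_normalizer_inf {G : Type*} [Group G] [Finite G] (p : ℕ) [hp : Fact p.Prime]
    (Q M : Subgroup G) (hQ : Nat.card Q = p) :
    ∃ r, r ∣ p - 1 ∧ Nat.card ↥(Subgroup.normalizer (Q : Set G) ⊓ M) =
      Nat.card ↥(Subgroup.centralizer (Q : Set G) ⊓ M) * r := by
  have hcyc : IsCyclic Q := isCyclic_of_prime_card hQ
  let f : ↥(Subgroup.normalizer (Q : Set G) ⊓ M) →* MulAut Q :=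
    Q.normalizerMonoidHom.comp (Subgroup.inclusion inf_le_left)
  have hker : f.ker = (Subgroup.centralizer (Q : Set G) ⊓ M).subgroupOf
      (Subgroup.normalizer (Q : Set G) ⊓ M) := by
    show (Q.normalizerMonoidHom.comp (Subgroup.inclusion inf_le_left)).ker = _
    rw [← MonoidHom.comap_ker, Subgroup.normalizerMonoidHom_ker]
    ext x
    simp only [Subgroup.mem_comap, Subgroup.mem_subgroupOf, Subgroup.coe_inclusion,
      Subgroup.mem_inf]
    exact ⟨fun h => ⟨h, x.2.2⟩, fun h => h.1⟩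
  refine ⟨Nat.card f.range, ?_, ?_⟩
  · have h1 : Nat.card (MulAut Q) = p - 1 := by
      rw [IsCyclic.card_mulAut, hQ, Nat.totient_prime hp.1]
    rw [← h1]
    exact Subgroup.card_subgroup_dvd_card _
  · rw [← Subgroup.card_mul_index f.ker, Subgroup.index_ker, hker]
    congr 1
    apply Nat.card_congr
    apply (Subgroup.subgroupOfEquivOfLe _).toEquiv
    exact inf_le_inf_right _ (Subgroup.centralizer_le_normalizer _)

theorem arith_n11 (r n : ℕ) (hr : r ∣ 10) (h : 10200960 = 11 * r * n) (hn : n ≡ 1 [MOD 11]) :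
    r = 5 := by
  have hr' : r ≤ 10 := Nat.le_of_dvd (by norm_num) hr
  have hn' : n % 11 = 1 := hn
  have h2 : 927360 = r * n := by
    apply Nat.eq_of_mul_eq_mul_left (show 0 < 11 by norm_num)
    rw [← mul_assoc, ← h]
  interval_cases r <;> revert hr <;> (intro hr; omega)

theorem arith_divisors (b : ℕ) (hb : b ∣ 40320) (hb1 : b % 23 = 1) :
    b = 1 ∨ b = 24 ∨ b = 70 ∨ b = 576 ∨ b = 1680 ∨ b = 40320 := by
  have h1 : b ∈ (Nat.divisors 40320).filter (fun b => b % 23 = 1) := by
    rw [Finset.mem_filter, Nat.mem_divisors]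
    exact ⟨⟨hb, by norm_num⟩, hb1⟩
  have h2 : (Nat.divisors 40320).filter (fun b => b % 23 = 1) = {1, 24, 70, 576, 1680, 40320} := by
    decide +kernel
  rw [h2] at h1
  simpa using h1

/-- The arithmetic of Sylow counting: in a group of order 10200960 a subgroup of order 253 which
contains its own 23-normaliser, and a subgroup of order 11 that is self-centralising, is maximal. -/
theorem eq_or_eq_of_between {G : Type*} [Group G] [Finite G] (M K P Q : Subgroup G)
    (hM : Nat.card M = 10200960) (hK : Nat.card K = 253) (hKM : K ≤ M)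
    (hP : Nat.card P = 23) (hPK : P ≤ K) (hQ : Nat.card Q = 11) (hQK : Q ≤ K)
    (hKP : K ≤ Subgroup.normalizer (P : Set G)) (hNP : Subgroup.normalizer (P : Set G) ⊓ M ≤ K)
    (hCQ : Nat.card ↥(Subgroup.centralizer (Q : Set G) ⊓ M) = 11)
    (H : Subgroup G) (hKH : K ≤ H) (hHM : H ≤ M) : H = K ∨ H = M := by
  have f11 : Fact (Nat.Prime 11) := ⟨by norm_num⟩
  have f23 : Fact (Nat.Prime 23) := ⟨by norm_num⟩
  have hHd : Nat.card H ∣ 10200960 := hM ▸ Subgroup.card_dvd_of_le hHM
  have h11 : ¬ 11 ^ 2 ∣ 10200960 := by norm_num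
  have h23 : ¬ 23 ^ 2 ∣ 10200960 := by norm_num
  have hNQ : Nat.card ↥(Subgroup.normalizer (Q : Set G) ⊓ M) = 55 := by
    obtain ⟨r, hr, hr2⟩ := card_normalizer_inf 11 Q M hQ
    obtain ⟨n, hn, hn2⟩ := sylow_count 11 Q M (hQK.trans hKM) hQ (by rw [hM]; exact h11)
    rw [hM, hr2, hCQ] at hn2
    have := arith_n11 r n hr hn2 hn
    rw [hr2, hCQ, this]
  obtain ⟨a, ha, ha2⟩ := sylow_count 11 Q H (hQK.trans hKH) hQ (fun h => h11 (h.trans hHd))
  obtain ⟨b, hb, hb2⟩ := sylow_count 23 P H (hPK.trans hKH) hP (fun h => h23 (h.trans hHd))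
  have hNPH : Subgroup.normalizer (P : Set G) ⊓ H = K := by
    apply le_antisymm
    · exact (inf_le_inf_left _ hHM).trans hNP
    · exact le_inf hKP hKH
  rw [hNPH, hK] at hb2
  have hbd : b ∣ 40320 := by
    rw [hb2] at hHd
    have : (10200960 : ℕ) = 253 * 40320 := by norm_num
    rw [this] at hHd
    exact Nat.dvd_of_mul_dvd_mul_left (by norm_num) hHd
  have hNd : Nat.card ↥(Subgroup.normalizer (Q : Set G) ⊓ H) ∣ 55 := by
    rw [← hNQ]
    exact Subgroup.card_dvd_of_le (inf_le_inf_left _ hHM)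
  have hNd' : 11 ∣ Nat.card ↥(Subgroup.normalizer (Q : Set G) ⊓ H) := by
    rw [← hQ]
    exact Subgroup.card_dvd_of_le (le_inf Subgroup.le_normalizer (hQK.trans hKH))
  have hN : Nat.card ↥(Subgroup.normalizer (Q : Set G) ⊓ H) = 11 ∨
      Nat.card ↥(Subgroup.normalizer (Q : Set G) ⊓ H) = 55 := by
    obtain ⟨c, hc⟩ := hNd'
    rw [hc] at hNd ⊢
    have : (55 : ℕ) = 11 * 5 := by norm_num
    rw [this] at hNd
    have h5 := Nat.dvd_of_mul_dvd_mul_left (by norm_num) hNd
    rcases (Nat.dvd_prime (by norm_num)).1 h5 with h | h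
    · left; rw [h]
    · right; rw [h]
  have ha' : a % 11 = 1 := ha
  have hb' : b % 23 = 1 := hb
  rcases hN with hN | hN
  · left
    rw [hN, hb2] at ha2
    have hb1 : b = 1 := by
      rcases arith_divisors b hbd hb' with h | h | h | h | h | h <;> subst h <;> omega
    subst hb1
    exact (Subgroup.eq_of_le_of_card_ge hKH (by rw [hb2, hK])).symm
  · right
    rw [hN, hb2] at ha2
    have hb1 : b = 40320 := by
      rcases arith_divisors b hbd hb' with h | h | h | h | h | h <;> subst h <;> omega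
    subst hb1
    exact Subgroup.eq_of_le_of_card_ge hHM (by rw [hb2, hM])

end Cfsg.Agent.SporadicStructure.SylowCount
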