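import Mathlib

/-!
A subgroup with three orbits of known sizes on the cosets: from an action to the cosets, and maximality from
arithmetic.
-/

set_option autoImplicit false

namespace Cfsg.Agent.SporadicStructure.RankThreeIndex

/-- The conclusion for a group acting with suitable orbit sizes. -/
theorem rank_three_of_action {G Z : Type*} [Group G] [Finite G] [MulAction G Z] (p0 p1 p2 : Z)
    {n a b : ℕ} (h1 : p1 ∈ MulAction.orbit G p0) (h2 : p2 ∈ MulAction.orbit G p0)
    (hn : (MulAction.orbit G p0).ncard = n)
    (a1 : (MulAction.orbit (MulAction.stabilizer G p0) p1).ncard = a)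
    (a2 : (MulAction.orbit (MulAction.stabilizer G p0) p2).ncard = b)
    (hab : a ≠ b) (ha : a ≠ 1) (hb : b ≠ 1) (hsum : n = 1 + a + b) (hn1 : n ≠ 1)
    (hda : ¬ (1 + a) ∣ n) (hdb : ¬ (1 + b) ∣ n) :
    ∃ H : Subgroup G, IsCoatom H ∧ H.index = n ∧
      ∃ q₁ q₂ : G ⧸ H, (MulAction.orbit H q₁).ncard = a ∧ (MulAction.orbit H q₂).ncard = b := by
  classical
  set H := MulAction.stabilizer G p0 with hH
  have hfin : (MulAction.orbit G p0).Finite := Set.finite_range _
  have hidx : H.index = n := by rw [hH, MulAction.index_stabilizer, hn]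
  have hq : ∀ (p : Z), p ∈ MulAction.orbit G p0 → ∃ q : G ⧸ H,
      (MulAction.orbit H q).ncard = (MulAction.orbit H p).ncard := by
    rintro p ⟨g, rfl⟩
    refine ⟨(g : G ⧸ H), ?_⟩
    rw [← Set.ncard_image_of_injective (MulAction.orbit H (g : G ⧸ H))
      (MulAction.injective_ofQuotientStabilizer G p0)]
    congr 1
    ext y
    constructor
    · rintro ⟨_, ⟨h, rfl⟩, rfl⟩
      refine ⟨h, ?_⟩
      change (h : G) • (g • p0) = ((h : G) * g) • p0
      rw [mul_smul]
    · rintro ⟨h, rfl⟩
      refine ⟨h • (g : G ⧸ H), ⟨h, rfl⟩, ?_⟩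
      change ((h : G) * g) • p0 = (h : G) • (g • p0)
      rw [mul_smul]
  refine ⟨H, ⟨?_, ?_⟩, hidx, ?_⟩
  · intro htop
    rw [htop, Subgroup.index_top] at hidx
    exact hn1 hidx.symm
  · intro M hM
    -- the orbit of `M`
    set S := MulAction.orbit M p0 with hS
    have hSfin : S.Finite := Set.finite_range _
    have hSsub : S ⊆ MulAction.orbit G p0 := by
      rintro _ ⟨m, rfl⟩
      exact ⟨(m : G), rfl⟩
    have hp0S : p0 ∈ S := MulAction.mem_orbit_self _
    -- S is invariant under M
    have hinv : ∀ m ∈ M, ∀ y, m • y ∈ S ↔ y ∈ S := by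
      intro m hm y
      constructor
      · rintro ⟨m', hm'⟩
        refine ⟨(⟨m, hm⟩ : M)⁻¹ * m', ?_⟩
        change ((⟨m, hm⟩ : M)⁻¹ * m') • p0 = y
        rw [mul_smul]
        change (⟨m, hm⟩ : M)⁻¹ • (m' • p0) = y
        rw [inv_smul_eq_iff]
        exact hm'
      · rintro ⟨m', rfl⟩
        exact ⟨(⟨m, hm⟩ : M) * m', mul_smul _ _ _⟩
    have hcardS : S.ncard = H.relIndex M := by
      have e1 : (MulAction.stabilizer M p0).index = S.ncard := MulAction.index_stabilizer M p0
      rw [← e1]
      rfl
    have hmul : H.relIndex M * M.index = n := by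
      rw [Subgroup.relIndex_mul_index hM.le, hidx]
    -- H-orbits inside or disjoint
    have hO : ∀ p : Z, p ∈ S ∨ Disjoint (MulAction.orbit H p) S := by
      intro p
      by_cases hp : p ∈ S
      · exact Or.inl hp
      · right
        rw [Set.disjoint_left]
        rintro _ ⟨h, rfl⟩ hh
        exact hp ((hinv h (hM.le h.2) p).1 hh)
    have hOsub : ∀ p : Z, p ∈ S → MulAction.orbit H p ⊆ S := by
      rintro p hp _ ⟨h, rfl⟩
      exact (hinv h (hM.le h.2) p).2 hp
    -- the G-orbit is the union
    set O1 := MulAction.orbit H p1 with hO1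
    set O2 := MulAction.orbit H p2 with hO2
    have horb : ∀ p, p ∈ MulAction.orbit G p0 → MulAction.orbit H p ⊆ MulAction.orbit G p0 := by
      rintro p ⟨g, rfl⟩ _ ⟨h, rfl⟩
      exact ⟨(h : G) * g, mul_smul _ _ _⟩
    have hs1 := horb p1 h1
    have hs2 := horb p2 h2
    have hp0orb : MulAction.orbit H p0 = {p0} := by
      ext y
      constructor
      · rintro ⟨h, rfl⟩
        exact h.2
      · rintro rfl
        exact MulAction.mem_orbit_self _
    have hd12 : Disjoint O1 O2 := by
      rw [Set.disjoint_left]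
      intro y hy1 hy2
      apply hab
      rw [← a1, ← a2, hO1, hO2, ← MulAction.orbit_eq_iff.2 hy1, ← MulAction.orbit_eq_iff.2 hy2]
    have hd01 : p0 ∉ O1 := by
      intro hy
      have e1 := MulAction.orbit_eq_iff.2 hy
      rw [hp0orb] at e1
      apply ha
      rw [← a1, hO1, ← e1, Set.ncard_singleton]
    have hd02 : p0 ∉ O2 := by
      intro hy
      have e1 := MulAction.orbit_eq_iff.2 hy
      rw [hp0orb] at e1
      apply hb
      rw [← a2, hO2, ← e1, Set.ncard_singleton]
    have hf1 : O1.Finite := hfin.subset hs1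
    have hf2 : O2.Finite := hfin.subset hs2
    have hcard3 : (insert p0 (O1 ∪ O2)).ncard = n := by
      rw [Set.ncard_insert_of_notMem (by
        intro h; rcases h with h | h
        · exact hd01 h
        · exact hd02 h) (hf1.union hf2), Set.ncard_union_eq hd12 hf1 hf2, hsum]
      rw [a1, a2]
      ring
    have hall : insert p0 (O1 ∪ O2) = MulAction.orbit G p0 := by
      apply Set.eq_of_subset_of_ncard_le _ _ hfin
      · intro y hy
        rcases hy with rfl | hy | hy
        · exact MulAction.mem_orbit_self _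
        · exact hs1 hy
        · exact hs2 hy
      · rw [hcard3, hn]
    rcases hO p1 with hp1 | hp1 <;> rcases hO p2 with hp2 | hp2
    · -- everything
      have hSall : S = MulAction.orbit G p0 := by
        apply Set.Subset.antisymm hSsub
        rw [← hall]
        intro y hy
        rcases hy with rfl | hy | hy
        · exact hp0S
        · exact hOsub p1 hp1 hy
        · exact hOsub p2 hp2 hy
      rw [hSall, hn] at hcardS
      rw [← hcardS] at hmul
      have hn0 : 0 < n := by omega
      have : M.index = 1 := by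
        have := Nat.eq_of_mul_eq_mul_left hn0 (hmul.trans (mul_one n).symm)
        exact this
      exact Subgroup.index_eq_one.1 this
    · exfalso
      have hS' : S = insert p0 O1 := by
        apply Set.Subset.antisymm
        · intro y hy
          have hy' := hSsub hy
          rw [← hall] at hy'
          rcases hy' with rfl | hy' | hy'
          · exact Or.inl rfl
          · exact Or.inr hy'
          · exact absurd hy (Set.disjoint_left.1 hp2 hy')
        · intro y hy
          rcases hy with rfl | hy
          · exact hp0S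
          · exact hOsub p1 hp1 hy
      apply hda
      rw [← hmul, ← hcardS, hS', Set.ncard_insert_of_notMem hd01 hf1, a1, add_comm a 1]
      exact Dvd.intro _ rfl
    · exfalso
      have hS' : S = insert p0 O2 := by
        apply Set.Subset.antisymm
        · intro y hy
          have hy' := hSsub hy
          rw [← hall] at hy'
          rcases hy' with rfl | hy' | hy'
          · exact Or.inl rfl
          · exact absurd hy (Set.disjoint_left.1 hp1 hy')
          · exact Or.inr hy'
        · intro y hy
          rcases hy with rfl | hy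
          · exact hp0S
          · exact hOsub p2 hp2 hy
      apply hdb
      rw [← hmul, ← hcardS, hS', Set.ncard_insert_of_notMem hd02 hf2, a2, add_comm b 1]
      exact Dvd.intro _ rfl
    · exfalso
      have hS' : S ⊆ {p0} := by
        intro y hy
        have hy' := hSsub hy
        rw [← hall] at hy'
        rcases hy' with rfl | hy' | hy'
        · exact rfl
        · exact absurd hy (Set.disjoint_left.1 hp1 hy')
        · exact absurd hy (Set.disjoint_left.1 hp2 hy')
      apply hM.not_ge
      intro m hm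
      exact hS' ⟨⟨m, hm⟩, rfl⟩
  · obtain ⟨q1, hq1⟩ := hq p1 h1
    obtain ⟨q2, hq2⟩ := hq p2 h2
    exact ⟨q1, q2, hq1.trans a1, hq2.trans a2⟩

/-- The same along an isomorphism. -/
theorem rank_three_of_iso {G Γ Z : Type*} [Group G] [Group Γ] [Finite G] [MulAction Γ Z] (e : G ≃* Γ)
    (p0 p1 p2 : Z)
    {n a b : ℕ} (h1 : p1 ∈ MulAction.orbit Γ p0) (h2 : p2 ∈ MulAction.orbit Γ p0)
    (hn : (MulAction.orbit Γ p0).ncard = n)
    (a1 : (MulAction.orbit (MulAction.stabilizer Γ p0) p1).ncard = a)
    (a2 : (MulAction.orbit (MulAction.stabilizer Γ p0) p2).ncard = b)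
    (hab : a ≠ b) (ha : a ≠ 1) (hb : b ≠ 1) (hsum : n = 1 + a + b) (hn1 : n ≠ 1)
    (hda : ¬ (1 + a) ∣ n) (hdb : ¬ (1 + b) ∣ n) :
    ∃ H : Subgroup G, IsCoatom H ∧ H.index = n ∧
      ∃ q₁ q₂ : G ⧸ H, (MulAction.orbit H q₁).ncard = a ∧ (MulAction.orbit H q₂).ncard = b := by
  let _ : MulAction G Z := MulAction.compHom Z e.toMonoidHom
  have hsm : ∀ (g : G) (z : Z), g • z = e g • z := fun _ _ => rfl
  have horb : ∀ z : Z, MulAction.orbit G z = MulAction.orbit Γ z := by
    intro z
    ext y
    constructor
    · rintro ⟨g, rfl⟩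
      exact ⟨e g, rfl⟩
    · rintro ⟨g, rfl⟩
      exact ⟨e.symm g, by change e (e.symm g) • z = g • z; rw [e.apply_symm_apply]⟩
  have hst : ∀ z : Z, MulAction.orbit (MulAction.stabilizer G p0) z =
      MulAction.orbit (MulAction.stabilizer Γ p0) z := by
    intro z
    ext y
    constructor
    · rintro ⟨g, rfl⟩
      exact ⟨⟨e g, g.2⟩, rfl⟩
    · rintro ⟨g, rfl⟩
      refine ⟨⟨e.symm g, ?_⟩, ?_⟩
      · change e (e.symm g) • p0 = p0
        rw [e.apply_symm_apply]
        exact g.2
      · change e (e.symm g) • z = (g : Γ) • z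
        rw [e.apply_symm_apply]
  exact rank_three_of_action p0 p1 p2 (by rw [horb]; exact h1) (by rw [horb]; exact h2)
    (by rw [horb]; exact hn) (by rw [hst]; exact a1) (by rw [hst]; exact a2) hab ha hb hsum hn1 hda hdb

/-- A two-to-one image. -/
theorem two_mul_ncard_image {α β : Type*} (f : α → β) (ι : α → α) (S : Set α) (hS : S.Finite)
    (hι : ∀ w ∈ S, ι w ∈ S) (hne : ∀ w ∈ S, ι w ≠ w)
    (hf : ∀ w ∈ S, ∀ w' ∈ S, f w' = f w ↔ (w' = w ∨ w' = ι w)) :
    2 * (f '' S).ncard = S.ncard := by
  classical
  obtain ⟨T, rfl⟩ := hS.exists_finset_coe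
  rw [← Finset.coe_image, Set.ncard_coe_finset, Set.ncard_coe_finset,
    Finset.card_eq_sum_card_image f T]
  rw [Finset.sum_const_nat (m := 2)]
  · ring
  · intro b hb
    obtain ⟨w, hw, rfl⟩ := Finset.mem_image.1 hb
    have : T.filter (fun a => f a = f w) = {w, ι w} := by
      ext a
      rw [Finset.mem_filter, Finset.mem_insert, Finset.mem_singleton]
      constructor
      · rintro ⟨ha, h⟩
        exact (hf w (Finset.mem_coe.2 hw) a (Finset.mem_coe.2 ha)).1 h
      · intro h
        have ha : a ∈ T := by
          rcases h with rfl | rfl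
          · exact hw
          · exact Finset.mem_coe.1 (hι w (Finset.mem_coe.2 hw))
        exact ⟨ha, (hf w (Finset.mem_coe.2 hw) a (Finset.mem_coe.2 ha)).2 h⟩
    rw [this, Finset.card_pair (hne w (Finset.mem_coe.2 hw)).symm]

end Cfsg.Agent.SporadicStructure.RankThreeIndex
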