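import Cfsg.Agent.S0366
import Cfsg.Agent.S0394
import Cfsg.Agent.S0400
import Cfsg.Agent.S1573
import Cfsg.Agent.S1574
import Cfsg.Agent.S1582
import Cfsg.Agent.Leech.FrameTriples
import Cfsg.Agent.SporadicStructure.RankThreeIndex

/-!
The rank three action of the second Conway group on 2300 pairs of minimal vectors.
-/

set_option autoImplicit false

namespace Cfsg.Agent.SporadicStructure.Co2RankThree

open Cfsg Cfsg.Agent.Leech.FrameAux Cfsg.Agent.Leech.FrameTriplesOf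
open Cfsg.Agent.SporadicStructure.U43Final Cfsg.Agent.SporadicStructure.RankThreeIndex

open scoped Pointwise

/-- The inner product on the lattice. -/
def dt (a b : leechLattice) : ℤ := dotInt (a : GolayPt → ℤ) (b : GolayPt → ℤ)

theorem dt_comm (a b : leechLattice) : dt a b = dt b a := dot_comm _ _

theorem dt_add_left (a b c : leechLattice) : dt (a + b) c = dt a c + dt b c := dot_add_left _ _ _

theorem dt_add_right (a b c : leechLattice) : dt a (b + c) = dt a b + dt a c := dot_add_right _ _ _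

theorem dt_sub_left (a b c : leechLattice) : dt (a - b) c = dt a c - dt b c := dot_sub_left _ _ _

theorem dt_sub_right (a b c : leechLattice) : dt a (b - c) = dt a b - dt a c := dot_sub_right _ _ _

theorem dt_neg_left (a c : leechLattice) : dt (-a) c = -dt a c := dot_neg_left _ _

theorem dt_neg_right (a c : leechLattice) : dt a (-c) = -dt a c := by
  rw [dt_comm, dt_neg_left, dt_comm]

theorem dt_smul (g : Co0) (a b : leechLattice) : dt (g • a) (g • b) = dt a b := co0_dot g a b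

theorem norm_eq (a : leechLattice) : sqNorm (a : GolayPt → ℤ) = dt a a := (dot_self _).symm

theorem dt_smul_of_fix {g : Co0} {u : leechLattice} (hg : g • u = u) (a : leechLattice) :
    dt u (g • a) = dt u a := by
  conv_lhs => rw [← hg]
  exact dt_smul g u a

/-- The 4600 minimal vectors having customary inner product `-2` with `u`. -/
def A (u : leechLattice) : Set leechLattice := {w | dt w w = 32 ∧ dt u w = -16}

/-- Those orthogonal to `w`. -/
def O0 (u w : leechLattice) : Set leechLattice := {x | dt x x = 32 ∧ dt u x = -16 ∧ dt w x = 0}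

/-- Those of customary inner product 1 with `w`. -/
def O8 (u w : leechLattice) : Set leechLattice := {x | dt x x = 32 ∧ dt u x = -16 ∧ dt w x = 8}

theorem image_A (g : Co0) (u : leechLattice) : (fun x => g • x) '' A u = A (g • u) := by
  ext y
  constructor
  · rintro ⟨x, ⟨h1, h2⟩, rfl⟩
    exact ⟨(dt_smul g x x).trans h1, (dt_smul g u x).trans h2⟩
  · rintro ⟨h1, h2⟩
    refine ⟨g⁻¹ • y, ⟨?_, ?_⟩, smul_inv_smul g y⟩
    · rw [dt_smul]; exact h1
    · rw [← dt_smul g, smul_inv_smul]; exact h2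

theorem image_O0 (g : Co0) (u w : leechLattice) :
    (fun x => g • x) '' O0 u w = O0 (g • u) (g • w) := by
  ext y
  constructor
  · rintro ⟨x, ⟨h1, h2, h3⟩, rfl⟩
    exact ⟨(dt_smul g x x).trans h1, (dt_smul g u x).trans h2, (dt_smul g w x).trans h3⟩
  · rintro ⟨h1, h2, h3⟩
    refine ⟨g⁻¹ • y, ⟨?_, ?_, ?_⟩, smul_inv_smul g y⟩
    · rw [dt_smul]; exact h1
    · rw [← dt_smul g, smul_inv_smul]; exact h2
    · rw [← dt_smul g, smul_inv_smul]; exact h3

theorem image_O8 (g : Co0) (u w : leechLattice) :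
    (fun x => g • x) '' O8 u w = O8 (g • u) (g • w) := by
  ext y
  constructor
  · rintro ⟨x, ⟨h1, h2, h3⟩, rfl⟩
    exact ⟨(dt_smul g x x).trans h1, (dt_smul g u x).trans h2, (dt_smul g w x).trans h3⟩
  · rintro ⟨h1, h2, h3⟩
    refine ⟨g⁻¹ • y, ⟨?_, ?_, ?_⟩, smul_inv_smul g y⟩
    · rw [dt_smul]; exact h1
    · rw [← dt_smul g, smul_inv_smul]; exact h2
    · rw [← dt_smul g, smul_inv_smul]; exact h3

theorem ncard_coe (P : (GolayPt → ℤ) → Prop) :
    ({w : leechLattice | P (w : GolayPt → ℤ)}).ncard =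
      {w : GolayPt → ℤ | w ∈ leechLattice ∧ P w}.ncard := by
  rw [← Set.ncard_image_of_injective {w : leechLattice | P (w : GolayPt → ℤ)}
    Subtype.val_injective]
  congr 1
  ext y
  constructor
  · rintro ⟨w, hw, rfl⟩
    exact ⟨w.2, hw⟩
  · rintro ⟨hy, hy'⟩
    exact ⟨⟨y, hy⟩, hy', rfl⟩

theorem ncard_min : ({w : leechLattice | dt w w = 32}).ncard = 196560 := by
  rw [← Cfsg.Agent.S0394.result, ← ncard_coe (fun w => sqNorm w = 32)]
  simp only [norm_eq]

theorem ncard_A (u : leechLattice) (hu : dt u u = 32) : (A u).ncard = 4600 := by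
  rw [← (Cfsg.Agent.S1573.result u u.2 (by rw [norm_eq]; exact hu)).1,
    ← ncard_coe (fun w => sqNorm w = 32 ∧ dotInt (u : GolayPt → ℤ) w = -16)]
  simp only [norm_eq]
  rfl

theorem ncard_orth (u : leechLattice) (hu : dt u u = 32) :
    ({w : leechLattice | dt w w = 32 ∧ dt u w = 0}).ncard = 93150 := by
  rw [← (Cfsg.Agent.S1573.result u u.2 (by rw [norm_eq]; exact hu)).2.2,
    ← ncard_coe (fun w => sqNorm w = 32 ∧ dotInt (u : GolayPt → ℤ) w = 0)]
  simp only [norm_eq]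
  rfl

/-! ### stabilisers -/

theorem card_stab_min (u : leechLattice) (hu : dt u u = 32) :
    Nat.card (MulAction.stabilizer Co0 u) = 42305421312000 := by
  have e1 := ncard_mul_card_inf (⊤ : Subgroup Co0) u {w : leechLattice | dt w w = 32}
    (fun g _ => (dt_smul g u u).trans hu)
    (fun y hy => by
      obtain ⟨g, hg⟩ := Cfsg.Agent.S0400.result u y (by rw [norm_eq]; exact hu)
        (by rw [norm_eq]; exact hy)
      exact ⟨g, trivial, hg⟩)
  rw [ncard_min, top_inf_eq, Subgroup.card_top, Cfsg.Agent.S1582.card_co0] at e1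
  omega

theorem exists_A (u w w' : leechLattice) (hu : dt u u = 32) (hw : w ∈ A u) (hw' : w' ∈ A u) :
    ∃ g : Co0, g • u = u ∧ g • w = w' :=
  Cfsg.Agent.S1574.result u w w' (by rw [norm_eq]; exact hu) (by rw [norm_eq]; exact hw.1)
    (by rw [norm_eq]; exact hw'.1) hw.2 hw'.2

theorem card_K (u w : leechLattice) (hu : dt u u = 32) (hw : w ∈ A u) :
    Nat.card ↥(MulAction.stabilizer Co0 u ⊓ MulAction.stabilizer Co0 w) = 9196830720 := by
  have e1 := ncard_mul_card_inf (MulAction.stabilizer Co0 u) w (A u)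
    (fun g hg => ⟨(dt_smul g w w).trans hw.1, (dt_smul_of_fix hg w).trans hw.2⟩)
    (fun y hy => by
      obtain ⟨g, hg, hg'⟩ := exists_A u w y hu hw hy
      exact ⟨g, hg, hg'⟩)
  rw [ncard_A u hu, card_stab_min u hu] at e1
  omega

/-- Two pairs of minimal vectors of customary inner product `-2` are conjugate. -/
theorem exists_pair (u w u' w' : leechLattice) (hu : dt u u = 32) (hw : w ∈ A u)
    (hu' : dt u' u' = 32) (hw' : w' ∈ A u') : ∃ g : Co0, g • u = u' ∧ g • w = w' := by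
  obtain ⟨a, ha⟩ := Cfsg.Agent.S0400.result u u' (by rw [norm_eq]; exact hu)
    (by rw [norm_eq]; exact hu')
  have haw : a • w ∈ A u' := by
    rw [← ha]
    exact ⟨(dt_smul a w w).trans hw.1, (dt_smul a u w).trans hw.2⟩
  obtain ⟨b, hb, hb'⟩ := exists_A u' (a • w) w' hu' haw hw'
  exact ⟨b * a, by rw [mul_smul, ha, hb], by rw [mul_smul, hb']⟩

/-! ### inner product 1 -/

theorem trans_O8 (u w x x' : leechLattice) (hu : dt u u = 32) (hw : w ∈ A u)
    (hx : x ∈ O8 u w) (hx' : x' ∈ O8 u w) : ∃ g : Co0, g • u = u ∧ g • w = w ∧ g • x = x' := by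
  obtain ⟨hw1, hw2⟩ := hw
  -- the vectors of norm 48
  have hU : ∀ y, y ∈ O8 u w → sqNorm ((y + u + w : leechLattice) : GolayPt → ℤ) = 48 ∧
      (sqNorm (w : GolayPt → ℤ) = 32 ∧ sqNorm ((y + u + w : leechLattice) - w : GolayPt → ℤ) = 32) ∧
      (sqNorm ((u + w : leechLattice) : GolayPt → ℤ) = 32 ∧
        sqNorm ((y + u + w : leechLattice) - (u + w : leechLattice) : GolayPt → ℤ) = 32 ∧
        dotInt (w : GolayPt → ℤ) ((u + w : leechLattice) : GolayPt → ℤ) = 16) := by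
    rintro y ⟨h1, h2, h3⟩
    refine ⟨?_, ⟨?_, ?_⟩, ?_, ?_, ?_⟩
    · rw [norm_eq]
      simp only [dt_add_left, dt_add_right]
      rw [dt_comm y u, dt_comm y w, dt_comm w u]
      omega
    · rw [norm_eq]; exact hw1
    · change sqNorm (((y + u + w) - w : leechLattice) : GolayPt → ℤ) = 32
      rw [norm_eq, add_sub_cancel_right]
      simp only [dt_add_left, dt_add_right]
      rw [dt_comm y u]
      omega
    · rw [norm_eq]
      simp only [dt_add_left, dt_add_right]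
      rw [dt_comm w u]
      omega
    · change sqNorm (((y + u + w) - (u + w) : leechLattice) : GolayPt → ℤ) = 32
      rw [norm_eq, add_assoc, add_sub_cancel_right]
      exact h1
    · change dt w (u + w) = 16
      rw [dt_add_right, dt_comm w u]
      omega
  obtain ⟨hx1, hx2, hx3⟩ := hU x hx
  obtain ⟨hy1, hy2, hy3⟩ := hU x' hx'
  obtain ⟨a, ha⟩ := Cfsg.Agent.S0401.result (x + u + w) (x' + u + w) hx1 hy1
  have haw : sqNorm ((a • w : leechLattice) : GolayPt → ℤ) = 32 ∧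
      sqNorm ((x' + u + w : leechLattice) - (a • w : leechLattice) : GolayPt → ℤ) = 32 := by
    refine ⟨(Cfsg.Agent.S1582.sqNorm_smul a w).trans hx2.1, ?_⟩
    change sqNorm (((x' + u + w) - a • w : leechLattice) : GolayPt → ℤ) = 32
    rw [← ha, ← Cfsg.Agent.S1582.coe_smul_sub, Cfsg.Agent.S1582.sqNorm_smul]
    exact hx2.2
  obtain ⟨b, hb, hbv⟩ := Cfsg.Agent.S1579.result (x' + u + w) (a • w) w hy1 haw hy2
  have hbU : (b * a) • (x + u + w) = x' + u + w := by rw [mul_smul, ha, hb]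
  have hbw : (b * a) • w = w := by rw [mul_smul, hbv]
  have t3 := Cfsg.Agent.S1580.result (x' + u + w) w hy1 hy2
  have hm : (b * a) • (u + w) ∈ {z : leechLattice | sqNorm (z : GolayPt → ℤ) = 32 ∧
      sqNorm (((x' + u + w : leechLattice) - z) : GolayPt → ℤ) = 32 ∧
      dotInt (w : GolayPt → ℤ) (z : GolayPt → ℤ) = 16} := by
    refine ⟨(Cfsg.Agent.S1582.sqNorm_smul _ _).trans hx3.1, ?_, ?_⟩
    · change sqNorm (((x' + u + w) - (b * a) • (u + w) : leechLattice) : GolayPt → ℤ) = 32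
      rw [← hbU, ← Cfsg.Agent.S1582.coe_smul_sub, Cfsg.Agent.S1582.sqNorm_smul]
      exact hx3.2.1
    · change dt w ((b * a) • (u + w)) = 16
      rw [dt_smul_of_fix hbw]
      exact hx3.2.2
  obtain ⟨c, hc1, hc2, hc3⟩ := t3.2 _ hm (u + w) hy3
  have hgw : (c * (b * a)) • w = w := by rw [mul_smul, hbw, hc2]
  have hgu : (c * (b * a)) • u = u := by
    have h1 : (c * (b * a)) • (u + w) = u + w := by rw [mul_smul, hc3]
    rw [co0_add, hgw] at h1
    exact add_right_cancel h1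
  refine ⟨c * (b * a), hgu, hgw, ?_⟩
  have h1 : (c * (b * a)) • (x + u + w) = x' + u + w := by rw [mul_smul, hbU, hc1]
  rw [co0_add, co0_add, hgw, hgu] at h1
  exact add_right_cancel (add_right_cancel h1)

theorem ncard_O8_std : (O8 (U43Leech.x0 - U43Leech.v0) U43Leech.v0).ncard = 2816 ∧
    dt (U43Leech.x0 - U43Leech.v0) (U43Leech.x0 - U43Leech.v0) = 32 ∧
    U43Leech.v0 ∈ A (U43Leech.x0 - U43Leech.v0) := by
  have d1 : dt U43Leech.u0 U43Leech.u0 = 48 := by rw [← norm_eq]; exact U43Leech.sqNorm_u0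
  have d2 : dt U43Leech.v0 U43Leech.v0 = 32 := by rw [← norm_eq]; exact U43Leech.sqNorm_v0
  have d3 : dt U43Leech.x0 U43Leech.x0 = 32 := by rw [← norm_eq]; exact U43Leech.sqNorm_x0
  have d4 : dt U43Leech.u0 U43Leech.v0 = 24 := U43Leech.dot_u0_v0
  have d5 : dt U43Leech.u0 U43Leech.x0 = 24 := U43Leech.dot_u0_x0
  have d6 : dt U43Leech.v0 U43Leech.x0 = 16 := U43Leech.dot_v0_x0
  have d7 : dt U43Leech.x0 U43Leech.v0 = 16 := by rw [dt_comm]; exact d6
  have d8 : dt U43Leech.v0 U43Leech.u0 = 24 := by rw [dt_comm]; exact d4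
  have d9 : dt U43Leech.x0 U43Leech.u0 = 24 := by rw [dt_comm]; exact d5
  have hu : dt (U43Leech.x0 - U43Leech.v0) (U43Leech.x0 - U43Leech.v0) = 32 := by
    simp only [dt_sub_left, dt_sub_right]; omega
  have hw : U43Leech.v0 ∈ A (U43Leech.x0 - U43Leech.v0) := by
    refine ⟨d2, ?_⟩
    simp only [dt_sub_left]; omega
  have hx : U43Leech.u0 - U43Leech.x0 ∈ O8 (U43Leech.x0 - U43Leech.v0) U43Leech.v0 := by
    refine ⟨?_, ?_, ?_⟩ <;> simp only [dt_sub_left, dt_sub_right] <;> omega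
  refine ⟨?_, hu, hw⟩
  have e1 := ncard_mul_card_inf (MulAction.stabilizer Co0 (U43Leech.x0 - U43Leech.v0) ⊓
      MulAction.stabilizer Co0 U43Leech.v0) (U43Leech.u0 - U43Leech.x0)
    (O8 (U43Leech.x0 - U43Leech.v0) U43Leech.v0)
    (fun g hg => ⟨(dt_smul g _ _).trans hx.1, (dt_smul_of_fix hg.1 _).trans hx.2.1,
      (dt_smul_of_fix hg.2 _).trans hx.2.2⟩)
    (fun y hy => by
      obtain ⟨g, h1, h2, h3⟩ := trans_O8 _ _ _ y hu hw hx hy
      exact ⟨g, ⟨h1, h2⟩, h3⟩)
  rw [card_K _ _ hu hw] at e1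
  have e2 : MulAction.stabilizer Co0 (U43Leech.x0 - U43Leech.v0) ⊓
      MulAction.stabilizer Co0 U43Leech.v0 ⊓ MulAction.stabilizer Co0 (U43Leech.u0 - U43Leech.x0) =
      U43Leech.G0 := by
    ext g
    constructor
    · rintro ⟨⟨h1, h2⟩, h3⟩
      have h1' : g • (U43Leech.x0 - U43Leech.v0) = U43Leech.x0 - U43Leech.v0 := h1
      have h2' : g • U43Leech.v0 = U43Leech.v0 := h2
      have h3' : g • (U43Leech.u0 - U43Leech.x0) = U43Leech.u0 - U43Leech.x0 := h3
      rw [co0_sub, h2', sub_left_inj] at h1'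
      rw [co0_sub, h1', sub_left_inj] at h3'
      exact ⟨⟨h3', h2'⟩, h1'⟩
    · rintro ⟨⟨h1, h2⟩, h3⟩
      have h1' : g • U43Leech.u0 = U43Leech.u0 := h1
      have h2' : g • U43Leech.v0 = U43Leech.v0 := h2
      have h3' : g • U43Leech.x0 = U43Leech.x0 := h3
      refine ⟨⟨?_, h2'⟩, ?_⟩
      · change g • (U43Leech.x0 - U43Leech.v0) = _
        rw [co0_sub, h2', h3']
      · change g • (U43Leech.u0 - U43Leech.x0) = _
        rw [co0_sub, h1', h3']
  rw [e2, Cfsg.Agent.S1582.card_G0] at e1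
  generalize (O8 (U43Leech.x0 - U43Leech.v0) U43Leech.v0).ncard = N at e1 ⊢
  omega

theorem ncard_O8 (u w : leechLattice) (hu : dt u u = 32) (hw : w ∈ A u) :
    (O8 u w).ncard = 2816 := by
  obtain ⟨h1, h2, h3⟩ := ncard_O8_std
  obtain ⟨g, hg, hg'⟩ := exists_pair u w _ _ hu hw h2 h3
  rw [← h1, ← hg, ← hg', ← image_O8, Set.ncard_image_of_injective _ (MulAction.injective g)]

/-! ### orthogonal pairs -/

/-- `(4, 4, 0²²)` -/
def a0 : leechLattice := Cfsg.Spor.leechU
/-- `(4, -4, 0²²)` -/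
def b0 : leechLattice := Cfsg.Spor.leechU'

theorem coe_a0 : (a0 : GolayPt → ℤ) = vec3 4 4 0 := by
  change Cfsg.Spor.vecU = vec3 4 4 0
  unfold Cfsg.Spor.vecU
  apply eq_vec3
  · rw [if_pos (Or.inl rfl)]
  · rw [if_pos (Or.inr rfl)]
  · intro p h1 h2
    rw [if_neg (by rintro (h | h); exacts [h1 h, h2 h])]

theorem coe_b0 : (b0 : GolayPt → ℤ) = vec3 4 (-4) 0 := rfl

theorem dt_a0 (x : leechLattice) :
    dt a0 x = 4 * (x : GolayPt → ℤ) none + 4 * (x : GolayPt → ℤ) (some 0) := by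
  rw [dt_comm]
  change dotInt (x : GolayPt → ℤ) (a0 : GolayPt → ℤ) = _
  rw [coe_a0, dot_vec3_zero]; ring

theorem dt_b0 (x : leechLattice) :
    dt b0 x = 4 * (x : GolayPt → ℤ) none - 4 * (x : GolayPt → ℤ) (some 0) := by
  rw [dt_comm]
  change dotInt (x : GolayPt → ℤ) (b0 : GolayPt → ℤ) = _
  rw [coe_b0, dot_vec3_zero]; ring

theorem a0_none : (a0 : GolayPt → ℤ) none = 4 := by rw [coe_a0, vec3_none]
theorem a0_zero : (a0 : GolayPt → ℤ) (some 0) = 4 := by rw [coe_a0, vec3_zero]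
theorem b0_none : (b0 : GolayPt → ℤ) none = 4 := by rw [coe_b0, vec3_none]
theorem b0_zero : (b0 : GolayPt → ℤ) (some 0) = -4 := by rw [coe_b0, vec3_zero]

theorem dt_a0_a0 : dt a0 a0 = 32 := by rw [dt_a0, a0_none, a0_zero]; norm_num
theorem dt_b0_b0 : dt b0 b0 = 32 := by rw [dt_b0, b0_none, b0_zero]; norm_num
theorem dt_a0_b0 : dt a0 b0 = 0 := by rw [dt_a0, b0_none, b0_zero]; norm_num

/-- The vector `-(4 e_∞ + 4 s e_j)`. -/
def yv (j : GolayPt) (s : ℤ) (hs : s = 1 ∨ s = -1) : leechLattice :=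
  -⟨Pi.single none 4 + Pi.single j (4 * s), four_four_mem none j s hs⟩

theorem coe_yv (j : GolayPt) (s : ℤ) (hs : s = 1 ∨ s = -1) :
    (yv j s hs : GolayPt → ℤ) = -(Pi.single none 4 + Pi.single j (4 * s)) := rfl

/-- The common neighbours of `a0` and `b0`. -/
def C0 : Set leechLattice := {x | dt x x = 32 ∧ dt a0 x = -16 ∧ dt b0 x = -16}

theorem mem_C0_iff (x : leechLattice) : x ∈ C0 ↔
    ∃ (i : ZMod 23) (s : ℤ) (hs : s = 1 ∨ s = -1), i ≠ 0 ∧ x = yv (some i) s hs := by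
  constructor
  · rintro ⟨h1, h2, h3⟩
    rw [dt_a0] at h2
    rw [dt_b0] at h3
    have h4 : (x : GolayPt → ℤ) none = -4 := by omega
    have h5 : (x : GolayPt → ℤ) (some 0) = 0 := by omega
    obtain ⟨j, s, hj, hs, hx⟩ := shape_four (x := ((-x : leechLattice) : GolayPt → ℤ))
      (-x : leechLattice).2 (by rw [norm_eq, dt_neg_left, dt_neg_right, h1]; norm_num) (i := none)
      (by change -((x : GolayPt → ℤ) none) = 4; rw [h4]; norm_num)
    obtain ⟨i, rfl⟩ := Option.ne_none_iff_exists'.1 hj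
    refine ⟨i, s, hs, ?_, ?_⟩
    · rintro rfl
      have h6 := congrFun hx (some 0)
      change -((x : GolayPt → ℤ) (some 0)) = _ at h6
      rw [h5, Pi.add_apply, Pi.single_eq_same, Pi.single_eq_of_ne (by simp)] at h6
      omega
    · apply Subtype.ext
      rw [coe_yv, ← hx]
      change (x : GolayPt → ℤ) = -(-(x : GolayPt → ℤ))
      rw [neg_neg]
  · rintro ⟨i, s, hs, hi, rfl⟩
    have h1 : (yv (some i) s hs : GolayPt → ℤ) none = -4 := by
      rw [coe_yv, Pi.neg_apply, Pi.add_apply, Pi.single_eq_same, Pi.single_eq_of_ne (by simp)]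
      norm_num
    have h2 : (yv (some i) s hs : GolayPt → ℤ) (some 0) = 0 := by
      rw [coe_yv, Pi.neg_apply, Pi.add_apply, Pi.single_eq_of_ne (by simp),
        Pi.single_eq_of_ne (by simpa using hi.symm)]
      norm_num
    refine ⟨?_, ?_, ?_⟩
    · have h3 : dt (yv (some i) s hs) (yv (some i) s hs) =
          sqNorm (Pi.single none 4 + Pi.single (some i) (4 * s) : GolayPt → ℤ) := by
        rw [← norm_eq, coe_yv, Cfsg.Agent.LeechMat.Core.sqNorm_neg]
      rw [h3, sqNorm_add, sqNorm_single, sqNorm_single, dot_single_right,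
        Pi.single_eq_of_ne (by simp)]
      rcases hs with rfl | rfl <;> norm_num
    · rw [dt_a0, h1, h2]; norm_num
    · rw [dt_b0, h1, h2]; norm_num

theorem ncard_C0 : C0.ncard = 44 := by
  let f : {i : ZMod 23 // i ≠ 0} × Bool → leechLattice :=
    fun p => yv (some p.1) (cond p.2 1 (-1)) (by cases p.2; exacts [Or.inr rfl, Or.inl rfl])
  have hf : Function.Injective f := by
    rintro ⟨⟨i, hi⟩, s⟩ ⟨⟨j, hj⟩, t⟩ h
    have h0 := congrArg (fun z : leechLattice => (z : GolayPt → ℤ)) h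
    have h1 := congrFun h0 (some i)
    change -((Pi.single none 4 + Pi.single (some i) (4 * (cond s 1 (-1))) : GolayPt → ℤ) (some i)) =
      -((Pi.single none 4 + Pi.single (some j) (4 * (cond t 1 (-1))) : GolayPt → ℤ) (some i)) at h1
    rw [Pi.add_apply, Pi.add_apply, Pi.single_eq_of_ne (by simp), Pi.single_eq_same] at h1
    by_cases hij : i = j
    · subst hij
      rw [Pi.single_eq_same] at h1
      have : s = t := by
        cases s <;> cases t <;> first | rfl | (simp only [cond_true, cond_false] at h1; omega)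
      subst this
      rfl
    · rw [Pi.single_eq_of_ne (by simpa using hij)] at h1
      cases s <;> (simp only [cond_true, cond_false] at h1; omega)
  have h1 : C0 = Set.range f := by
    ext x
    rw [mem_C0_iff]
    constructor
    · rintro ⟨i, s, hs, hi, rfl⟩
      rcases hs with hs | hs
      · subst hs
        exact ⟨⟨⟨i, hi⟩, true⟩, rfl⟩
      · subst hs
        exact ⟨⟨⟨i, hi⟩, false⟩, rfl⟩
    · rintro ⟨⟨⟨i, hi⟩, s⟩, rfl⟩
      exact ⟨i, _, _, hi, rfl⟩
  rw [h1, ← Set.image_univ, Set.ncard_image_of_injective _ hf, Set.ncard_univ, Nat.card_prod,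
    Nat.card_eq_fintype_card, Nat.card_eq_fintype_card]
  have h2 : Fintype.card {i : ZMod 23 // i ≠ 0} = 22 := by decide
  rw [h2, Fintype.card_bool]

theorem exists_word : ∀ i : ZMod 23, i ≠ 0 → ∃ t : ZMod 23,
    (¬ ∃ r : ZMod 23, 0 = r ^ 2 + t) ∧ (∃ r : ZMod 23, i = r ^ 2 + t) := by
  decide +kernel

theorem exists_perm (i : ZMod 23) (hi : i ≠ 0) : ∃ σ : Equiv.Perm GolayPt, σ ∈ M24 ∧
    σ none = none ∧ σ (some 0) = some 0 ∧ σ (some i) = some 1 := by
  have h5 : MulAction.IsMultiplyPretransitive Cfsg.M24 Cfsg.GolayPt 5 := Cfsg.Agent.S0366.result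
  have hc : Nat.card Cfsg.GolayPt = 24 := by
    rw [Nat.card_eq_fintype_card]; decide
  have h3 : MulAction.IsMultiplyPretransitive Cfsg.M24 Cfsg.GolayPt 3 :=
    MulAction.isMultiplyPretransitive_of_le (n := 5) (by norm_num) (by
      rw [hc]; norm_num)
  rw [MulAction.isMultiplyPretransitive_iff] at h3
  have inj : ∀ j : ZMod 23, j ≠ 0 → Function.Injective (![none, some 0, some j] : Fin 3 → GolayPt) := by
    intro j hj a b hab
    fin_cases a <;> fin_cases b <;> simp at hab <;> first | rfl | exact absurd hab hj |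
      exact absurd hab.symm hj
  obtain ⟨σ, hσ⟩ := h3 (x := ⟨_, inj i hi⟩) (y := ⟨_, inj 1 (by decide)⟩)
  refine ⟨σ.1, σ.2, ?_, ?_, ?_⟩
  · exact DFunLike.congr_fun hσ 0
  · exact DFunLike.congr_fun hσ 1
  · exact DFunLike.congr_fun hσ 2

/-- The vector `-(4 e_∞ + 4 e_1)`. -/
def y1 : leechLattice := yv (some 1) 1 (Or.inl rfl)

theorem y1_mem : y1 ∈ C0 := (mem_C0_iff _).2 ⟨1, 1, Or.inl rfl, by decide, rfl⟩

theorem trans_C0 (x : leechLattice) (hx : x ∈ C0) :
    ∃ g : Co0, g • a0 = a0 ∧ g • b0 = b0 ∧ g • x = y1 := by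
  obtain ⟨i, s, hs, hi, rfl⟩ := (mem_C0_iff x).1 hx
  -- the sign
  have key1 : ∃ g : Co0, g • a0 = a0 ∧ g • b0 = b0 ∧
      g • (yv (some i) s hs) = yv (some i) 1 (Or.inl rfl) := by
    rcases hs with hs | hs
    · subst hs
      exact ⟨1, one_smul _ _, one_smul _ _, one_smul _ _⟩
    · subst hs
      obtain ⟨t, ht0, ht1⟩ := exists_word i hi
      obtain ⟨g, hg⟩ := exists_co0_of_sign (qrWord t) (SporadicA.M24Mem.qrWord_mem_golayCode t)
      have q0 : qrWord t (some 0) = 0 := by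
        rw [SporadicA.M24Mem.qrWord_some, if_neg ht0]
      have q1 : qrWord t (some i) = 1 := by
        rw [SporadicA.M24Mem.qrWord_some, if_pos ht1]
      have q2 : qrWord t none = 0 := SporadicA.M24Mem.qrWord_none t
      refine ⟨g, ?_, ?_, ?_⟩
      · apply Subtype.ext
        funext p
        rw [hg]
        split_ifs with h
        · rfl
        · rw [coe_a0, vec3_other _ _ _ (fun hp => h (by rw [hp]; exact q2))
            (fun hp => h (by rw [hp]; exact q0))]
          rfl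
      · apply Subtype.ext
        funext p
        rw [hg]
        split_ifs with h
        · rfl
        · rw [coe_b0, vec3_other _ _ _ (fun hp => h (by rw [hp]; exact q2))
            (fun hp => h (by rw [hp]; exact q0))]
          rfl
      · apply Subtype.ext
        funext p
        rw [hg, coe_yv, coe_yv]
        simp only [Pi.neg_apply, Pi.add_apply]
        by_cases hp : p = none
        · subst hp
          rw [if_pos q2, Pi.single_eq_same, Pi.single_eq_of_ne (by simp), Pi.single_eq_of_ne (by simp)]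
        · by_cases hp' : p = some i
          · subst hp'
            rw [if_neg (by rw [q1]; decide), Pi.single_eq_same, Pi.single_eq_same,
              Pi.single_eq_of_ne (by simp)]
            norm_num
          · rw [Pi.single_eq_of_ne hp, Pi.single_eq_of_ne hp', Pi.single_eq_of_ne hp']
            simp
  obtain ⟨g, hg1, hg2, hg3⟩ := key1
  obtain ⟨σ, hσ, hσn, hσ0, hσ1⟩ := exists_perm i hi
  obtain ⟨k, hk⟩ := exists_co0_of_perm σ hσ
  have s0 : σ.symm none = none := by rw [Equiv.symm_apply_eq]; exact hσn.symm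
  have s1 : σ.symm (some 0) = some 0 := by rw [Equiv.symm_apply_eq]; exact hσ0.symm
  have s2 : σ.symm (some 1) = some i := by rw [Equiv.symm_apply_eq]; exact hσ1.symm
  have n0 : ∀ p, p ≠ none → σ.symm p ≠ none := by
    intro p hp h
    rw [Equiv.symm_apply_eq, hσn] at h
    exact hp h
  have n1 : ∀ p, p ≠ some 0 → σ.symm p ≠ some 0 := by
    intro p hp h
    rw [Equiv.symm_apply_eq, hσ0] at h
    exact hp h
  have n2 : ∀ p, p ≠ some 1 → σ.symm p ≠ some i := by
    intro p hp h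
    rw [Equiv.symm_apply_eq, hσ1] at h
    exact hp h
  refine ⟨k * g, ?_, ?_, ?_⟩
  · rw [mul_smul, hg1]
    apply Subtype.ext
    rw [coe_a0]
    apply eq_vec3
    · rw [hk, s0, a0_none]
    · rw [hk, s1, a0_zero]
    · intro p h1 h2
      rw [hk, coe_a0, vec3_other _ _ _ (n0 p h1) (n1 p h2)]
  · rw [mul_smul, hg2]
    apply Subtype.ext
    rw [coe_b0]
    apply eq_vec3
    · rw [hk, s0, b0_none]
    · rw [hk, s1, b0_zero]
    · intro p h1 h2
      rw [hk, coe_b0, vec3_other _ _ _ (n0 p h1) (n1 p h2)]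
  · rw [mul_smul, hg3]
    apply Subtype.ext
    funext p
    rw [hk, coe_yv]
    change _ = (yv (some 1) 1 (Or.inl rfl) : GolayPt → ℤ) p
    rw [coe_yv]
    simp only [Pi.neg_apply, Pi.add_apply]
    by_cases hp : p = none
    · subst hp
      rw [s0, Pi.single_eq_same, Pi.single_eq_of_ne (by simp), Pi.single_eq_of_ne (by simp)]
    · by_cases hp' : p = some 1
      · subst hp'
        rw [s2, Pi.single_eq_same, Pi.single_eq_same, Pi.single_eq_of_ne (by simp),
          Pi.single_eq_of_ne (by simp)]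
      · rw [Pi.single_eq_of_ne hp, Pi.single_eq_of_ne hp', Pi.single_eq_of_ne (n0 p hp),
          Pi.single_eq_of_ne (n2 p hp')]

theorem card_stab_a0_b0 :
    Nat.card ↥(MulAction.stabilizer Co0 a0 ⊓ MulAction.stabilizer Co0 b0) = 454164480 := by
  have e1 := ncard_mul_card_inf (MulAction.stabilizer Co0 a0) b0
    {w : leechLattice | dt w w = 32 ∧ dt a0 w = 0}
    (fun g hg => ⟨(dt_smul g _ _).trans dt_b0_b0, (dt_smul_of_fix hg _).trans dt_a0_b0⟩)
    (fun y hy => by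
      obtain ⟨g, h1, h2⟩ := Cfsg.Agent.Leech.FrameTriples.orth_pair a0 y
        (by rw [norm_eq]; exact dt_a0_a0) (by rw [norm_eq]; exact hy.1) hy.2
      have h1' : g • a0 = a0 := Subtype.ext (h1.trans coe_a0.symm)
      have h2' : g • y = b0 := Subtype.ext (h2.trans coe_b0.symm)
      refine ⟨g⁻¹, ?_, ?_⟩
      · change g⁻¹ • a0 = a0
        rw [inv_smul_eq_iff, h1']
      · rw [inv_smul_eq_iff, h2'])
  rw [ncard_orth a0 dt_a0_a0, card_stab_min a0 dt_a0_a0] at e1
  omega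

theorem card_stab_triple :
    Nat.card ↥(MulAction.stabilizer Co0 a0 ⊓ MulAction.stabilizer Co0 b0 ⊓
      MulAction.stabilizer Co0 y1) = 10321920 := by
  have e1 := ncard_mul_card_inf (MulAction.stabilizer Co0 a0 ⊓ MulAction.stabilizer Co0 b0) y1 C0
    (fun g hg => ⟨(dt_smul g _ _).trans y1_mem.1, (dt_smul_of_fix hg.1 _).trans y1_mem.2.1,
      (dt_smul_of_fix hg.2 _).trans y1_mem.2.2⟩)
    (fun y hy => by
      obtain ⟨g, h1, h2, h3⟩ := trans_C0 y hy
      refine ⟨g⁻¹, ⟨?_, ?_⟩, ?_⟩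
      · change g⁻¹ • a0 = a0
        rw [inv_smul_eq_iff, h1]
      · change g⁻¹ • b0 = b0
        rw [inv_smul_eq_iff, h2]
      · rw [inv_smul_eq_iff, h3])
  rw [ncard_C0, card_stab_a0_b0] at e1
  omega

theorem a0_mem_A : a0 ∈ A y1 := ⟨dt_a0_a0, by rw [dt_comm]; exact y1_mem.2.1⟩

theorem b0_mem_O0 : b0 ∈ O0 y1 a0 := ⟨dt_b0_b0, by rw [dt_comm]; exact y1_mem.2.2, dt_a0_b0⟩

theorem to_std (b : leechLattice) (hb : b ∈ O0 y1 a0) :
    ∃ g : Co0, g • y1 = y1 ∧ g • a0 = a0 ∧ g • b = b0 := by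
  obtain ⟨hb1, hb2, hb3⟩ := hb
  obtain ⟨g, h1, h2⟩ := Cfsg.Agent.Leech.FrameTriples.orth_pair a0 b
    (by rw [norm_eq]; exact dt_a0_a0) (by rw [norm_eq]; exact hb1) hb3
  have h1' : g • a0 = a0 := Subtype.ext (h1.trans coe_a0.symm)
  have h2' : g • b = b0 := Subtype.ext (h2.trans coe_b0.symm)
  have hm : g • y1 ∈ C0 := by
    refine ⟨(dt_smul g _ _).trans y1_mem.1, (dt_smul_of_fix h1' _).trans y1_mem.2.1, ?_⟩
    rw [← h2', dt_smul, dt_comm]
    exact hb2
  obtain ⟨h, k1, k2, k3⟩ := trans_C0 _ hm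
  refine ⟨h * g, ?_, ?_, ?_⟩
  · rw [mul_smul, k3]
  · rw [mul_smul, h1', k1]
  · rw [mul_smul, h2', k2]

theorem ncard_O0_std : (O0 y1 a0).ncard = 891 := by
  have e1 := ncard_mul_card_inf (MulAction.stabilizer Co0 y1 ⊓
      MulAction.stabilizer Co0 a0) b0 (O0 y1 a0)
    (fun g hg => ⟨(dt_smul g _ _).trans b0_mem_O0.1, (dt_smul_of_fix hg.1 _).trans b0_mem_O0.2.1,
      (dt_smul_of_fix hg.2 _).trans b0_mem_O0.2.2⟩)
    (fun y hy => by
      obtain ⟨g, h1, h2, h3⟩ := to_std y hy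
      refine ⟨g⁻¹, ⟨?_, ?_⟩, ?_⟩
      · change g⁻¹ • y1 = y1
        rw [inv_smul_eq_iff, h1]
      · change g⁻¹ • a0 = a0
        rw [inv_smul_eq_iff, h2]
      · rw [inv_smul_eq_iff, h3])
  have e2 : MulAction.stabilizer Co0 y1 ⊓ MulAction.stabilizer Co0 a0 ⊓
      MulAction.stabilizer Co0 b0 = MulAction.stabilizer Co0 a0 ⊓ MulAction.stabilizer Co0 b0 ⊓
      MulAction.stabilizer Co0 y1 := by
    rw [inf_assoc, inf_comm]
  rw [card_K _ _ y1_mem.1 a0_mem_A, e2, card_stab_triple] at e1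
  generalize (O0 y1 a0).ncard = N at e1 ⊢
  omega

theorem ncard_O0 (u w : leechLattice) (hu : dt u u = 32) (hw : w ∈ A u) :
    (O0 u w).ncard = 891 := by
  obtain ⟨g, hg, hg'⟩ := exists_pair u w _ _ hu hw y1_mem.1 a0_mem_A
  rw [← ncard_O0_std, ← hg, ← hg', ← image_O0, Set.ncard_image_of_injective _ (MulAction.injective g)]

theorem trans_O0 (u w x x' : leechLattice) (hu : dt u u = 32) (hw : w ∈ A u)
    (hx : x ∈ O0 u w) (hx' : x' ∈ O0 u w) : ∃ g : Co0, g • u = u ∧ g • w = w ∧ g • x = x' := by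
  obtain ⟨g, hg, hg'⟩ := exists_pair u w _ _ hu hw y1_mem.1 a0_mem_A
  have key : ∀ z ∈ O0 u w, ∃ h : Co0, h • u = y1 ∧ h • w = a0 ∧ h • z = b0 := by
    intro z hz
    have hz' : g • z ∈ O0 y1 a0 := by
      rw [← hg, ← hg', ← image_O0]
      exact ⟨z, hz, rfl⟩
    obtain ⟨k, k1, k2, k3⟩ := to_std _ hz'
    exact ⟨k * g, by rw [mul_smul, hg, k1], by rw [mul_smul, hg', k2], by rw [mul_smul, k3]⟩
  obtain ⟨h, h1, h2, h3⟩ := key x hx
  obtain ⟨k, k1, k2, k3⟩ := key x' hx'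
  refine ⟨k⁻¹ * h, ?_, ?_, ?_⟩
  · rw [mul_smul, inv_smul_eq_iff, h1, k1]
  · rw [mul_smul, inv_smul_eq_iff, h2, k2]
  · rw [mul_smul, inv_smul_eq_iff, h3, k3]

/-! ### pairs -/

/-- The involution `w ↦ -u-w`. -/
def opp (w : leechLattice) : leechLattice := -(a0 + w)

theorem opp_opp (w : leechLattice) : opp (opp w) = w := by
  unfold opp; abel

/-- The pair of `w`. -/
def pr (w : leechLattice) : Set leechLattice := {w, opp w}

theorem opp_mem_A {w : leechLattice} (hw : w ∈ A a0) : opp w ∈ A a0 := by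
  obtain ⟨h1, h2⟩ := hw
  have h3 := dt_a0_a0
  have h4 : dt w a0 = -16 := by rw [dt_comm]; exact h2
  unfold opp
  constructor
  · simp only [dt_neg_left, dt_neg_right, dt_add_left, dt_add_right]; omega
  · simp only [dt_neg_right, dt_add_right]; omega

theorem opp_ne {w : leechLattice} (hw : w ∈ A a0) : opp w ≠ w := by
  intro h
  have h1 : dt w (opp w) = 32 := by rw [h]; exact hw.1
  unfold opp at h1
  have h4 : dt w a0 = -16 := by rw [dt_comm]; exact hw.2
  simp only [dt_neg_right, dt_add_right] at h1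
  have := hw.1
  omega

theorem pr_eq_iff (w w' : leechLattice) : pr w' = pr w ↔ (w' = w ∨ w' = opp w) := by
  constructor
  · intro h
    have : w' ∈ pr w := by rw [← h]; exact Or.inl rfl
    exact this
  · rintro (rfl | rfl)
    · rfl
    · unfold pr
      rw [opp_opp, Set.pair_comm]

theorem dt_y1_opp (x : leechLattice) : dt y1 (opp x) = 16 - dt y1 x := by
  have h4 : dt y1 a0 = -16 := by rw [dt_comm]; exact y1_mem.2.1
  unfold opp
  simp only [dt_neg_right, dt_add_right]; omega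

theorem y1_mem_A : y1 ∈ A a0 := ⟨y1_mem.1, y1_mem.2.1⟩

theorem dt_a0_opp (x : leechLattice) (hx : dt a0 x = -16) : dt a0 (opp x) = -16 := by
  have h3 := dt_a0_a0
  unfold opp
  simp only [dt_neg_right, dt_add_right]; omega

theorem opp_mem_O8 {x : leechLattice} (hx : x ∈ O8 a0 y1) : opp x ∈ O8 a0 y1 := by
  obtain ⟨h1, h2, h3⟩ := hx
  refine ⟨(opp_mem_A ⟨h1, h2⟩).1, dt_a0_opp x h2, ?_⟩
  rw [dt_y1_opp]; omega

/-- An element of the second Conway group as an element of `Co0`. -/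
def toCo0 (γ : Cfsg.Spor.Co2) : Co0 := ⟨γ.1, γ.2.1⟩

theorem toCo0_a0 (γ : Cfsg.Spor.Co2) : toCo0 γ • a0 = a0 := γ.2.2

/-- Conversely. -/
def ofCo0 (g : Co0) (hg : g • a0 = a0) : Cfsg.Spor.Co2 := ⟨g.1, g.2, hg⟩

theorem smul_opp (g : Co0) (hg : g • a0 = a0) (w : leechLattice) : g • opp w = opp (g • w) := by
  unfold opp
  rw [co0_neg, co0_add, hg]

theorem smul_pr (γ : Cfsg.Spor.Co2) (w : leechLattice) : γ • pr w = pr (toCo0 γ • w) := by
  unfold pr
  rw [← smul_opp _ (toCo0_a0 γ)]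
  change (fun x => toCo0 γ • x) '' {w, opp w} = _
  rw [Set.image_pair]

theorem finite_A : (A a0).Finite :=
  Set.finite_of_ncard_ne_zero (by rw [ncard_A a0 dt_a0_a0]; norm_num)

theorem finite_O8 : (O8 a0 y1).Finite := finite_A.subset fun _ hx => ⟨hx.1, hx.2.1⟩

theorem ncard_pr_A : (pr '' A a0).ncard = 2300 := by
  have h := two_mul_ncard_image pr opp (A a0) finite_A (fun w hw => opp_mem_A hw)
    (fun w hw => opp_ne hw) (fun w _ w' _ => pr_eq_iff w w')
  rw [ncard_A a0 dt_a0_a0] at h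
  omega

theorem ncard_pr_O8 : (pr '' O8 a0 y1).ncard = 1408 := by
  have h := two_mul_ncard_image pr opp (O8 a0 y1) finite_O8 (fun w hw => opp_mem_O8 hw)
    (fun w hw => opp_ne ⟨hw.1, hw.2.1⟩) (fun w _ w' _ => pr_eq_iff w w')
  rw [ncard_O8 a0 y1 dt_a0_a0 y1_mem_A] at h
  omega

theorem ncard_pr_O0 : (pr '' O0 a0 y1).ncard = 891 := by
  have hinj : Set.InjOn pr (O0 a0 y1) := by
    intro x hx x' hx' h
    rcases (pr_eq_iff x' x).1 h with h1 | h1
    · exact h1
    · exfalso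
      have h2 := dt_y1_opp x'
      rw [← h1, hx.2.2, hx'.2.2] at h2
      omega
  rw [hinj.ncard_image, ncard_O0 a0 y1 dt_a0_a0 y1_mem_A]

theorem orbit_pr : MulAction.orbit Cfsg.Spor.Co2 (pr y1) = pr '' A a0 := by
  ext S
  constructor
  · rintro ⟨γ, rfl⟩
    refine ⟨toCo0 γ • y1, ⟨(dt_smul _ _ _).trans y1_mem.1,
      (dt_smul_of_fix (toCo0_a0 γ) _).trans y1_mem.2.1⟩, ?_⟩
    exact (smul_pr γ y1).symm
  · rintro ⟨w, hw, rfl⟩
    obtain ⟨g, hg, hg'⟩ := exists_A a0 y1 w dt_a0_a0 y1_mem_A hw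
    refine ⟨ofCo0 g hg, ?_⟩
    change ofCo0 g hg • pr y1 = pr w
    rw [smul_pr]
    change pr (g • y1) = pr w
    rw [hg']

theorem stab_cases (γ : Cfsg.Spor.Co2) (hγ : γ ∈ MulAction.stabilizer Cfsg.Spor.Co2 (pr y1)) :
    toCo0 γ • y1 = y1 ∨ toCo0 γ • y1 = opp y1 := by
  have h : γ • pr y1 = pr y1 := hγ
  rw [smul_pr, pr_eq_iff] at h
  exact h

/-- Effect of the stabiliser on the inner product with `y1`. -/
theorem stab_dt (γ : Cfsg.Spor.Co2) (hγ : γ ∈ MulAction.stabilizer Cfsg.Spor.Co2 (pr y1))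
    (x : leechLattice) (hx : dt a0 x = -16) :
    dt y1 (toCo0 γ • x) = dt y1 x ∨ dt y1 (toCo0 γ • x) = 16 - dt y1 x := by
  rcases stab_cases γ hγ with h | h
  · exact Or.inl (dt_smul_of_fix h x)
  · right
    have h1 : y1 = opp (toCo0 γ • y1) := by rw [h, opp_opp]
    have h2 : dt y1 (toCo0 γ • x) = dt (opp (toCo0 γ • y1)) (toCo0 γ • x) := by rw [← h1]
    rw [h2, ← smul_opp _ (toCo0_a0 γ), dt_smul]
    unfold opp
    simp only [dt_neg_left, dt_add_left]
    omega

theorem orbit_stab_of {O : Set leechLattice} (x : leechLattice)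
    (hO : ∀ (γ : Cfsg.Spor.Co2), γ ∈ MulAction.stabilizer Cfsg.Spor.Co2 (pr y1) →
      toCo0 γ • x ∈ O ∨ opp (toCo0 γ • x) ∈ O)
    (ht : ∀ x' ∈ O, ∃ g : Co0, g • a0 = a0 ∧ g • y1 = y1 ∧ g • x = x') :
    MulAction.orbit (MulAction.stabilizer Cfsg.Spor.Co2 (pr y1)) (pr x) = pr '' O := by
  ext S
  constructor
  · rintro ⟨γ, rfl⟩
    have e : (γ • pr x : Set leechLattice) = pr (toCo0 γ.1 • x) := smul_pr γ.1 x
    change γ • pr x ∈ pr '' O
    rw [e]
    rcases hO γ.1 γ.2 with h | h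
    · exact ⟨_, h, rfl⟩
    · exact ⟨_, h, (pr_eq_iff _ _).2 (Or.inr rfl)⟩
  · rintro ⟨x', hx', rfl⟩
    obtain ⟨g, hg1, hg2, hg3⟩ := ht x' hx'
    have hs : ofCo0 g hg1 ∈ MulAction.stabilizer Cfsg.Spor.Co2 (pr y1) := by
      change ofCo0 g hg1 • pr y1 = pr y1
      rw [smul_pr]
      change pr (g • y1) = pr y1
      rw [hg2]
    refine ⟨⟨ofCo0 g hg1, hs⟩, ?_⟩
    change ofCo0 g hg1 • pr x = pr x'
    rw [smul_pr]
    change pr (g • x) = pr x'
    rw [hg3]

/-- The rank three action. -/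
theorem rank_three {G : Type*} [Group G] [Finite G] (e : G ≃* Cfsg.Spor.Co2) :
    ∃ H : Subgroup G, IsCoatom H ∧ H.index = 2300 ∧ ∃ q₁ q₂ : G ⧸ H,
      (MulAction.orbit H q₁).ncard = 891 ∧ (MulAction.orbit H q₂).ncard = 1408 := by
  obtain ⟨x, hx⟩ := Set.nonempty_of_ncard_ne_zero (s := O0 a0 y1)
    (by rw [ncard_O0 a0 y1 dt_a0_a0 y1_mem_A]; norm_num)
  obtain ⟨z, hz⟩ := Set.nonempty_of_ncard_ne_zero (s := O8 a0 y1)
    (by rw [ncard_O8 a0 y1 dt_a0_a0 y1_mem_A]; norm_num)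
  apply rank_three_of_iso e (pr y1) (pr x) (pr z)
  · rw [orbit_pr]; exact ⟨x, ⟨hx.1, hx.2.1⟩, rfl⟩
  · rw [orbit_pr]; exact ⟨z, ⟨hz.1, hz.2.1⟩, rfl⟩
  · rw [orbit_pr]; exact ncard_pr_A
  · rw [orbit_stab_of (O := O0 a0 y1) x, ncard_pr_O0]
    · intro γ hγ
      rcases stab_dt γ hγ x hx.2.1 with h | h
      · left
        exact ⟨(dt_smul _ _ _).trans hx.1, (dt_smul_of_fix (toCo0_a0 γ) _).trans hx.2.1,
          h.trans hx.2.2⟩
      · right
        have h1 : toCo0 γ • x ∈ A a0 :=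
          ⟨(dt_smul _ _ _).trans hx.1, (dt_smul_of_fix (toCo0_a0 γ) _).trans hx.2.1⟩
        refine ⟨(opp_mem_A h1).1, (opp_mem_A h1).2, ?_⟩
        rw [dt_y1_opp, h, hx.2.2]
        norm_num
    · intro x' hx'
      exact trans_O0 a0 y1 x x' dt_a0_a0 y1_mem_A hx hx'
  · rw [orbit_stab_of (O := O8 a0 y1) z, ncard_pr_O8]
    · intro γ hγ
      left
      refine ⟨(dt_smul _ _ _).trans hz.1, (dt_smul_of_fix (toCo0_a0 γ) _).trans hz.2.1, ?_⟩
      rcases stab_dt γ hγ z hz.2.1 with h | h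
      · exact h.trans hz.2.2
      · rw [h, hz.2.2]; norm_num
    · intro x' hx'
      exact trans_O8 a0 y1 z x' dt_a0_a0 y1_mem_A hz hx'
  · norm_num
  · norm_num
  · norm_num
  · norm_num
  · norm_num
  · norm_num
  · norm_num

end Cfsg.Agent.SporadicStructure.Co2RankThree
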