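import Cfsg.Agent.SporadicA.GolayBase
import Cfsg.Agent.SporadicA.Co0Basic
import Cfsg.Agent.SporadicA.LeechSet

/-!
Elements of `Co0` from explicit integer matrices, by a kernel check: a `24 × 24` integer matrix `R` (rows as lists,
entry number `idx p` for the point `p`) gives the map `x ↦ (p ↦ (R_p · x) / 8)`.
-/

set_option autoImplicit false

namespace Cfsg.Agent.SporadicStructure.Co0Matrix

open Cfsg Cfsg.Agent.SporadicA

/-! ### Vectors as lists -/

/-- The integer vector with entries from a list: entry number `idx p` at the point `p`. -/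
def vec (l : List ℤ) : GolayPt → ℤ := fun p => l.getD (GolayBase.idx p) 0

theorem vec_apply (l : List ℤ) (p : GolayPt) : vec l p = l.getD (GolayBase.idx p) 0 := rfl

/-- Dot product of lists. -/
def dotL : List ℤ → List ℤ → ℤ
  | a :: s, b :: t => a * b + dotL s t
  | _, _ => 0

theorem dotL_cons (a b : ℤ) (s t : List ℤ) : dotL (a :: s) (b :: t) = a * b + dotL s t := rfl

theorem dotL_nil_left (t : List ℤ) : dotL [] t = 0 := rfl

theorem dotL_nil_right (s : List ℤ) : dotL s [] = 0 := by cases s <;> rfl

theorem sum_range_getD (l l' : List ℤ) : ∀ n : ℕ, l.length ≤ n →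
    ∑ i ∈ Finset.range n, l.getD i 0 * l'.getD i 0 = dotL l l' := by
  induction l generalizing l' with
  | nil => intro n _; rw [dotL_nil_left]; exact Finset.sum_eq_zero fun i _ => by simp
  | cons a s ih =>
    intro n hn
    cases l' with
    | nil => rw [dotL_nil_right]; exact Finset.sum_eq_zero fun i _ => by simp
    | cons b t =>
      cases n with
      | zero => simp at hn
      | succ n =>
        rw [Finset.sum_range_succ', dotL_cons, add_comm]
        simp only [List.getD_cons_zero, List.getD_cons_succ]
        rw [ih t n (by simpa using hn)]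

theorem dotInt_vec (l l' : List ℤ) (hl : l.length ≤ 24) : dotInt (vec l) (vec l') = dotL l l' := by
  unfold dotInt
  rw [GolayBase.sum_pt, ← sum_range_getD l l' 24 hl]
  refine Finset.sum_congr rfl fun i hi => ?_
  rw [vec_apply, vec_apply, GolayBase.idx_pt (Finset.mem_range.mp hi)]

theorem sum_vec (l : List ℤ) (hl : l.length ≤ 24) : ∑ p, vec l p = l.sum := by
  rw [GolayBase.sum_pt]
  have h : ∀ (l : List ℤ) (n : ℕ), l.length ≤ n → ∑ i ∈ Finset.range n, l.getD i 0 = l.sum := by
    intro l
    induction l with
    | nil => intro n _; simp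
    | cons a s ih =>
      intro n hn
      cases n with
      | zero => simp at hn
      | succ n =>
        rw [Finset.sum_range_succ', List.sum_cons, add_comm]
        simp only [List.getD_cons_zero, List.getD_cons_succ]
        rw [ih n (by simpa using hn)]
  rw [← h l 24 hl]
  refine Finset.sum_congr rfl fun i hi => ?_
  rw [vec_apply, GolayBase.idx_pt (Finset.mem_range.mp hi)]

/-! ### Membership in the lattice -/

/-- The mask of the odd entries. -/
def maskL : List ℤ → ℕ
  | [] => 0
  | a :: t => (a % 2).toNat + 2 * maskL t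

theorem testBit_maskL (l : List ℤ) : ∀ i : ℕ, (maskL l).testBit i = decide (l.getD i 0 % 2 = 1) := by
  induction l with
  | nil => intro i; simp [maskL]
  | cons a t ih =>
    intro i
    have ha : (a % 2).toNat = 0 ∧ a % 2 = 0 ∨ (a % 2).toNat = 1 ∧ a % 2 = 1 := by
      rcases Int.emod_two_eq_zero_or_one a with h | h <;> simp [h]
    show ((a % 2).toNat + 2 * maskL t).testBit i = _
    cases i with
    | zero =>
      rw [List.getD_cons_zero, Nat.testBit_zero]
      rcases ha with ⟨h1, h2⟩ | ⟨h1, h2⟩ <;> rw [h1, h2] <;> simp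
    | succ i =>
      rw [List.getD_cons_succ, ← ih i, Nat.testBit_succ]
      congr 1
      rcases ha with ⟨h1, h2⟩ | ⟨h1, h2⟩ <;> rw [h1] <;> omega

/-- The conditions defining the lattice, for a list. -/
def leechB (l : List ℤ) : Bool :=
  Nat.beq l.length 24 && (l.all fun a => decide ((a - l.headD 0 % 2) % 2 = 0)) &&
    decide ((l.sum - 4 * (l.headD 0 % 2)) % 8 = 0) &&
    GolayBase.isCode (maskL (l.map fun a => (a - l.headD 0 % 2) / 2))

theorem word_mem_of_isCode {m : ℕ} (h : GolayBase.isCode m = true) :
    GolayBase.word m ∈ golayCode := by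
  rw [GolayBase.mem_golayCode_iff, GolayBase.maskW_word (GolayBase.isCode_lt h)]
  exact h

theorem getD_mem_of_lt {α : Type*} (l : List α) (d : α) {i : ℕ} (hi : i < l.length) :
    l.getD i d ∈ l := by
  rw [List.getD_eq_getElem _ _ hi]
  exact List.getElem_mem hi

theorem vec_mem_of_leechB {l : List ℤ} (h : leechB l = true) : vec l ∈ leechLattice := by
  simp only [leechB, Bool.and_eq_true] at h
  obtain ⟨⟨⟨h1, h2⟩, h3⟩, h4⟩ := h
  have hlen : l.length = 24 := Nat.eq_of_beq_eq_true h1
  set m := l.headD 0 % 2 with hm
  rw [List.all_eq_true] at h2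
  have h2' : ∀ p, (vec l p - m) % 2 = 0 := by
    intro p
    have := h2 _ (getD_mem_of_lt l 0 (i := GolayBase.idx p) (by rw [hlen]; exact GolayBase.idx_lt p))
    exact of_decide_eq_true this
  rw [LeechSet.mem_leechLattice_iff']
  refine ⟨m, fun p => (vec l p - m) / 2, fun p => ?_, ?_, ?_⟩
  · have := h2' p
    show vec l p = m + 2 * ((vec l p - m) / 2)
    omega
  · rw [sum_vec l hlen.le]
    have := of_decide_eq_true h3
    show l.sum % 8 = (4 * m) % 8
    omega
  · have := word_mem_of_isCode h4
    convert this using 1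
    funext p
    rw [GolayBase.word_apply, testBit_maskL]
    have e : (l.map fun a => (a - m) / 2).getD (GolayBase.idx p) 0 = (vec l p - m) / 2 := by
      rw [vec_apply, List.getD_eq_getElem _ _ (by rw [List.length_map, hlen]; exact GolayBase.idx_lt p),
        List.getD_eq_getElem _ _ (by rw [hlen]; exact GolayBase.idx_lt p), List.getElem_map]
    rw [e]
    show (((vec l p - m) / 2 : ℤ) : ZMod 2) = _
    generalize (vec l p - m) / 2 = z
    rcases Int.emod_two_eq_zero_or_one z with hz | hz
    · rw [hz]
      simp only [zero_ne_one, decide_false, Bool.false_eq_true, if_false]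
      rw [ZMod.intCast_zmod_eq_zero_iff_dvd]
      exact Int.dvd_of_emod_eq_zero hz
    · rw [hz]
      simp only [decide_true, if_true]
      have : ((z : ℤ) : ZMod 2) = ((1 : ℤ) : ZMod 2) := by
        rw [ZMod.intCast_eq_intCast_iff]
        show z % 2 = 1 % 2
        rw [hz]; rfl
      rw [this]; rfl

/-! ### Generators of the lattice -/

/-- The list with `a` in position `i` (of 24) and `b` in the last position. -/
def twoL (i : ℕ) (a b : ℤ) : List ℤ :=
  (List.range 24).map fun j => if j = i then a else if j = 23 then b else 0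

/-- Generators of the lattice, as lists. -/
def gens : List (List ℤ) :=
  ((List.range 23).map fun i => twoL i 4 (-4)) ++
  ((List.range 23).map fun t => (List.range 24).map fun j =>
    if (GolayBase.qrMask t).testBit j then 2 else 0) ++
  [twoL 23 8 8, (List.range 24).map (fun _ => 2), (List.range 24).map fun j => if j = 23 then -3 else 1]

theorem getD_range_map (f : ℕ → ℤ) (p : GolayPt) :
    vec ((List.range 24).map f) p = f (GolayBase.idx p) := by
  have h : GolayBase.idx p < 24 := GolayBase.idx_lt p
  rw [vec_apply, List.getD_eq_getElem _ _ (by simpa using h), List.getElem_map, List.getElem_range]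

theorem gens_leech : (gens.all leechB) = true := by decide +kernel

/-- The lattice is generated by `gens`. -/
theorem leech_le (Q : AddSubgroup (GolayPt → ℤ)) (hQ : ∀ g ∈ gens, vec g ∈ Q) :
    leechLattice ≤ Q := by
  have hL : ∀ g ∈ gens, vec g ∈ leechLattice := fun g hg =>
    vec_mem_of_leechB (List.all_eq_true.mp gens_leech g hg)
  set Q' := Q ⊓ leechLattice with hQ'
  have hQ'g : ∀ g ∈ gens, vec g ∈ Q' := fun g hg => ⟨hQ g hg, hL g hg⟩
  have h4 : ∀ i : ℕ, i < 23 → vec (twoL i 4 (-4)) ∈ Q' := fun i hi => hQ'g _ (by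
    simp only [gens, List.mem_append, List.mem_map, List.mem_range]
    exact Or.inl (Or.inl ⟨i, hi, rfl⟩))
  have hqr : ∀ t : ℕ, t < 23 → vec ((List.range 24).map fun j =>
      if (GolayBase.qrMask t).testBit j then 2 else 0) ∈ Q' := fun t ht => hQ'g _ (by
    simp only [gens, List.mem_append, List.mem_map, List.mem_range]
    exact Or.inl (Or.inr ⟨t, ht, rfl⟩))
  have h8 : vec (twoL 23 8 8) ∈ Q' := hQ'g _ (by simp [gens])
  have h2 : vec ((List.range 24).map (fun _ => 2)) ∈ Q' := hQ'g _ (by simp [gens])
  have hs : vec ((List.range 24).map fun j => if j = 23 then -3 else 1) ∈ Q' := hQ'g _ (by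
    simp [gens])
  -- vectors divisible by 4
  have claim4 : ∀ y ∈ leechLattice, (∀ p, ∃ a, y p = 4 * a) → y ∈ Q' := by
    intro y hy hya
    choose a ha using hya
    have hsum : (∑ p, a p) % 2 = 0 := by
      obtain ⟨m, z, h1, h2, -⟩ := (LeechSet.mem_leechLattice_iff' y).mp hy
      have hm : m % 2 = 0 := by
        have := h1 none
        have := ha none
        omega
      have h3 : (∑ p, y p) % 8 = (4 * m) % 8 := h2
      simp only [ha] at h3
      rw [← Finset.mul_sum] at h3
      omega
    have hy2 : y = ∑ i ∈ Finset.range 23, a (GolayBase.pt i) • vec (twoL i 4 (-4)) +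
        ((∑ p, a p) / 2) • vec (twoL 23 8 8) := by
      funext p
      rw [Pi.add_apply, Finset.sum_apply]
      simp only [Pi.smul_apply, smul_eq_mul, twoL, getD_range_map]
      rw [ha p]
      by_cases hp : GolayBase.idx p = 23
      · have h5 : ∀ i ∈ Finset.range 23, a (GolayBase.pt i) * (if GolayBase.idx p = i then (4 : ℤ)
            else if GolayBase.idx p = 23 then -4 else 0) = -4 * a (GolayBase.pt i) := by
          intro i hi
          have := Finset.mem_range.mp hi
          rw [if_neg (by omega), if_pos hp]; ring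
        rw [Finset.sum_congr rfl h5, ← Finset.mul_sum, if_pos hp]
        have h6 : ∑ p, a p = ∑ i ∈ Finset.range 23, a (GolayBase.pt i) + a p := by
          rw [GolayBase.sum_pt, Finset.sum_range_succ, ← hp, GolayBase.pt_idx]
        have h7 : (∑ p, a p) / 2 * 8 = 4 * ∑ p, a p := by omega
        rw [h7, h6]; ring
      · have hlt : GolayBase.idx p < 23 := by have := GolayBase.idx_lt p; omega
        rw [Finset.sum_eq_single (GolayBase.idx p)]
        · rw [if_pos rfl, GolayBase.pt_idx, if_neg hp, if_neg hp]; ring
        · intro i _ hi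
          rw [if_neg (Ne.symm hi), if_neg hp, mul_zero]
        · intro h; exact absurd (Finset.mem_range.mpr hlt) h
    rw [hy2]
    refine Q'.add_mem (Q'.sum_mem fun i hi => Q'.zsmul_mem (h4 i (Finset.mem_range.mp hi)) _)
      (Q'.zsmul_mem h8 _)
  -- lifts of code words
  have claimC : ∀ w ∈ golayCode, ∃ q ∈ Q', ∀ p, ∃ a : ℤ, q p = 2 * a ∧ ((a : ℤ) : ZMod 2) = w p := by
    intro w hw
    have hw' : w ∈ Submodule.span (ZMod 2) (Set.range qrWord ∪ {1}) := hw
    induction hw' using Submodule.span_induction with
    | mem w hw'' =>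
      rcases hw'' with ⟨t, rfl⟩ | hw1
      · refine ⟨_, hqr t.val (ZMod.val_lt t), fun p => ?_⟩
        rw [getD_range_map, ← GolayBase.word_qrMask, GolayBase.word_apply]
        by_cases hb : (GolayBase.qrMask t.val).testBit (GolayBase.idx p) = true
        · exact ⟨1, by rw [if_pos hb]; norm_num, by rw [if_pos hb]; rfl⟩
        · exact ⟨0, by rw [if_neg hb]; norm_num, by rw [if_neg hb]; rfl⟩
      · rw [Set.mem_singleton_iff] at hw1
        subst hw1
        exact ⟨_, h2, fun p => ⟨1, by rw [getD_range_map]; norm_num, rfl⟩⟩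
    | zero => exact ⟨0, Q'.zero_mem, fun p => ⟨0, by simp, by simp⟩⟩
    | add u v hu hv ihu ihv =>
      obtain ⟨q, hq, hqa⟩ := ihu hu
      obtain ⟨r, hr, hra⟩ := ihv hv
      refine ⟨q + r, Q'.add_mem hq hr, fun p => ?_⟩
      obtain ⟨a, ha1, ha2⟩ := hqa p
      obtain ⟨b, hb1, hb2⟩ := hra p
      exact ⟨a + b, by rw [Pi.add_apply, ha1, hb1]; ring, by push_cast; rw [ha2, hb2]; rfl⟩
    | smul c u hu ihu =>
      have key : ∀ c : ZMod 2, c = 0 ∨ c = 1 := by decide
      rcases key c with rfl | rfl
      · exact ⟨0, Q'.zero_mem, fun p => ⟨0, by simp, by simp⟩⟩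
      · obtain ⟨q, hq, hqa⟩ := ihu hu
        exact ⟨q, hq, fun p => by simpa using hqa p⟩
  intro x hx
  obtain ⟨m, z, h1, h3, h5⟩ := (LeechSet.mem_leechLattice_iff' x).mp hx
  obtain ⟨q, hq, hqa⟩ := claimC _ h5
  set s := vec ((List.range 24).map fun j => if j = 23 then (-3 : ℤ) else 1) with hsdef
  have hms : m • s ∈ Q' := Q'.zsmul_mem hs m
  have hrest : x - m • s - q ∈ Q' := by
    apply claim4
    · exact leechLattice.sub_mem (leechLattice.sub_mem hx hms.2) hq.2
    · intro p
      obtain ⟨a, ha1, ha2⟩ := hqa p
      have h6 : ((a - z p : ℤ) : ZMod 2) = 0 := by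
        push_cast; rw [ha2]; ring
      rw [ZMod.intCast_zmod_eq_zero_iff_dvd] at h6
      obtain ⟨c, hc⟩ := h6
      have hsp : s p = 1 ∨ s p = -3 := by
        rw [hsdef, getD_range_map]
        by_cases hp : GolayBase.idx p = 23
        · rw [if_pos hp]; right; rfl
        · rw [if_neg hp]; left; rfl
      rw [Pi.sub_apply, Pi.sub_apply, Pi.smul_apply, smul_eq_mul, ha1, h1 p]
      push_cast at hc
      rcases hsp with h | h
      · exact ⟨-c, by rw [h]; linarith⟩
      · exact ⟨m - c, by rw [h]; linarith⟩
  have : x = (x - m • s - q) + q + m • s := by abel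
  rw [this]
  exact (Q'.add_mem (Q'.add_mem hrest hq) hms).1

/-! ### Matrices -/

/-- The row of the point `p`, as a vector. -/
def row (R : List (List ℤ)) (p : GolayPt) : GolayPt → ℤ := vec (R.getD (GolayBase.idx p) [])

/-- The map `x ↦ (p ↦ (R_p · x) / 8)`. -/
def act (R : List (List ℤ)) (x : GolayPt → ℤ) : GolayPt → ℤ := fun p => dotInt x (row R p) / 8

/-- Check that the map `act R` preserves the lattice. -/
def presB (R : List (List ℤ)) : Bool :=
  gens.all fun g => (R.all fun r => decide (dotL g r % 8 = 0)) && leechB (R.map fun r => dotL g r / 8)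

/-- Check that `C` is the transpose of `R`. -/
def trB (R C : List (List ℤ)) : Bool :=
  (List.range 24).all fun i => (List.range 24).all fun j =>
    decide ((R.getD i []).getD j 0 = (C.getD j []).getD i 0)

/-- Check that the rows are orthogonal of norm 64. -/
def orthB (R : List (List ℤ)) : Bool :=
  (List.range 24).all fun i => (List.range 24).all fun j =>
    decide (dotL (R.getD i []) (R.getD j []) = if i = j then 64 else 0)

/-- All checks. -/
def okB (R C : List (List ℤ)) : Bool :=
  Nat.beq R.length 24 && Nat.beq C.length 24 && (C.all fun r => Nat.ble r.length 24) &&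
    trB R C && orthB C && presB R && presB C

theorem dotInt_add_left (x y z : GolayPt → ℤ) : dotInt (x + y) z = dotInt x z + dotInt y z := by
  unfold dotInt
  rw [← Finset.sum_add_distrib]
  exact Finset.sum_congr rfl fun i _ => by rw [Pi.add_apply]; ring

theorem dotInt_neg_left (x z : GolayPt → ℤ) : dotInt (-x) z = -dotInt x z := by
  unfold dotInt
  rw [← Finset.sum_neg_distrib]
  exact Finset.sum_congr rfl fun i _ => by rw [Pi.neg_apply]; ring

theorem dotInt_zero_left (z : GolayPt → ℤ) : dotInt 0 z = 0 := by
  unfold dotInt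
  exact Finset.sum_eq_zero fun i _ => by rw [Pi.zero_apply, zero_mul]

theorem dotInt_comm (x y : GolayPt → ℤ) : dotInt x y = dotInt y x := by
  unfold dotInt
  exact Finset.sum_congr rfl fun i _ => mul_comm _ _

/-- The map preserves the lattice and all the divisions are exact. -/
theorem act_mem {R : List (List ℤ)} (hlen : R.length = 24) (hR : presB R = true) :
    ∀ x ∈ leechLattice, (∀ p, (8 : ℤ) ∣ dotInt x (row R p)) ∧ act R x ∈ leechLattice := by
  let Q : AddSubgroup (GolayPt → ℤ) :=
    { carrier := {x | (∀ p, (8 : ℤ) ∣ dotInt x (row R p)) ∧ act R x ∈ leechLattice}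
      zero_mem' := by
        refine ⟨fun p => ?_, ?_⟩
        · rw [dotInt_zero_left]; exact dvd_zero _
        · have : act R 0 = 0 := by funext p; simp [act, dotInt_zero_left]
          rw [this]; exact leechLattice.zero_mem
      add_mem' := by
        rintro x y ⟨hx1, hx2⟩ ⟨hy1, hy2⟩
        refine ⟨fun p => ?_, ?_⟩
        · rw [dotInt_add_left]; exact dvd_add (hx1 p) (hy1 p)
        · have : act R (x + y) = act R x + act R y := by
            funext p
            show dotInt (x + y) (row R p) / 8 = dotInt x (row R p) / 8 + dotInt y (row R p) / 8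
            rw [dotInt_add_left, Int.add_ediv_of_dvd_left (hx1 p)]
          rw [this]; exact leechLattice.add_mem hx2 hy2
      neg_mem' := by
        rintro x ⟨hx1, hx2⟩
        refine ⟨fun p => ?_, ?_⟩
        · rw [dotInt_neg_left]; exact (dvd_neg).mpr (hx1 p)
        · have : act R (-x) = - act R x := by
            funext p
            show dotInt (-x) (row R p) / 8 = -(dotInt x (row R p) / 8)
            rw [dotInt_neg_left, Int.neg_ediv_of_dvd (hx1 p)]
          rw [this]; exact leechLattice.neg_mem hx2 }
  have hle : leechLattice ≤ Q := by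
    apply leech_le
    intro g hg
    have hgl : g.length ≤ 24 := by
      have := List.all_eq_true.mp gens_leech g hg
      simp only [leechB, Bool.and_eq_true] at this
      exact (Nat.eq_of_beq_eq_true this.1.1.1).le
    have h := List.all_eq_true.mp hR g hg
    rw [Bool.and_eq_true] at h
    have hrow : ∀ p, dotInt (vec g) (row R p) = dotL g (R.getD (GolayBase.idx p) []) := fun p =>
      dotInt_vec g _ hgl
    have hmem : ∀ p, R.getD (GolayBase.idx p) [] ∈ R := fun p =>
      getD_mem_of_lt R [] (by rw [hlen]; exact GolayBase.idx_lt p)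
    refine ⟨fun p => ?_, ?_⟩
    · rw [hrow]
      exact Int.dvd_of_emod_eq_zero (of_decide_eq_true (List.all_eq_true.mp h.1 _ (hmem p)))
    · have := vec_mem_of_leechB h.2
      convert this using 1
      funext p
      show dotInt (vec g) (row R p) / 8 = _
      rw [hrow, vec_apply]
      rw [List.getD_eq_getElem R _ (by rw [hlen]; exact GolayBase.idx_lt p),
        List.getD_eq_getElem _ _ (by rw [List.length_map, hlen]; exact GolayBase.idx_lt p),
        List.getElem_map]
  intro x hx
  exact hle hx

theorem of_range_all {P : ℕ → Bool} (h : (List.range 24).all P = true) (p : GolayPt) :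
    P (GolayBase.idx p) = true :=
  List.all_eq_true.mp h _ (List.mem_range.mpr (GolayBase.idx_lt p))

theorem row_tr {R C : List (List ℤ)} (h : trB R C = true) (p q : GolayPt) :
    row R p q = row C q p :=
  of_decide_eq_true (of_range_all (of_range_all h p) q)

theorem row_orth {R : List (List ℤ)} (hl : (R.all fun r => Nat.ble r.length 24) = true)
    (hlen : R.length = 24) (h : orthB R = true) (p q : GolayPt) :
    dotInt (row R p) (row R q) = if p = q then 64 else 0 := by
  have h1 := of_decide_eq_true (of_range_all (of_range_all h p) q)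
  have h2 : (R.getD (GolayBase.idx p) []).length ≤ 24 :=
    Nat.le_of_ble_eq_true (List.all_eq_true.mp hl _
      (getD_mem_of_lt R [] (by rw [hlen]; exact GolayBase.idx_lt p)))
  rw [row, row, dotInt_vec _ _ h2, h1]
  by_cases hpq : p = q
  · rw [if_pos hpq, if_pos (by rw [hpq])]
  · rw [if_neg hpq, if_neg (fun h => hpq (GolayBase.idx_injective h))]

section adj
variable {R C : List (List ℤ)}

theorem adjoint (hR : R.length = 24) (hC : C.length = 24) (htr : trB R C = true)
    (hpR : presB R = true) (hpC : presB C = true) (x y : GolayPt → ℤ) (hx : x ∈ leechLattice)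
    (hy : y ∈ leechLattice) : dotInt (act R x) y = dotInt x (act C y) := by
  have hx1 := (act_mem hR hpR x hx).1
  have hy1 := (act_mem hC hpC y hy).1
  have e1 : 8 * dotInt (act R x) y = ∑ p, ∑ k, x k * row R p k * y p := by
    unfold dotInt
    rw [Finset.mul_sum]
    refine Finset.sum_congr rfl fun p _ => ?_
    have h : 8 * act R x p = dotInt x (row R p) := Int.mul_ediv_cancel' (hx1 p)
    rw [← mul_assoc, h]
    unfold dotInt
    rw [Finset.sum_mul]
  have e2 : 8 * dotInt x (act C y) = ∑ k, ∑ p, x k * row R p k * y p := by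
    unfold dotInt
    rw [Finset.mul_sum]
    refine Finset.sum_congr rfl fun k _ => ?_
    have h : 8 * act C y k = dotInt y (row C k) := Int.mul_ediv_cancel' (hy1 k)
    rw [mul_left_comm, h]
    unfold dotInt
    rw [Finset.mul_sum]
    refine Finset.sum_congr rfl fun p _ => ?_
    rw [row_tr htr p k]; ring
  rw [Finset.sum_comm] at e2
  rw [← e2] at e1
  linarith

theorem act_act (hR : R.length = 24) (hC : C.length = 24)
    (hCl : (C.all fun r => Nat.ble r.length 24) = true) (htr : trB R C = true)
    (hoC : orthB C = true) (hpR : presB R = true) (x : GolayPt → ℤ) (hx : x ∈ leechLattice) :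
    act C (act R x) = x := by
  have hx1 := (act_mem hR hpR x hx).1
  funext q
  have h1 : 8 * dotInt (act R x) (row C q) = 64 * x q := by
    have e1 : 8 * dotInt (act R x) (row C q) = ∑ p, ∑ k, x k * row R p k * row C q p := by
      unfold dotInt
      rw [Finset.mul_sum]
      refine Finset.sum_congr rfl fun p _ => ?_
      have h : 8 * act R x p = dotInt x (row R p) := Int.mul_ediv_cancel' (hx1 p)
      rw [← mul_assoc, h]
      unfold dotInt
      rw [Finset.sum_mul]
    rw [e1, Finset.sum_comm]
    have e2 : ∀ k, ∑ p, x k * row R p k * row C q p = x k * (if k = q then 64 else 0) := by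
      intro k
      rw [← row_orth hCl hC hoC k q]
      unfold dotInt
      rw [Finset.mul_sum]
      refine Finset.sum_congr rfl fun p _ => ?_
      rw [row_tr htr p k]; ring
    rw [Finset.sum_congr rfl fun k _ => e2 k, Finset.sum_eq_single q]
    · rw [if_pos rfl]; ring
    · intro k _ hk; rw [if_neg hk, mul_zero]
    · intro h; exact absurd (Finset.mem_univ q) h
  show dotInt (act R x) (row C q) / 8 = x q
  omega

end adj

theorem sqNorm_eq_dot (x : GolayPt → ℤ) : sqNorm x = dotInt x x := by
  unfold sqNorm dotInt
  exact Finset.sum_congr rfl fun i _ => by ring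

theorem trB_symm {R C : List (List ℤ)} (h : trB R C = true) : trB C R = true := by
  refine List.all_eq_true.mpr fun i hi => List.all_eq_true.mpr fun j hj => decide_eq_true ?_
  exact (of_decide_eq_true (List.all_eq_true.mp (List.all_eq_true.mp h j hj) i hi)).symm

/-- The check needed of the other matrix. -/
def ok2B (R C : List (List ℤ)) : Bool := okB R C && ((R.all fun r => Nat.ble r.length 24) && orthB R)

structure Ok (R C : List (List ℤ)) : Prop where
  lenR : R.length = 24
  lenC : C.length = 24
  lR : (R.all fun r => Nat.ble r.length 24) = true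
  lC : (C.all fun r => Nat.ble r.length 24) = true
  tr : trB R C = true
  oR : orthB R = true
  oC : orthB C = true
  pR : presB R = true
  pC : presB C = true

theorem Ok.of_bool {R C : List (List ℤ)} (h : ok2B R C = true) : Ok R C := by
  simp only [ok2B, okB, Bool.and_eq_true] at h
  obtain ⟨⟨⟨⟨⟨⟨⟨h1, h2⟩, h3⟩, h4⟩, h5⟩, h6⟩, h7⟩, h8, h9⟩ := h
  exact ⟨Nat.eq_of_beq_eq_true h1, Nat.eq_of_beq_eq_true h2, h8, h3, h4, h9, h5, h6, h7⟩

/-- The element of `Co0` given by a matrix. -/
def mk {R C : List (List ℤ)} (h : Ok R C) : Co0 :=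
  ⟨{ toFun := fun v => ⟨act R v, (act_mem h.lenR h.pR v v.2).2⟩
     invFun := fun v => ⟨act C v, (act_mem h.lenC h.pC v v.2).2⟩
     left_inv := fun v => Subtype.ext (act_act h.lenR h.lenC h.lC h.tr h.oC h.pR v v.2)
     right_inv := fun v => Subtype.ext
      (act_act h.lenC h.lenR h.lR (trB_symm h.tr) h.oR h.pC v v.2) },
    ⟨fun v w => Subtype.ext (by
      funext p
      show dotInt ((v : GolayPt → ℤ) + (w : GolayPt → ℤ)) (row R p) / 8 =
        dotInt (v : GolayPt → ℤ) (row R p) / 8 + dotInt (w : GolayPt → ℤ) (row R p) / 8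
      rw [dotInt_add_left, Int.add_ediv_of_dvd_left ((act_mem h.lenR h.pR v v.2).1 p)]),
     fun v => by
      show sqNorm (act R v) = sqNorm (v : GolayPt → ℤ)
      rw [sqNorm_eq_dot, sqNorm_eq_dot, adjoint h.lenR h.lenC h.tr h.pR h.pC v _ v.2
        (act_mem h.lenR h.pR v v.2).2, act_act h.lenR h.lenC h.lC h.tr h.oC h.pR v v.2]⟩⟩

theorem mk_coe {R C : List (List ℤ)} (h : Ok R C) (v : leechLattice) :
    (((mk h).1 v : leechLattice) : GolayPt → ℤ) = act R v := rfl

/-- The image of an explicit vector. -/
theorem act_vec {R : List (List ℤ)} (hR : R.length = 24) {l : List ℤ} (hl : l.length ≤ 24) :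
    act R (vec l) = vec (R.map fun r => dotL l r / 8) := by
  funext p
  show dotInt (vec l) (row R p) / 8 = _
  rw [row, dotInt_vec _ _ hl, vec_apply, List.getD_eq_getElem R _ (by rw [hR]; exact GolayBase.idx_lt p),
    List.getD_eq_getElem _ _ (by rw [List.length_map, hR]; exact GolayBase.idx_lt p),
    List.getElem_map]

/-- The adjoint relation: the inner product of an image with `y` is that of the vector with `act C y`. -/
theorem mk_dot {R C : List (List ℤ)} (h : Ok R C) (v : leechLattice) (y : GolayPt → ℤ)
    (hy : y ∈ leechLattice) :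
    dotInt (((mk h).1 v : leechLattice) : GolayPt → ℤ) y = dotInt (v : GolayPt → ℤ) (act C y) :=
  adjoint h.lenR h.lenC h.tr h.pR h.pC v y v.2 hy

end Cfsg.Agent.SporadicStructure.Co0Matrix
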