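import Cfsg.Agent.SporadicStructure.MonoOrbits

/-!
# Criteria for a vector of sum of squares 64 to lie in the standard cross
-/

set_option autoImplicit false
open scoped Pointwise
open Cfsg

namespace Cfsg.Agent.SporadicStructure.CrossCrit

open Cfsg.Agent.SporadicA.GolayBase Cfsg.Agent.SporadicA.GolayPerm
open Cfsg.Agent.SporadicStructure.MinShapes Cfsg.Agent.SporadicStructure.MonoPerms
open Cfsg.Agent.SporadicStructure.MonoSigns Cfsg.Agent.SporadicStructure.MonoTypes
open Cfsg.Agent.SporadicStructure.Co0Base Cfsg.Agent.SporadicStructure.MonoOrbits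

/-- A vector with all coordinates divisible by 8 and sum of squares 64 is in the cross. -/
theorem mem_stdCross_of_eight {y : GolayPt → ℤ} (hn : sqNorm y = 64) (h : ∀ i, (8 : ℤ) ∣ y i) :
    y ∈ stdCross := by
  choose u hu using h
  have hs : ∑ i, u i ^ 2 = 1 := by
    have : sqNorm y = 64 * ∑ i, u i ^ 2 := by
      rw [sqNorm, Finset.mul_sum]
      refine Finset.sum_congr rfl fun i _ => ?_
      rw [hu i]; ring
    omega
  obtain ⟨j, hj, hne⟩ := exists_of_sum_eq_one (f := fun i => u i ^ 2) (fun i => sq_nonneg _) hs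
  have hj2 : u j = 1 ∨ u j = -1 := sq_eq_one_iff.1 hj
  refine ⟨j, 8 * u j, by rcases hj2 with h | h <;> rw [h] <;> norm_num, ?_⟩
  funext i
  by_cases hi : i = j
  · subst hi; rw [Pi.single_eq_same, hu i]
  · rw [Pi.single_eq_of_ne hi, hu i, pow_eq_zero_iff (two_ne_zero) |>.1 (hne i hi), mul_zero]

theorem sum_ge {y : GolayPt → ℤ} (m : ℤ) (h : ∀ i, m ≤ y i ^ 2) : 24 * m ≤ sqNorm y := by
  have h1 : ∑ _i : GolayPt, m ≤ ∑ i, y i ^ 2 := Finset.sum_le_sum fun i _ => h i
  rw [Finset.sum_const, card_pt] at h1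
  rw [sqNorm]
  simpa using h1

theorem dot_vec (y : GolayPt → ℤ) (c : ℤ) {T S : Finset GolayPt} (hS : S ⊆ T) :
    dotInt y (vec c T S) = c * ∑ i ∈ T, y i - 2 * c * ∑ i ∈ S, y i := by
  have h : ∀ i, y i * vec c T S i =
      c * (if i ∈ T then y i else 0) - 2 * c * (if i ∈ S then y i else 0) := by
    intro i
    simp only [vec]
    by_cases h1 : i ∈ T <;> by_cases h2 : i ∈ S
    · simp only [h1, h2, if_true]; ring
    · simp only [h1, h2, if_true, if_false]; ring
    · exact absurd (hS h2) h1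
    · simp only [h1, h2, if_false]; ring
  rw [dotInt, Finset.sum_congr rfl fun i _ => h i, Finset.sum_sub_distrib, ← Finset.mul_sum,
    ← Finset.mul_sum, Finset.sum_ite_mem, Finset.sum_ite_mem, Finset.univ_inter, Finset.univ_inter]

/-- First criterion: products with all vectors of shape `(±4, ±4)` divisible by 32. -/
theorem crit4 {y : GolayPt → ℤ} (hn : sqNorm y = 64)
    (h : ∀ T S : Finset GolayPt, T.card = 2 → S ⊆ T → (32 : ℤ) ∣ dotInt y (vec 4 T S)) :
    y ∈ stdCross := by
  have key : ∀ a b : GolayPt, a ≠ b → (8 : ℤ) ∣ y a + y b ∧ (8 : ℤ) ∣ y a - y b := by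
    intro a b hab
    have h1 := h {a, b} ∅ (Finset.card_pair hab) (by simp)
    have h2 := h {a, b} {b} (Finset.card_pair hab) (by simp)
    rw [dot_vec _ _ (by simp), Finset.sum_pair hab] at h1 h2
    simp only [Finset.sum_empty, Finset.sum_singleton] at h1 h2
    constructor <;> omega
  have key2 : ∀ a b : GolayPt, a ≠ b → (4 : ℤ) ∣ y a ∧ (8 : ℤ) ∣ y a - y b := by
    intro a b hab
    obtain ⟨h1, h2⟩ := key a b hab
    constructor
    · omega
    · exact h2
  apply mem_stdCross_of_eight hn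
  by_contra hne
  push Not at hne
  obtain ⟨a, ha⟩ := hne
  have hall : ∀ i, (16 : ℤ) ≤ y i ^ 2 := by
    intro i
    have h4 : (4 : ℤ) ∣ y i ∧ ¬ (8 : ℤ) ∣ y i := by
      by_cases hi : i = a
      · subst hi
        obtain ⟨b, hb⟩ := exists_ne i
        exact ⟨(key2 i b hb.symm).1, ha⟩
      · obtain ⟨h1, h2⟩ := key2 i a hi
        exact ⟨h1, fun h3 => ha (by omega)⟩
    obtain ⟨⟨k, hk⟩, h8⟩ := h4
    have hk0 : k ≠ 0 := by
      rintro rfl
      exact h8 (by rw [hk]; simp)
    have : 1 ≤ k ^ 2 := by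
      have : 0 < k ^ 2 := by positivity
      omega
    rw [hk]; nlinarith
  have := sum_ge 16 hall
  omega

/-- An octad through three points avoiding a fourth. -/
theorem exists_octad_three {a b c d : GolayPt} (hab : a ≠ b) (hac : a ≠ c) (had : a ≠ d)
    (hbc : b ≠ c) (hbd : b ≠ d) (hcd : c ≠ d) :
    ∃ O ∈ octads, a ∈ O ∧ b ∈ O ∧ c ∈ O ∧ d ∉ O := by
  obtain ⟨σ, hσ, h1, h2⟩ := exists_M24_pair hab
  have e : ∀ x, σ (σ.symm x) = x := fun x => Equiv.apply_symm_apply σ x
  obtain ⟨τ, hτ, h3, h4⟩ := exists_N22_pair (p := σ.symm c) (q := σ.symm d)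
    (fun h => hcd (σ.symm.injective h))
    (fun h => hac (by rw [← h1, ← h, e]))
    (fun h => hbc (by rw [← h2, ← h, e]))
    (fun h => had (by rw [← h1, ← h, e]))
    (fun h => hbd (by rw [← h2, ← h, e]))
  obtain ⟨hτM, hτn, hτ0⟩ := mem_N22.1 hτ
  have m0 : fin 9347075 ∈ octads := (fin_mem_octads_iff (by norm_num)).2 (by decide +kernel)
  have m1 : none ∈ fin 9347075 := by decide +kernel
  have m2 : some 0 ∈ fin 9347075 := by decide +kernel
  have m3 : some 1 ∈ fin 9347075 := by decide +kernel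
  have m4 : some 2 ∉ fin 9347075 := by decide +kernel
  refine ⟨(σ * τ) • fin 9347075, (smul_mem_octads (M24.mul_mem hσ hτM)).2 m0, ?_, ?_, ?_, ?_⟩
  · have := (mem_smul_iff (σ * τ) _ none).2 m1
    rwa [Equiv.Perm.mul_apply, hτn, h1] at this
  · have := (mem_smul_iff (σ * τ) _ (some 0)).2 m2
    rwa [Equiv.Perm.mul_apply, hτ0, h2] at this
  · have := (mem_smul_iff (σ * τ) _ (some 1)).2 m3
    rwa [Equiv.Perm.mul_apply, h3, e] at this
  · intro h
    apply m4
    rw [← mem_smul_iff (σ * τ), Equiv.Perm.mul_apply, h4, e]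
    exact h

theorem exists_octad_pair {a b : GolayPt} (hab : a ≠ b) : ∃ O ∈ octads, a ∈ O ∧ b ∈ O := by
  obtain ⟨σ, hσ, h1, h2⟩ := exists_M24_pair hab
  have m1 : none ∈ O2 := by decide +kernel
  have m2 : some 0 ∈ O2 := by decide +kernel
  refine ⟨σ • O2, (smul_mem_octads hσ).2 O2_mem, ?_, ?_⟩
  · have := (mem_smul_iff σ _ none).2 m1
    rwa [h1] at this
  · have := (mem_smul_iff σ _ (some 0)).2 m2
    rwa [h2] at this

/-- Second criterion: products with all vectors of shape `(±2)^8` divisible by 16. -/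
theorem crit2 {y : GolayPt → ℤ} (hn : sqNorm y = 64)
    (h : ∀ O S : Finset GolayPt, O ∈ octads → S ⊆ O → Even S.card →
      (16 : ℤ) ∣ dotInt y (vec 2 O S)) : y ∈ stdCross := by
  have hsumO : ∀ O ∈ octads, (8 : ℤ) ∣ ∑ i ∈ O, y i := by
    intro O hO
    have h1 := h O ∅ hO (by simp) (by simp)
    rw [dot_vec _ _ (by simp)] at h1
    simp only [Finset.sum_empty] at h1
    omega
  have key : ∀ a b : GolayPt, a ≠ b → (4 : ℤ) ∣ y a + y b := by
    intro a b hab
    obtain ⟨O, hO, ha, hb⟩ := exists_octad_pair hab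
    have hsub : ({a, b} : Finset GolayPt) ⊆ O := by
      intro x hx
      rcases (by simpa using hx : x = a ∨ x = b) with rfl | rfl
      · exact ha
      · exact hb
    have h1 := h O {a, b} hO hsub (by rw [Finset.card_pair hab]; decide)
    rw [dot_vec _ _ hsub, Finset.sum_pair hab] at h1
    have h2 := hsumO O hO
    omega
  have heven : ∀ a, (2 : ℤ) ∣ y a := by
    intro a
    obtain ⟨b, c, hab, hac, hbc⟩ : ∃ b c : GolayPt, a ≠ b ∧ a ≠ c ∧ b ≠ c := by
      revert a; decide
    have h1 := key a b hab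
    have h2 := key a c hac
    have h3 := key b c hbc
    omega
  have h4 : ∀ a, (4 : ℤ) ∣ y a := by
    by_contra hne
    push Not at hne
    obtain ⟨a, ha⟩ := hne
    have hall : ∀ i, (4 : ℤ) ≤ y i ^ 2 := by
      intro i
      have h5 : ¬ (4 : ℤ) ∣ y i := by
        by_cases hi : i = a
        · subst hi; exact ha
        · have := key i a hi
          have := heven a
          have := heven i
          intro h6
          exact ha (by omega)
      obtain ⟨k, hk⟩ := heven i
      have hk0 : k ≠ 0 := by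
        rintro rfl
        exact h5 (by rw [hk]; simp)
      have : 1 ≤ k ^ 2 := by
        have : 0 < k ^ 2 := by positivity
        omega
      rw [hk]; nlinarith
    have := sum_ge 4 hall
    omega
  choose z hz using h4
  have hs : ∑ i, z i ^ 2 = 4 := by
    have : sqNorm y = 16 * ∑ i, z i ^ 2 := by
      rw [sqNorm, Finset.mul_sum]
      refine Finset.sum_congr rfl fun i _ => ?_
      rw [hz i]; ring
    omega
  have hzO : ∀ O ∈ octads, (2 : ℤ) ∣ ∑ i ∈ O, z i := by
    intro O hO
    have h1 := hsumO O hO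
    have h2 : ∑ i ∈ O, y i = 4 * ∑ i ∈ O, z i := by
      rw [Finset.mul_sum]
      exact Finset.sum_congr rfl fun i _ => hz i
    omega
  set T := Finset.univ.filter fun i => z i % 2 = 1 with hT
  have hmemT : ∀ i, i ∈ T ↔ z i % 2 = 1 := by intro i; rw [hT]; simp
  have hTcard : ∃ m : ℤ, 0 ≤ m ∧ (T.card : ℤ) + 4 * m = 4 := by
    have h1 : ∀ i, ∃ m : ℤ, 0 ≤ m ∧ z i ^ 2 = (if i ∈ T then 1 else 0) + 4 * m := by
      intro i
      by_cases hi : i ∈ T
      · have h2 := (hmemT i).1 hi
        obtain ⟨k, hk⟩ : ∃ k : ℤ, z i = 2 * k + 1 := ⟨z i / 2, by omega⟩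
        refine ⟨k * (k + 1), ?_, ?_⟩
        · rcases le_or_gt 0 k with h | h
          · positivity
          · nlinarith
        · rw [if_pos hi, hk]; ring
      · have h2 : z i % 2 = 0 := by
          have := mt (hmemT i).2 hi
          omega
        obtain ⟨k, hk⟩ : ∃ k : ℤ, z i = 2 * k := ⟨z i / 2, by omega⟩
        refine ⟨k ^ 2, sq_nonneg k, ?_⟩
        rw [if_neg hi, hk]; ring
    choose m hm0 hm using h1
    refine ⟨∑ i, m i, Finset.sum_nonneg fun i _ => hm0 i, ?_⟩
    have h5 : ∑ i, z i ^ 2 = (T.card : ℤ) + 4 * ∑ i, m i := by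
      rw [Finset.sum_congr rfl fun i _ => hm i, Finset.sum_add_distrib, ← Finset.mul_sum,
        Finset.sum_ite_mem, Finset.univ_inter, Finset.sum_const, nsmul_eq_mul, mul_one]
    rw [← h5]
    exact hs
  obtain ⟨m, hm0, hm⟩ := hTcard
  have hT04 : T.card = 0 ∨ T.card = 4 := by omega
  rcases hT04 with hT0 | hT4
  · apply mem_stdCross_of_eight hn
    intro i
    rw [Finset.card_eq_zero] at hT0
    have h1 : ¬ z i % 2 = 1 := by
      rw [← hmemT, hT0]; simp
    have := hz i
    omega
  · exfalso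
    obtain ⟨a, b, c, d, hab, hac, had, hbc, hbd, hcd, hTe⟩ := Finset.card_eq_four.1 hT4
    obtain ⟨O, hO, ha, hb, hc, hd⟩ := exists_octad_three hab hac had hbc hbd hcd
    have h1 := hzO O hO
    have h2 : ∑ i ∈ O, z i ≡ ∑ i ∈ O, (if i ∈ T then 1 else 0) [ZMOD 2] := by
      apply Int.ModEq.sum
      intro i _
      unfold Int.ModEq
      have := hmemT i
      split_ifs with h
      · have := this.1 h; omega
      · have := mt this.2 h; omega
    have h3 : ∑ i ∈ O, (if i ∈ T then (1 : ℤ) else 0) = 3 := by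
      rw [Finset.sum_ite_mem]
      have : O ∩ T = {a, b, c} := by
        rw [hTe]
        ext x
        simp only [Finset.mem_inter, Finset.mem_insert, Finset.mem_singleton]
        constructor
        · rintro ⟨h, rfl | rfl | rfl | rfl⟩
          · exact Or.inl rfl
          · exact Or.inr (Or.inl rfl)
          · exact Or.inr (Or.inr rfl)
          · exact absurd h hd
        · rintro (rfl | rfl | rfl)
          · exact ⟨ha, Or.inl rfl⟩
          · exact ⟨hb, Or.inr (Or.inl rfl)⟩
          · exact ⟨hc, Or.inr (Or.inr (Or.inl rfl))⟩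
      rw [this, Finset.sum_const, Finset.card_eq_three.2 ⟨a, b, c, hab, hac, hbc, rfl⟩]
      norm_num
    rw [h3] at h2
    unfold Int.ModEq at h2
    omega

end Cfsg.Agent.SporadicStructure.CrossCrit
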