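import Cfsg.Agent.SporadicStructure.CrossCrit
import Cfsg.Agent.SporadicA.Co0Basic

/-!
# A subgroup of `Cfsg.Co0` containing the monomial maps and moving the standard cross is everything
-/

set_option autoImplicit false
open scoped Pointwise
open Cfsg

namespace Cfsg.Agent.SporadicStructure.CrossMax

open Cfsg.Agent.SporadicA.GolayBase Cfsg.Agent.SporadicA.GolayPerm
open Cfsg.Agent.SporadicStructure.MinShapes Cfsg.Agent.SporadicStructure.MonoPerms
open Cfsg.Agent.SporadicStructure.MonoSigns Cfsg.Agent.SporadicStructure.MonoTypes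
open Cfsg.Agent.SporadicStructure.Co0Base Cfsg.Agent.SporadicStructure.MonoOrbits
open Cfsg.Agent.SporadicStructure.CrossCrit

/-- Shape `(±4, ±4)`. -/
def Sh4 (v : leechLattice) : Prop :=
  ∃ T S : Finset GolayPt, T.card = 2 ∧ S ⊆ T ∧ (v : GolayPt → ℤ) = vec 4 T S

/-- Shape `(±2)^8`. -/
def Sh2 (v : leechLattice) : Prop :=
  ∃ O S : Finset GolayPt, O ∈ octads ∧ S ⊆ O ∧ Even S.card ∧ (v : GolayPt → ℤ) = vec 2 O S

/-- Odd shape. -/
def ShO (v : leechLattice) : Prop :=
  ∃ (j : GolayPt) (d : Finset GolayPt), d ∈ SC ∧ (v : GolayPt → ℤ) = odd j d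

/-- Membership in the standard cross. -/
def InCross (v : leechLattice) : Prop := (v : GolayPt → ℤ) ∈ stdCross

theorem sh_cases {v : leechLattice} (hv : sqNorm (v : GolayPt → ℤ) = 32) :
    Sh4 v ∨ Sh2 v ∨ ShO v := cases v.2 hv

theorem sqNorm_vec (c : ℤ) {T S : Finset GolayPt} : sqNorm (vec c T S) = c ^ 2 * T.card := by
  have h : ∀ i, vec c T S i ^ 2 = c ^ 2 * (if i ∈ T then 1 else 0) := by
    intro i
    simp only [vec]
    split_ifs <;> ring
  rw [sqNorm, Finset.sum_congr rfl fun i _ => h i, ← Finset.mul_sum, Finset.sum_ite_mem,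
    Finset.univ_inter, Finset.sum_const, nsmul_eq_mul, mul_one]

theorem Sh4.norm {v : leechLattice} (h : Sh4 v) : sqNorm (v : GolayPt → ℤ) = 32 := by
  obtain ⟨T, S, hT, -, hv⟩ := h
  rw [hv, sqNorm_vec, hT]; norm_num

theorem Sh2.norm {v : leechLattice} (h : Sh2 v) : sqNorm (v : GolayPt → ℤ) = 32 := by
  obtain ⟨T, S, hT, -, -, hv⟩ := h
  rw [hv, sqNorm_vec, octad_card hT]; norm_num

theorem norm_v0 : sqNorm (v0 : GolayPt → ℤ) = 32 :=
  Sh4.norm ⟨{none, some 0}, ∅, by decide, by simp, rfl⟩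

theorem norm_w0 : sqNorm (w0 : GolayPt → ℤ) = 32 :=
  Sh4.norm ⟨{none, some 0}, {some 0}, by decide, by simp, rfl⟩

theorem Sh4.coord {v : leechLattice} (h : Sh4 v) (i : GolayPt) :
    (4 : ℤ) ∣ (v : GolayPt → ℤ) i := by
  obtain ⟨T, S, -, -, hv⟩ := h
  rw [hv]
  simp only [vec]
  split_ifs <;> norm_num

theorem Sh2.coord {v : leechLattice} (h : Sh2 v) (i : GolayPt) :
    (2 : ℤ) ∣ (v : GolayPt → ℤ) i := by
  obtain ⟨T, S, -, -, -, hv⟩ := h
  rw [hv]
  simp only [vec]
  split_ifs <;> norm_num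

theorem cross_spec {x : leechLattice} (hx : InCross x) : sqNorm (x : GolayPt → ℤ) = 64 ∧
    ∃ (i : GolayPt) (s : ℤ), (s = 8 ∨ s = -8) ∧
      ∀ y : GolayPt → ℤ, dotInt (x : GolayPt → ℤ) y = s * y i := by
  obtain ⟨i, s, hs, hx⟩ := hx
  have h1 : ∀ y : GolayPt → ℤ, dotInt (x : GolayPt → ℤ) y = s * y i := by
    intro y
    rw [hx, dotInt, Finset.sum_eq_single i]
    · rw [Pi.single_eq_same]
    · intro j _ hj
      rw [Pi.single_eq_of_ne hj, zero_mul]
    · intro h; exact absurd (Finset.mem_univ i) h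
  refine ⟨?_, i, s, hs, h1⟩
  have h2 := h1 x
  have h3 : dotInt (x : GolayPt → ℤ) x = sqNorm (x : GolayPt → ℤ) := by
    rw [dotInt, sqNorm]
    exact Finset.sum_congr rfl fun j _ => by ring
  rw [← h3, h2, hx, Pi.single_eq_same]
  rcases hs with rfl | rfl <;> norm_num

theorem dot_smul_left (g : Co0) (x v : leechLattice) :
    dotInt ((g • x : leechLattice) : GolayPt → ℤ) (v : GolayPt → ℤ) =
      dotInt (x : GolayPt → ℤ) ((g⁻¹ • v : leechLattice) : GolayPt → ℤ) := by
  have h := co0_dotInt g x (g⁻¹ • v)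
  rwa [smul_inv_smul] at h

theorem smul_mem_of_four (g : Co0) (hg : ∀ v, Sh4 v → Sh4 (g⁻¹ • v)) (x : leechLattice)
    (hx : InCross x) : InCross (g • x) := by
  obtain ⟨hn, i, s, hs, hdot⟩ := cross_spec hx
  apply crit4
  · rw [co0_sqNorm, hn]
  · intro T S hT hS
    have h1 := dot_smul_left g x ⟨vec 4 T S, vec_four_mem hT hS⟩
    have h2 : Sh4 (⟨vec 4 T S, vec_four_mem hT hS⟩ : leechLattice) := ⟨T, S, hT, hS, rfl⟩
    have h3 := (hg _ h2).coord i
    rw [hdot] at h1
    rw [h1]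
    obtain ⟨k, hk⟩ := h3
    rw [hk]
    rcases hs with rfl | rfl
    · exact ⟨k, by ring⟩
    · exact ⟨-k, by ring⟩

theorem smul_mem_of_two (g : Co0) (hg : ∀ v, Sh2 v → ∀ i, (2 : ℤ) ∣
    ((g⁻¹ • v : leechLattice) : GolayPt → ℤ) i) (x : leechLattice)
    (hx : InCross x) : InCross (g • x) := by
  obtain ⟨hn, i, s, hs, hdot⟩ := cross_spec hx
  apply crit2
  · rw [co0_sqNorm, hn]
  · intro O S hO hS he
    have h1 := dot_smul_left g x ⟨vec 2 O S, vec_two_mem hO hS he⟩
    have h2 : Sh2 (⟨vec 2 O S, vec_two_mem hO hS he⟩ : leechLattice) := ⟨O, S, hO, hS, he, rfl⟩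
    have h3 := hg _ h2 i
    rw [hdot] at h1
    rw [h1]
    obtain ⟨k, hk⟩ := h3
    rw [hk]
    rcases hs with rfl | rfl
    · exact ⟨k, by ring⟩
    · exact ⟨-k, by ring⟩

section
variable (K : Subgroup ↥Co0)
variable (hM : ∀ (σ : Equiv.Perm GolayPt) (hσ : σ ∈ M24) (c : Finset GolayPt) (hc : c ∈ SC),
  monomial σ hσ c hc ∈ K)

/-- Being in the same orbit. -/
def Rel (v w : leechLattice) : Prop := ∃ k ∈ K, k • v = w

theorem Rel.symm {K : Subgroup ↥Co0} {v w : leechLattice} (h : Rel K v w) : Rel K w v := by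
  obtain ⟨k, hk, rfl⟩ := h
  exact ⟨k⁻¹, K.inv_mem hk, inv_smul_smul _ _⟩

theorem Rel.trans {K : Subgroup ↥Co0} {u v w : leechLattice} (h : Rel K u v) (h' : Rel K v w) :
    Rel K u w := by
  obtain ⟨k, hk, rfl⟩ := h
  obtain ⟨k', hk', rfl⟩ := h'
  exact ⟨k' * k, K.mul_mem hk' hk, mul_smul _ _ _⟩

include hM in
/-- `K` is transitive on the minimal vectors. -/
theorem trans32 (hne : ∃ k ∈ K, ∃ x, InCross x ∧ ¬ InCross (k • x)) (v : leechLattice)
    (hv : sqNorm (v : GolayPt → ℤ) = 32) : Rel K v0 v := by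
  have o4 : ∀ v, Sh4 v → Rel K v0 v := by
    rintro v ⟨T, S, hT, hS, hv⟩
    exact orb4 K hM v hT hS hv
  have o2 : ∀ v, Sh2 v → Rel K b0 v := by
    rintro v ⟨O, S, hO, hS, he, hv⟩
    exact orb2 K hM v hO hS he hv
  have oo : ∀ v, ShO v → Rel K o0 v := by
    rintro v ⟨j, d, hd, hv⟩
    exact orbodd K hM v hd hv
  obtain ⟨k0, hk0, x, hx, hnx⟩ := hne
  have hA : Rel K v0 b0 ∨ Rel K v0 o0 := by
    by_contra hcon
    rw [not_or] at hcon
    apply hnx
    apply smul_mem_of_four k0 _ x hx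
    intro u hu
    have hnu : sqNorm ((k0⁻¹ • u : leechLattice) : GolayPt → ℤ) = 32 := by
      rw [co0_sqNorm, hu.norm]
    have hr : Rel K v0 (k0⁻¹ • u) := (o4 u hu).trans ⟨k0⁻¹, K.inv_mem hk0, rfl⟩
    rcases sh_cases hnu with h | h | h
    · exact h
    · exact absurd (hr.trans (o2 _ h).symm) hcon.1
    · exact absurd (hr.trans (oo _ h).symm) hcon.2
  have hB : Rel K b0 o0 := by
    by_contra hcon
    apply hnx
    apply smul_mem_of_two k0 _ x hx
    intro u hu i
    have hnu : sqNorm ((k0⁻¹ • u : leechLattice) : GolayPt → ℤ) = 32 := by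
      rw [co0_sqNorm, hu.norm]
    have hr : Rel K b0 (k0⁻¹ • u) := (o2 u hu).trans ⟨k0⁻¹, K.inv_mem hk0, rfl⟩
    rcases sh_cases hnu with h | h | h
    · exact dvd_trans (by norm_num) (h.coord i)
    · exact h.coord i
    · exact absurd (hr.trans (oo _ h).symm) hcon
  have hb : Rel K v0 b0 := by
    rcases hA with h | h
    · exact h
    · exact h.trans hB.symm
  rcases sh_cases hv with h | h | h
  · exact o4 v h
  · exact hb.trans (o2 v h)
  · exact (hb.trans hB).trans (oo v h)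

/-! ### The orbit of `w0` under the stabiliser of `v0` -/

/-- The orbit of `w0` under the stabiliser of `v0` in `K`. -/
def W : Set leechLattice := {w | ∃ k ∈ K, k • v0 = v0 ∧ k • w0 = w}

/-- The same set, as a set of functions. -/
def Wf : Set (GolayPt → ℤ) := (fun w : leechLattice => (w : GolayPt → ℤ)) '' W K

theorem W_smul {k : ↥Co0} (hk : k ∈ K) (hk0 : k • v0 = v0) {w : leechLattice} (hw : w ∈ W K) :
    k • w ∈ W K := by
  obtain ⟨k', hk', h1, h2⟩ := hw
  exact ⟨k * k', K.mul_mem hk hk', by rw [mul_smul, h1, hk0], by rw [mul_smul, h2]⟩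

theorem dot_comm (x y : GolayPt → ℤ) : dotInt x y = dotInt y x := by
  rw [dotInt, dotInt]
  exact Finset.sum_congr rfl fun i _ => mul_comm _ _

theorem dot_v0 (w : GolayPt → ℤ) : dotInt w (v0 : GolayPt → ℤ) = 4 * (w none + w (some 0)) := by
  show dotInt w (vec 4 {none, some 0} ∅) = _
  rw [dot_vec _ _ (by simp), Finset.sum_pair (by decide), Finset.sum_empty]
  ring

theorem vec_apply (c : ℤ) (T S : Finset GolayPt) (i : GolayPt) :
    vec c T S i = if i ∈ T then (if i ∈ S then -c else c) else 0 := rfl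

theorem odd_apply (j : GolayPt) (d : Finset GolayPt) (i : GolayPt) :
    odd j d i = if i ∈ d then -(if i = j then -3 else 1) else (if i = j then -3 else 1) := rfl

/-- The vectors `±(4, -4, 0^22)`. -/
def T0 : Set (GolayPt → ℤ) := {vec 4 {none, some 0} {some 0}, vec 4 {none, some 0} {none}}

theorem classify {w : leechLattice} (hn : sqNorm (w : GolayPt → ℤ) = 32)
    (hd : dotInt (w : GolayPt → ℤ) (v0 : GolayPt → ℤ) = 0) :
    (w : GolayPt → ℤ) ∈ T0 ∨ (w : GolayPt → ℤ) ∈ T1 ∨ (w : GolayPt → ℤ) ∈ T2 ∨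
      (w : GolayPt → ℤ) ∈ T3 ∨ (w : GolayPt → ℤ) ∈ T4 := by
  rw [dot_v0] at hd
  have hd' : (w : GolayPt → ℤ) none + (w : GolayPt → ℤ) (some 0) = 0 := by omega
  clear hd
  rcases sh_cases hn with ⟨T, S, hT, hS, hw⟩ | ⟨O, S, hO, hS, he, hw⟩ | ⟨j, d, hdd, hw⟩
  · rw [hw] at hd' ⊢
    rw [vec_apply, vec_apply] at hd'
    by_cases h1 : none ∈ T
    · have h2 : some 0 ∈ T := by
        by_contra h2
        rw [if_pos h1, if_neg h2] at hd'
        split_ifs at hd' <;> omega
      left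
      have hT' : T = {none, some 0} := by
        symm
        apply Finset.eq_of_subset_of_card_le
        · intro x hx
          rcases (by simpa using hx : x = none ∨ x = some 0) with rfl | rfl
          · exact h1
          · exact h2
        · rw [hT]; decide
      subst hT'
      rw [if_pos h1, if_pos h2] at hd'
      rcases subset_pair_cases hS with rfl | rfl | rfl | rfl
      · exfalso; simp at hd'
      · right; rfl
      · left; rfl
      · exfalso; simp at hd'
    · have h2 : some 0 ∉ T := by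
        intro h2
        rw [if_neg h1, if_pos h2] at hd'
        split_ifs at hd' <;> omega
      right; left
      exact ⟨T, S, ⟨hT, h1, h2⟩, hS, rfl⟩
  · rw [hw] at hd' ⊢
    rw [vec_apply, vec_apply] at hd'
    by_cases h1 : none ∈ O
    · have h2 : some 0 ∈ O := by
        by_contra h2
        rw [if_pos h1, if_neg h2] at hd'
        split_ifs at hd' <;> omega
      right; right; left
      refine ⟨O, S, ⟨hO, h1, h2⟩, ⟨hS, he, ?_⟩, rfl⟩
      rw [if_pos h1, if_pos h2] at hd'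
      by_cases h3 : none ∈ S <;> by_cases h4 : some 0 ∈ S <;>
        simp only [h3, h4, if_true, if_false] at hd' ⊢ <;> simp at hd' ⊢
    · have h2 : some 0 ∉ O := by
        intro h2
        rw [if_neg h1, if_pos h2] at hd'
        split_ifs at hd' <;> omega
      right; right; right; left
      exact ⟨O, S, ⟨hO, h1, h2⟩, ⟨hS, he⟩, rfl⟩
  · rw [hw] at hd' ⊢
    right; right; right; right
    rw [odd_apply, odd_apply] at hd'
    have hj1 : j ≠ none := by
      rintro rfl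
      have : ¬ (some 0 : GolayPt) = none := by decide
      simp only [if_neg this, if_true] at hd'
      by_cases h3 : none ∈ d <;> by_cases h4 : some 0 ∈ d <;> simp [h3, h4] at hd'
    have hj2 : j ≠ some 0 := by
      rintro rfl
      have : ¬ (none : GolayPt) = some 0 := by decide
      simp only [if_neg this, if_true] at hd'
      by_cases h3 : none ∈ d <;> by_cases h4 : some 0 ∈ d <;> simp [h3, h4] at hd'
    refine ⟨j, d, ⟨hj1, hj2⟩, ⟨hdd, ?_⟩, rfl⟩
    rw [if_neg (Ne.symm hj1), if_neg (Ne.symm hj2)] at hd'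
    by_cases h3 : none ∈ d <;> by_cases h4 : some 0 ∈ d <;>
      simp only [h3, h4, if_true, if_false] at hd' ⊢ <;> simp at hd' ⊢

theorem dot_w0_v0 : dotInt (w0 : GolayPt → ℤ) (v0 : GolayPt → ℤ) = 0 := by
  rw [dot_v0]
  show 4 * (vec 4 {none, some 0} {some 0} none + vec 4 {none, some 0} {some 0} (some 0)) = 0
  rw [vec_apply, vec_apply]
  decide

theorem W_spec {w : leechLattice} (hw : w ∈ W K) : sqNorm (w : GolayPt → ℤ) = 32 ∧
    dotInt (w : GolayPt → ℤ) (v0 : GolayPt → ℤ) = 0 := by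
  obtain ⟨k, hk, h1, rfl⟩ := hw
  refine ⟨by rw [co0_sqNorm, norm_w0], ?_⟩
  have h2 := co0_dotInt k w0 v0
  rw [h1] at h2
  rw [h2, dot_w0_v0]

theorem Wf_sub {x : GolayPt → ℤ} (hx : x ∈ Wf K) : x ∈ T0 ∨ x ∈ T1 ∨ x ∈ T2 ∨ x ∈ T3 ∨ x ∈ T4 := by
  obtain ⟨w, hw, rfl⟩ := hx
  obtain ⟨h1, h2⟩ := W_spec K hw
  exact classify h1 h2

/-- If the stabiliser of `v0` in `K` is transitive on a type, the orbit contains it or misses it. -/
theorem dichotomy (T : Set (GolayPt → ℤ)) (hT : ∀ x ∈ T, x ∈ leechLattice) (r : leechLattice)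
    (h : ∀ v : leechLattice, (v : GolayPt → ℤ) ∈ T → ∃ g ∈ K, g • v0 = v0 ∧ g • r = v) :
    Wf K ∩ T = T ∨ Wf K ∩ T = ∅ := by
  by_cases hne : (Wf K ∩ T).Nonempty
  · left
    apply Set.inter_eq_right.2
    obtain ⟨_, ⟨w, hw, rfl⟩, hwT⟩ := hne
    obtain ⟨g, hg, hg0, hgr⟩ := h w hwT
    have hr : r ∈ W K := by
      have := W_smul K (K.inv_mem hg) (inv_smul_eq_iff.2 hg0.symm) hw
      rwa [← hgr, inv_smul_smul] at this
    intro x hx
    obtain ⟨g', hg', hg0', hgr'⟩ := h ⟨x, hT x hx⟩ hx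
    refine ⟨g' • r, W_smul K hg' hg0' hr, ?_⟩
    show ((g' • r : leechLattice) : GolayPt → ℤ) = x
    rw [hgr']
  · right
    exact Set.not_nonempty_iff_eq_empty.1 hne

theorem T0_ncard : T0.ncard = 2 := by
  rw [T0, Set.ncard_pair]
  intro h
  have := congrFun h none
  rw [vec_apply, vec_apply] at this
  revert this
  decide

include hM in
theorem T0_sub : Wf K ∩ T0 = T0 := by
  apply Set.inter_eq_right.2
  rintro x (rfl | rfl)
  · exact ⟨w0, ⟨1, K.one_mem, one_smul _ _, one_smul _ _⟩, rfl⟩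
  · obtain ⟨ρ, hρ, hρn, hρ0⟩ := MonoOrbits.exists_swap
    refine ⟨monomial ρ hρ ∅ empty_mem • w0, ⟨_, hM _ _ _ _,
      mono_v0 hρ (by rw [smul_pair, hρn, hρ0, Finset.pair_comm]) empty_mem (by simp), rfl⟩, ?_⟩
    show signedPerm ρ ∅ (vec 4 {none, some 0} {some 0}) = vec 4 {none, some 0} {none}
    rw [signedPerm_vec, smul_pair, hρn, hρ0, Finset.pair_comm]
    apply vec_congr
    rw [show (∅ : Finset GolayPt) = ⊥ from rfl, bot_symmDiff, Finset.smul_finset_singleton]
    show {ρ (some 0)} ∩ _ = _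
    rw [hρ0]

end

end Cfsg.Agent.SporadicStructure.CrossMax
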