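import Mathlib
import Cfsg.Prelude.Def_SporadicCombinatorics

set_option autoImplicit false
open scoped Pointwise
open Cfsg

/-! S1638: the two-point stabiliser in M24 on pairs, from the Steiner property and the
transitivity of M24 on (6 points of an octad, 1 point outside it). Both are taken as hypotheses. -/

namespace Cfsg.Agent.SporadicStructure.DuadsM22

/-- Transitivity on admissible 7-tuples (hypothesis form). -/
def Tr7 : Prop := ∀ (a b : Fin 6 → GolayPt) (u v : GolayPt) (o o' : Finset GolayPt), o ∈ octads →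
  o' ∈ octads → Function.Injective a → Function.Injective b → (∀ i, a i ∈ o) → (∀ i, b i ∈ o') →
  u ∉ o → v ∉ o' → ∃ g : Equiv.Perm GolayPt, g ∈ M24 ∧ (∀ i, g (a i) = b i) ∧ g u = v

theorem card_pt : Fintype.card GolayPt = 24 := by decide

theorem exists_not_mem {o : Finset GolayPt} (ho : o.card = 8) : ∃ u, u ∉ o := by
  by_contra h
  push Not at h
  have : o = Finset.univ := by ext x; simp [h x]
  rw [this, Finset.card_univ, card_pt] at ho
  omega

theorem tr6 (hTr : Tr7) (hSt : IsSteinerSystem 5 8 octads) (a b : Fin 6 → GolayPt)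
    (o o' : Finset GolayPt) (ho : o ∈ octads) (ho' : o' ∈ octads) (ha : Function.Injective a)
    (hb : Function.Injective b) (hao : ∀ i, a i ∈ o) (hbo : ∀ i, b i ∈ o') :
    ∃ g : Equiv.Perm GolayPt, g ∈ M24 ∧ (∀ i, g (a i) = b i) := by
  obtain ⟨u, hu⟩ := exists_not_mem (hSt.1 o ho)
  obtain ⟨v, hv⟩ := exists_not_mem (hSt.1 o' ho')
  obtain ⟨g, hg, h1, -⟩ := hTr a b u v o o' ho ho' ha hb hao hbo hu hv
  exact ⟨g, hg, h1⟩

theorem exists_snoc {o : Finset GolayPt} (ho : o.card = 8) (a : Fin 5 → GolayPt)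
    (ha : Function.Injective a) (hao : ∀ i, a i ∈ o) :
    ∃ x, Function.Injective (Fin.snoc a x : Fin 6 → GolayPt) ∧
      ∀ i, (Fin.snoc a x : Fin 6 → GolayPt) i ∈ o := by
  have hcard : (Finset.univ.image a).card = 5 := by
    rw [Finset.card_image_of_injective _ ha]; simp
  have hex : ∃ x ∈ o, x ∉ Finset.univ.image a := by
    by_contra h
    push Not at h
    have := Finset.card_le_card (s := o) (t := Finset.univ.image a) h
    omega
  obtain ⟨x, hxo, hx⟩ := hex
  have hx' : ∀ i, a i ≠ x := by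
    intro i hi
    exact hx (Finset.mem_image.2 ⟨i, Finset.mem_univ _, hi⟩)
  refine ⟨x, ?_, ?_⟩
  · rw [Fin.snoc_injective_iff]
    refine ⟨ha, ?_⟩
    rintro ⟨i, hi⟩
    exact hx' i hi
  · intro i
    refine Fin.lastCases ?_ (fun j => ?_) i
    · rw [Fin.snoc_last]; exact hxo
    · rw [Fin.snoc_castSucc]; exact hao j

theorem tr5out (hTr : Tr7) (hSt : IsSteinerSystem 5 8 octads) (a b : Fin 5 → GolayPt)
    (u v : GolayPt)
    (o o' : Finset GolayPt) (ho : o ∈ octads) (ho' : o' ∈ octads) (ha : Function.Injective a)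
    (hb : Function.Injective b) (hao : ∀ i, a i ∈ o) (hbo : ∀ i, b i ∈ o') (hu : u ∉ o)
    (hv : v ∉ o') :
    ∃ g : Equiv.Perm GolayPt, g ∈ M24 ∧ (∀ i, g (a i) = b i) ∧ g u = v := by
  obtain ⟨x, hx1, hx2⟩ := exists_snoc (hSt.1 o ho) a ha hao
  obtain ⟨y, hy1, hy2⟩ := exists_snoc (hSt.1 o' ho') b hb hbo
  obtain ⟨g, hg, h1, h2⟩ := hTr _ _ u v o o' ho ho' hx1 hy1 hx2 hy2 hu hv
  refine ⟨g, hg, fun i => ?_, h2⟩
  simpa using h1 i.castSucc

theorem exists_octad (hSt : IsSteinerSystem 5 8 octads) (a : Fin 5 → GolayPt)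
    (ha : Function.Injective a) : ∃ o ∈ octads, ∀ i, a i ∈ o := by
  have hcard : (Finset.univ.image a).card = 5 := by
    rw [Finset.card_image_of_injective _ ha]; simp
  obtain ⟨o, ⟨ho, ho2⟩, -⟩ := hSt.2 _ hcard
  exact ⟨o, ho, fun i => ho2 (Finset.mem_image.2 ⟨i, Finset.mem_univ _, rfl⟩)⟩

theorem tr5 (hTr : Tr7) (hSt : IsSteinerSystem 5 8 octads) (a b : Fin 5 → GolayPt)
    (ha : Function.Injective a) (hb : Function.Injective b) :
    ∃ g : Equiv.Perm GolayPt, g ∈ M24 ∧ (∀ i, g (a i) = b i) := by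
  obtain ⟨o, ho, hao⟩ := exists_octad hSt a ha
  obtain ⟨o', ho', hbo⟩ := exists_octad hSt b hb
  obtain ⟨u, hu⟩ := exists_not_mem (hSt.1 o ho)
  obtain ⟨v, hv⟩ := exists_not_mem (hSt.1 o' ho')
  obtain ⟨g, hg, h1, -⟩ := tr5out hTr hSt a b u v o o' ho ho' ha hb hao hbo hu hv
  exact ⟨g, hg, h1⟩

theorem inj5 {p q a b c : GolayPt} (h : [p, q, a, b, c].Nodup) :
    Function.Injective ![p, q, a, b, c] := by
  rw [← List.nodup_ofFn]
  exact h

theorem inj6 {p q a b c d : GolayPt} (h : [p, q, a, b, c, d].Nodup) :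
    Function.Injective ![p, q, a, b, c, d] := by
  rw [← List.nodup_ofFn]
  exact h

theorem all6 {o : Finset GolayPt} {p q a b c d : GolayPt} (hp : p ∈ o) (hq : q ∈ o) (ha : a ∈ o)
    (hb : b ∈ o) (hc : c ∈ o) (hd : d ∈ o) : ∀ i, ![p, q, a, b, c, d] i ∈ o := by
  intro i
  fin_cases i
  · exact hp
  · exact hq
  · exact ha
  · exact hb
  · exact hc
  · exact hd

/-- the octad property -/
def InOct (p q : GolayPt) (s t : Finset GolayPt) : Prop :=
  ∃ o ∈ octads, p ∈ o ∧ q ∈ o ∧ s ∪ t ⊆ o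

theorem smul_pair (g : Equiv.Perm GolayPt) (a b : GolayPt) :
    g • ({a, b} : Finset GolayPt) = {g a, g b} := by
  rw [Finset.smul_finset_insert, Finset.smul_finset_singleton]; rfl

theorem transitive (hTr : Tr7) (hSt : IsSteinerSystem 5 8 octads) (p q : GolayPt) (hpq : p ≠ q)
    (s : Finset GolayPt) (hs : s.card = 2 ∧ p ∉ s ∧ q ∉ s) (t t' : Finset GolayPt)
    (ht : t.card = 2 ∧ p ∉ t ∧ q ∉ t) (ht' : t'.card = 2 ∧ p ∉ t' ∧ q ∉ t')
    (hts : t ≠ s) (hts' : t' ≠ s) (hcard : (s ∩ t).card = (s ∩ t').card)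
    (hiff : InOct p q s t ↔ InOct p q s t') :
    ∃ g : Equiv.Perm GolayPt, g ∈ M24 ∧ g p = p ∧ g q = q ∧ g • s = s ∧ g • t = t' := by
  classical
  have key : ∀ t : Finset GolayPt, t.card = 2 → t ≠ s → (s ∩ t).card = 0 ∨ (s ∩ t).card = 1 := by
    intro t h2 hne
    have h3 : (s ∩ t).card ≤ 2 := by
      rw [← h2]; exact Finset.card_le_card Finset.inter_subset_right
    rcases Nat.lt_or_ge (s ∩ t).card 2 with h | h
    · omega
    · exfalso
      have h4 : s ∩ t = t := Finset.eq_of_subset_of_card_le Finset.inter_subset_right (by omega)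
      have h5 : s ∩ t = s := Finset.eq_of_subset_of_card_le Finset.inter_subset_left
        (by rw [hs.1]; omega)
      exact hne (h4.symm.trans h5)
  rcases key t ht.1 hts with h0 | h1
  · -- disjoint case
    have h0' : (s ∩ t').card = 0 := by omega
    rw [Finset.card_eq_zero] at h0 h0'
    obtain ⟨a, b, hab, rfl⟩ := Finset.card_eq_two.1 hs.1
    obtain ⟨c, d, hcd, rfl⟩ := Finset.card_eq_two.1 ht.1
    obtain ⟨c', d', hcd', rfl⟩ := Finset.card_eq_two.1 ht'.1
    have hs2 := hs.2
    have ht2 := ht.2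
    have ht2' := ht'.2
    simp only [Finset.mem_insert, Finset.mem_singleton, not_or] at hs2 ht2 ht2'
    obtain ⟨⟨hpa, hpb⟩, hqa, hqb⟩ := hs2
    obtain ⟨⟨hpc, hpd⟩, hqc, hqd⟩ := ht2
    obtain ⟨⟨hpc', hpd'⟩, hqc', hqd'⟩ := ht2'
    have hne : ∀ x ∈ ({a, b} : Finset GolayPt), ∀ y ∈ ({c, d} : Finset GolayPt), x ≠ y := by
      intro x hx y hy hxy
      have : x ∈ ({a, b} : Finset GolayPt) ∩ {c, d} :=
        Finset.mem_inter.2 ⟨hx, hxy ▸ hy⟩
      rw [h0] at this
      simp at this
    have hne' : ∀ x ∈ ({a, b} : Finset GolayPt), ∀ y ∈ ({c', d'} : Finset GolayPt), x ≠ y := by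
      intro x hx y hy hxy
      have : x ∈ ({a, b} : Finset GolayPt) ∩ {c', d'} :=
        Finset.mem_inter.2 ⟨hx, hxy ▸ hy⟩
      rw [h0'] at this
      simp at this
    have hac := hne a (by simp) c (by simp)
    have had := hne a (by simp) d (by simp)
    have hbc := hne b (by simp) c (by simp)
    have hbd := hne b (by simp) d (by simp)
    have hac' := hne' a (by simp) c' (by simp)
    have had' := hne' a (by simp) d' (by simp)
    have hbc' := hne' b (by simp) c' (by simp)
    have hbd' := hne' b (by simp) d' (by simp)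
    by_cases hin : InOct p q {a, b} {c, d}
    · obtain ⟨o, ho, hpo, hqo, hso⟩ := hin
      obtain ⟨o', ho', hpo', hqo', hso'⟩ := hiff.1 ⟨o, ho, hpo, hqo, hso⟩
      have hao := hso (show a ∈ ({a, b} ∪ {c, d} : Finset GolayPt) by simp)
      have hbo := hso (show b ∈ ({a, b} ∪ {c, d} : Finset GolayPt) by simp)
      have hco := hso (show c ∈ ({a, b} ∪ {c, d} : Finset GolayPt) by simp)
      have hdo := hso (show d ∈ ({a, b} ∪ {c, d} : Finset GolayPt) by simp)
      have hao' := hso' (show a ∈ ({a, b} ∪ {c', d'} : Finset GolayPt) by simp)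
      have hbo' := hso' (show b ∈ ({a, b} ∪ {c', d'} : Finset GolayPt) by simp)
      have hco' := hso' (show c' ∈ ({a, b} ∪ {c', d'} : Finset GolayPt) by simp)
      have hdo' := hso' (show d' ∈ ({a, b} ∪ {c', d'} : Finset GolayPt) by simp)
      obtain ⟨g, hg, hg1⟩ := tr6 hTr hSt ![p, q, a, b, c, d] ![p, q, a, b, c', d'] o o' ho ho'
        (inj6 (by simp [hpq, hpa, hpb, hpc, hpd, hqa, hqb, hqc, hqd, hab, hac, had, hbc, hbd, hcd]))
        (inj6 (by simp [hpq, hpa, hpb, hpc', hpd', hqa, hqb, hqc', hqd', hab, hac', had', hbc',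
          hbd', hcd']))
        (all6 hpo hqo hao hbo hco hdo) (all6 hpo' hqo' hao' hbo' hco' hdo')
      have e0 : g p = p := hg1 0
      have e1 : g q = q := hg1 1
      have e2 : g a = a := hg1 2
      have e3 : g b = b := hg1 3
      have e4 : g c = c' := hg1 4
      have e5 : g d = d' := hg1 5
      exact ⟨g, hg, e0, e1, by rw [smul_pair, e2, e3], by rw [smul_pair, e4, e5]⟩
    · have hin' : ¬ InOct p q {a, b} {c', d'} := fun h => hin (hiff.2 h)
      have inj1 : Function.Injective ![p, q, a, b, c] :=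
        inj5 (by simp [hpq, hpa, hpb, hpc, hqa, hqb, hqc, hab, hac, hbc])
      have inj2 : Function.Injective ![p, q, a, b, c'] :=
        inj5 (by simp [hpq, hpa, hpb, hpc', hqa, hqb, hqc', hab, hac', hbc'])
      obtain ⟨o, ho, hoi⟩ := exists_octad hSt _ inj1
      obtain ⟨o', ho', hoi'⟩ := exists_octad hSt _ inj2
      have f0 : p ∈ o := hoi 0
      have f1 : q ∈ o := hoi 1
      have f2 : a ∈ o := hoi 2
      have f3 : b ∈ o := hoi 3
      have f4 : c ∈ o := hoi 4
      have f0' : p ∈ o' := hoi' 0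
      have f1' : q ∈ o' := hoi' 1
      have f2' : a ∈ o' := hoi' 2
      have f3' : b ∈ o' := hoi' 3
      have f4' : c' ∈ o' := hoi' 4
      have hd : d ∉ o := by
        intro hd
        apply hin
        refine ⟨o, ho, f0, f1, ?_⟩
        intro x hx
        simp only [Finset.mem_union, Finset.mem_insert, Finset.mem_singleton] at hx
        rcases hx with (rfl | rfl) | (rfl | rfl) <;> assumption
      have hd' : d' ∉ o' := by
        intro hd
        apply hin'
        refine ⟨o', ho', f0', f1', ?_⟩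
        intro x hx
        simp only [Finset.mem_union, Finset.mem_insert, Finset.mem_singleton] at hx
        rcases hx with (rfl | rfl) | (rfl | rfl) <;> assumption
      obtain ⟨g, hg, hg1, hg2⟩ := tr5out hTr hSt _ _ d d' o o' ho ho' inj1 inj2 hoi hoi' hd hd'
      have e0 : g p = p := hg1 0
      have e1 : g q = q := hg1 1
      have e2 : g a = a := hg1 2
      have e3 : g b = b := hg1 3
      have e4 : g c = c' := hg1 4
      exact ⟨g, hg, e0, e1, by rw [smul_pair, e2, e3], by rw [smul_pair, e4, hg2]⟩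
  · -- one common point
    have h1' : (s ∩ t').card = 1 := by omega
    have dec : ∀ t : Finset GolayPt, t.card = 2 → p ∉ t → q ∉ t → (s ∩ t).card = 1 →
        ∃ a b c : GolayPt, s = {a, b} ∧ t = {a, c} ∧ Function.Injective ![p, q, a, b, c] := by
      intro t ht2 hpt hqt h1
      obtain ⟨a, ha⟩ := Finset.card_eq_one.1 h1
      have hamem : a ∈ s ∩ t := by rw [ha]; simp
      rw [Finset.mem_inter] at hamem
      obtain ⟨b, hb⟩ := Finset.card_eq_one.1 (show (s.erase a).card = 1 by
        rw [Finset.card_erase_of_mem hamem.1, hs.1])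
      obtain ⟨c, hc⟩ := Finset.card_eq_one.1 (show (t.erase a).card = 1 by
        rw [Finset.card_erase_of_mem hamem.2, ht2])
      have hs' : s = {a, b} := by
        rw [← Finset.insert_erase hamem.1, hb]
      have ht' : t = {a, c} := by
        rw [← Finset.insert_erase hamem.2, hc]
      have hba : b ≠ a := by
        have : b ∈ s.erase a := by rw [hb]; simp
        exact (Finset.mem_erase.1 this).1
      have hca : c ≠ a := by
        have : c ∈ t.erase a := by rw [hc]; simp
        exact (Finset.mem_erase.1 this).1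
      have hbc : b ≠ c := by
        rintro rfl
        have : b ∈ s ∩ t := by rw [hs', ht']; simp
        rw [ha] at this
        exact hba (by simpa using this)
      refine ⟨a, b, c, hs', ht', ?_⟩
      have hs2 := hs.2
      rw [hs'] at hs2
      rw [ht'] at hpt hqt
      simp only [Finset.mem_insert, Finset.mem_singleton, not_or] at hs2 hpt hqt
      obtain ⟨⟨hpa, hpb⟩, hqa, hqb⟩ := hs2
      obtain ⟨-, hpc⟩ := hpt
      obtain ⟨-, hqc⟩ := hqt
      exact inj5 (by simp [hpq, hpa, hpb, hpc, hqa, hqb, hqc, hba.symm, hca.symm, hbc])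
    obtain ⟨a, b, c, rfl, rfl, inj1⟩ := dec t ht.1 ht.2.1 ht.2.2 h1
    obtain ⟨a', b', c', hs', rfl, inj2⟩ := dec t' ht'.1 ht'.2.1 ht'.2.2 h1'
    obtain ⟨g, hg, hg1⟩ := tr5 hTr hSt _ _ inj1 inj2
    have e0 : g p = p := hg1 0
    have e1 : g q = q := hg1 1
    have e2 : g a = a' := hg1 2
    have e3 : g b = b' := hg1 3
    have e4 : g c = c' := hg1 4
    exact ⟨g, hg, e0, e1, by rw [smul_pair, e2, e3, ← hs'], by rw [smul_pair, e2, e4]⟩

end Cfsg.Agent.SporadicStructure.DuadsM22
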