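import Cfsg.Agent.SporadicStructure.FischerSpace

set_option autoImplicit false

/-!
# Hyperbolic lines of a labelled class of 3-transpositions (for S1614)
-/

namespace Cfsg.Agent.SporadicStructure.FSolHyp

open Cfsg Cfsg.Agent.SporadicStructure.FischerSpace

variable {G : Type*} [Group G] {D : Set G}

/-- It suffices to know the hyperbolic lines through one member of the class. -/
theorem hyp_of_base (h₁ : FData D) {x : G} (hx : x ∈ D)
    (H : ∀ b ∈ D, ¬ Commute x b → ∀ c ∈ D,
      (∀ z ∈ D, Commute z x → Commute z b → Commute z c) → c = x ∨ c = b ∨ c = x * b * x) :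
    ∀ a ∈ D, ∀ b ∈ D, ¬ Commute a b → ∀ c ∈ D,
      (∀ z ∈ D, Commute z a → Commute z b → Commute z c) → c = a ∨ c = b ∨ c = a * b * a := by
  intro a ha b hb hab c hc hz
  obtain ⟨g, hg⟩ := h₁.single a ha x hx
  have key : ∀ u v : G, Commute (g * u * g⁻¹) (g * v * g⁻¹) ↔ Commute u v :=
    fun u v => FData.commute_conj_gen g u v
  have inj : ∀ u v : G, g * u * g⁻¹ = g * v * g⁻¹ → u = v := by
    intro u v h
    exact mul_left_cancel (mul_right_cancel h)
  have h1 := H (g * b * g⁻¹) (h₁.conj g b hb) (by rw [← hg, key]; exact hab) (g * c * g⁻¹)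
    (h₁.conj g c hc) (by
      intro z hzD hzx hzb
      have e : z = g * (g⁻¹ * z * g⁻¹⁻¹) * g⁻¹ := by group
      rw [e] at hzx hzb ⊢
      rw [← hg, key] at hzx
      rw [key] at hzb ⊢
      exact hz _ (h₁.conj g⁻¹ z hzD) hzx hzb)
  rcases h1 with h | h | h
  · left
    apply inj
    rw [h, hg]
  · right; left
    exact inj _ _ h
  · right; right
    apply inj
    rw [h, ← hg]
    group

/-- Hyperbolic lines from labels. -/
theorem hyp_of_labels {L : Type*} (h₁ : FData D) (Psi : L → G)
    (hrange : Set.range Psi = D) (adj : L → L → Bool)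
    (hadj : ∀ l m, Commute (Psi l) (Psi m) ↔ adj l m = true) (l₀ : L)
    (H : ∀ m, adj l₀ m = false → ∃ t, ∀ n,
      (∀ z, adj z l₀ = true → adj z m = true → adj z n = true) → n = l₀ ∨ n = m ∨ n = t) :
    ∀ a ∈ D, ∀ b ∈ D, ¬ Commute a b → ∀ c ∈ D,
      (∀ z ∈ D, Commute z a → Commute z b → Commute z c) → c = a ∨ c = b ∨ c = a * b * a := by
  have hmem : ∀ l, Psi l ∈ D := fun l => by rw [← hrange]; exact ⟨l, rfl⟩
  apply hyp_of_base h₁ (hmem l₀)
  intro b hb hxb c hc hz
  rw [← hrange] at hb hc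
  obtain ⟨m, rfl⟩ := hb
  obtain ⟨n, rfl⟩ := hc
  have hm : adj l₀ m = false := by
    rw [hadj] at hxb
    simpa using hxb
  obtain ⟨t, ht⟩ := H m hm
  have h3 : Psi l₀ * Psi m * Psi l₀ ∈ Set.range Psi := by
    rw [hrange]; exact h₁.conj' (hmem l₀) (hmem m)
  obtain ⟨t', ht'⟩ := h3
  have h4 := ht t' (by
    intro z h5 h6
    rw [← hadj] at h5 h6 ⊢
    rw [ht']
    exact (h5.mul_right h6).mul_right h5)
  have h5 := ht n (by
    intro z h5 h6
    rw [← hadj] at h5 h6 ⊢
    exact hz _ (hmem z) h5 h6)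
  have h6 : t' = t := by
    rcases h4 with h | h | h
    · exfalso
      apply hxb
      rw [h] at ht'
      -- `x = x * m * x`
      have h7 : Psi l₀ * 1 = Psi l₀ * (Psi m * Psi l₀) := by rw [mul_one, ← mul_assoc]; exact ht'
      have h8 := mul_left_cancel h7
      have h9 : Psi m = Psi l₀ := by
        rw [← h₁.inv_eq (hmem l₀)]
        exact eq_inv_of_mul_eq_one_left h8.symm
      rw [h9]
    · exfalso
      apply hxb
      rw [h] at ht'
      exact (h₁.commute_iff (hmem l₀) _).2 ht'.symm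
    · exact h
  rcases h5 with h | h | h
  · left; rw [h]
  · right; left; rw [h]
  · right; right
    rw [h, ← h6, ht']

end Cfsg.Agent.SporadicStructure.FSolHyp
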