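import Mathlib

/-!
The field with nine elements, computably: the code `a + 3 b` (with `a, b < 3`) stands for `a + b i`, `i ^ 2 = -1`.
-/

set_option autoImplicit false

namespace Cfsg.Agent.SporadicStructure.FieldNine

/-- The field with nine elements. -/
def K9 : Type := Fin 9

namespace K9

instance instDecidableEqK9 : DecidableEq K9 := inferInstanceAs (DecidableEq (Fin 9))
instance instFintypeK9 : Fintype K9 := inferInstanceAs (Fintype (Fin 9))

/-- The element with code `n` (modulo 9). -/
def mk (n : ℕ) : K9 := (⟨n % 9, Nat.mod_lt _ (by decide)⟩ : Fin 9)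

/-- The code of an element. -/
def code (x : K9) : ℕ := Fin.val (show Fin 9 from x)

theorem code_injective : Function.Injective code := Fin.val_injective

def add (x y : K9) : K9 :=
  mk ((code x % 3 + code y % 3) % 3 + 3 * ((code x / 3 + code y / 3) % 3))

def neg (x : K9) : K9 :=
  mk ((2 * (code x % 3)) % 3 + 3 * ((2 * (code x / 3)) % 3))

def mul (x y : K9) : K9 :=
  mk (((code x % 3) * (code y % 3) + 2 * ((code x / 3) * (code y / 3))) % 3 +
    3 * (((code x % 3) * (code y / 3) + (code x / 3) * (code y % 3)) % 3))

/-- `x⁻¹ = N(x) x̄` with `N(a + b i) = a² + b²`. -/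
def inv (x : K9) : K9 :=
  mk (((code x % 3) * ((code x % 3) ^ 2 + (code x / 3) ^ 2)) % 3 +
    3 * ((2 * (code x / 3) * ((code x % 3) ^ 2 + (code x / 3) ^ 2)) % 3))

instance instZeroK9 : Zero K9 := ⟨mk 0⟩
instance instOneK9 : One K9 := ⟨mk 1⟩
instance instAddK9 : Add K9 := ⟨add⟩
instance instNegK9 : Neg K9 := ⟨neg⟩
instance instMulK9 : Mul K9 := ⟨mul⟩
instance instInvK9 : Inv K9 := ⟨inv⟩

instance instFieldK9 : Field K9 where
  add_assoc := by decide +kernel
  zero_add := by decide +kernel
  add_zero := by decide +kernel
  add_comm := by decide +kernel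
  neg_add_cancel := by decide +kernel
  left_distrib := by decide +kernel
  right_distrib := by decide +kernel
  zero_mul := by decide +kernel
  mul_zero := by decide +kernel
  mul_assoc := by decide +kernel
  one_mul := by decide +kernel
  mul_one := by decide +kernel
  mul_comm := by decide +kernel
  nsmul := nsmulRec
  zsmul := zsmulRec
  exists_pair_ne := ⟨mk 0, mk 1, by decide⟩
  mul_inv_cancel := by decide +kernel
  inv_zero := by decide +kernel
  nnqsmul := _
  nnqsmul_def := fun _ _ => rfl
  qsmul := _
  qsmul_def := fun _ _ => rfl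

theorem card_K9 : Fintype.card K9 = 9 := rfl

theorem card_K9' : Fintype.card K9 = 3 ^ 2 := rfl

end K9

end Cfsg.Agent.SporadicStructure.FieldNine
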