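import Cfsg.Agent.SporadicA.GolayBase

set_option autoImplicit false
open scoped Pointwise
open Cfsg

/-! Counting the members of the length-24 code with a mask-decidable property. -/

namespace Cfsg.Agent.SporadicStructure.GolayCnt

open Cfsg.Agent.SporadicA.GolayBase

/-- number of `i` with `s ≤ i < s + 2 ^ k` and `p i` -/
def cnt : ℕ → ℕ → (ℕ → Bool) → ℕ
  | 0, s, p => if p s then 1 else 0
  | k + 1, s, p => cnt k s p + cnt k (s + 2 ^ k) p

theorem cnt_eq_sum (k : ℕ) : ∀ (s : ℕ) (p : ℕ → Bool),
    cnt k s p = ∑ i ∈ Finset.range (2 ^ k), if p (s + i) then 1 else 0 := by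
  induction k with
  | zero => intro s p; rw [pow_zero, Finset.sum_range_one]; rfl
  | succ k ih =>
    intro s p
    rw [cnt, ih, ih, pow_succ, mul_two, Finset.sum_range_add]
    simp only [Nat.add_assoc]

theorem cnt_eq_card (k s : ℕ) (p : ℕ → Bool) :
    cnt k s p = ((Finset.range (2 ^ k)).filter (fun i => p (s + i) = true)).card := by
  rw [cnt_eq_sum, Finset.card_filter]

/-- The number of members of the code (as point sets) with a property `P` that is decided on masks
by `f`. -/
theorem ncard_supports (P : Finset GolayPt → Prop) (f : ℕ → Bool)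
    (h : ∀ m, isCode m = true → (f m = true ↔ P (fin m))) :
    {s : Finset GolayPt | s ∈ supports (golayCode : Set (GolayPt → ZMod 2)) ∧ P s}.ncard =
      cnt 12 0 (fun i => f (enc i)) := by
  classical
  have h1 : {s : Finset GolayPt | s ∈ supports (golayCode : Set (GolayPt → ZMod 2)) ∧ P s} =
      ((((Finset.range (2 ^ 12)).filter (fun i => f (enc (0 + i)) = true)).image
        (fun i => fin (enc i)) : Finset (Finset GolayPt)) : Set (Finset GolayPt)) := by
    ext s
    rw [Finset.mem_coe, Finset.mem_image]
    constructor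
    · rintro ⟨h2, h3⟩
      rw [mem_supports_iff] at h2
      obtain ⟨i, hi, h4⟩ := isCode_iff_exists.1 h2
      refine ⟨i, ?_, ?_⟩
      · rw [Finset.mem_filter, Finset.mem_range, Nat.zero_add]
        refine ⟨hi, ?_⟩
        rw [h _ (isCode_enc i), ← h4, fin_maskOf]
        exact h3
      · show fin (enc i) = s
        rw [← h4, fin_maskOf]
    · rintro ⟨i, hi, rfl⟩
      rw [Finset.mem_filter, Finset.mem_range, Nat.zero_add] at hi
      refine ⟨?_, (h _ (isCode_enc i)).1 hi.2⟩
      rw [fin_mem_supports_iff (enc_lt i)]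
      exact isCode_enc i
  rw [h1, Set.ncard_coe_finset, Finset.card_image_of_injOn, cnt_eq_card]
  intro i hi j hj hij
  rw [Finset.mem_coe, Finset.mem_filter, Finset.mem_range] at hi hj
  exact enc_injOn hi.1 hj.1 (fin_injective (enc_lt i) (enc_lt j) hij)

end Cfsg.Agent.SporadicStructure.GolayCnt
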