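import Cfsg.Agent.SporadicA.Co0Basic
import Cfsg.Agent.SporadicA.GolayBase
import Cfsg.Agent.SporadicA.GolayPerm
import Cfsg.Agent.SporadicA.Xi

/-!
# Packed vectors of the rank-24 lattice and kernel-fast orbit certificates

A vector with coordinates between -8 and 7 is packed in a natural number, 4 bits per coordinate (offset 8,
coordinate of the point `p` at bit `4 * idx p`).  `gat s N` gathers the nibbles of `N` at the bit positions
in `s`; for the right `s` this is a coordinate permutation in `M24`.
`cyc` and `kids` list orbits under two such permutations, following a tree; `nodupB` checks that a list of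
numbers has no repetitions by splitting along bits.
-/

set_option autoImplicit false
open Cfsg

namespace Cfsg.Agent.SporadicStructure.LeechPack

open Cfsg.Agent.SporadicA Cfsg.Agent.SporadicA.GolayBase Cfsg.Agent.SporadicA.GolayPerm

/-- The vector packed in `N`. -/
def dec (N : ℕ) : GolayPt → ℤ := fun p => (((N >>> (4 * idx p)) % 16 : ℕ) : ℤ) - 8

theorem dec_apply (N : ℕ) (p : GolayPt) : dec N p = (((N >>> (4 * idx p)) % 16 : ℕ) : ℤ) - 8 := rfl

theorem eq_of_digits (k : ℕ) : ∀ M N : ℕ, M < 16 ^ k → N < 16 ^ k →
    (∀ i < k, (M >>> (4 * i)) % 16 = (N >>> (4 * i)) % 16) → M = N := by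
  induction k with
  | zero => intro M N hM hN _; simp at hM hN; omega
  | succ k ih =>
    intro M N hM hN h
    have h1 : M / 16 = N / 16 := by
      apply ih
      · rw [pow_succ] at hM; omega
      · rw [pow_succ] at hN; omega
      · intro i hi
        have := h (i + 1) (by omega)
        simp only [Nat.shiftRight_eq_div_pow] at this ⊢
        rw [Nat.div_div_eq_div_mul, Nat.div_div_eq_div_mul]
        have e : 2 ^ (4 * (i + 1)) = 16 * 2 ^ (4 * i) := by
          rw [show 4 * (i + 1) = 4 + 4 * i by ring, pow_add]; norm_num
        rw [e] at this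
        exact this
    have h0 := h 0 (by omega)
    simp only [mul_zero, Nat.shiftRight_zero] at h0
    omega

theorem dec_inj {M N : ℕ} (hM : M < 16 ^ 24) (hN : N < 16 ^ 24) (h : dec M = dec N) : M = N := by
  apply eq_of_digits 24 M N hM hN
  intro i hi
  have := congrFun h (pt i)
  rw [dec_apply, dec_apply, idx_pt hi] at this
  omega

/-- The nibble of `N` at the bit position `q`, in front of the nibbles of `acc`. -/
def nib (q N acc : ℕ) : ℕ := Nat.add (Nat.mod (Nat.shiftRight N q) 16) (Nat.mul 16 acc)

theorem nib_eq (q N acc : ℕ) : nib q N acc = (N >>> q) % 16 + 16 * acc := rfl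

/-- Gather nibbles at the given bit positions. -/
def gat (s : List ℕ) (N : ℕ) : ℕ := s.foldr (fun q acc => nib q N acc) 0

theorem gat_nil (N : ℕ) : gat [] N = 0 := rfl

/-- For comparison with unrolled versions, by `simp only [gat_cons_nib, gat_nil]`. -/
theorem gat_cons_nib (q : ℕ) (s : List ℕ) (N : ℕ) : gat (q :: s) N = nib q N (gat s N) := rfl

theorem gat_cons (q : ℕ) (s : List ℕ) (N : ℕ) : gat (q :: s) N = (N >>> q) % 16 + 16 * gat s N := rfl

theorem gat_digit (s : List ℕ) (N : ℕ) : ∀ j, j < s.length →
    (gat s N >>> (4 * j)) % 16 = (N >>> s.getD j 0) % 16 := by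
  induction s with
  | nil => intro j hj; simp at hj
  | cons q s ih =>
    intro j hj
    rw [gat_cons]
    cases j with
    | zero =>
      simp only [mul_zero, Nat.shiftRight_zero, List.getD_cons_zero]
      omega
    | succ j =>
      rw [List.getD_cons_succ, ← ih j (by simpa using hj)]
      rw [show 4 * (j + 1) = 4 + 4 * j by ring, Nat.shiftRight_add]
      congr 2
      rw [Nat.shiftRight_eq_div_pow]
      omega

theorem gat_lt (s : List ℕ) (N : ℕ) : gat s N < 16 ^ s.length := by
  induction s with
  | nil => simp [gat_nil]
  | cons q s ih =>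
    rw [gat_cons, List.length_cons, pow_succ]
    have := Nat.mod_lt (N >>> q) (show 16 > 0 by norm_num)
    omega

/-- Gathering nibbles is a coordinate permutation. -/
theorem dec_gat {P : ℕ} (hP : isPerm P = true) {s : List ℕ} (hs : s.length = 24)
    (hc : ∀ i < 24, s.getD (papp P i) 0 = 4 * i) (N : ℕ) (p : GolayPt) :
    dec (gat s N) p = dec N ((permOf P hP)⁻¹ p) := by
  obtain ⟨q, rfl⟩ := (permOf P hP).surjective p
  have e : (permOf P hP)⁻¹ ((permOf P hP) q) = q := (permOf P hP).symm_apply_apply q
  rw [e, dec_apply, dec_apply, idx_permOf,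
    gat_digit s N _ (by rw [hs]; exact papp_lt hP (idx_lt q)), hc _ (idx_lt q)]

/-- Continue with an evaluated argument. -/
def force {α : Type} (n : ℕ) (k : ℕ → α) : α := @Nat.rec (fun _ => α) (k 0) (fun m _ => k (Nat.succ m)) n

theorem force_eq {α : Type} (n : ℕ) (k : ℕ → α) : force n k = k n := by
  cases n <;> rfl

/-- Rooted ordered trees with labelled edges, as binary trees (children, siblings). -/
inductive Tr
  | L
  | N (i : ℕ) (c s : Tr)

/-- The first `n` iterates of `f` at `v`, in front of a list. -/
noncomputable def cyc (f : ℕ → ℕ) (n : ℕ) : ℕ → List ℕ → List ℕ :=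
  @Nat.rec (fun _ => ℕ → List ℕ → List ℕ) (fun _ rest => rest)
    (fun _ ih v rest => v :: force (f v) (fun w => ih w rest)) n

/-- The `n`-th iterate. -/
noncomputable def iter (f : ℕ → ℕ) (n : ℕ) : ℕ → ℕ :=
  @Nat.rec (fun _ => ℕ → ℕ) (fun v => v) (fun _ ih v => ih (f v)) n

/-- The cycles of length 11 at the descendants of `v` in the tree: the child with label `i` is
`g (f^i v)`. -/
noncomputable def kids (f g : ℕ → ℕ) (T : Tr) : ℕ → List ℕ → List ℕ :=
  @Tr.rec (fun _ => ℕ → List ℕ → List ℕ) (fun _ acc => acc)
    (fun i _ _ ihc ihs v acc => force (g (iter f i v)) (fun w => cyc f 11 w (ihc w (ihs v acc)))) T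

theorem iter_spec {f : ℕ → ℕ} {P : ℕ → Prop} (hf : ∀ v, P v → P (f v)) (n : ℕ) :
    ∀ v, P v → P (iter f n v) := by
  induction n with
  | zero => intro v hv; exact hv
  | succ n ih => intro v hv; exact ih _ (hf v hv)

theorem cyc_spec {f : ℕ → ℕ} {P : ℕ → Prop} (hf : ∀ v, P v → P (f v)) (n : ℕ) :
    ∀ (v : ℕ) (rest : List ℕ), P v → (∀ w ∈ rest, P w) → ∀ w ∈ cyc f n v rest, P w := by
  induction n with
  | zero => intro v rest _ hr; exact hr
  | succ n ih =>
    intro v rest hv hr w hw
    have e : cyc f (n + 1) v rest = v :: cyc f n (f v) rest := by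
      show v :: force (f v) (fun w => cyc f n w rest) = _
      rw [force_eq]
    rw [e] at hw
    rcases List.mem_cons.1 hw with rfl | hw
    · exact hv
    · exact ih _ _ (hf v hv) hr w hw

theorem kids_spec {f g : ℕ → ℕ} {P : ℕ → Prop} (hf : ∀ v, P v → P (f v)) (hg : ∀ v, P v → P (g v))
    (T : Tr) : ∀ (v : ℕ) (acc : List ℕ), P v → (∀ w ∈ acc, P w) → ∀ w ∈ kids f g T v acc, P w := by
  induction T with
  | L => intro v acc _ hr; exact hr
  | N i c s ihc ihs =>
    intro v acc hv hr
    have e : kids f g (Tr.N i c s) v acc =
        cyc f 11 (g (iter f i v)) (kids f g c (g (iter f i v)) (kids f g s v acc)) := by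
      show force (g (iter f i v)) (fun w => cyc f 11 w (kids f g c w (kids f g s v acc))) = _
      rw [force_eq]
    rw [e]
    have h1 : P (g (iter f i v)) := hg _ (iter_spec hf i v hv)
    exact cyc_spec hf 11 _ _ h1 (ihc _ _ h1 (ihs v acc hv hr))

/-! ### A check for lists without repetitions -/

/-- The list has at most one element. -/
noncomputable def short (L : List ℕ) : Bool :=
  @List.rec ℕ (fun _ => Bool) true (fun _ t _ => @List.rec ℕ (fun _ => Bool) true (fun _ _ _ => false) t) L

theorem nodup_of_short {L : List ℕ} (h : short L = true) : L.Nodup := by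
  cases L with
  | nil => exact List.nodup_nil
  | cons a t =>
    cases t with
    | nil => exact List.nodup_singleton a
    | cons b t => exact absurd h (by show ¬ (false = true); simp)

/-- Split along a bit, with accumulators and a continuation. -/
noncomputable def part (b : ℕ) (L : List ℕ) : List ℕ → List ℕ → (List ℕ → List ℕ → Bool) → Bool :=
  @List.rec ℕ (fun _ => List ℕ → List ℕ → (List ℕ → List ℕ → Bool) → Bool)
    (fun a0 a1 k => k a0 a1)
    (fun n _ ih a0 a1 k => @Bool.rec (fun _ => Bool) (ih (n :: a0) a1 k) (ih a0 (n :: a1) k)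
      (Nat.beq (Nat.mod (Nat.shiftRight n b) 2) 1)) L

/-- The test used for splitting. -/
def tb (b n : ℕ) : Bool := Nat.beq (Nat.mod (Nat.shiftRight n b) 2) 1

theorem part_spec (b : ℕ) (L : List ℕ) : ∀ (a0 a1 : List ℕ) (k : List ℕ → List ℕ → Bool),
    part b L a0 a1 k = k ((L.filter (fun n => !(tb b n))).reverse ++ a0)
      ((L.filter (fun n => tb b n)).reverse ++ a1) := by
  induction L with
  | nil => intro a0 a1 k; rfl
  | cons n t ih =>
    intro a0 a1 k
    have e : part b (n :: t) a0 a1 k = @Bool.rec (fun _ => Bool) (part b t (n :: a0) a1 k)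
      (part b t a0 (n :: a1) k) (tb b n) := rfl
    rw [e]
    cases h : tb b n with
    | false =>
      show part b t (n :: a0) a1 k = _
      rw [ih, List.filter_cons_of_pos (by simp [h]), List.filter_cons_of_neg (by simp [h])]
      simp
    | true =>
      show part b t a0 (n :: a1) k = _
      rw [ih, List.filter_cons_of_neg (by simp [h]), List.filter_cons_of_pos (by simp [h])]
      simp

/-- Check by successive splitting that a list has no repetitions. -/
noncomputable def trie (bs : List ℕ) : List ℕ → Bool :=
  @List.rec ℕ (fun _ => List ℕ → Bool)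
    (fun L => short L)
    (fun b _ ih L => @Bool.rec (fun _ => Bool)
      (part b L [] [] (fun A B => @Bool.rec (fun _ => Bool) false (ih B) (ih A))) true (short L)) bs

theorem nodup_of_trie (bs : List ℕ) : ∀ L : List ℕ, trie bs L = true → L.Nodup := by
  induction bs with
  | nil => intro L h; exact nodup_of_short h
  | cons b bs ih =>
    intro L h
    have e : trie (b :: bs) L = @Bool.rec (fun _ => Bool)
      (part b L [] [] (fun A B => @Bool.rec (fun _ => Bool) false (trie bs B) (trie bs A))) true
      (short L) := rfl
    rw [e] at h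
    cases hs : short L with
    | true => exact nodup_of_short hs
    | false =>
      rw [hs] at h
      have h' : part b L [] [] (fun A B => @Bool.rec (fun _ => Bool) false (trie bs B) (trie bs A))
        = true := h
      rw [part_spec, List.append_nil, List.append_nil] at h'
      cases hA : trie bs (L.filter (fun n => !(tb b n))).reverse with
      | false =>
        rw [hA] at h'
        exact absurd h' (by show ¬ (false = true); simp)
      | true =>
        rw [hA] at h'
        have hB : trie bs (L.filter (fun n => tb b n)).reverse = true := h'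
        have h1 := List.nodup_reverse.1 (ih _ hA)
        have h2 := List.nodup_reverse.1 (ih _ hB)
        have h3 : (L.filter (fun n => tb b n) ++ L.filter (fun n => !(tb b n))).Nodup := by
          rw [List.nodup_append]
          refine ⟨h2, h1, ?_⟩
          intro x hx y hy hxy
          subst hxy
          have a1 := (List.mem_filter.1 hx).2
          have a2 := (List.mem_filter.1 hy).2
          rw [a1] at a2
          exact absurd a2 (by simp)
        exact (List.filter_append_perm (fun n => tb b n) L).nodup_iff.1 h3

/-- Reduce modulo `p` all elements, in front of a list, and pass the result to a test. -/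
noncomputable def mapF (p : ℕ) (L : List ℕ) : List ℕ → (List ℕ → Bool) → Bool :=
  @List.rec ℕ (fun _ => List ℕ → (List ℕ → Bool) → Bool)
    (fun a k => k a)
    (fun n _ ih a k => force (Nat.mod n p) (fun m => ih (m :: a) k)) L

theorem mapF_spec (p : ℕ) (L : List ℕ) : ∀ (a : List ℕ) (k : List ℕ → Bool),
    mapF p L a k = k ((L.map (fun n => n % p)).reverse ++ a) := by
  induction L with
  | nil => intro a k; rfl
  | cons n t ih =>
    intro a k
    have e : mapF p (n :: t) a k = force (Nat.mod n p) (fun m => mapF p t (m :: a) k) := rfl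
    rw [e, force_eq, ih]
    congr 1
    simp
    rfl

/-- The length of a list, for kernel evaluation. -/
noncomputable def len (L : List ℕ) : ℕ := @List.rec ℕ (fun _ => ℕ) 0 (fun _ _ ih => Nat.succ ih) L

theorem len_eq (L : List ℕ) : len L = L.length := by
  induction L with
  | nil => rfl
  | cons a t ih =>
    show Nat.succ (len t) = _
    rw [ih, List.length_cons]

/-- The bits `0, ..., 30`. -/
def bits : List ℕ := [0, 1, 2, 3, 4, 5, 6, 7, 8, 9, 10, 11, 12, 13, 14, 15, 16, 17, 18, 19, 20, 21, 22, 23,
  24, 25, 26, 27, 28, 29, 30]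

/-- The test that a list has no repetitions modulo `p`. -/
noncomputable def nodupB (p : ℕ) (L : List ℕ) : Bool := mapF p L [] (trie bits)

theorem nodup_of_nodupB {p : ℕ} {L : List ℕ} (h : nodupB p L = true) : L.Nodup := by
  unfold nodupB at h
  rw [mapF_spec, List.append_nil] at h
  exact List.Nodup.of_map _ (List.nodup_reverse.1 (nodup_of_trie _ _ h))

end Cfsg.Agent.SporadicStructure.LeechPack
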