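import Mathlib

/-!
Abstract core of the determination of involution centralisers in a sharply 4-transitive
group `H` of permutations (acting on a set `D`) all of whose involutions look alike.
-/

set_option autoImplicit false

namespace Cfsg.Agent.SporadicStructure.M11InvCore

open Matrix

/-- the upper transvection -/
def T : Matrix (Fin 2) (Fin 2) (ZMod 3) := !![1, 1; 0, 1]
/-- the swap -/
def W : Matrix (Fin 2) (Fin 2) (ZMod 3) := !![0, 1; 1, 0]

/-- evaluates a word in `T` and `W` -/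
def ev : List Bool → Matrix (Fin 2) (Fin 2) (ZMod 3)
  | [] => 1
  | true :: l => T * ev l
  | false :: l => W * ev l

/-- 48 words -/
def words : List (List Bool) := [[], [true], [false], [true, true], [false, true], [true, false], [false, true, true], [true, false, true], [true, true, false], [false, true, false], [true, false, true, true], [true, true, false, true], [false, true, false, true], [false, true, true, false], [true, false, true, false], [true, true, false, true, true], [false, true, false, true, true], [false, true, true, false, true], [true, false, true, false, true], [true, false, true, true, false], [true, true, false, true, false], [false, true, false, true, false], [false, true, true, false, true, true], [true, false, true, false, true, true], [true, false, true, true, false, true], [true, true, false, true, false, true], [false, true, false, true, false, true], [true, true, false, true, true, false], [false, true, false, true, true,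 false], [false, true, true, false, true, false], [true, false, true, false, true, false], [true, false, true, true, false, true, true], [true, true, false, true, false, true, true], [false, true, false, true, false, true, true], [true, true, false, true, true, false, true], [false, true, false, true, true, false, true], [false, true, true, false, true, false, true], [true, false, true, false, true, false, true], [false, true, true, false, true, true, false], [true, false, true, false, true, true, false], [true, false, true, true, false, true, false], [true, true, false, true, false, true, false], [false, true, false, true, false, true, false], [true, true, false, true, true, false, true, true], [true, false, true, false, true, false, true, true], [true, true, false, true, false, true, false, true], [false, true, false, true, false, true, false, true], [false, true, false, true, false, true, false, true, true]]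

set_option maxRecDepth 100000 in
theorem exists_word_aux : ∀ a b c d : ZMod 3, a * d - b * c ≠ 0 → ∃ l ∈ words, ev l = !![a, b; c, d] := by
  decide +kernel


theorem exists_word (M : Matrix (Fin 2) (Fin 2) (ZMod 3)) (hM : M.det ≠ 0) :
    ∃ l : List Bool, ev l = M := by
  rw [Matrix.det_fin_two] at hM
  obtain ⟨l, -, h⟩ := exists_word_aux _ _ _ _ hM
  exact ⟨l, by rw [h]; exact (Matrix.eta_fin_two M).symm⟩

set_option synthInstance.maxSize 4000 in
set_option synthInstance.maxHeartbeats 4000000 in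
theorem det_ne_zero_aux : ∀ a b c d : ZMod 3, ¬ (a = 0 ∧ b = 0) → ¬ (c = 0 ∧ d = 0) →
    ¬ (a = c ∧ b = d) → ¬ (c = -a ∧ d = -b) → a * d - c * b ≠ 0 := by
  decide +kernel

theorem det_ne_zero_of (v1 v2 : Fin 2 → ZMod 3) (h1 : v1 ≠ 0) (h2 : v2 ≠ 0) (h3 : v1 ≠ v2)
    (h4 : v2 ≠ -v1) : v1 0 * v2 1 - v2 0 * v1 1 ≠ 0 := by
  apply det_ne_zero_aux
  · rintro ⟨ha, hb⟩
    exact h1 (by ext i; fin_cases i <;> assumption)
  · rintro ⟨ha, hb⟩
    exact h2 (by ext i; fin_cases i <;> assumption)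
  · rintro ⟨ha, hb⟩
    exact h3 (by ext i; fin_cases i <;> assumption)
  · rintro ⟨ha, hb⟩
    exact h4 (by ext i; fin_cases i <;> assumption)

theorem T_mulVec_ne_zero : ∀ v : Fin 2 → ZMod 3, v ≠ 0 → T *ᵥ v ≠ 0 := by
  decide +kernel

theorem W_mulVec_ne_zero : ∀ v : Fin 2 → ZMod 3, v ≠ 0 → W *ᵥ v ≠ 0 := by
  decide +kernel

theorem ev_mulVec_ne_zero (l : List Bool) (v : Fin 2 → ZMod 3) (hv : v ≠ 0) : ev l *ᵥ v ≠ 0 := by
  induction l with
  | nil => simpa [ev] using hv
  | cons b l ih =>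
    cases b
    · show (W * ev l) *ᵥ v ≠ 0
      rw [← Matrix.mulVec_mulVec]
      exact W_mulVec_ne_zero _ ih
    · show (T * ev l) *ᵥ v ≠ 0
      rw [← Matrix.mulVec_mulVec]
      exact T_mulVec_ne_zero _ ih

/-- The hypotheses on a sharply 4-transitive permutation group with a labelled involution. -/
structure Data {Ω : Type*} (H : Subgroup (Equiv.Perm Ω)) (D : Finset Ω)
    (ψ : (Fin 2 → ZMod 3) → Ω) (x0 : Equiv.Perm Ω) : Prop where
  uniq : ∀ h ∈ H, ∀ k ∈ H, ∀ q : Fin 4 → Ω, Function.Injective q → (∀ i, q i ∈ D) →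
    (∀ i, h (q i) = k (q i)) → h = k
  exis : ∀ q q' : Fin 4 → Ω, Function.Injective q → Function.Injective q' → (∀ i, q i ∈ D) →
    (∀ i, q' i ∈ D) → ∃ h ∈ H, ∀ i, h (q i) = q' i
  stab : ∀ h ∈ H, ∀ u ∈ D, h u ∈ D
  card : 6 ≤ D.card
  psi_mem : ∀ v, v ≠ 0 → ψ v ∈ D
  psi_inj : ∀ v w, v ≠ 0 → w ≠ 0 → ψ v = ψ w → v = w
  x0_mem : x0 ∈ H
  x0_psi : ∀ v, v ≠ 0 → x0 (ψ v) = ψ (-v)
  x0_fix : ∀ u ∈ D, (∀ v, v ≠ 0 → ψ v ≠ u) → x0 u = u
  exT : ∃ t ∈ H, ∀ v, v ≠ 0 → t (ψ v) = ψ (T *ᵥ v)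
  exW : ∃ t ∈ H, ∀ v, v ≠ 0 → t (ψ v) = ψ (W *ᵥ v)

namespace Data

variable {Ω : Type*} {H : Subgroup (Equiv.Perm Ω)} {D : Finset Ω}
  {ψ : (Fin 2 → ZMod 3) → Ω} {x0 : Equiv.Perm Ω}

/-- the four base vectors -/
def base : Fin 4 → (Fin 2 → ZMod 3) := ![![1, 0], ![2, 0], ![0, 1], ![0, 2]]

theorem base_ne_zero : ∀ i, base i ≠ 0 := by decide +kernel

theorem base_injective : Function.Injective base := by
  have : ∀ i j, base i = base j → i = j := by decide +kernel
  exact fun i j h => this i j h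

theorem q_inj (hd : Data H D ψ x0) : Function.Injective (fun i => ψ (base i)) := by
  intro i j h
  exact base_injective (hd.psi_inj _ _ (base_ne_zero i) (base_ne_zero j) h)

theorem q_mem (hd : Data H D ψ x0) (i : Fin 4) : ψ (base i) ∈ D :=
  hd.psi_mem _ (base_ne_zero i)

theorem exists_four (s : Finset Ω) (hs : 4 ≤ s.card) :
    ∃ q : Fin 4 → Ω, Function.Injective q ∧ ∀ i, q i ∈ s := by
  classical
  obtain ⟨t, hts, ht⟩ := Finset.exists_subset_card_eq hs
  let e := t.equivFin.symm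
  refine ⟨fun i => (e (Fin.cast ht.symm i) : Ω), ?_, fun i => hts (e _).2⟩
  intro i j h
  have := e.injective (Subtype.ext h)
  simpa using this

theorem eq_one_of_fix (hd : Data H D ψ x0) {x : Equiv.Perm Ω} (hx : x ∈ H) (s : Finset Ω)
    (hs : s ⊆ D) (h4 : 4 ≤ s.card) (hfix : ∀ u ∈ s, x u = u) : x = 1 := by
  obtain ⟨q, hq, hqs⟩ := exists_four s h4
  exact hd.uniq x hx 1 H.one_mem q hq (fun i => hs (hqs i)) (fun i => by simpa using hfix _ (hqs i))

theorem injective_four {Ω : Type*} {a b c d : Ω} (h01 : a ≠ b) (h02 : a ≠ c) (h03 : a ≠ d)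
    (h12 : b ≠ c) (h13 : b ≠ d) (h23 : c ≠ d) : Function.Injective ![a, b, c, d] := by
  intro i j
  fin_cases i <;> fin_cases j <;> simp [h01, h02, h03, h12, h13, h23, h01.symm, h02.symm,
    h03.symm, h12.symm, h13.symm, h23.symm]

/-- all involutions are conjugate to `x0` -/
theorem exists_conj [DecidableEq Ω] (hd : Data H D ψ x0) {x : Equiv.Perm Ω} (hx : x ∈ H) (h1 : x ≠ 1)
    (h2 : ∀ u, x (x u) = u) : ∃ h ∈ H, h * x0 = x * h := by
  -- a moved point
  obtain ⟨u, huD, hu⟩ : ∃ u ∈ D, x u ≠ u := by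
    by_contra hcon
    push Not at hcon
    exact h1 (hd.eq_one_of_fix hx D (Finset.Subset.refl D) (by have := hd.card; omega) hcon)
  obtain ⟨w, hwD, hw⟩ : ∃ w ∈ D \ {u, x u}, x w ≠ w := by
    by_contra hcon
    push Not at hcon
    refine h1 (hd.eq_one_of_fix hx (D \ {u, x u}) Finset.sdiff_subset ?_ hcon)
    have hc := Finset.le_card_sdiff ({u, x u} : Finset Ω) D
    have h3 : ({u, x u} : Finset Ω).card ≤ 2 := Finset.card_le_two
    have := hd.card
    omega
  have hxu : x u ∈ D := hd.stab x hx u huD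
  simp only [Finset.mem_sdiff, Finset.mem_insert, Finset.mem_singleton, not_or] at hwD
  obtain ⟨hwD, hwu, hwv⟩ := hwD
  have hxw : x w ∈ D := hd.stab x hx w hwD
  have hzu : x w ≠ u := by
    intro h
    apply hwv
    rw [← h, h2]
  have hzv : x w ≠ x u := fun h => hwu (x.injective h)
  let q' : Fin 4 → Ω := ![u, x u, w, x w]
  have hq' : Function.Injective q' := injective_four (Ne.symm hu) (Ne.symm hwu)
    (Ne.symm hzu) (Ne.symm hwv) (Ne.symm hzv) (Ne.symm hw)
  have hq'D : ∀ i, q' i ∈ D := by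
    intro i
    fin_cases i
    · exact huD
    · exact hxu
    · exact hwD
    · exact hxw
  obtain ⟨h, hhH, hh⟩ := hd.exis _ q' hd.q_inj hq' hd.q_mem hq'D
  refine ⟨h, hhH, hd.uniq _ (H.mul_mem hhH hd.x0_mem) _ (H.mul_mem hx hhH) _ hd.q_inj hd.q_mem ?_⟩
  have e0 : h (ψ ![1, 0]) = u := hh 0
  have e1 : h (ψ ![2, 0]) = x u := hh 1
  have e2 : h (ψ ![0, 1]) = w := hh 2
  have e3 : h (ψ ![0, 2]) = x w := hh 3
  have n0 : -(![1, 0] : Fin 2 → ZMod 3) = ![2, 0] := by decide +kernel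
  have n1 : -(![2, 0] : Fin 2 → ZMod 3) = ![1, 0] := by decide +kernel
  have n2 : -(![0, 1] : Fin 2 → ZMod 3) = ![0, 2] := by decide +kernel
  have n3 : -(![0, 2] : Fin 2 → ZMod 3) = ![0, 1] := by decide +kernel
  intro i
  have hb := hd.x0_psi (base i) (base_ne_zero i)
  fin_cases i
  · change x0 (ψ ![1, 0]) = ψ (-![1, 0]) at hb
    change h (x0 (ψ ![1, 0])) = x (h (ψ ![1, 0]))
    rw [hb, n0, e1, e0]
  · change x0 (ψ ![2, 0]) = ψ (-![2, 0]) at hb
    change h (x0 (ψ ![2, 0])) = x (h (ψ ![2, 0]))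
    rw [hb, n1, e1, e0, h2]
  · change x0 (ψ ![0, 1]) = ψ (-![0, 1]) at hb
    change h (x0 (ψ ![0, 1])) = x (h (ψ ![0, 1]))
    rw [hb, n2, e3, e2]
  · change x0 (ψ ![0, 2]) = ψ (-![0, 2]) at hb
    change h (x0 (ψ ![0, 2])) = x (h (ψ ![0, 2]))
    rw [hb, n3, e3, e2, h2]

theorem exists_of_word (hd : Data H D ψ x0) (l : List Bool) :
    ∃ t ∈ H, ∀ v, v ≠ 0 → t (ψ v) = ψ (ev l *ᵥ v) := by
  induction l with
  | nil => exact ⟨1, H.one_mem, fun v _ => by simp [ev]⟩
  | cons b l ih =>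
    obtain ⟨t, htH, ht⟩ := ih
    cases b
    · obtain ⟨s, hsH, hs⟩ := hd.exW
      refine ⟨s * t, H.mul_mem hsH htH, fun v hv => ?_⟩
      show s (t (ψ v)) = ψ ((W * ev l) *ᵥ v)
      rw [ht v hv, hs _ (ev_mulVec_ne_zero l v hv), Matrix.mulVec_mulVec]
    · obtain ⟨s, hsH, hs⟩ := hd.exT
      refine ⟨s * t, H.mul_mem hsH htH, fun v hv => ?_⟩
      show s (t (ψ v)) = ψ ((T * ev l) *ᵥ v)
      rw [ht v hv, hs _ (ev_mulVec_ne_zero l v hv), Matrix.mulVec_mulVec]

theorem exists_of_gl (hd : Data H D ψ x0) (g : Matrix (Fin 2) (Fin 2) (ZMod 3)) (hg : g.det ≠ 0) :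
    ∃ t ∈ H, ∀ v, v ≠ 0 → t (ψ v) = ψ (g *ᵥ v) := by
  obtain ⟨l, rfl⟩ := exists_word g hg
  exact hd.exists_of_word l

theorem gl_mulVec_ne_zero (g : GL (Fin 2) (ZMod 3)) (v : Fin 2 → ZMod 3) (hv : v ≠ 0) :
    (g : Matrix (Fin 2) (Fin 2) (ZMod 3)) *ᵥ v ≠ 0 := by
  intro h
  apply hv
  have : ((g⁻¹ : GL (Fin 2) (ZMod 3)) : Matrix (Fin 2) (Fin 2) (ZMod 3)) *ᵥ
      ((g : Matrix (Fin 2) (Fin 2) (ZMod 3)) *ᵥ v) = 0 := by rw [h, Matrix.mulVec_zero]
  rw [Matrix.mulVec_mulVec, ← Units.val_mul, inv_mul_cancel, Units.val_one, Matrix.one_mulVec] at this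
  exact this

theorem ext_psi (hd : Data H D ψ x0) {y z : Equiv.Perm Ω} (hy : y ∈ H) (hz : z ∈ H)
    (h : ∀ v, v ≠ 0 → y (ψ v) = z (ψ v)) : y = z :=
  hd.uniq y hy z hz _ hd.q_inj hd.q_mem (fun i => h _ (base_ne_zero i))

theorem exists_psi (hd : Data H D ψ x0) {y : Equiv.Perm Ω} (hy : y ∈ H) (hc : y * x0 = x0 * y)
    (e : Fin 2 → ZMod 3) (he : e ≠ 0) (hne : -e ≠ 0) (hne' : -e ≠ e) :
    ∃ v, v ≠ 0 ∧ y (ψ e) = ψ v ∧ y (ψ (-e)) = ψ (-v) := by
  have hc' : ∀ u, y (x0 u) = x0 (y u) := fun u => by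
    have := congrArg (fun z : Equiv.Perm Ω => z u) hc
    simpa using this
  have hex : ∃ v, v ≠ 0 ∧ ψ v = y (ψ e) := by
    by_contra hcon
    push Not at hcon
    have h1 := hd.x0_fix (y (ψ e)) (hd.stab y hy _ (hd.psi_mem e he)) hcon
    rw [← hc', hd.x0_psi e he] at h1
    exact hne' (hd.psi_inj _ _ hne he (y.injective h1))
  obtain ⟨v, hv, hve⟩ := hex
  refine ⟨v, hv, hve.symm, ?_⟩
  rw [← hd.x0_psi e he, hc', ← hve, hd.x0_psi v hv]

theorem exists_gl (hd : Data H D ψ x0) {y : Equiv.Perm Ω} (hy : y ∈ H) (hc : y * x0 = x0 * y) :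
    ∃ g : GL (Fin 2) (ZMod 3), ∀ v, v ≠ 0 →
      y (ψ v) = ψ ((g : Matrix (Fin 2) (Fin 2) (ZMod 3)) *ᵥ v) := by
  obtain ⟨v1, hv1, h1, h1'⟩ := hd.exists_psi hy hc ![1, 0] (by decide +kernel) (by decide +kernel)
    (by decide +kernel)
  obtain ⟨v2, hv2, h2, h2'⟩ := hd.exists_psi hy hc ![0, 1] (by decide +kernel) (by decide +kernel)
    (by decide +kernel)
  have h12 : v1 ≠ v2 := by
    rintro rfl
    have := y.injective (h1.trans h2.symm)
    have := hd.psi_inj _ _ (by decide +kernel) (by decide +kernel) this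
    revert this
    decide +kernel
  have h12' : v2 ≠ -v1 := by
    intro h
    rw [h] at h2
    have := y.injective (h2.trans h1'.symm)
    have := hd.psi_inj _ _ (by decide +kernel) (by decide +kernel) this
    revert this
    decide +kernel
  have hdet := det_ne_zero_of v1 v2 hv1 hv2 h12 h12'
  let g : Matrix (Fin 2) (Fin 2) (ZMod 3) := !![v1 0, v2 0; v1 1, v2 1]
  have hg : g.det ≠ 0 := by rw [Matrix.det_fin_two]; exact hdet
  obtain ⟨t, htH, ht⟩ := hd.exists_of_gl g hg
  have hge1 : g *ᵥ ![1, 0] = v1 := by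
    ext i; fin_cases i <;> simp [g]
  have hge2 : g *ᵥ ![0, 1] = v2 := by
    ext i; fin_cases i <;> simp [g]
  have n0 : (![2, 0] : Fin 2 → ZMod 3) = -![1, 0] := by decide +kernel
  have n2 : (![0, 2] : Fin 2 → ZMod 3) = -![0, 1] := by decide +kernel
  have hyt : y = t := by
    refine hd.uniq y hy t htH _ hd.q_inj hd.q_mem ?_
    intro i
    have hb := ht (base i) (base_ne_zero i)
    rw [hb]
    fin_cases i
    · change y (ψ ![1, 0]) = ψ (g *ᵥ ![1, 0])
      rw [hge1, h1]
    · change y (ψ ![2, 0]) = ψ (g *ᵥ ![2, 0])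
      rw [n0, Matrix.mulVec_neg, hge1, h1']
    · change y (ψ ![0, 1]) = ψ (g *ᵥ ![0, 1])
      rw [hge2, h2]
    · change y (ψ ![0, 2]) = ψ (g *ᵥ ![0, 2])
      rw [n2, Matrix.mulVec_neg, hge2, h2']
  refine ⟨Matrix.GeneralLinearGroup.mkOfDetNeZero g hg, fun v hv => ?_⟩
  rw [hyt, ht v hv]
  rfl

theorem gl_ext (hd : Data H D ψ x0) (g g' : GL (Fin 2) (ZMod 3))
    (h : ∀ v, v ≠ 0 → ψ ((g : Matrix (Fin 2) (Fin 2) (ZMod 3)) *ᵥ v) =
      ψ ((g' : Matrix (Fin 2) (Fin 2) (ZMod 3)) *ᵥ v)) : g = g' := by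
  apply Units.ext
  have key : ∀ v : Fin 2 → ZMod 3, v ≠ 0 → (g : Matrix (Fin 2) (Fin 2) (ZMod 3)) *ᵥ v =
      (g' : Matrix (Fin 2) (Fin 2) (ZMod 3)) *ᵥ v := fun v hv =>
    hd.psi_inj _ _ (gl_mulVec_ne_zero g v hv) (gl_mulVec_ne_zero g' v hv) (h v hv)
  apply Matrix.ext_of_mulVec_single
  intro i
  apply key
  intro h0
  have := congrFun h0 i
  simp at this

/-- the centraliser of `x0` is `GL(2,3)` -/
theorem nonempty_equiv_x0 (hd : Data H D ψ x0) :
    Nonempty (↥(H ⊓ Subgroup.centralizer ({x0} : Set (Equiv.Perm Ω))) ≃* GL (Fin 2) (ZMod 3)) := by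
  have hC : ∀ y : ↥(H ⊓ Subgroup.centralizer ({x0} : Set (Equiv.Perm Ω))),
      (y : Equiv.Perm Ω) ∈ H ∧ (y : Equiv.Perm Ω) * x0 = x0 * y := by
    rintro ⟨y, hy⟩
    rw [Subgroup.mem_inf, Subgroup.mem_centralizer_singleton_iff] at hy
    exact ⟨hy.1, hy.2⟩
  choose f hf using fun y : ↥(H ⊓ Subgroup.centralizer ({x0} : Set (Equiv.Perm Ω))) =>
    hd.exists_gl (hC y).1 (hC y).2
  have fmul : ∀ y z, f (y * z) = f y * f z := by
    intro y z
    apply hd.gl_ext
    intro v hv
    rw [← hf (y * z) v hv, Subgroup.coe_mul, Equiv.Perm.mul_apply, hf z v hv,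
      hf y _ (gl_mulVec_ne_zero _ v hv), Matrix.mulVec_mulVec, Units.val_mul]
  have finj : Function.Injective f := by
    intro y z hyz
    apply Subtype.ext
    apply hd.ext_psi (hC y).1 (hC z).1
    intro v hv
    rw [hf y v hv, hf z v hv, hyz]
  have fsurj : Function.Surjective f := by
    intro g
    have hgdet : (g : Matrix (Fin 2) (Fin 2) (ZMod 3)).det ≠ 0 := by
      have := g.isUnit
      rw [Matrix.isUnit_iff_isUnit_det] at this
      exact this.ne_zero
    obtain ⟨t, htH, ht⟩ := hd.exists_of_gl g hgdet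
    have hcomm : t * x0 = x0 * t := by
      apply hd.ext_psi (H.mul_mem htH hd.x0_mem) (H.mul_mem hd.x0_mem htH)
      intro v hv
      rw [Equiv.Perm.mul_apply, Equiv.Perm.mul_apply, hd.x0_psi v hv, ht v hv,
        ht (-v) (neg_ne_zero.mpr hv), hd.x0_psi _ (gl_mulVec_ne_zero g v hv), Matrix.mulVec_neg]
    refine ⟨⟨t, ?_⟩, ?_⟩
    · rw [Subgroup.mem_inf, Subgroup.mem_centralizer_singleton_iff]
      exact ⟨htH, hcomm⟩
    · apply hd.gl_ext
      intro v hv
      rw [← hf _ v hv]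
      exact ht v hv
  exact ⟨MulEquiv.ofBijective (MonoidHom.mk' f fmul) ⟨finj, fsurj⟩⟩

/-- conjugation of centralisers -/
theorem nonempty_equiv_conj {Ω : Type*} (H : Subgroup (Equiv.Perm Ω)) (x x0 h : Equiv.Perm Ω) (hh : h ∈ H)
    (hc : h * x0 = x * h) :
    Nonempty (↥(H ⊓ Subgroup.centralizer ({x} : Set (Equiv.Perm Ω))) ≃*
      ↥(H ⊓ Subgroup.centralizer ({x0} : Set (Equiv.Perm Ω)))) := by
  have hx : x = h * x0 * h⁻¹ := by rw [hc]; group
  have hx0 : x0 = h⁻¹ * x * h := by rw [mul_assoc, ← hc]; group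
  have key : (H ⊓ Subgroup.centralizer ({x0} : Set (Equiv.Perm Ω))).map
      (MulAut.conj h).toMonoidHom = H ⊓ Subgroup.centralizer ({x} : Set (Equiv.Perm Ω)) := by
    ext y
    simp only [Subgroup.mem_map, Subgroup.mem_inf, Subgroup.mem_centralizer_singleton_iff]
    constructor
    · rintro ⟨z, ⟨hzH, hz⟩, rfl⟩
      refine ⟨H.mul_mem (H.mul_mem hh hzH) (H.inv_mem hh), ?_⟩
      show h * z * h⁻¹ * x = x * (h * z * h⁻¹)
      rw [hx]
      calc h * z * h⁻¹ * (h * x0 * h⁻¹) = h * (z * x0) * h⁻¹ := by group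
        _ = h * (x0 * z) * h⁻¹ := by rw [hz]
        _ = _ := by group
    · rintro ⟨hyH, hy⟩
      refine ⟨h⁻¹ * y * h, ⟨H.mul_mem (H.mul_mem (H.inv_mem hh) hyH) hh, ?_⟩, ?_⟩
      · rw [hx0]
        calc h⁻¹ * y * h * (h⁻¹ * x * h) = h⁻¹ * (y * x) * h := by group
          _ = h⁻¹ * (x * y) * h := by rw [hy]
          _ = _ := by group
      · show h * (h⁻¹ * y * h) * h⁻¹ = y
        group
  rw [← key]
  exact ⟨(Subgroup.equivMapOfInjective _ _ (MulAut.conj h).injective).symm⟩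

/-- **Main abstract result**: every involution centraliser is `GL(2,3)`. -/
theorem nonempty_equiv [DecidableEq Ω] (hd : Data H D ψ x0) {x : Equiv.Perm Ω} (hx : x ∈ H) (h1 : x ≠ 1)
    (h2 : x * x = 1) :
    Nonempty (↥(H ⊓ Subgroup.centralizer ({x} : Set (Equiv.Perm Ω))) ≃* GL (Fin 2) (ZMod 3)) := by
  have h2' : ∀ u, x (x u) = u := fun u => by
    have := congrArg (fun z : Equiv.Perm Ω => z u) h2
    simpa using this
  obtain ⟨h, hh, hc⟩ := hd.exists_conj hx h1 h2'
  obtain ⟨e⟩ := nonempty_equiv_conj H x x0 h hh hc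
  obtain ⟨e'⟩ := hd.nonempty_equiv_x0
  exact ⟨e.trans e'⟩

end Data

end Cfsg.Agent.SporadicStructure.M11InvCore
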