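import Cfsg.Agent.SporadicStructure.M22Syl11

/-!
The 77 octads through `none` and `some 0` fall into three orbits (of lengths 11, 11, 55) under the
group of order 55 generated by `f11 : x ↦ 2 x` and `cubeTwist`.
-/

set_option autoImplicit false

namespace Cfsg.Agent.SporadicStructure.M22Hexads

open Cfsg Cfsg.Agent.SporadicA.GolayBase Cfsg.Agent.SporadicStructure.M22Syl11
open scoped Pointwise

/-- The image of a mask under a permutation whose inverse is the function `h`. -/
def pullMask (h : GolayPt → GolayPt) (m : ℕ) : ℕ :=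
  Nat.ofBits fun i : Fin 24 => m.testBit (idx (h (pt i)))

theorem smul_fin {g : Equiv.Perm GolayPt} {h : GolayPt → GolayPt} (hgh : ∀ p, g (h p) = p)
    (m : ℕ) : g • fin m = fin (pullMask h m) := by
  ext p
  have hp : g⁻¹ p = h p := by rw [Equiv.Perm.inv_eq_iff_eq, hgh]
  rw [mem_fin, pullMask, Nat.testBit_ofBits_lt _ _ (idx_lt p), ← Finset.inv_smul_mem_iff,
    Equiv.Perm.smul_def, hp, mem_fin]
  simp only [pt_idx]

/-- The inverse of `f11` as a function. -/
def f11Inv : GolayPt → GolayPt
  | none => none
  | some x => some (12 * x)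

/-- The inverse of `cubeTwist` as a function. -/
def twistInv (p : GolayPt) : GolayPt :=
  cubeTwistFun (cubeTwistFun (cubeTwistFun (cubeTwistFun p)))

theorem f11_f11Inv (p : GolayPt) : f11 (f11Inv p) = p := by
  revert p; decide +kernel

theorem twist_twistInv (p : GolayPt) : cubeTwist (twistInv p) = p := by
  have h : ∀ p : GolayPt, cubeTwistFun (twistInv p) = p := by decide +kernel
  exact h p

theorem f11_smul_fin (m : ℕ) : f11 • fin m = fin (pullMask f11Inv m) := smul_fin f11_f11Inv m

theorem twist_smul_fin (m : ℕ) : cubeTwist • fin m = fin (pullMask twistInv m) :=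
  smul_fin twist_twistInv m

/-- The hexads meeting the squares in 5 points. -/
def L5 : List ℕ := [8398155, 9506893, 8524371, 8657159, 12656663, 10486557, 9240913, 8499969,
  8716939, 8675909, 8663097]

/-- The hexads meeting the squares in 1 point. -/
def L1 : List ℕ := [9193633, 12641313, 11535529, 10110017, 9607201, 12717187, 15747077, 15335473,
  11046145, 14254209, 10666625]

/-- The hexads meeting the squares in 3 points. -/
def L3a : List ℕ := [8391797, 13636881, 11731203, 9112069, 12880401, 14950785, 11100169, 8946281,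
  8688833, 9465987, 8536111]
def L3b : List ℕ := [11010247, 8966165, 8421811, 8471941, 9519665, 8783649, 9776129, 13771273,
  10881097, 13121601, 14716939]
def L3c : List ℕ := [13893731, 10630149, 9963547, 12747077, 10557585, 13124355, 10846245, 8922769,
  9748745, 8593633, 8412681]
def L3d : List ℕ := [10765331, 9969957, 8619033, 9440193, 13062145, 10496547, 13370381, 11575377,
  9048457, 8505411, 12587685]
def L3e : List ℕ := [9830549, 8546577, 12650793, 14747201, 12325377, 9347075, 8431757, 12599513,
  10506593, 8983587, 9471495]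

/-- The 55 hexads meeting the squares in 3 points. -/
def L3 : List ℕ := L3a ++ L3b ++ L3c ++ L3d ++ L3e

/-- Boolean membership for lists of naturals. -/
def memb (a : ℕ) : List ℕ → Bool
  | [] => false
  | b :: l => Nat.beq a b || memb a l

theorem memb_iff (a : ℕ) (l : List ℕ) : memb a l = true ↔ a ∈ l := by
  induction l with
  | nil => simp [memb]
  | cons b l ih => simp [memb, ih]

/-- The check for the classification of the octads through `none` and `some 0`. -/
def hexCheck (i : ℕ) : Bool :=
  let m := enc i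
  !(m.testBit 0) || !(m.testBit 23) || !(Nat.beq (popcount m) 8) ||
    memb m L5 || memb m L1 || memb m L3a || memb m L3b || memb m L3c || memb m L3d || memb m L3e

theorem hexCheck_all : ∀ i, i < 2 ^ 12 → hexCheck i = true := by
  apply allR_zero_spec
  decide +kernel

/-- The octads through `none` and `some 0` are those in the lists. -/
theorem mem_lists {s : Finset GolayPt} (hs : s ∈ octads) (h0 : none ∈ s) (h1 : some 0 ∈ s) :
    maskOf s ∈ L5 ∨ maskOf s ∈ L1 ∨ maskOf s ∈ L3 := by
  obtain ⟨hc, hp⟩ := (mem_octads_iff s).mp hs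
  obtain ⟨i, hi, hm⟩ := isCode_iff_exists.mp hc
  have h := hexCheck_all i hi
  unfold hexCheck at h
  rw [← hm] at h
  have t0 : (maskOf s).testBit 0 = true := by
    have := testBit_maskOf s (some 0)
    rw [decide_eq_true h1] at this
    exact this
  have t1 : (maskOf s).testBit 23 = true := by
    have := testBit_maskOf s none
    rw [decide_eq_true h0] at this
    exact this
  have t2 : Nat.beq (popcount (maskOf s)) 8 = true := by rw [hp]; rfl
  simp only [t0, t1, t2, Bool.not_true, Bool.false_or, Bool.or_eq_true, memb_iff] at h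
  simp only [L3, List.mem_append]
  tauto

/-- The first `n` images of a mask under the powers of `f11`. -/
def orbitList (m : ℕ) : ℕ → List ℕ
  | 0 => []
  | n + 1 => m :: orbitList (pullMask f11Inv m) n

theorem exists_of_mem_orbitList {K : Subgroup (Equiv.Perm GolayPt)} (hK : f11 ∈ K) (n : ℕ) :
    ∀ m m' : ℕ, m' ∈ orbitList m n → ∃ k ∈ K, k • fin m = fin m' := by
  induction n with
  | zero => intro m m' h; simp [orbitList] at h
  | succ n ih =>
    intro m m' h
    rw [orbitList, List.mem_cons] at h
    rcases h with rfl | h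
    · exact ⟨1, K.one_mem, one_smul _ _⟩
    · obtain ⟨k, hk, hkm⟩ := ih _ _ h
      exact ⟨k * f11, K.mul_mem hk hK, by rw [mul_smul, f11_smul_fin, hkm]⟩

theorem L5_eq : L5 = orbitList 8398155 11 := by decide +kernel
theorem L1_eq : L1 = orbitList 9193633 11 := by decide +kernel
theorem L3a_eq : L3a = orbitList 8391797 11 := by decide +kernel
theorem L3b_eq : L3b = orbitList (pullMask twistInv 8391797) 11 := by decide +kernel
theorem L3c_eq : L3c = orbitList (pullMask twistInv (pullMask twistInv 8391797)) 11 := by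
  decide +kernel
theorem L3d_eq : L3d = orbitList (pullMask twistInv (pullMask twistInv
    (pullMask twistInv 8391797))) 11 := by
  decide +kernel
theorem L3e_eq : L3e = orbitList (pullMask twistInv (pullMask twistInv
    (pullMask twistInv (pullMask twistInv 8391797)))) 11 := by
  decide +kernel

theorem exists_L5 {K : Subgroup (Equiv.Perm GolayPt)} (hK : f11 ∈ K) {m : ℕ} (hm : m ∈ L5) :
    ∃ k ∈ K, k • fin 8398155 = fin m :=
  exists_of_mem_orbitList hK 11 _ _ (L5_eq ▸ hm)

theorem exists_L1 {K : Subgroup (Equiv.Perm GolayPt)} (hK : f11 ∈ K) {m : ℕ} (hm : m ∈ L1) :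
    ∃ k ∈ K, k • fin 9193633 = fin m :=
  exists_of_mem_orbitList hK 11 _ _ (L1_eq ▸ hm)

theorem exists_L3 {K : Subgroup (Equiv.Perm GolayPt)} (hK : f11 ∈ K) (hK' : cubeTwist ∈ K)
    {m : ℕ} (hm : m ∈ L3) : ∃ k ∈ K, k • fin 8391797 = fin m := by
  simp only [L3, List.mem_append] at hm
  rcases hm with (((hm | hm) | hm) | hm) | hm
  · exact exists_of_mem_orbitList hK 11 _ _ (L3a_eq ▸ hm)
  · obtain ⟨k, hk, h⟩ := exists_of_mem_orbitList hK 11 _ _ (L3b_eq ▸ hm)
    exact ⟨k * cubeTwist, K.mul_mem hk hK', by rw [mul_smul, twist_smul_fin, h]⟩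
  · obtain ⟨k, hk, h⟩ := exists_of_mem_orbitList hK 11 _ _ (L3c_eq ▸ hm)
    exact ⟨k * cubeTwist * cubeTwist, K.mul_mem (K.mul_mem hk hK') hK', by
      rw [mul_smul, twist_smul_fin, mul_smul, twist_smul_fin, h]⟩
  · obtain ⟨k, hk, h⟩ := exists_of_mem_orbitList hK 11 _ _ (L3d_eq ▸ hm)
    exact ⟨k * cubeTwist * cubeTwist * cubeTwist,
      K.mul_mem (K.mul_mem (K.mul_mem hk hK') hK') hK', by
      rw [mul_smul, twist_smul_fin, mul_smul, twist_smul_fin, mul_smul, twist_smul_fin, h]⟩
  · obtain ⟨k, hk, h⟩ := exists_of_mem_orbitList hK 11 _ _ (L3e_eq ▸ hm)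
    exact ⟨k * cubeTwist * cubeTwist * cubeTwist * cubeTwist,
      K.mul_mem (K.mul_mem (K.mul_mem (K.mul_mem hk hK') hK') hK') hK', by
      rw [mul_smul, twist_smul_fin, mul_smul, twist_smul_fin, mul_smul, twist_smul_fin,
        mul_smul, twist_smul_fin, h]⟩

/-! ### Incidences between the points and the hexads -/

/-- The mask of the nonzero squares. -/
def sqMask : ℕ := 340830

/-- The mask of the non-squares. -/
def nsqMask : ℕ := 8047776

theorem pt_cases : ∀ x : GolayPt, x = none ∨ x = some 0 ∨ sqMask.testBit (idx x) = true ∨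
    nsqMask.testBit (idx x) = true := by decide +kernel

theorem not_both : ∀ x : GolayPt, sqMask.testBit (idx x) = true →
    nsqMask.testBit (idx x) = false := by decide +kernel

theorem T1 : ∀ x : GolayPt, nsqMask.testBit (idx x) = true → ∀ m ∈ L5, ∀ m' ∈ L5,
    m.testBit (idx x) = true → m'.testBit (idx x) = true → m = m' := by decide +kernel

theorem T2 : ∀ x : GolayPt, sqMask.testBit (idx x) = true → ∃ m ∈ L5, ∃ m' ∈ L5,
    m.testBit (idx x) = true ∧ m'.testBit (idx x) = true ∧ m ≠ m' := by decide +kernel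

theorem T3 : ∀ x : GolayPt, sqMask.testBit (idx x) = true → ∀ m ∈ L1, ∀ m' ∈ L1,
    m.testBit (idx x) = true → m'.testBit (idx x) = true → m = m' := by decide +kernel

theorem T4 : ∀ x : GolayPt, nsqMask.testBit (idx x) = true → ∃ m ∈ L1, ∃ m' ∈ L1,
    m.testBit (idx x) = true ∧ m'.testBit (idx x) = true ∧ m ≠ m' := by decide +kernel

theorem T5 : ∀ x y : GolayPt, sqMask.testBit (idx x) = true → sqMask.testBit (idx y) = true →
    ∃ m ∈ L5 ++ L1, m.testBit (idx x) = true ∧ m.testBit (idx y) = true := by decide +kernel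

theorem T6 : ∀ x y : GolayPt, nsqMask.testBit (idx x) = true → nsqMask.testBit (idx y) = true →
    ∃ m ∈ L5 ++ L1, m.testBit (idx x) = true ∧ m.testBit (idx y) = true := by decide +kernel

theorem T7 : ∀ x y : GolayPt, sqMask.testBit (idx x) = true → sqMask.testBit (idx y) = true →
    ∃ z : GolayPt, nsqMask.testBit (idx z) = true ∧ ∀ m ∈ L5 ++ L1,
      m.testBit (idx z) = true → m.testBit (idx x) = false ∧ m.testBit (idx y) = false := by
  decide +kernel

theorem T8 : (∀ m ∈ L5, popcount (m &&& sqMask) = 5) ∧ (∀ m ∈ L1, popcount (m &&& sqMask) = 1) ∧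
    ∀ m ∈ L3, popcount (m &&& sqMask) = 3 := by decide +kernel

theorem T9 : ∀ m ∈ L5 ++ L1 ++ L3, m < 2 ^ 24 ∧ isCode m = true ∧ popcount m = 8 ∧
    m.testBit 0 = true ∧ m.testBit 23 = true := by decide +kernel

theorem T10 : (L5 ++ L1 ++ L3).Nodup := by decide +kernel

end Cfsg.Agent.SporadicStructure.M22Hexads
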