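import Mathlib

/-!
Two elementary Sylow arguments for subgroups of a fixed finite group when a prime `p` divides the
order exactly once: conjugating a subgroup so that it contains a given element of order `p`, and
the Sylow congruence in terms of a subgroup containing the normaliser.
-/

set_option autoImplicit false

namespace Cfsg.Agent.SporadicStructure.SylowPrime

/-- If `p` divides `|G0|` exactly once, `x ∈ G0` has order `p` and `p` divides the order of
`K ≤ G0`, then some `G0`-conjugate of `K` contains `x`. -/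
theorem exists_conj_mem {S : Type*} [Group S] [Finite S] (G0 K : Subgroup S) (hK : K ≤ G0)
    (p : ℕ) [hp : Fact p.Prime] (hG0 : ¬ p ^ 2 ∣ Nat.card G0) (x : S) (hx : x ∈ G0)
    (ho : orderOf x = p) (hpK : p ∣ Nat.card K) :
    ∃ g ∈ G0, x ∈ K.map (MulAut.conj g).toMonoidHom := by
  obtain ⟨y, hy⟩ := exists_prime_orderOf_dvd_card' (G := K) p hpK
  have hy' : orderOf (⟨(y : S), hK y.2⟩ : G0) = p := by
    rw [← hy, ← Subgroup.orderOf_coe, ← Subgroup.orderOf_coe]
  have hx' : orderOf (⟨x, hx⟩ : G0) = p := by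
    rw [← ho, ← Subgroup.orderOf_coe]
  have hfac : p ^ (Nat.card G0).factorization p = p := by
    have h1 : p ∣ Nat.card G0 := by
      rw [← hx']; exact orderOf_dvd_natCard _
    have hne : Nat.card G0 ≠ 0 := Nat.card_pos.ne'
    have h2 : 1 ≤ (Nat.card G0).factorization p :=
      (hp.out.dvd_iff_one_le_factorization hne).mp h1
    have h3 : ¬ 2 ≤ (Nat.card G0).factorization p := by
      intro h; exact hG0 ((hp.out.pow_dvd_iff_le_factorization hne).mpr h)
    have : (Nat.card G0).factorization p = 1 := by omega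
    rw [this, pow_one]
  let P : Sylow p G0 := Sylow.ofCard (Subgroup.zpowers ⟨(y : S), hK y.2⟩)
    (by rw [Nat.card_zpowers, hy', hfac])
  let Q : Sylow p G0 := Sylow.ofCard (Subgroup.zpowers ⟨x, hx⟩)
    (by rw [Nat.card_zpowers, hx', hfac])
  obtain ⟨g, hg⟩ := MulAction.exists_smul_eq G0 P Q
  refine ⟨g, g.2, ?_⟩
  have hxQ : (⟨x, hx⟩ : G0) ∈ (Q : Subgroup G0) := Subgroup.mem_zpowers _
  rw [← hg, Sylow.coe_subgroup_smul] at hxQ
  obtain ⟨z, hz, hzx⟩ := hxQ
  have hz' : z ∈ Subgroup.zpowers (⟨(y : S), hK y.2⟩ : G0) := hz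
  obtain ⟨n, hn⟩ := Subgroup.mem_zpowers_iff.mp hz'
  refine ⟨(y : S) ^ n, K.zpow_mem y.2 n, ?_⟩
  have := congrArg (Subtype.val) hzx
  simp at this
  rw [← this, ← hn]
  simp

/-- Sylow count for a subgroup `K` containing `x` of prime order `p`, `p² ∤ |K|`, when the normaliser
of `⟨x⟩` in `K` lies in `F`. -/
theorem exists_sylow_count {S : Type*} [Group S] [Finite S] (K F : Subgroup S)
    (p : ℕ) [hp : Fact p.Prime] (hK : ¬ p ^ 2 ∣ Nat.card K) (x : S) (hx : x ∈ K)
    (ho : orderOf x = p) (hF : ∀ g ∈ K, g * x * g⁻¹ ∈ Subgroup.zpowers x → g ∈ F) :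
    ∃ m n : ℕ, Nat.card K = m * n ∧ n ≡ 1 [MOD p] ∧ p ∣ m ∧ m ∣ Nat.card F ∧
      (m = Nat.card F → F ≤ K) ∧ n = Nat.card (Sylow p K) := by
  have hx' : orderOf (⟨x, hx⟩ : K) = p := by
    rw [← ho, ← Subgroup.orderOf_coe]
  have hfac : p ^ (Nat.card K).factorization p = p := by
    have h1 : p ∣ Nat.card K := by
      rw [← hx']; exact orderOf_dvd_natCard _
    have hne : Nat.card K ≠ 0 := Nat.card_pos.ne'
    have h2 : 1 ≤ (Nat.card K).factorization p :=
      (hp.out.dvd_iff_one_le_factorization hne).mp h1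
    have h3 : ¬ 2 ≤ (Nat.card K).factorization p := by
      intro h; exact hK ((hp.out.pow_dvd_iff_le_factorization hne).mpr h)
    have : (Nat.card K).factorization p = 1 := by omega
    rw [this, pow_one]
  let P : Sylow p K := Sylow.ofCard (Subgroup.zpowers ⟨x, hx⟩)
    (by rw [Nat.card_zpowers, hx', hfac])
  have hP : ∀ y : K, y ∈ P ↔ y ∈ Subgroup.zpowers (⟨x, hx⟩ : K) := fun y => Iff.rfl
  set N : Subgroup K := Subgroup.normalizer (P : Set K) with hN
  have hMF : N.map K.subtype ≤ F := by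
    rintro _ ⟨g, hg, rfl⟩
    refine hF _ g.2 ?_
    have h1 : (⟨x, hx⟩ : K) ∈ P := (hP _).mpr (Subgroup.mem_zpowers _)
    have h2 : g * ⟨x, hx⟩ * g⁻¹ ∈ (P : Set K) := (Subgroup.mem_set_normalizer_iff.mp hg _).mp h1
    obtain ⟨n, hn⟩ := Subgroup.mem_zpowers_iff.mp ((hP _).mp h2)
    refine Subgroup.mem_zpowers_iff.mpr ⟨n, ?_⟩
    have := congrArg Subtype.val hn
    simpa using this
  have hcard : Nat.card ↥(N.map K.subtype) = Nat.card N :=
    Nat.card_congr (N.equivMapOfInjective K.subtype K.subtype_injective).toEquiv.symm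
  refine ⟨Nat.card N, Nat.card (Sylow p K), ?_, card_sylow_modEq_one p K, ?_, ?_, ?_, rfl⟩
  · rw [Sylow.card_eq_index_normalizer P, Subgroup.card_mul_index]
  · have h1 : Nat.card (P : Subgroup K) ∣ Nat.card N := Subgroup.card_dvd_of_le Subgroup.le_normalizer
    have h2 : Nat.card (P : Subgroup K) = p := by
      show Nat.card (Subgroup.zpowers (⟨x, hx⟩ : K)) = p
      rw [Nat.card_zpowers, hx']
    rwa [h2] at h1
  · rw [← hcard]; exact Subgroup.card_dvd_of_le hMF
  · intro h
    rw [← hcard] at h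
    have : N.map K.subtype = F := Subgroup.eq_of_le_of_card_ge hMF h.ge
    rw [← this]
    rintro _ ⟨g, _, rfl⟩
    exact g.2

end Cfsg.Agent.SporadicStructure.SylowPrime
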