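import Cfsg.Agent.SporadicA.GolayBase
import Cfsg.Agent.SporadicA.M24Mem
import Cfsg.Agent.S0371
import Cfsg.Agent.S0372
import Cfsg.Agent.S0373
import Cfsg.Agent.SporadicStructure.SylowPrime

/-!
The normaliser of a Sylow 11-subgroup in the stabiliser of two points in `Cfsg.M24` has order 55.
Explicitly, in the stabiliser of `none` and `some 0`, the normaliser of the group generated by
`f11 : x ↦ 2 x` is generated by `f11` and `cubeTwist`.
-/

set_option autoImplicit false

namespace Cfsg.Agent.SporadicStructure.M22Syl11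

open Cfsg Cfsg.Agent.SporadicA.GolayBase
open scoped Pointwise

/-- The unit 2 modulo 23. -/
def u2 : (ZMod 23)ˣ := ⟨2, 12, by decide, by decide⟩

/-- The permutation `x ↦ 2 x` of the 24 points, of order 11. -/
def f11 : Equiv.Perm GolayPt := Equiv.optionCongr (Units.mulLeft u2)

theorem f11_none : f11 none = none := rfl
theorem f11_some (x : ZMod 23) : f11 (some x) = some (2 * x) := rfl
theorem f11_inv_some (x : ZMod 23) : f11⁻¹ (some x) = some (12 * x) := rfl
theorem f11_inv_none : f11⁻¹ none = none := rfl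

theorem f11_mem : f11 ∈ M24 := by
  refine Cfsg.Agent.S0371.result u2 ⟨⟨5, 14, by decide, by decide⟩, ?_⟩
  ext1
  decide

theorem cubeTwist_apply (x : GolayPt) : cubeTwist x = cubeTwistFun x := rfl

theorem f11_pow_eleven : f11 ^ 11 = 1 := by
  ext1 x
  revert x
  decide +kernel

theorem f11_ne_one : f11 ≠ 1 := by
  intro h
  have := congrArg (fun g : Equiv.Perm GolayPt => g (some 1)) h
  revert this
  decide

theorem orderOf_f11 : orderOf f11 = 11 :=
  haveI : Fact (Nat.Prime 11) := ⟨by norm_num⟩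
  orderOf_eq_prime f11_pow_eleven f11_ne_one

theorem twist_comm (x : GolayPt) : cubeTwist (f11 x) = f11 (f11 (f11 (cubeTwist x))) := by
  have h : ∀ x : GolayPt, cubeTwistFun (f11 x) = f11 (f11 (f11 (cubeTwistFun x))) := by
    decide +kernel
  exact h x

theorem twist_mul : cubeTwist * f11 = f11 ^ 3 * cubeTwist := by
  ext1 x
  exact twist_comm x

theorem twist_pow_five : cubeTwist ^ 5 = 1 := by
  have h : ∀ x : GolayPt, cubeTwistFun (cubeTwistFun (cubeTwistFun (cubeTwistFun
      (cubeTwistFun x)))) = x := by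
    decide +kernel
  ext1 x
  exact h x

theorem twist_ne_one : cubeTwist ≠ 1 := by
  intro h
  have h1 : cubeTwistFun (some 1) ≠ some 1 := by decide +kernel
  apply h1
  have := congrArg (fun g : Equiv.Perm GolayPt => g (some 1)) h
  exact this

theorem orderOf_twist : orderOf cubeTwist = 5 :=
  haveI : Fact (Nat.Prime 5) := ⟨by norm_num⟩
  orderOf_eq_prime twist_pow_five twist_ne_one

/-- Elements of `M24` map code supports to code supports. -/
theorem smul_mem_supports {g : Equiv.Perm GolayPt} (hg : g ∈ M24) {s : Finset GolayPt}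
    (hs : s ∈ supports (golayCode : Set (GolayPt → ZMod 2))) :
    g • s ∈ supports (golayCode : Set (GolayPt → ZMod 2)) := by
  have h := MulAction.mem_stabilizer_iff.mp hg
  rw [← h]
  exact Set.smul_mem_smul_set hs

/-- Elements of `M24` map octads to octads. -/
theorem smul_mem_octads {g : Equiv.Perm GolayPt} (hg : g ∈ M24) {s : Finset GolayPt}
    (hs : s ∈ octads) : g • s ∈ octads :=
  ⟨smul_mem_supports hg hs.1, by rw [Finset.card_smul_finset]; exact hs.2⟩

/-- The octad used to recognise the normaliser. -/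
theorem testOctad_mem : ({none, some 1, some 3, some 6, some 12, some 5, some 7, some 11} :
    Finset GolayPt) ∈ supports (golayCode : Set (GolayPt → ZMod 2)) := by
  rw [mem_supports_iff]
  decide +kernel

theorem smul_testOctad (g : Equiv.Perm GolayPt) :
    g • ({none, some 1, some 3, some 6, some 12, some 5, some 7, some 11} : Finset GolayPt) =
      {g none, g (some 1), g (some 3), g (some 6), g (some 12), g (some 5), g (some 7),
        g (some 11)} := by
  simp only [Finset.smul_finset_insert, Finset.smul_finset_singleton, Equiv.Perm.smul_def]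

theorem check_plus : ∀ c d : ZMod 23, (c = 1 ∨ c = 22) → d ≠ 0 → isCode (maskOf
    ({none, some c, some (3 * c), some (6 * c), some (12 * c), some (18 * d), some (16 * d),
      some (12 * d)} : Finset GolayPt)) = true → c = 1 ∧ d = 22 := by
  decide +kernel

theorem check_minus : ∀ c d : ZMod 23, (c = 1 ∨ c = 22) → d ≠ 0 → isCode (maskOf
    ({none, some c, some (8 * c), some (4 * c), some (2 * c), some (9 * d), some (13 * d),
      some (2 * d)} : Finset GolayPt)) = false := by
  decide +kernel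

/-- A permutation fixing `none` is given by a function on residues. -/
theorem exists_fun {g : Equiv.Perm GolayPt} (h0 : g none = none) :
    ∃ γ : ZMod 23 → ZMod 23, ∀ x, g (some x) = some (γ x) := by
  have h : ∀ x : ZMod 23, ∃ y : ZMod 23, g (some x) = some y := by
    intro x
    cases hx : g (some x) with
    | none => exact absurd (g.injective (hx.trans h0.symm)) (by simp)
    | some y => exact ⟨y, rfl⟩
  choose γ hγ using h
  exact ⟨γ, hγ⟩

theorem mul_pow_of {γ : ZMod 23 → ZMod 23} {a b : ZMod 23} (h : ∀ x, γ (a * x) = b * γ x) (n : ℕ) :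
    ∀ x, γ (a ^ n * x) = b ^ n * γ x := by
  induction n with
  | zero => intro x; simp
  | succ n ih =>
    intro x
    rw [pow_succ, mul_assoc, ih, h, pow_succ, mul_assoc]

theorem val_of {γ : ZMod 23 → ZMod 23} {b : ZMod 23} (h : ∀ x, γ (2 * x) = b * γ x) (n : ℕ)
    (x y c : ZMod 23) (hx : 2 ^ n * x = y) (hc : b ^ n = c) : γ y = c * γ x := by
  rw [← hx, ← hc]
  exact mul_pow_of h n x

theorem residue_cases : ∀ y : ZMod 23, y = 0 ∨
    ∃ n : Fin 11, y = 2 ^ (n : ℕ) * 1 ∨ y = 2 ^ (n : ℕ) * 22 := by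
  decide +kernel

theorem case_plus {g : Equiv.Perm GolayPt} (hg : g ∈ M24) (h0 : g none = none)
    (h1 : g (some 0) = some 0) (hf : ∀ x, g (f11 x) = f11 (g x))
    (h : g (some 1) = some 1 ∨ g (some 1) = some 22) : g = 1 := by
  obtain ⟨γ, hγ⟩ := exists_fun h0
  have h2 : ∀ x, γ (2 * x) = 2 * γ x := by
    intro x
    have := hf (some x)
    rw [f11_some, hγ, hγ, f11_some] at this
    exact Option.some.inj this
  have hc : γ 1 = 1 ∨ γ 1 = 22 := by
    rw [hγ] at h
    rcases h with h | h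
    · exact Or.inl (Option.some.inj h)
    · exact Or.inr (Option.some.inj h)
  have hz : γ 0 = 0 := by
    rw [hγ] at h1
    exact Option.some.inj h1
  have hd : γ 22 ≠ 0 := by
    intro hd
    have : g (some 22) = g (some 0) := by rw [hγ, hγ, hd, hz]
    exact absurd (g.injective this) (by decide)
  have hmem := (mem_supports_iff _).mp (smul_mem_supports hg testOctad_mem)
  rw [smul_testOctad, h0, hγ, hγ, hγ, hγ, hγ, hγ, hγ,
    val_of h2 8 1 3 3 (by decide) (by decide), val_of h2 9 1 6 6 (by decide) (by decide),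
    val_of h2 10 1 12 12 (by decide) (by decide), val_of h2 6 22 5 18 (by decide) (by decide),
    val_of h2 4 22 7 16 (by decide) (by decide), val_of h2 10 22 11 12 (by decide) (by decide)]
    at hmem
  obtain ⟨e1, e2⟩ := check_plus _ _ hc hd hmem
  ext1 x
  cases x with
  | none => exact h0
  | some y =>
    rw [hγ, Equiv.Perm.one_apply]
    congr 1
    rcases residue_cases y with rfl | ⟨n, rfl | rfl⟩
    · exact hz
    · rw [mul_pow_of h2, e1]
    · rw [mul_pow_of h2, e2]

theorem case_minus {g : Equiv.Perm GolayPt} (hg : g ∈ M24) (h0 : g none = none)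
    (h1 : g (some 0) = some 0) (hf : ∀ x, g (f11 x) = f11⁻¹ (g x))
    (h : g (some 1) = some 1 ∨ g (some 1) = some 22) : False := by
  obtain ⟨γ, hγ⟩ := exists_fun h0
  have h2 : ∀ x, γ (2 * x) = 12 * γ x := by
    intro x
    have := hf (some x)
    rw [f11_some, hγ, hγ, f11_inv_some] at this
    exact Option.some.inj this
  have hc : γ 1 = 1 ∨ γ 1 = 22 := by
    rw [hγ] at h
    rcases h with h | h
    · exact Or.inl (Option.some.inj h)
    · exact Or.inr (Option.some.inj h)
  have hz : γ 0 = 0 := by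
    rw [hγ] at h1
    exact Option.some.inj h1
  have hd : γ 22 ≠ 0 := by
    intro hd
    have : g (some 22) = g (some 0) := by rw [hγ, hγ, hd, hz]
    exact absurd (g.injective this) (by decide)
  have hmem := (mem_supports_iff _).mp (smul_mem_supports hg testOctad_mem)
  rw [smul_testOctad, h0, hγ, hγ, hγ, hγ, hγ, hγ, hγ,
    val_of h2 8 1 3 8 (by decide) (by decide), val_of h2 9 1 6 4 (by decide) (by decide),
    val_of h2 10 1 12 2 (by decide) (by decide), val_of h2 6 22 5 9 (by decide) (by decide),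
    val_of h2 4 22 7 13 (by decide) (by decide), val_of h2 10 22 11 2 (by decide) (by decide),
    check_minus _ _ hc hd]
    at hmem
  exact absurd hmem (by decide)

theorem twist_mem : cubeTwist ∈ M24 := Cfsg.Agent.S0373.result

theorem twist_none : cubeTwist none = none := rfl

theorem twist_zero : cubeTwist (some 0) = some 0 := by
  have h : cubeTwistFun (some 0) = some 0 := by decide +kernel
  exact h

theorem f11_zero : f11 (some 0) = some 0 := rfl

/-- The stabiliser of `none` and `some 0` in `M24`, as a group of permutations. -/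
def G0 : Subgroup (Equiv.Perm GolayPt) where
  carrier := {g | g ∈ M24 ∧ g none = none ∧ g (some 0) = some 0}
  one_mem' := ⟨M24.one_mem, rfl, rfl⟩
  mul_mem' := by
    rintro a b ⟨ha, ha0, ha1⟩ ⟨hb, hb0, hb1⟩
    exact ⟨M24.mul_mem ha hb, by rw [Equiv.Perm.mul_apply, hb0, ha0],
      by rw [Equiv.Perm.mul_apply, hb1, ha1]⟩
  inv_mem' := by
    rintro a ⟨ha, ha0, ha1⟩
    exact ⟨M24.inv_mem ha, by rw [Equiv.Perm.inv_eq_iff_eq, ha0],
      by rw [Equiv.Perm.inv_eq_iff_eq, ha1]⟩

theorem mem_G0 {g : Equiv.Perm GolayPt} :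
    g ∈ G0 ↔ g ∈ M24 ∧ g none = none ∧ g (some 0) = some 0 := Iff.rfl

theorem f11_mem_G0 : f11 ∈ G0 := ⟨f11_mem, rfl, rfl⟩

theorem twist_mem_G0 : cubeTwist ∈ G0 := ⟨twist_mem, rfl, twist_zero⟩

/-- The normaliser of `⟨f11⟩` in `G0`. -/
def N0 : Subgroup (Equiv.Perm GolayPt) :=
  G0 ⊓ Subgroup.normalizer (Subgroup.zpowers f11 : Set (Equiv.Perm GolayPt))

theorem twist_conj (j : ℕ) : cubeTwist ^ j * f11 * (cubeTwist ^ j)⁻¹ = f11 ^ (3 ^ j) := by
  induction j with
  | zero => simp
  | succ j ih =>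
    have h1 : cubeTwist * f11 * cubeTwist⁻¹ = f11 ^ 3 := by
      rw [twist_mul, mul_assoc, mul_inv_cancel, mul_one]
    calc cubeTwist ^ (j + 1) * f11 * (cubeTwist ^ (j + 1))⁻¹
        = cubeTwist * (cubeTwist ^ j * f11 * (cubeTwist ^ j)⁻¹) * cubeTwist⁻¹ := by
          rw [pow_succ', mul_inv_rev]; group
      _ = cubeTwist * f11 ^ (3 ^ j) * cubeTwist⁻¹ := by rw [ih]
      _ = (cubeTwist * f11 * cubeTwist⁻¹) ^ (3 ^ j) := by rw [conj_pow]
      _ = f11 ^ (3 ^ (j + 1)) := by rw [h1, ← pow_mul, pow_succ, mul_comm]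

theorem f11_pow_mod (n : ℕ) : f11 ^ (n % 11) = f11 ^ n := by
  rw [← orderOf_f11, pow_mod_orderOf]

/-- The residues `1` and `22` represent the orbits of `f11` on the nonzero residues. -/
theorem exists_pow_f11 : ∀ c : ZMod 23, c ≠ 0 → ∃ i : Fin 11,
    (f11 ^ (i : ℕ)) (some c) = some 1 ∨ (f11 ^ (i : ℕ)) (some c) = some 22 := by
  decide +kernel

theorem exists_eq_one {g : Equiv.Perm GolayPt} (hg : g ∈ G0)
    (hn : g * f11 * g⁻¹ ∈ Subgroup.zpowers f11) :
    ∃ i < 11, ∃ j < 5, f11 ^ i * cubeTwist ^ j * g = 1 := by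
  -- the exponent
  obtain ⟨k, hk11, hk⟩ : ∃ k < 11, g * f11 * g⁻¹ = f11 ^ k := by
    have h1 := (isOfFinOrder_of_finite f11).mem_powers_iff_mem_zpowers.mpr hn
    obtain ⟨k, hk⟩ := Submonoid.mem_powers_iff _ _ |>.mp h1
    exact ⟨k % 11, Nat.mod_lt _ (by norm_num), by rw [f11_pow_mod, hk]⟩
  have hk0 : k ≠ 0 := by
    rintro rfl
    rw [pow_zero, mul_inv_eq_one] at hk
    exact f11_ne_one (mul_left_cancel (hk.trans (mul_one g).symm))
  -- adjust the exponent to ±1
  obtain ⟨j, hj5, hj⟩ : ∃ j < 5, (k * 3 ^ j) % 11 = 1 ∨ (k * 3 ^ j) % 11 = 10 := by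
    have : ∀ k < 11, k ≠ 0 → ∃ j < 5, (k * 3 ^ j) % 11 = 1 ∨ (k * 3 ^ j) % 11 = 10 := by
      decide
    exact this k hk11 hk0
  have hj' : (cubeTwist ^ j * g) * f11 * (cubeTwist ^ j * g)⁻¹ = f11 ^ ((k * 3 ^ j) % 11) := by
    rw [f11_pow_mod]
    calc (cubeTwist ^ j * g) * f11 * (cubeTwist ^ j * g)⁻¹
        = cubeTwist ^ j * (g * f11 * g⁻¹) * (cubeTwist ^ j)⁻¹ := by group
      _ = cubeTwist ^ j * f11 ^ k * (cubeTwist ^ j)⁻¹ := by rw [hk]
      _ = (cubeTwist ^ j * f11 * (cubeTwist ^ j)⁻¹) ^ k := by rw [conj_pow]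
      _ = f11 ^ (k * 3 ^ j) := by rw [twist_conj, ← pow_mul, mul_comm]
  have hm : cubeTwist ^ j * g ∈ G0 := G0.mul_mem (G0.pow_mem twist_mem_G0 j) hg
  obtain ⟨γ, hγ⟩ := exists_fun hm.2.1
  have hc0 : γ 1 ≠ 0 := by
    intro hc
    have h1 := hγ 1
    rw [hc, ← hm.2.2] at h1
    exact absurd ((cubeTwist ^ j * g).injective h1) (by decide)
  obtain ⟨i, hi⟩ := exists_pow_f11 (γ 1) hc0
  refine ⟨i, i.2, j, hj5, ?_⟩
  set h : Equiv.Perm GolayPt := f11 ^ (i : ℕ) * cubeTwist ^ j * g with hh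
  have hhG : h ∈ G0 := by
    rw [hh, mul_assoc]
    exact G0.mul_mem (G0.pow_mem f11_mem_G0 _) hm
  have hconj : h * f11 * h⁻¹ = f11 ^ ((k * 3 ^ j) % 11) := by
    rw [hh, mul_assoc (f11 ^ (i : ℕ))]
    calc (f11 ^ (i : ℕ) * (cubeTwist ^ j * g)) * f11 * (f11 ^ (i : ℕ) * (cubeTwist ^ j * g))⁻¹
        = f11 ^ (i : ℕ) * ((cubeTwist ^ j * g) * f11 * (cubeTwist ^ j * g)⁻¹) *
            (f11 ^ (i : ℕ))⁻¹ := by group
      _ = f11 ^ (i : ℕ) * f11 ^ ((k * 3 ^ j) % 11) * (f11 ^ (i : ℕ))⁻¹ := by rw [hj']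
      _ = f11 ^ ((k * 3 ^ j) % 11) := by
          rw [← pow_add, add_comm, pow_add, mul_assoc, mul_inv_cancel, mul_one]
  have hh1 : h (some 1) = some 1 ∨ h (some 1) = some 22 := by
    rw [hh, mul_assoc, Equiv.Perm.mul_apply, hγ]
    exact hi
  rcases hj with hj | hj
  · rw [hj, pow_one, mul_inv_eq_iff_eq_mul] at hconj
    refine case_plus hhG.1 hhG.2.1 hhG.2.2 (fun x => ?_) hh1
    rw [← Equiv.Perm.mul_apply, hconj, Equiv.Perm.mul_apply]
  · exfalso
    have h10 : f11 ^ 10 = f11⁻¹ := by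
      rw [eq_inv_iff_mul_eq_one, ← pow_succ, f11_pow_eleven]
    rw [hj, h10, mul_inv_eq_iff_eq_mul] at hconj
    refine case_minus hhG.1 hhG.2.1 hhG.2.2 (fun x => ?_) hh1
    rw [← Equiv.Perm.mul_apply, hconj, Equiv.Perm.mul_apply]

theorem mem_N0_of {g : Equiv.Perm GolayPt} (hg : g ∈ G0)
    (hn : g * f11 * g⁻¹ ∈ Subgroup.zpowers f11) : g ∈ N0 := by
  refine ⟨hg, Subgroup.mem_normalizer_fintype ?_⟩
  rintro n ⟨k, rfl⟩
  show g * f11 ^ k * g⁻¹ ∈ Subgroup.zpowers f11
  rw [← conj_zpow]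
  exact Subgroup.zpow_mem _ hn k

theorem conj_mem_of_mem_N0 {g : Equiv.Perm GolayPt} (hg : g ∈ N0) :
    g * f11 * g⁻¹ ∈ Subgroup.zpowers f11 :=
  (Subgroup.mem_normalizer_iff.mp hg.2 f11).mp (Subgroup.mem_zpowers f11)

theorem f11_mem_N0 : f11 ∈ N0 :=
  mem_N0_of f11_mem_G0 (by rw [mul_inv_cancel_right]; exact Subgroup.mem_zpowers _)

theorem twist_mem_N0 : cubeTwist ∈ N0 :=
  mem_N0_of twist_mem_G0 (by
    have := twist_conj 1
    rw [pow_one, pow_one] at this
    rw [this]
    exact Subgroup.pow_mem _ (Subgroup.mem_zpowers _) 3)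

/-- The normaliser of `⟨f11⟩` in the stabiliser of `none` and `some 0` has order 55. -/
theorem card_N0 : Nat.card N0 = 55 := by
  have h11 : 11 ∣ Nat.card N0 := by
    have := orderOf_dvd_natCard (⟨f11, f11_mem_N0⟩ : N0)
    rwa [Subgroup.orderOf_mk, orderOf_f11] at this
  have h5 : 5 ∣ Nat.card N0 := by
    have := orderOf_dvd_natCard (⟨cubeTwist, twist_mem_N0⟩ : N0)
    rwa [Subgroup.orderOf_mk, orderOf_twist] at this
  have hle : Nat.card N0 ≤ Nat.card (Fin 11 × Fin 5) := by
    have hsub : (N0 : Set (Equiv.Perm GolayPt)) ⊆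
        Set.range (fun p : Fin 11 × Fin 5 => (f11 ^ (p.1 : ℕ) * cubeTwist ^ (p.2 : ℕ))⁻¹) := by
      intro g hg
      obtain ⟨i, hi, j, hj, h⟩ := exists_eq_one hg.1 (conj_mem_of_mem_N0 hg)
      exact ⟨(⟨i, hi⟩, ⟨j, hj⟩), inv_eq_of_mul_eq_one_right h⟩
    calc Nat.card N0 ≤ Nat.card (Set.range
        (fun p : Fin 11 × Fin 5 => (f11 ^ (p.1 : ℕ) * cubeTwist ^ (p.2 : ℕ))⁻¹)) :=
          Nat.card_mono (Set.toFinite _) hsub
      _ ≤ Nat.card (Fin 11 × Fin 5) := Finite.card_range_le _
  have h55 : 55 ∣ Nat.card N0 := Nat.Coprime.mul_dvd_of_dvd_of_dvd (by norm_num : Nat.Coprime 11 5) h11 h5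
  rw [Nat.card_prod, Nat.card_fin, Nat.card_fin] at hle
  have hpos : 0 < Nat.card N0 := Nat.card_pos
  obtain ⟨c, hc⟩ := h55
  omega

theorem shift_mem (a : ZMod 23) : Equiv.optionCongr (Equiv.addRight a) ∈ M24 := by
  refine Cfsg.Agent.SporadicA.M24Mem.mem_M24_of_qrWord _ fun t => ?_
  have h := Cfsg.Agent.SporadicA.M24Mem.qrWord_comp_affine (Equiv.optionCongr (Equiv.addRight a)) 1 a
    (by decide) rfl (fun x => by simp) (t - a)
  have e : (1 : ZMod 23) ^ 2 * (t - a) + a = t := by ring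
  rw [e] at h
  rw [h]
  exact Cfsg.Agent.SporadicA.M24Mem.qrWord_mem_golayCode _

/-- Any two distinct points can be moved to `none` and `some 0`. -/
theorem exists_move {p q : GolayPt} (hpq : p ≠ q) : ∃ a ∈ M24, a p = none ∧ a q = some 0 := by
  obtain ⟨b, hb, hbp⟩ : ∃ b ∈ M24, b p = none := by
    cases p with
    | none => exact ⟨1, M24.one_mem, rfl⟩
    | some x =>
      refine ⟨projInv * Equiv.optionCongr (Equiv.addRight (-x)), M24.mul_mem
        Cfsg.Agent.S0372.result (shift_mem _), ?_⟩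
      rw [Equiv.Perm.mul_apply]
      have : Equiv.optionCongr (Equiv.addRight (-x)) (some x) = some 0 := by
        simp
      rw [this]
      rfl
  cases hq : b q with
  | none => exact absurd (b.injective (hbp.trans hq.symm)) hpq
  | some y =>
    refine ⟨Equiv.optionCongr (Equiv.addRight (-y)) * b, M24.mul_mem (shift_mem _) hb, ?_, ?_⟩
    · rw [Equiv.Perm.mul_apply, hbp]; rfl
    · rw [Equiv.Perm.mul_apply, hq]; simp

/-- The embedding of the two-point stabiliser in the symmetric group, followed by conjugation. -/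
def emb (p q : GolayPt) (a : Equiv.Perm GolayPt) :
    ↥(MulAction.stabilizer M24 p ⊓ MulAction.stabilizer M24 q) →* Equiv.Perm GolayPt :=
  ((MulAut.conj a).toMonoidHom.comp M24.subtype).comp
    (MulAction.stabilizer M24 p ⊓ MulAction.stabilizer M24 q).subtype

theorem emb_apply (p q : GolayPt) (a : Equiv.Perm GolayPt)
    (g : ↥(MulAction.stabilizer M24 p ⊓ MulAction.stabilizer M24 q)) :
    emb p q a g = a * ((g : M24) : Equiv.Perm GolayPt) * a⁻¹ := rfl

theorem emb_injective (p q : GolayPt) (a : Equiv.Perm GolayPt) :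
    Function.Injective (emb p q a) := by
  intro g h hgh
  rw [emb_apply, emb_apply] at hgh
  exact Subtype.ext (Subtype.ext (mul_left_cancel (mul_right_cancel hgh)))

theorem range_emb {p q : GolayPt} {a : Equiv.Perm GolayPt} (ha : a ∈ M24) (hp : a p = none)
    (hq : a q = some 0) : (emb p q a).range = G0 := by
  have hp' : a⁻¹ none = p := by rw [Equiv.Perm.inv_eq_iff_eq, hp]
  have hq' : a⁻¹ (some 0) = q := by rw [Equiv.Perm.inv_eq_iff_eq, hq]
  ext g
  constructor
  · rintro ⟨h, rfl⟩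
    have h1 : ((h : M24) : Equiv.Perm GolayPt) p = p := h.2.1
    have h2 : ((h : M24) : Equiv.Perm GolayPt) q = q := h.2.2
    refine ⟨M24.mul_mem (M24.mul_mem ha (h : M24).2) (M24.inv_mem ha), ?_, ?_⟩
    · rw [emb_apply, Equiv.Perm.mul_apply, Equiv.Perm.mul_apply, hp', h1, hp]
    · rw [emb_apply, Equiv.Perm.mul_apply, Equiv.Perm.mul_apply, hq', h2, hq]
  · rintro ⟨hg, h1, h2⟩
    refine ⟨⟨⟨a⁻¹ * g * a, M24.mul_mem (M24.mul_mem (M24.inv_mem ha) hg) ha⟩, ?_, ?_⟩, ?_⟩
    · show (a⁻¹ * g * a) p = p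
      rw [Equiv.Perm.mul_apply, Equiv.Perm.mul_apply, hp, h1, hp']
    · show (a⁻¹ * g * a) q = q
      rw [Equiv.Perm.mul_apply, Equiv.Perm.mul_apply, hq, h2, hq']
    · rw [emb_apply]
      show a * (a⁻¹ * g * a) * a⁻¹ = g
      group

/-- The two-point stabiliser is isomorphic to `G0`. -/
theorem nonempty_equiv {p q : GolayPt} (hpq : p ≠ q) :
    Nonempty (↥(MulAction.stabilizer M24 p ⊓ MulAction.stabilizer M24 q) ≃* G0) := by
  obtain ⟨a, ha, hp, hq⟩ := exists_move hpq
  exact ⟨(MonoidHom.ofInjective (emb_injective p q a)).trans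
    (MulEquiv.subgroupCongr (range_emb ha hp hq))⟩

/-- **The normaliser of a Sylow 11-subgroup of a two-point stabiliser of `M24` has order 55**,
given the order of that stabiliser. -/
theorem card_normalizer_sylow11 {p q : GolayPt} (hpq : p ≠ q)
    (hcard : Nat.card ↥(MulAction.stabilizer M24 p ⊓ MulAction.stabilizer M24 q) = 443520)
    [Fact (Nat.Prime 11)]
    (P : Sylow 11 ↥(MulAction.stabilizer M24 p ⊓ MulAction.stabilizer M24 q)) :
    Nat.card (Subgroup.normalizer (P : Set
      ↥(MulAction.stabilizer M24 p ⊓ MulAction.stabilizer M24 q))) = 55 := by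
  have hfac : (Nat.card ↥(MulAction.stabilizer M24 p ⊓ MulAction.stabilizer M24 q)).factorization 11
      = 1 := by
    rw [hcard]
    have : (443520 : ℕ) = 11 ^ 1 * 40320 := by norm_num
    rw [this, Nat.factorization_mul (by norm_num) (by norm_num),
      Nat.Prime.factorization_pow (by norm_num)]
    simp [Nat.factorization_eq_zero_of_not_dvd (show ¬ 11 ∣ 40320 by norm_num)]
  have hP : Nat.card (P : Subgroup
      ↥(MulAction.stabilizer M24 p ⊓ MulAction.stabilizer M24 q)) = 11 := by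
    have := Sylow.card_eq_multiplicity P
    rwa [hfac, pow_one] at this
  obtain ⟨a, ha, hp, hq⟩ := exists_move hpq
  have hG0 : Nat.card G0 = 443520 := by
    rw [← range_emb ha hp hq, ← hcard]
    exact (Nat.card_congr (MonoidHom.ofInjective (emb_injective p q a)).toEquiv).symm
  -- conjugate the image of `P` to contain `f11`
  obtain ⟨b, hb, hbf⟩ := SylowPrime.exists_conj_mem G0 ((P : Subgroup
      ↥(MulAction.stabilizer M24 p ⊓ MulAction.stabilizer M24 q)).map (emb p q a))
    (by rw [← range_emb ha hp hq]; exact Subgroup.map_le_range _ _) 11 (by rw [hG0]; norm_num)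
    f11 f11_mem_G0 orderOf_f11
    (by rw [Subgroup.card_map_of_injective (emb_injective p q a), hP])
  have hba : b * a ∈ M24 := M24.mul_mem hb.1 ha
  have hbp : (b * a) p = none := by rw [Equiv.Perm.mul_apply, hp, hb.2.1]
  have hbq : (b * a) q = some 0 := by rw [Equiv.Perm.mul_apply, hq, hb.2.2]
  obtain ⟨_, ⟨y, hy, rfl⟩, hyf⟩ := hbf
  have hyf' : emb p q (b * a) y = f11 := by
    rw [← hyf, emb_apply]
    show _ = b * (emb p q a y) * b⁻¹
    rw [emb_apply]
    group
  have hPz : (P : Subgroup ↥(MulAction.stabilizer M24 p ⊓ MulAction.stabilizer M24 q)).map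
      (emb p q (b * a)) = Subgroup.zpowers f11 := by
    symm
    apply Subgroup.eq_of_le_of_card_ge
    · rw [Subgroup.zpowers_le]
      exact ⟨y, hy, hyf'⟩
    · rw [Subgroup.card_map_of_injective (emb_injective p q _), hP, Nat.card_zpowers,
        orderOf_f11]
  have hN : (Subgroup.normalizer (P : Set
      ↥(MulAction.stabilizer M24 p ⊓ MulAction.stabilizer M24 q))).map (emb p q (b * a)) ≤ N0 := by
    rintro _ ⟨g, hg, rfl⟩
    apply mem_N0_of
    · rw [← range_emb hba hbp hbq]
      exact ⟨g, rfl⟩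
    · rw [← hPz, ← hyf', ← map_inv, ← map_mul, ← map_mul]
      exact ⟨_, (Subgroup.mem_set_normalizer_iff.mp hg y).mp hy, rfl⟩
  have h1 := Subgroup.card_dvd_of_le hN
  rw [Subgroup.card_map_of_injective (emb_injective p q _), card_N0] at h1
  have h2 : 11 ∣ Nat.card (Subgroup.normalizer (P : Set
      ↥(MulAction.stabilizer M24 p ⊓ MulAction.stabilizer M24 q))) := by
    have := Subgroup.card_dvd_of_le (Subgroup.le_normalizer (H := (P : Subgroup
      ↥(MulAction.stabilizer M24 p ⊓ MulAction.stabilizer M24 q))))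
    rwa [hP] at this
  have h3 := Sylow.card_eq_index_normalizer P
  have h4 := card_sylow_modEq_one 11 ↥(MulAction.stabilizer M24 p ⊓ MulAction.stabilizer M24 q)
  have h5 := Subgroup.card_mul_index (Subgroup.normalizer (P : Set
      ↥(MulAction.stabilizer M24 p ⊓ MulAction.stabilizer M24 q)))
  rw [← h3, hcard] at h5
  generalize Nat.card (Sylow 11 ↥(MulAction.stabilizer M24 p ⊓ MulAction.stabilizer M24 q)) = n
    at h4 h5
  generalize Nat.card (Subgroup.normalizer (P : Set
      ↥(MulAction.stabilizer M24 p ⊓ MulAction.stabilizer M24 q))) = m at h1 h2 h5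
  obtain ⟨c, rfl⟩ := h2
  have hc : c ∣ 5 := by
    have : 11 * c ∣ 11 * 5 := h1
    exact Nat.dvd_of_mul_dvd_mul_left (by norm_num) this
  rcases (Nat.dvd_prime (by norm_num)).mp hc with rfl | rfl
  · exfalso
    have : n = 40320 := by omega
    subst this
    exact absurd h4 (by decide)
  · rfl

end Cfsg.Agent.SporadicStructure.M22Syl11
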