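import Cfsg.Prelude.Def_SporadicCombinatorics
import Cfsg.Agent.SporadicA.SteinerCount

/-!
# Subgroups of index 253 in the Mathieu group of degree 23

The argument, from the order and the 5-transitivity of `M24`, the Steiner property of the octads
and one local fact: a 2-subgroup of the point stabiliser that is transitive on the complement of
an octad.
-/

set_option autoImplicit false
open scoped Pointwise
open Cfsg MulAction

namespace Cfsg.Agent.SporadicStructure.M23Index253

/-- Tuple form of multiple transitivity. -/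
theorem exists_map {n : ℕ} (h5 : IsMultiplyPretransitive M24 GolayPt 5) (hn : n ≤ 5)
    (a b : Fin n → GolayPt) (ha : Function.Injective a) (hb : Function.Injective b) :
    ∃ g : M24, ∀ i, g • a i = b i := by
  have hn' : IsMultiplyPretransitive M24 GolayPt n := by
    apply isMultiplyPretransitive_of_le (n := 5) hn
    simp [Nat.card_eq_fintype_card]
  rw [isMultiplyPretransitive_iff] at hn'
  obtain ⟨g, hg⟩ := hn' ⟨a, ha⟩ ⟨b, hb⟩
  refine ⟨g, fun i => ?_⟩
  have := DFunLike.congr_fun hg i
  simpa [Function.Embedding.smul_apply] using this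

theorem card_golayPt : Nat.card GolayPt = 24 := by
  simp [Nat.card_eq_fintype_card]

/-- Elements of `M24` permute the octads. -/
theorem smul_mem_octads (g : M24) {o : Finset GolayPt} (ho : o ∈ octads) : g • o ∈ octads := by
  have hg : (g : Equiv.Perm GolayPt) • supports (golayCode : Set (GolayPt → ZMod 2)) =
      supports (golayCode : Set (GolayPt → ZMod 2)) := g.2
  refine ⟨?_, ?_⟩
  · rw [← hg]
    exact Set.smul_mem_smul_set ho.1
  · rw [Finset.card_smul_finset]; exact ho.2

/-- The number of octads through a point is 253. -/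
theorem ncard_octads_through (hS : IsSteinerSystem 5 8 octads) (x : GolayPt) :
    {o : Finset GolayPt | o ∈ octads ∧ x ∈ o}.ncard = 253 := by
  classical
  have h := SporadicA.SteinerCount.card_blocks_containing hS
    (Finset.univ.filter fun o => o ∈ octads) (by simp) {x} (by simp)
  have h2 : {o : Finset GolayPt | o ∈ octads ∧ x ∈ o} =
      ((((Finset.univ.filter fun o => o ∈ octads).filter fun b => {x} ⊆ b) :
        Finset (Finset GolayPt)) : Set (Finset GolayPt)) := by
    ext o; simp
  rw [h2, Set.ncard_coe_finset]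
  have h3 : Fintype.card GolayPt = 24 := by simp
  rw [h3] at h
  simp only [Finset.card_singleton] at h
  have h4 : (8 - 1).choose (5 - 1) = 35 := by decide
  have h5 : (24 - 1).choose (5 - 1) = 8855 := by decide +kernel
  rw [h4, h5] at h
  omega

/-- A 5-tuple of points in an octad that begins with a given point. -/
theorem exists_five {o : Finset GolayPt} (ho : o ∈ octads) {x : GolayPt} (hx : x ∈ o) :
    ∃ a : Fin 5 → GolayPt, Function.Injective a ∧ (∀ i, a i ∈ o) ∧ a 0 = x := by
  have hc : (o.erase x).card = 7 := by rw [Finset.card_erase_of_mem hx, ho.2]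
  obtain ⟨s, hs, hs4⟩ := Finset.exists_subset_card_eq (s := o.erase x) (n := 4) (by omega)
  have e : Fin 4 ≃ s := (Finset.equivFinOfCardEq hs4).symm
  have hmem : ∀ j : Fin 4, (e j : GolayPt) ∈ o.erase x := fun j => hs (e j).2
  refine ⟨Fin.cons x (fun i => (e i : GolayPt)), ?_, ?_, by simp⟩
  · rw [Fin.cons_injective_iff]
    refine ⟨?_, Subtype.val_injective.comp e.injective⟩
    rintro ⟨i, hi⟩
    exact (Finset.mem_erase.mp (hmem i)).1 hi
  · intro i
    refine Fin.cases ?_ (fun j => ?_) i
    · simpa using hx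
    · simpa using (Finset.mem_erase.mp (hmem j)).2

/-- The point stabiliser is transitive on octads through the point. -/
theorem exists_stab_smul_octad (h5 : IsMultiplyPretransitive M24 GolayPt 5)
    (hS : IsSteinerSystem 5 8 octads) {x : GolayPt} {o o' : Finset GolayPt}
    (ho : o ∈ octads) (ho' : o' ∈ octads) (hx : x ∈ o) (hx' : x ∈ o') :
    ∃ g : stabilizer M24 x, g • o = o' := by
  obtain ⟨a, ha, hao, ha0⟩ := exists_five ho hx
  obtain ⟨b, hb, hbo, hb0⟩ := exists_five ho' hx'
  obtain ⟨g, hg⟩ := exists_map h5 le_rfl a b ha hb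
  refine ⟨⟨g, ?_⟩, ?_⟩
  · rw [mem_stabilizer_iff, ← ha0, hg 0, hb0, ha0]
  · have hgo := smul_mem_octads g ho
    have hcard : (Finset.univ.image b).card = 5 := by
      rw [Finset.card_image_of_injective _ hb]; simp
    have h1 := (hS.2 (Finset.univ.image b) hcard)
    refine h1.unique ⟨hgo, ?_⟩ ⟨ho', ?_⟩
    · intro p hp
      obtain ⟨i, -, rfl⟩ := Finset.mem_image.mp hp
      rw [← hg i]
      exact Finset.smul_mem_smul_finset (hao i)
    · intro p hp
      obtain ⟨i, -, rfl⟩ := Finset.mem_image.mp hp
      exact hbo i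

theorem index_octad (h5 : IsMultiplyPretransitive M24 GolayPt 5)
    (hS : IsSteinerSystem 5 8 octads) {x : GolayPt} {o : Finset GolayPt}
    (ho : o ∈ octads) (hx : x ∈ o) :
    (stabilizer (stabilizer M24 x) o).index = 253 := by
  rw [index_stabilizer, ← ncard_octads_through hS x]
  congr 1
  ext t
  rw [mem_orbit_iff]
  constructor
  · rintro ⟨g, rfl⟩
    refine ⟨smul_mem_octads (g : M24) ho, ?_⟩
    have := Finset.smul_mem_smul_finset (a := (g : M24)) hx
    rwa [show (g : M24) • x = x from g.2] at this
  · rintro ⟨ht, hxt⟩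
    exact exists_stab_smul_octad h5 hS ho ht hx hxt

/-- The point stabiliser is transitive on duads avoiding the point. -/
theorem index_duad (h5 : IsMultiplyPretransitive M24 GolayPt 5) {x : GolayPt}
    {s : Finset GolayPt} (hs : s.card = 2) (hx : x ∉ s) :
    (stabilizer (stabilizer M24 x) s).index = 253 := by
  classical
  have key : orbit (stabilizer M24 x) s =
      (((Finset.univ.erase x).powersetCard 2 : Finset (Finset GolayPt)) :
        Set (Finset GolayPt)) := by
    ext t
    rw [mem_orbit_iff, Finset.mem_coe, Finset.mem_powersetCard]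
    constructor
    · rintro ⟨g, rfl⟩
      refine ⟨?_, by rw [Finset.card_smul_finset, hs]⟩
      intro p hp
      rw [Finset.mem_erase]
      refine ⟨?_, Finset.mem_univ _⟩
      rintro rfl
      apply hx
      have h2 : (g : M24) • p = p := g.2
      have h3 : (g : M24) • p ∈ (g : M24) • s := by rw [h2]; exact hp
      exact (Finset.smul_mem_smul_finset_iff _).mp h3
    · rintro ⟨ht, ht2⟩
      obtain ⟨a, b, hab, rfl⟩ := Finset.card_eq_two.mp hs
      obtain ⟨c, d, hcd, rfl⟩ := Finset.card_eq_two.mp ht2
      have hxa : x ≠ a := by rintro rfl; simp at hx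
      have hxb : x ≠ b := by rintro rfl; simp at hx
      have hxc : x ≠ c := by rintro rfl; exact absurd (ht (by simp : x ∈ _)) (by simp)
      have hxd : x ≠ d := by rintro rfl; exact absurd (ht (by simp : x ∈ _)) (by simp)
      have i1 : Function.Injective ![x, a, b] := by
        intro i j hij
        fin_cases i <;> fin_cases j <;> simp_all
      have i2 : Function.Injective ![x, c, d] := by
        intro i j hij
        fin_cases i <;> fin_cases j <;> simp_all
      obtain ⟨g, hg⟩ := exists_map h5 (by norm_num : 3 ≤ 5) ![x, a, b] ![x, c, d] i1 i2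
      refine ⟨⟨g, hg 0⟩, ?_⟩
      have g1 : g • a = c := hg 1
      have g2 : g • b = d := hg 2
      change g • ({a, b} : Finset GolayPt) = {c, d}
      rw [Finset.smul_finset_insert, Finset.smul_finset_singleton, g1, g2]
  rw [index_stabilizer, key, Set.ncard_coe_finset, Finset.card_powersetCard,
    Finset.card_erase_of_mem (Finset.mem_univ x), Finset.card_univ]
  have h3 : Fintype.card GolayPt = 24 := by simp
  rw [h3]
  decide

/-- An element of order 7 in `M24` fixes no four points. -/
theorem no_fix_four (hcard : Nat.card M24 = 244823040)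
    (h5 : IsMultiplyPretransitive M24 GolayPt 5) (c : M24) (hc : orderOf c = 7)
    (s : Set GolayPt) (hs : s.ncard = 4) (hfix : ∀ p ∈ s, c • p = p) : False := by
  have h4 : IsMultiplyPretransitive M24 GolayPt 4 := by
    apply isMultiplyPretransitive_of_le (n := 5) (by norm_num)
    simp [Nat.card_eq_fintype_card]
  have h1 := h4.index_of_fixingSubgroup_mul hs
  rw [card_golayPt] at h1
  have h2 : (fixingSubgroup M24 s).index = 24 * 23 * 22 * 21 := by
    apply Nat.eq_of_mul_eq_mul_right (Nat.factorial_pos (24 - 4))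
    rw [h1]
    decide +kernel
  have h3 := (fixingSubgroup M24 s).card_mul_index
  rw [h2, hcard] at h3
  have h6 : Nat.card (fixingSubgroup M24 s) = 960 := by omega
  have h7 : c ∈ fixingSubgroup M24 s := by
    rw [mem_fixingSubgroup_iff]
    exact hfix
  have h8 : orderOf (⟨c, h7⟩ : fixingSubgroup M24 s) ∣ Nat.card (fixingSubgroup M24 s) :=
    orderOf_dvd_natCard _
  rw [Subgroup.orderOf_mk, hc, h6] at h8
  omega

/-- The local input: a 2-subgroup of the point stabiliser that is transitive on the complement of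
an octad through the point. -/
def LocalInput (x : GolayPt) : Prop :=
  ∃ o ∈ octads, x ∈ o ∧ ∃ R : Subgroup (stabilizer M24 x), IsPGroup 2 R ∧
    ∀ p, p ∉ o → ∀ q, q ∉ o → ∃ r ∈ R, r • p = q

/-- A subgroup of odd index contains a conjugate of a 2-subgroup. -/
theorem exists_conj_le {G : Type*} [Group G] [Finite G] (H R : Subgroup G) (p : ℕ)
    [Fact p.Prime] (hR : IsPGroup p R) (hH : ¬ p ∣ H.index) :
    ∃ g : G, ∀ r ∈ R, g⁻¹ * r * g ∈ H := by
  obtain ⟨q, hq⟩ := hR.nonempty_fixed_point_of_prime_not_dvd_card (G ⧸ H) hH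
  obtain ⟨g, rfl⟩ := QuotientGroup.mk_surjective q
  refine ⟨g, fun r hr => ?_⟩
  have h1 := hq ⟨r, hr⟩
  have h2 : ((r * g : G) : G ⧸ H) = (g : G ⧸ H) := h1
  rw [eq_comm, QuotientGroup.eq] at h2
  rwa [mul_assoc]

theorem card_stab (hcard : Nat.card M24 = 244823040)
    (h5 : IsMultiplyPretransitive M24 GolayPt 5) (x : GolayPt) :
    Nat.card (stabilizer M24 x) = 10200960 := by
  have h1 : IsMultiplyPretransitive M24 GolayPt 1 := by
    apply isMultiplyPretransitive_of_le (n := 5) (by norm_num)
    simp [Nat.card_eq_fintype_card]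
  have h2 : IsPretransitive M24 GolayPt := is_one_pretransitive_iff.mp h1
  have h3 := (stabilizer M24 x).card_mul_index
  rw [index_stabilizer_of_transitive M24 x, card_golayPt, hcard] at h3
  omega

theorem eq_of_le_of_index {G : Type*} [Group G] [Finite G] {H K : Subgroup G} (h : H ≤ K)
    (hi : H.index = K.index) : H = K := by
  have h1 := Subgroup.relIndex_mul_index h
  rw [hi] at h1
  have h2 : K.index ≠ 0 := Subgroup.index_ne_zero_of_finite
  have h3 : H.relIndex K = 1 := by
    apply Nat.eq_of_mul_eq_mul_right (Nat.pos_of_ne_zero h2)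
    rw [h1, one_mul]
  exact le_antisymm h (Subgroup.relIndex_eq_one.mp h3)

/-- Key lemma: a subgroup of index 253 that is transitive on the complement of an octad through
`x` fixes that octad or has an orbit of length 21. -/
theorem orbit_card (hcard : Nat.card M24 = 244823040)
    (h5 : IsMultiplyPretransitive M24 GolayPt 5) {x : GolayPt}
    (H : Subgroup (stabilizer M24 x)) (hH : H.index = 253) {o : Finset GolayPt}
    (ho : o ∈ octads) (hx : x ∈ o) (ht : ∀ p, p ∉ o → ∀ q, q ∉ o → ∃ r ∈ H, r • p = q)
    {p : GolayPt} (hp : p ∉ o) :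
    x ∉ orbit H p ∧ ((o : Set GolayPt)ᶜ ⊆ orbit H p) ∧
      ((orbit H p).ncard = 16 ∨ (orbit H p).ncard = 21) := by
  classical
  have hfixx : ∀ h : H, h • x = x := fun h => (h : stabilizer M24 x).2
  have hxn : x ∉ orbit H p := by
    rintro ⟨h, hh⟩
    have h1 : h • p = x := hh
    have h2 : p = x := MulAction.injective h (h1.trans (hfixx h).symm)
    rw [h2] at hp
    exact hp hx
  have hsub : (o : Set GolayPt)ᶜ ⊆ orbit H p := by
    intro q hq
    obtain ⟨r, hr, hrq⟩ := ht p hp q (by simpa using hq)
    exact ⟨⟨r, hr⟩, hrq⟩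
  refine ⟨hxn, hsub, ?_⟩
  have hcH : Nat.card H = 40320 := by
    have h1 := H.card_mul_index
    rw [hH, card_stab hcard h5 x] at h1
    omega
  have h16 : 16 ≤ (orbit H p).ncard := by
    have h1 := Set.ncard_le_ncard hsub (Set.toFinite _)
    have h2 : ((o : Set GolayPt)ᶜ).ncard = 16 := by
      rw [← Finset.coe_compl, Set.ncard_coe_finset, Finset.card_compl, ho.2]
      simp
    omega
  have h23 : (orbit H p).ncard ≤ 23 := by
    have h1 : orbit H p ⊆ ((Finset.univ.erase x : Finset GolayPt) : Set GolayPt) := by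
      intro q hq
      simp only [Finset.coe_erase, Finset.coe_univ, Set.mem_sdiff, Set.mem_univ, true_and,
        Set.mem_singleton_iff]
      rintro rfl
      exact hxn hq
    have h2 := Set.ncard_le_ncard h1 (Set.toFinite _)
    rw [Set.ncard_coe_finset, Finset.card_erase_of_mem (Finset.mem_univ x), Finset.card_univ] at h2
    simpa using h2
  have hdvd : (orbit H p).ncard ∣ 40320 := by
    rw [← hcH, ← index_stabilizer]
    exact Subgroup.index_dvd_card _
  have : Fact (Nat.Prime 7) := ⟨by norm_num⟩
  obtain ⟨c, hc⟩ := exists_prime_orderOf_dvd_card' (G := H) 7 (by rw [hcH]; norm_num)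
  have hpg : IsPGroup 7 (Subgroup.zpowers c) := by
    apply IsPGroup.of_card (n := 1)
    rw [Nat.card_zpowers, hc, pow_one]
  have hmod := hpg.card_modEq_card_fixedPoints (orbit H p)
  have hle : Nat.card (fixedPoints (Subgroup.zpowers c) (orbit H p)) ≤ 2 := by
    by_contra hcon
    push Not at hcon
    rw [Nat.card_coe_set_eq] at hcon
    obtain ⟨T, hTF, hT3⟩ := Set.exists_subset_card_eq (show 3 ≤ _ from hcon)
    have hxT : x ∉ ((Subtype.val : orbit H p → GolayPt) '' T) := by
      rintro ⟨y, -, hy⟩
      exact hxn (Set.mem_of_eq_of_mem hy.symm y.2)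
    apply no_fix_four hcard h5 ((c : stabilizer M24 x) : M24) ?_
      (insert x ((Subtype.val : orbit H p → GolayPt) '' T)) ?_ ?_
    · rw [Subgroup.orderOf_coe, Subgroup.orderOf_coe, hc]
    · rw [Set.ncard_insert_of_notMem hxT (Set.toFinite _),
        Set.ncard_image_of_injective _ Subtype.val_injective, hT3]
    · intro q hq
      rcases hq with rfl | ⟨y, hy, rfl⟩
      · exact hfixx c
      · have h1 := hTF hy
        rw [mem_fixedPoints] at h1
        have h2 := h1 ⟨c, Subgroup.mem_zpowers c⟩
        have h3 := congrArg Subtype.val h2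
        exact h3
  rw [Nat.card_coe_set_eq] at hmod
  generalize (orbit H p).ncard = n at h16 h23 hdvd hmod ⊢
  generalize Nat.card (fixedPoints (Subgroup.zpowers c) (orbit H p)) = m at hle hmod
  unfold Nat.ModEq at hmod
  interval_cases n <;> first
    | exact Or.inl rfl
    | exact Or.inr rfl
    | (exfalso; omega)

theorem main (hcard : Nat.card M24 = 244823040)
    (h5 : IsMultiplyPretransitive M24 GolayPt 5) (hS : IsSteinerSystem 5 8 octads)
    (x : GolayPt) (hL : LocalInput x) (H : Subgroup (stabilizer M24 x)) (hH : H.index = 253) :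
    (∃ s : Finset GolayPt, s.card = 2 ∧ x ∉ s ∧
      H = (stabilizer M24 s).subgroupOf (stabilizer M24 x)) ∨
    ∃ o ∈ octads, x ∈ o ∧ H = (stabilizer M24 o).subgroupOf (stabilizer M24 x) := by
  classical
  obtain ⟨o₀, ho₀, hxo₀, R, hR, hRt⟩ := hL
  have : Fact (Nat.Prime 2) := ⟨Nat.prime_two⟩
  obtain ⟨g, hg⟩ := exists_conj_le H R 2 hR (by rw [hH]; decide)
  -- the conjugated octad
  obtain ⟨o, ho, hx, ht⟩ : ∃ o ∈ octads, x ∈ o ∧
      ∀ p, p ∉ o → ∀ q, q ∉ o → ∃ r ∈ H, r • p = q := by
    refine ⟨((g⁻¹ : stabilizer M24 x) : M24) • o₀, smul_mem_octads _ ho₀, ?_, ?_⟩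
    · have h1 : ((g⁻¹ : stabilizer M24 x) : M24) • x = x := (g⁻¹).2
      have h2 := Finset.smul_mem_smul_finset (a := ((g⁻¹ : stabilizer M24 x) : M24)) hxo₀
      rwa [h1] at h2
    · intro p hp q hq
      have hp' : g • p ∉ o₀ := by
        intro h
        apply hp
        have h2 := Finset.smul_mem_smul_finset (a := (g⁻¹ : stabilizer M24 x)) h
        rw [inv_smul_smul] at h2
        exact h2
      have hq' : g • q ∉ o₀ := by
        intro h
        apply hq
        have h2 := Finset.smul_mem_smul_finset (a := (g⁻¹ : stabilizer M24 x)) h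
        rw [inv_smul_smul] at h2
        exact h2
      obtain ⟨r, hr, hrq⟩ := hRt _ hp' _ hq'
      refine ⟨g⁻¹ * r * g, hg r hr, ?_⟩
      rw [mul_smul, mul_smul, hrq, inv_smul_smul]
  obtain ⟨p, hp⟩ : ∃ p, p ∉ o := by
    by_contra hcon
    push Not at hcon
    have h1 : o = Finset.univ := Finset.eq_univ_iff_forall.mpr hcon
    have h2 := ho.2
    rw [h1, Finset.card_univ] at h2
    simp at h2
  obtain ⟨hxn, hsub, hn⟩ := orbit_card hcard h5 H hH ho hx ht hp
  have hinv : ∀ h : H, h • (orbit H p) = orbit H p := fun h => smul_orbit h p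
  rcases hn with hn | hn
  · right
    refine ⟨o, ho, hx, ?_⟩
    have heq : (o : Set GolayPt)ᶜ = orbit H p := by
      apply Set.eq_of_subset_of_ncard_le hsub _ (Set.toFinite _)
      rw [hn, ← Finset.coe_compl, Set.ncard_coe_finset, Finset.card_compl, ho.2]
      simp
    have heq' : (o : Set GolayPt) = (orbit H p)ᶜ := by rw [← heq, compl_compl]
    apply eq_of_le_of_index
    · intro h hh
      rw [Subgroup.mem_subgroupOf, mem_stabilizer_iff]
      have h1 : (⟨h, hh⟩ : H) • (o : Set GolayPt) = (o : Set GolayPt) := by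
        rw [heq', Set.smul_set_compl, hinv]
      have h2 : ((h : M24) • o : Finset GolayPt) = o := by
        apply Finset.coe_injective
        rw [Finset.coe_smul_finset]
        exact h1
      exact h2
    · rw [hH]
      exact (index_octad h5 hS ho hx).symm
  · left
    have hfin : (orbit H p).Finite := Set.toFinite _
    obtain ⟨Δ, hΔ⟩ : ∃ Δ : Finset GolayPt, (Δ : Set GolayPt) = orbit H p := hfin.exists_finset_coe
    have hΔc : Δ.card = 21 := by rw [← Set.ncard_coe_finset, hΔ, hn]
    have hxΔ : x ∉ Δ := by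
      intro h
      apply hxn
      rw [← hΔ]
      exact h
    refine ⟨(insert x Δ)ᶜ, ?_, by simp, ?_⟩
    · rw [Finset.card_compl, Finset.card_insert_of_notMem hxΔ, hΔc]
      simp
    · apply eq_of_le_of_index
      · intro h hh
        rw [Subgroup.mem_subgroupOf, mem_stabilizer_iff]
        apply Finset.coe_injective
        rw [Finset.coe_smul_finset, Finset.coe_compl, Finset.coe_insert, hΔ]
        change (⟨h, hh⟩ : H) • (insert x (orbit H p))ᶜ = (insert x (orbit H p))ᶜ
        rw [Set.smul_set_compl, Set.smul_set_insert, hinv]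
        congr 2
        exact h.2
      · rw [hH]
        symm
        apply index_duad h5 _ (by simp)
        rw [Finset.card_compl, Finset.card_insert_of_notMem hxΔ, hΔc]
        simp

end Cfsg.Agent.SporadicStructure.M23Index253
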