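import Mathlib

/-!
# Subgroups of odd index of a permutation group of degree 24: abstract part

A group `G` acts on 24 points in such a way that an element of prime order `p ≥ 5` fixes at most
four points, and a subgroup `S` has a set `T ∪ T'` of eight points as an orbit with block system
`{T, T'}` and some local transitivity.  A subgroup `H` containing `S`, of order divisible by 5 but
not by 11 nor 23, then fixes `T ∪ T'` or a system of six 4-sets.
-/

set_option autoImplicit false
open MulAction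
open scoped Pointwise

namespace Cfsg.Agent.SporadicStructure.M24IndexAbs

variable {G Ω : Type*} [Group G] [MulAction G Ω]

/-- Fixed point congruence on an invariant finite set. -/
theorem card_filter_modEq {α : Type*} [DecidableEq α] [MulAction G α] {g : G} {p : ℕ}
    [hp : Fact p.Prime] (hg : g ^ p = 1) (s : Finset α) (hs : ∀ x ∈ s, g • x ∈ s) :
    s.card ≡ (s.filter fun x => g • x = x).card [MOD p] := by
  classical
  let f : Function.End s := fun x => ⟨g • (x : α), hs x x.2⟩
  have hfn : ∀ n : ℕ, ∀ x : s, (((f ^ n) x : s) : α) = g ^ n • (x : α) := by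
    intro n
    induction n with
    | zero => intro x; simp [Function.End.one_def]
    | succ n ih =>
      intro x
      rw [pow_succ]
      show (((f ^ n) (f x) : s) : α) = _
      rw [ih (f x)]
      show g ^ n • (g • (x : α)) = _
      rw [pow_succ, mul_smul]
  have hf : f ^ p ^ 1 = 1 := by
    funext x
    apply Subtype.ext
    rw [hfn, pow_one, hg, one_smul]
    rfl
  have h1 := Equiv.Perm.card_fixedPoints_modEq hf
  rw [Fintype.card_coe] at h1
  have h2 : Fintype.card (Function.fixedPoints f) = (s.filter fun x => g • x = x).card := by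
    rw [← Fintype.card_coe]
    refine Fintype.card_congr ⟨fun x => ⟨x.1.1, Finset.mem_filter.2 ⟨x.1.2, ?_⟩⟩,
      fun y => ⟨⟨y.1, (Finset.mem_filter.1 y.2).1⟩, ?_⟩, ?_, ?_⟩
    · exact congrArg Subtype.val x.2
    · exact Subtype.ext (Finset.mem_filter.1 y.2).2
    · intro x; rfl
    · intro y; rfl
  rw [h2] at h1
  exact h1

/-- An element of prime order `p` fixes each element of an invariant set with fewer than `p`
elements. -/
theorem smul_eq_of_card_lt {α : Type*} [DecidableEq α] [MulAction G α] {g : G} {p : ℕ}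
    [hp : Fact p.Prime] (hg : g ^ p = 1) (s : Finset α) (hs : ∀ x ∈ s, g • x ∈ s)
    (hc : s.card < p) : ∀ x ∈ s, g • x = x := by
  have h := card_filter_modEq hg s hs
  have hle := Finset.card_filter_le s (fun x => g • x = x)
  have h2 : (s.filter fun x => g • x = x).card = s.card := by
    have := Nat.ModEq.eq_of_lt_of_lt h hc (lt_of_le_of_lt hle hc)
    exact this.symm
  intro x hx
  have h3 : s.filter (fun x => g • x = x) = s :=
    Finset.eq_of_subset_of_card_le (Finset.filter_subset _ _) h2.ge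
  rw [← h3] at hx
  exact (Finset.mem_filter.1 hx).2

section Blocks

variable [DecidableEq Ω]

/-- `B` is a block of the subgroup `H`. -/
def IsBlk (H : Subgroup G) (B : Finset Ω) : Prop :=
  ∀ h ∈ H, (∃ z ∈ B, h • z ∈ B) → h • B = B

theorem IsBlk.disjoint {H : Subgroup G} {B : Finset Ω} (hB : IsBlk H B) {g h : G}
    (hg : g ∈ H) (hh : h ∈ H) (hne : g • B ≠ h • B) : Disjoint (g • B) (h • B) := by
  rw [Finset.disjoint_left]
  intro x hx hx'
  apply hne
  have h1 : (h⁻¹ * g) • B = B := by
    apply hB _ (H.mul_mem (H.inv_mem hh) hg)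
    obtain ⟨z, hz, rfl⟩ := Finset.mem_smul_finset.1 hx
    refine ⟨z, hz, ?_⟩
    obtain ⟨w, hw, hwz⟩ := Finset.mem_smul_finset.1 hx'
    rw [mul_smul, ← hwz, inv_smul_smul]
    exact hw
  rw [mul_smul, inv_smul_eq_iff] at h1
  exact h1

/-- The set of translates of `B` under `H`. -/
noncomputable def translates [Fintype Ω] (H : Subgroup G) (B : Finset Ω) : Finset (Finset Ω) := by
  classical
  exact Finset.univ.filter fun C => ∃ h ∈ H, h • B = C

theorem mem_translates [Fintype Ω] {H : Subgroup G} {B C : Finset Ω} :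
    C ∈ translates H B ↔ ∃ h ∈ H, h • B = C := by
  classical
  unfold translates
  exact Finset.mem_filter_univ C

theorem smul_mem_translates [Fintype Ω] {H : Subgroup G} {B C : Finset Ω} {g : G} (hg : g ∈ H)
    (hC : C ∈ translates H B) : g • C ∈ translates H B := by
  obtain ⟨h, hh, rfl⟩ := mem_translates.1 hC
  exact mem_translates.2 ⟨g * h, H.mul_mem hg hh, mul_smul _ _ _⟩

theorem card_of_mem_translates [Fintype Ω] {H : Subgroup G} {B C : Finset Ω}
    (hC : C ∈ translates H B) : C.card = B.card := by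
  obtain ⟨h, hh, rfl⟩ := mem_translates.1 hC
  exact Finset.card_smul_finset _ _

theorem IsBlk.pairwise [Fintype Ω] {H : Subgroup G} {B : Finset Ω} (hB : IsBlk H B) :
    ∀ C ∈ translates H B, ∀ D ∈ translates H B, C ≠ D → Disjoint C D := by
  intro C hC D hD hne
  obtain ⟨g, hg, rfl⟩ := mem_translates.1 hC
  obtain ⟨h, hh, rfl⟩ := mem_translates.1 hD
  exact hB.disjoint hg hh hne

theorem IsBlk.card_mul_le [Fintype Ω] {H : Subgroup G} {B : Finset Ω} (hB : IsBlk H B) :
    (translates H B).card * B.card ≤ Fintype.card Ω := by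
  have h1 : ((translates H B).biUnion id).card = ∑ C ∈ translates H B, C.card :=
    Finset.card_biUnion (fun C hC D hD hne => hB.pairwise C hC D hD hne)
  rw [Finset.sum_congr rfl (fun C hC => card_of_mem_translates hC), Finset.sum_const,
    smul_eq_mul] at h1
  rw [← h1]
  exact Finset.card_le_univ _

theorem IsBlk.card_mul_eq [Fintype Ω] {H : Subgroup G} {B : Finset Ω} (hB : IsBlk H B)
    (ht : ∀ x : Ω, ∃ h ∈ H, x ∈ h • B) :
    (translates H B).card * B.card = Fintype.card Ω := by
  have h1 : ((translates H B).biUnion id).card = ∑ C ∈ translates H B, C.card :=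
    Finset.card_biUnion (fun C hC D hD hne => hB.pairwise C hC D hD hne)
  rw [Finset.sum_congr rfl (fun C hC => card_of_mem_translates hC), Finset.sum_const,
    smul_eq_mul] at h1
  rw [← h1]
  have : (translates H B).biUnion id = Finset.univ := by
    rw [Finset.eq_univ_iff_forall]
    intro x
    obtain ⟨h, hh, hx⟩ := ht x
    exact Finset.mem_biUnion.2 ⟨_, mem_translates.2 ⟨h, hh, rfl⟩, hx⟩
  rw [this]
  rfl

/-- Local data: a subgroup `S` with `T ∪ T'` an orbit, block system `{T, T'}`. -/
structure Loc (S : Subgroup G) (T T' : Finset Ω) (x₀ : Ω) : Prop where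
  cardT : T.card = 4
  cardT' : T'.card = 4
  disj : Disjoint T T'
  x₀_mem : x₀ ∈ T
  swap : ∀ s ∈ S, (s • T = T ∧ s • T' = T') ∨ (s • T = T' ∧ s • T' = T)
  transO : ∀ z ∈ T ∪ T', ∃ s ∈ S, s • x₀ = z
  transT' : ∀ d ∈ T', ∀ d' ∈ T', ∃ s ∈ S, s • x₀ = x₀ ∧ s • d = d'
  transE : ∀ e, e ∉ T ∪ T' → ∀ e', e' ∉ T ∪ T' → ∃ s ∈ S, s • x₀ = x₀ ∧ s • e = e'
  klein : ∀ u ∈ T, u ≠ x₀ → ∃ v ∈ T, v ≠ x₀ ∧ v ≠ u ∧ ∃ s ∈ S, s • x₀ = v ∧ s • u ≠ u

/-- An element of prime order at least 5 fixes at most 4 points. -/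
def FixBound (G Ω : Type*) [Group G] [MulAction G Ω] [Fintype Ω] [DecidableEq Ω] : Prop :=
  ∀ p : ℕ, p.Prime → 5 ≤ p → ∀ g : G, g ≠ 1 → g ^ p = 1 →
    (Finset.univ.filter fun x : Ω => g • x = x).card ≤ 4

namespace Loc

variable {S : Subgroup G} {T T' : Finset Ω} {x₀ : Ω}

theorem smul_union (L : Loc S T T' x₀) {s : G} (hs : s ∈ S) : s • (T ∪ T') = T ∪ T' := by
  rw [Finset.smul_finset_union]
  rcases L.swap s hs with ⟨h1, h2⟩ | ⟨h1, h2⟩
  · rw [h1, h2]
  · rw [h1, h2, Finset.union_comm]

theorem card_union (L : Loc S T T' x₀) : (T ∪ T').card = 8 := by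
  rw [Finset.card_union_of_disjoint L.disj, L.cardT, L.cardT']

theorem exists_mem_T (L : Loc S T T' x₀) {z : Ω} (hz : z ∈ T) :
    ∃ s ∈ S, s • x₀ = z ∧ s • T = T ∧ s • T' = T' := by
  obtain ⟨s, hs, hsz⟩ := L.transO z (Finset.mem_union_left _ hz)
  refine ⟨s, hs, hsz, ?_⟩
  rcases L.swap s hs with h | ⟨h1, -⟩
  · exact h
  · exfalso
    have h3 : z ∈ s • T := by rw [← hsz]; exact Finset.smul_mem_smul_finset L.x₀_mem
    rw [h1] at h3
    exact Finset.disjoint_left.1 L.disj hz h3

theorem exists_mem_T' (L : Loc S T T' x₀) {z : Ω} (hz : z ∈ T') :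
    ∃ s ∈ S, s • x₀ = z ∧ s • T = T' ∧ s • T' = T := by
  obtain ⟨s, hs, hsz⟩ := L.transO z (Finset.mem_union_right _ hz)
  refine ⟨s, hs, hsz, ?_⟩
  rcases L.swap s hs with ⟨h1, -⟩ | h
  · exfalso
    have h3 : z ∈ s • T := by rw [← hsz]; exact Finset.smul_mem_smul_finset L.x₀_mem
    rw [h1] at h3
    exact Finset.disjoint_left.1 L.disj h3 hz
  · exact h

end Loc

variable [Fintype Ω]

/-- A fixed point lower bound from two disjoint invariant sets. -/
theorem fix_two {g : G} {C D : Finset Ω} (hd : Disjoint C D) {m n : ℕ}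
    (hC : m ≤ (C.filter fun x => g • x = x).card) (hD : n ≤ (D.filter fun x => g • x = x).card) :
    m + n ≤ (Finset.univ.filter fun x : Ω => g • x = x).card := by
  have h1 : (C.filter fun x => g • x = x) ∪ (D.filter fun x => g • x = x) ⊆
      Finset.univ.filter fun x : Ω => g • x = x := by
    intro x hx
    rcases Finset.mem_union.1 hx with h | h
    · exact Finset.mem_filter.2 ⟨Finset.mem_univ _, (Finset.mem_filter.1 h).2⟩
    · exact Finset.mem_filter.2 ⟨Finset.mem_univ _, (Finset.mem_filter.1 h).2⟩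
  have h2 := Finset.card_le_card h1
  rw [Finset.card_union_of_disjoint] at h2
  · omega
  · exact Finset.disjoint_of_subset_left (Finset.filter_subset _ _)
      (Finset.disjoint_of_subset_right (Finset.filter_subset _ _) hd)

omit [Fintype Ω] in
theorem filter_card_eq {g : G} {C : Finset Ω} (h : ∀ x ∈ C, g • x = x) :
    (C.filter fun x => g • x = x).card = C.card := by
  rw [Finset.filter_true_of_mem h]

theorem exists_prime_elem [Finite G] (H : Subgroup G) (p : ℕ) [hp : Fact p.Prime]
    (h : p ∣ Nat.card H) : ∃ g ∈ H, g ≠ 1 ∧ g ^ p = 1 := by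
  obtain ⟨g, hg⟩ := exists_prime_orderOf_dvd_card' (G := H) p h
  refine ⟨g, g.2, ?_, ?_⟩
  · intro h1
    have : g = 1 := Subtype.ext h1
    rw [this, orderOf_one] at hg
    exact hp.out.one_lt.ne hg
  · have := pow_orderOf_eq_one g
    rw [hg] at this
    exact_mod_cast congrArg Subtype.val this

section Main

variable [Finite G] {S : Subgroup G} {T T' : Finset Ω} {x₀ : Ω}

/-- The union is not a block, unless it is fixed. -/
theorem not_isBlk (h24 : Fintype.card Ω = 24) (hfix : FixBound G Ω) (L : Loc S T T' x₀)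
    (H : Subgroup G) (h5 : 5 ∣ Nat.card H) {h₀ : G} (hh₀ : h₀ ∈ H)
    (hne : h₀ • (T ∪ T') ≠ T ∪ T') : ¬ IsBlk H (T ∪ T') := by
  intro hB
  have : Fact (Nat.Prime 5) := ⟨by norm_num⟩
  obtain ⟨g, hg, hg1, hg5⟩ := exists_prime_elem H 5 h5
  have hc := hB.card_mul_le
  rw [L.card_union, h24] at hc
  have hall := smul_eq_of_card_lt hg5 (translates H (T ∪ T'))
    (fun C hC => smul_mem_translates hg hC) (by omega)
  have h1 : T ∪ T' ∈ translates H (T ∪ T') := mem_translates.2 ⟨1, H.one_mem, one_smul _ _⟩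
  have h2 : h₀ • (T ∪ T') ∈ translates H (T ∪ T') := mem_translates.2 ⟨h₀, hh₀, rfl⟩
  have key : ∀ C ∈ translates H (T ∪ T'), 3 ≤ (C.filter fun x => g • x = x).card := by
    intro C hC
    have h3 := card_filter_modEq hg5 C (fun x hx => by
      have := Finset.smul_mem_smul_finset (a := g) hx
      rwa [hall C hC] at this)
    rw [card_of_mem_translates hC, L.card_union] at h3
    unfold Nat.ModEq at h3
    omega
  have h3 := fix_two (hB.pairwise _ h2 _ h1 hne) (key _ h2) (key _ h1)
  have h4 := hfix 5 (by norm_num) le_rfl g hg1 hg5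
  omega

/-- Some element of the stabiliser of `x₀` moves a point of `T'` out of `T ∪ T'`. -/
theorem exists_move (h24 : Fintype.card Ω = 24) (hfix : FixBound G Ω) (L : Loc S T T' x₀)
    (H : Subgroup G) (hS : S ≤ H) (h5 : 5 ∣ Nat.card H) {h₀ : G} (hh₀ : h₀ ∈ H)
    (hne : h₀ • (T ∪ T') ≠ T ∪ T') :
    ∃ h ∈ H, h • x₀ = x₀ ∧ ∃ d ∈ T', h • d ∉ T ∪ T' := by
  by_contra hcon
  push Not at hcon
  apply not_isBlk h24 hfix L H h5 hh₀ hne
  have hstar : ∀ h ∈ H, h • x₀ ∈ T ∪ T' → ∀ d ∈ T', h • d ∈ T ∪ T' := by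
    intro h hh hx d hd
    obtain ⟨s, hs, hsx⟩ := L.transO _ hx
    have h1 : (s⁻¹ * h) • x₀ = x₀ := by rw [mul_smul, ← hsx, inv_smul_smul]
    have h2 := hcon _ (H.mul_mem (H.inv_mem (hS hs)) hh) h1 d hd
    have h3 := Finset.smul_mem_smul_finset (a := s) h2
    rwa [L.smul_union hs, mul_smul, smul_inv_smul] at h3
  have hT : ∀ h ∈ H, ∀ z ∈ T, h • z ∈ T ∪ T' → ∀ d ∈ T', h • d ∈ T ∪ T' := by
    intro h hh z hz hhz d hd
    obtain ⟨s, hs, hsx, -, hsT'⟩ := L.exists_mem_T hz
    rw [← hsT'] at hd
    obtain ⟨d', hd', rfl⟩ := Finset.mem_smul_finset.1 hd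
    rw [← mul_smul]
    apply hstar _ (H.mul_mem hh (hS hs)) _ d' hd'
    rwa [mul_smul, hsx]
  have hT' : ∀ h ∈ H, ∀ z ∈ T', h • z ∈ T ∪ T' → ∀ d ∈ T, h • d ∈ T ∪ T' := by
    intro h hh z hz hhz d hd
    obtain ⟨s, hs, hsx, -, hsT'⟩ := L.exists_mem_T' hz
    rw [← hsT'] at hd
    obtain ⟨d', hd', rfl⟩ := Finset.mem_smul_finset.1 hd
    rw [← mul_smul]
    apply hstar _ (H.mul_mem hh (hS hs)) _ d' hd'
    rwa [mul_smul, hsx]
  rintro h hh ⟨z, hz, hhz⟩
  have hne' : T'.Nonempty := by
    rw [← Finset.card_pos, L.cardT']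
    norm_num
  obtain ⟨d₀, hd₀⟩ := hne'
  have hall : (∀ t ∈ T, h • t ∈ T ∪ T') ∧ ∀ t ∈ T', h • t ∈ T ∪ T' := by
    rcases Finset.mem_union.1 hz with hz | hz
    · have h1 := hT h hh z hz hhz
      exact ⟨hT' h hh d₀ hd₀ (h1 d₀ hd₀), h1⟩
    · have h1 := hT' h hh z hz hhz
      exact ⟨h1, hT h hh x₀ L.x₀_mem (h1 x₀ L.x₀_mem)⟩
  apply Finset.eq_of_subset_of_card_le
  · intro y hy
    obtain ⟨w, hw, rfl⟩ := Finset.mem_smul_finset.1 hy
    rcases Finset.mem_union.1 hw with hw | hw
    · exact hall.1 w hw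
    · exact hall.2 w hw
  · rw [Finset.card_smul_finset]

/-- The set `T` is a block. -/
theorem isBlk_T (h24 : Fintype.card Ω = 24) (hfix : FixBound G Ω) (L : Loc S T T' x₀)
    (H : Subgroup G) (hS : S ≤ H) (h5 : 5 ∣ Nat.card H) (h11 : ¬ 11 ∣ Nat.card H)
    (h23 : ¬ 23 ∣ Nat.card H) {h₀ : G} (hh₀ : h₀ ∈ H)
    (hne : h₀ • (T ∪ T') ≠ T ∪ T') : IsBlk H T := by
  classical
  obtain ⟨h, hh, hhx, d, hd, hde⟩ := exists_move h24 hfix L H hS h5 hh₀ hne
  obtain ⟨e₀, he₀⟩ : ∃ e₀, h • d = e₀ := ⟨_, rfl⟩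
  rw [he₀] at hde
  let K : Subgroup G := H ⊓ stabilizer G x₀
  have hK : ∀ {k : G}, k ∈ K ↔ k ∈ H ∧ k • x₀ = x₀ := by
    intro k
    rw [Subgroup.mem_inf, mem_stabilizer_iff]
  let Γ : Finset Ω := Finset.univ.filter fun y => ∃ k ∈ K, k • e₀ = y
  have hΓ : ∀ {y : Ω}, y ∈ Γ ↔ ∃ k ∈ K, k • e₀ = y := by
    intro y
    exact Finset.mem_filter_univ y
  have hKΓ : ∀ k ∈ K, ∀ y, k • y ∈ Γ ↔ y ∈ Γ := by
    intro k hk y
    constructor
    · intro hy
      obtain ⟨m, hm, hmy⟩ := hΓ.1 hy
      exact hΓ.2 ⟨k⁻¹ * m, K.mul_mem (K.inv_mem hk) hm, by rw [mul_smul, hmy, inv_smul_smul]⟩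
    · intro hy
      obtain ⟨m, hm, hmy⟩ := hΓ.1 hy
      exact hΓ.2 ⟨k * m, K.mul_mem hk hm, by rw [mul_smul, hmy]⟩
  have hxe : x₀ ≠ e₀ := by
    rintro rfl
    exact hde (Finset.mem_union_left _ L.x₀_mem)
  have hxΓ : x₀ ∉ Γ := by
    intro hx
    obtain ⟨k, hk, hkx⟩ := hΓ.1 hx
    have h1 := (hK.1 hk).2
    exact hxe (MulAction.injective k (h1.trans hkx.symm))
  have hEΓ : ∀ e, e ∉ T ∪ T' → e ∈ Γ := by
    intro e he
    obtain ⟨s, hs, hsx, hse⟩ := L.transE e₀ hde e he
    exact hΓ.2 ⟨s, hK.2 ⟨hS hs, hsx⟩, hse⟩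
  have hT'Γ : ∀ y ∈ T', y ∈ Γ := by
    intro y hy
    obtain ⟨s, hs, hsx, hsd⟩ := L.transT' d hd y hy
    refine hΓ.2 ⟨s * h⁻¹, K.mul_mem (hK.2 ⟨hS hs, hsx⟩) (K.inv_mem (hK.2 ⟨hh, hhx⟩)), ?_⟩
    rw [mul_smul, ← he₀, inv_smul_smul, hsd]
  -- the complement
  obtain ⟨N, hN⟩ : ∃ N : Finset Ω, Γᶜ = N := ⟨_, rfl⟩
  have hmemN : ∀ {y : Ω}, y ∈ N ↔ y ∉ Γ := by
    intro y
    rw [← hN, Finset.mem_compl]
  have hNT : N ⊆ T := by
    intro y hy
    by_contra hyT
    rw [hmemN] at hy
    by_cases hyT' : y ∈ T'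
    · exact hy (hT'Γ y hyT')
    · exact hy (hEΓ y (by rw [Finset.mem_union]; tauto))
  have hxN : x₀ ∈ N := hmemN.2 hxΓ
  have hcardN : Γ.card + N.card = 24 := by
    rw [← hN, Finset.card_add_card_compl, h24]
  have hN4 : N.card ≤ 4 := by
    have := Finset.card_le_card hNT
    rwa [L.cardT] at this
  have hN1 : 1 ≤ N.card := Finset.card_pos.2 ⟨x₀, hxN⟩
  have hdvd : Γ.card ∣ Nat.card H := by
    have h1 : (Γ : Set Ω) = orbit K e₀ := by
      ext y
      rw [Finset.mem_coe, hΓ]
      constructor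
      · rintro ⟨k, hk, rfl⟩
        exact ⟨⟨k, hk⟩, rfl⟩
      · rintro ⟨k, rfl⟩
        exact ⟨k, k.2, rfl⟩
    have h2 : Γ.card = (orbit K e₀).ncard := by
      rw [← h1, Set.ncard_coe_finset]
    rw [h2, ← index_stabilizer]
    exact (Subgroup.index_dvd_card _).trans (Subgroup.card_dvd_of_le inf_le_left)
  have hKN : ∀ k ∈ K, k • N = N := by
    intro k hk
    ext y
    constructor
    · intro hy
      obtain ⟨z, hz, rfl⟩ := Finset.mem_smul_finset.1 hy
      rw [hmemN] at hz ⊢
      rwa [hKΓ k hk]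
    · intro hy
      rw [hmemN] at hy
      refine Finset.mem_smul_finset.2 ⟨k⁻¹ • y, ?_, smul_inv_smul _ _⟩
      rw [hmemN, hKΓ _ (K.inv_mem hk)]
      exact hy
  have hcases : N.card = 3 ∨ N.card = 4 := by
    have : N.card = 1 ∨ N.card = 2 ∨ N.card = 3 ∨ N.card = 4 := by omega
    rcases this with h1 | h1 | h1 | h1
    · exfalso
      apply h23
      have : Γ.card = 23 := by omega
      rwa [this] at hdvd
    · exfalso
      apply h11
      have : Γ.card = 22 := by omega
      rw [this] at hdvd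
      exact (by norm_num : 11 ∣ 22).trans hdvd
    · exact Or.inl h1
    · exact Or.inr h1
  have hNeqT : N = T := by
    rcases hcases with h3 | h4
    · exfalso
      obtain ⟨u, huT, huN⟩ : ∃ u ∈ T, u ∉ N := by
        by_contra hcon
        push Not at hcon
        have := Finset.card_le_card (show T ⊆ N from hcon)
        rw [L.cardT] at this
        omega
      have hNu : ∀ y ∈ T, y ≠ u → y ∈ N := by
        intro y hy hyu
        by_contra hyN
        have h5 : N ⊆ (T.erase u).erase y := by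
          intro w hw
          rw [Finset.mem_erase, Finset.mem_erase]
          refine ⟨?_, ?_, hNT hw⟩
          · rintro rfl; exact hyN hw
          · rintro rfl; exact huN hw
        have h6 := Finset.card_le_card h5
        rw [Finset.card_erase_of_mem (Finset.mem_erase.2 ⟨hyu, hy⟩),
          Finset.card_erase_of_mem huT, L.cardT] at h6
        omega
      have hux : u ≠ x₀ := by
        rintro rfl; exact huN hxN
      obtain ⟨v, hvT, hvx, hvu, s, hs, hsx, hsu⟩ := L.klein u huT hux
      have huΓ : u ∈ Γ := by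
        by_contra h7
        exact huN (hmemN.2 h7)
      obtain ⟨k, hk, hku⟩ := hΓ.1 huΓ
      have hk' := K.inv_mem hk
      -- `k⁻¹` moves `u` to `e₀`
      have hkv : k⁻¹ • v ∈ N := by
        have := Finset.smul_mem_smul_finset (a := k⁻¹) (hNu v hvT hvu)
        rwa [hKN _ hk'] at this
      obtain ⟨r, hr, hrx, hrT, -⟩ := L.exists_mem_T (hNT hkv)
      have hm : r⁻¹ * k⁻¹ * s ∈ K := by
        rw [hK]
        refine ⟨H.mul_mem (H.mul_mem (H.inv_mem (hS hr)) (hK.1 hk').1) (hS hs), ?_⟩
        rw [mul_smul, mul_smul, hsx, ← hrx, inv_smul_smul]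
      have hsT : s • T = T := by
        rcases L.swap s hs with h8 | ⟨h8, -⟩
        · exact h8.1
        · exfalso
          have h9 : v ∈ s • T := by rw [← hsx]; exact Finset.smul_mem_smul_finset L.x₀_mem
          rw [h8] at h9
          exact Finset.disjoint_left.1 L.disj hvT h9
      have hus : u ∈ s • N := by
        refine Finset.mem_smul_finset.2 ⟨s⁻¹ • u, ?_, smul_inv_smul _ _⟩
        apply hNu
        · have h9 : s⁻¹ • T = T := by rw [inv_smul_eq_iff, hsT]
          rw [← h9]
          exact Finset.smul_mem_smul_finset huT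
        · intro h9
          apply hsu
          rw [inv_smul_eq_iff] at h9
          exact h9.symm
      have h10 : k⁻¹ • u ∈ T := by
        have h11 := Finset.smul_mem_smul_finset (a := k⁻¹) hus
        have h12 : k⁻¹ • s • N = r • N := by
          conv_rhs => rw [← hKN _ hm]
          rw [← mul_smul, ← mul_smul]
          congr 1
          group
        rw [h12] at h11
        rw [← hrT]
        exact Finset.smul_finset_subset_smul_finset hNT h11
      rw [← hku, inv_smul_smul] at h10
      exact hde (Finset.mem_union_left _ h10)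
    · exact Finset.eq_of_subset_of_card_le hNT (by rw [h4, L.cardT])
  -- conclusion
  rintro m hm ⟨z, hz, hmz⟩
  obtain ⟨s, hs, hsx, hsT, -⟩ := L.exists_mem_T hz
  obtain ⟨r, hr, hrx, hrT, -⟩ := L.exists_mem_T hmz
  have h1 : r⁻¹ * m * s ∈ K := by
    rw [hK]
    refine ⟨H.mul_mem (H.mul_mem (H.inv_mem (hS hr)) hm) (hS hs), ?_⟩
    rw [mul_smul, mul_smul, hsx, ← hrx, inv_smul_smul]
  have h2 := hKN _ h1
  rw [hNeqT, mul_smul, mul_smul, hsT, inv_smul_eq_iff, hrT] at h2
  exact h2

/-- The main theorem. -/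
theorem main (h24 : Fintype.card Ω = 24) (hfix : FixBound G Ω) (L : Loc S T T' x₀)
    (H : Subgroup G) (hS : S ≤ H) (h5 : 5 ∣ Nat.card H) (h11 : ¬ 11 ∣ Nat.card H)
    (h23 : ¬ 23 ∣ Nat.card H) :
    (∀ h ∈ H, h • (T ∪ T') = T ∪ T') ∨
      (¬ 7 ∣ Nat.card H ∧ ∃ X : Finset (Finset Ω), X.card = 6 ∧ (∀ C ∈ X, C.card = 4) ∧
        (∀ C ∈ X, ∀ D ∈ X, C ≠ D → ∃ h ∈ H, C ∪ D = h • (T ∪ T')) ∧
        ∀ h ∈ H, ∀ C ∈ X, h • C ∈ X) := by
  classical
  by_cases hO : ∀ h ∈ H, h • (T ∪ T') = T ∪ T'
  · exact Or.inl hO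
  right
  push Not at hO
  obtain ⟨h₀, hh₀, hne⟩ := hO
  have hB := isBlk_T h24 hfix L H hS h5 h11 h23 hh₀ hne
  obtain ⟨z₀, hz₀, hz₀'⟩ : ∃ z ∈ T ∪ T', h₀ • z ∉ T ∪ T' := by
    by_contra hcon
    push Not at hcon
    apply hne
    apply Finset.eq_of_subset_of_card_le
    · intro y hy
      obtain ⟨w, hw, rfl⟩ := Finset.mem_smul_finset.1 hy
      exact hcon w hw
    · rw [Finset.card_smul_finset]
  have htr : ∀ x : Ω, ∃ h ∈ H, x ∈ h • T := by
    intro x
    have key : ∀ x : Ω, (∃ h ∈ H, h • x₀ = x) → ∃ h ∈ H, x ∈ h • T := by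
      rintro _ ⟨h, hh, rfl⟩
      exact ⟨h, hh, Finset.smul_mem_smul_finset L.x₀_mem⟩
    apply key
    by_cases hx : x ∈ T ∪ T'
    · obtain ⟨s, hs, hsx⟩ := L.transO x hx
      exact ⟨s, hS hs, hsx⟩
    · obtain ⟨s, hs, hsz⟩ := L.transO z₀ hz₀
      obtain ⟨r, hr, -, hrx⟩ := L.transE _ hz₀' x hx
      refine ⟨r * h₀ * s, H.mul_mem (H.mul_mem (hS hr) hh₀) (hS hs), ?_⟩
      rw [mul_smul, mul_smul, hsz, hrx]
  have hX := hB.card_mul_eq htr
  rw [L.cardT, h24] at hX
  have hX6 : (translates H T).card = 6 := by omega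
  have hTX : T ∈ translates H T := mem_translates.2 ⟨1, H.one_mem, one_smul _ _⟩
  have hT'X : T' ∈ translates H T := by
    have : T'.Nonempty := by rw [← Finset.card_pos, L.cardT']; norm_num
    obtain ⟨d, hd⟩ := this
    obtain ⟨s, hs, -, hsT, -⟩ := L.exists_mem_T' hd
    exact mem_translates.2 ⟨s, hS hs, hsT⟩
  have hTT' : T' ≠ T := by
    rintro rfl
    exact Finset.disjoint_left.1 L.disj L.x₀_mem L.x₀_mem
  -- an element of prime order at least 5 fixes at most one block
  have hone : ∀ p : ℕ, p.Prime → 5 ≤ p → ∀ g : G, g ≠ 1 → g ^ p = 1 →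
      ∀ C ∈ translates H T, ∀ D ∈ translates H T, g • C = C → g • D = D → C = D := by
    intro p hp hp5 g hg1 hgp C hC D hD hgC hgD
    by_contra hCD
    have : Fact p.Prime := ⟨hp⟩
    have key : ∀ C ∈ translates H T, g • C = C → (C.filter fun x => g • x = x).card = 4 := by
      intro C hC hgC
      have hC4 : C.card = 4 := by rw [card_of_mem_translates hC, L.cardT]
      have h1 := smul_eq_of_card_lt hgp C (fun x hx => by
        have := Finset.smul_mem_smul_finset (a := g) hx
        rwa [hgC] at this) (by omega)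
      rw [filter_card_eq h1, hC4]
    have h2 := fix_two (hB.pairwise _ hC _ hD hCD) (key C hC hgC).ge (key D hD hgD).ge
    have h3 := hfix p hp hp5 g hg1 hgp
    omega
  refine ⟨?_, translates H T, hX6, ?_, ?_, ?_⟩
  · -- no element of order 7
    intro h7
    have : Fact (Nat.Prime 7) := ⟨by norm_num⟩
    obtain ⟨g, hg, hg1, hg7⟩ := exists_prime_elem H 7 h7
    have h1 := smul_eq_of_card_lt hg7 (translates H T)
      (fun C hC => smul_mem_translates hg hC) (by omega)
    exact hTT' (hone 7 (by norm_num) (by norm_num) g hg1 hg7 _ hT'X _ hTX (h1 _ hT'X) (h1 _ hTX))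
  · intro C hC
    rw [card_of_mem_translates hC, L.cardT]
  · -- pairs of blocks
    have : Fact (Nat.Prime 5) := ⟨by norm_num⟩
    obtain ⟨g, hg, hg1, hg5⟩ := exists_prime_elem H 5 h5
    have h1 := card_filter_modEq hg5 (translates H T) (fun C hC => smul_mem_translates hg hC)
    rw [hX6] at h1
    have h2 : 0 < ((translates H T).filter fun C => g • C = C).card := by
      unfold Nat.ModEq at h1
      omega
    obtain ⟨C₀, hC₀⟩ := Finset.card_pos.1 h2
    rw [Finset.mem_filter] at hC₀
    obtain ⟨k, hk, hkC⟩ := mem_translates.1 hC₀.1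
    -- the conjugate fixing `T`
    obtain ⟨g', hg'⟩ : ∃ g', g' = k⁻¹ * g * k := ⟨_, rfl⟩
    have hg'H : g' ∈ H := by rw [hg']; exact H.mul_mem (H.mul_mem (H.inv_mem hk) hg) hk
    have hg'T : g' • T = T := by
      rw [hg', mul_smul, mul_smul, hkC, hC₀.2, ← hkC, inv_smul_smul]
    have hg'5 : g' ^ 5 = 1 := by
      have : g' = k⁻¹ * g * k⁻¹⁻¹ := by rw [hg', inv_inv]
      rw [this, conj_pow, hg5, mul_one, mul_inv_cancel]
    have hg'1 : g' ≠ 1 := by
      intro h3
      apply hg1
      rw [hg'] at h3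
      have h4 : g = k * (k⁻¹ * g * k) * k⁻¹ := by group
      rw [h4, h3]
      group
    have hmove : ∀ C ∈ translates H T, C ≠ T → g' • C ≠ C := by
      intro C hC hCT hgC
      exact hCT (hone 5 (by norm_num) le_rfl g' hg'1 hg'5 _ hC _ hTX hgC hg'T)
    -- powers of `g'` move `T'` through all blocks other than `T`
    have hpow : ∀ n : ℕ, g' ^ n • T = T := by
      intro n
      induction n with
      | zero => rw [pow_zero, one_smul]
      | succ n ih => rw [pow_succ, mul_smul, hg'T, ih]
    have hmemY : ∀ n : ℕ, g' ^ n • T' ∈ (translates H T).erase T := by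
      intro n
      rw [Finset.mem_erase]
      refine ⟨?_, smul_mem_translates (H.pow_mem hg'H n) hT'X⟩
      intro h3
      apply hTT'
      have h4 := hpow n
      rw [← h4] at h3
      exact smul_left_cancel _ h3
    have hinj : Set.InjOn (fun n : ℕ => g' ^ n • T') (Finset.range 5 : Finset ℕ) := by
      have hstep : ∀ i j : ℕ, i < j → j < 5 → g' ^ i • T' ≠ g' ^ j • T' := by
        intro i j hij hj heq
        obtain ⟨m, rfl⟩ := Nat.exists_eq_add_of_lt hij
        have h3 : g' ^ (m + 1) • T' = T' := by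
          rw [add_assoc, pow_add, mul_smul] at heq
          exact (smul_left_cancel _ heq).symm
        apply hmove _ hT'X hTT'
        have hm : m + 1 < 5 := by omega
        have h4 : ∀ n : ℕ, (g' ^ (m + 1)) ^ n • T' = T' := by
          intro n
          induction n with
          | zero => rw [pow_zero, one_smul]
          | succ n ih => rw [pow_succ, mul_smul, h3, ih]
        have h5 : ∃ n : ℕ, (g' ^ (m + 1)) ^ n = g' := by
          have hcop : Nat.Coprime (m + 1) 5 := by
            have : m < 4 := by omega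
            interval_cases m <;> decide
          have : m < 4 := by omega
          interval_cases m
          · exact ⟨1, by simp⟩
          · refine ⟨3, ?_⟩
            rw [← pow_mul, show (1 + 1) * 3 = 5 + 1 by norm_num, pow_add, hg'5, one_mul, pow_one]
          · refine ⟨2, ?_⟩
            rw [← pow_mul, show (2 + 1) * 2 = 5 + 1 by norm_num, pow_add, hg'5, one_mul, pow_one]
          · refine ⟨4, ?_⟩
            rw [← pow_mul, show (3 + 1) * 4 = 5 * 3 + 1 by norm_num, pow_add, pow_mul, hg'5,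
              one_pow, one_mul, pow_one]
        obtain ⟨n, hn⟩ := h5
        have h6 := h4 n
        rwa [hn] at h6
      intro i hi j hj hij
      have hi' : i < 5 := by simpa using hi
      have hj' : j < 5 := by simpa using hj
      rcases lt_trichotomy i j with h3 | h3 | h3
      · exact absurd hij (hstep i j h3 hj')
      · exact h3
      · exact absurd hij.symm (hstep j i h3 hi')
    have himg : (Finset.range 5).image (fun n : ℕ => g' ^ n • T') = (translates H T).erase T := by
      apply Finset.eq_of_subset_of_card_le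
      · intro C hC
        obtain ⟨n, -, rfl⟩ := Finset.mem_image.1 hC
        exact hmemY n
      · rw [Finset.card_image_of_injOn hinj, Finset.card_erase_of_mem hTX, hX6, Finset.card_range]
    have hT : ∀ C ∈ translates H T, C ≠ T → ∃ h ∈ H, T ∪ C = h • (T ∪ T') := by
      intro C hC hCT
      have h3 : C ∈ (translates H T).erase T := Finset.mem_erase.2 ⟨hCT, hC⟩
      rw [← himg] at h3
      obtain ⟨n, -, rfl⟩ := Finset.mem_image.1 h3
      refine ⟨g' ^ n, H.pow_mem hg'H n, ?_⟩
      rw [Finset.smul_finset_union, hpow]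
    intro C hC D hD hCD
    obtain ⟨h, hh, rfl⟩ := mem_translates.1 hC
    have h3 := smul_mem_translates (H.inv_mem hh) hD
    have h4 : h⁻¹ • D ≠ T := by
      intro h5
      apply hCD
      rw [← h5, smul_inv_smul]
    obtain ⟨m, hm, hm'⟩ := hT _ h3 h4
    refine ⟨h * m, H.mul_mem hh hm, ?_⟩
    rw [mul_smul, ← hm', Finset.smul_finset_union, smul_inv_smul]
  · intro h hh C hC
    exact smul_mem_translates hh hC

end Main

section Index276

variable [Finite G]

/-- The orbit of a point as a finite set. -/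
noncomputable def orb (K : Subgroup G) (x : Ω) : Finset Ω := by
  classical
  exact Finset.univ.filter fun y => ∃ k ∈ K, k • x = y

omit [DecidableEq Ω] [Finite G] in
theorem mem_orb {K : Subgroup G} {x y : Ω} : y ∈ orb K x ↔ ∃ k ∈ K, k • x = y := by
  classical
  unfold orb
  exact Finset.mem_filter_univ y

omit [DecidableEq Ω] [Finite G] in
theorem card_orb_dvd (K : Subgroup G) (x : Ω) : (orb K x).card ∣ Nat.card K := by
  have h1 : (orb K x : Set Ω) = orbit K x := by
    ext y
    rw [Finset.mem_coe, mem_orb]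
    constructor
    · rintro ⟨k, hk, rfl⟩
      exact ⟨⟨k, hk⟩, rfl⟩
    · rintro ⟨k, rfl⟩
      exact ⟨k, k.2, rfl⟩
  have h2 : (orb K x).card = (orbit K x).ncard := by
    rw [← h1, Set.ncard_coe_finset]
  rw [h2, ← index_stabilizer]
  exact Subgroup.index_dvd_card _

omit [DecidableEq Ω] [Finite G] in
theorem smul_mem_orb {K : Subgroup G} {x y : Ω} {g : G} (hg : g ∈ K) (hy : y ∈ orb K x) :
    g • y ∈ orb K x := by
  obtain ⟨k, hk, rfl⟩ := mem_orb.1 hy
  exact mem_orb.2 ⟨g * k, K.mul_mem hg hk, mul_smul _ _ _⟩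

omit [Finite G] in
theorem fix_card (h24 : Fintype.card Ω = 24) (hfix : FixBound G Ω) {p : ℕ} (hp : p.Prime)
    (hp5 : 5 ≤ p) {g : G} (hg1 : g ≠ 1) (hgp : g ^ p = 1) :
    (Finset.univ.filter fun x : Ω => g • x = x).card ≤ 4 ∧
      24 ≡ (Finset.univ.filter fun x : Ω => g • x = x).card [MOD p] := by
  have : Fact p.Prime := ⟨hp⟩
  refine ⟨hfix p hp hp5 g hg1 hgp, ?_⟩
  have := card_filter_modEq hgp (Finset.univ : Finset Ω) (fun _ _ => Finset.mem_univ _)
  rwa [Finset.card_univ, h24] at this

theorem orbit_size (h24 : Fintype.card Ω = 24) (hfix : FixBound G Ω) (K : Subgroup G)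
    (h7 : 7 ∣ Nat.card K) (h11 : 11 ∣ Nat.card K) (h23 : ¬ 23 ∣ Nat.card K) :
    ∃ x : Ω, (orb K x).card = 22 ∨ (orb K x).card = 24 := by
  classical
  have : Fact (Nat.Prime 7) := ⟨by norm_num⟩
  have : Fact (Nat.Prime 11) := ⟨by norm_num⟩
  obtain ⟨g, hg, hg1, hg7⟩ := exists_prime_elem K 7 h7
  obtain ⟨f, hf, hf1, hf11⟩ := exists_prime_elem K 11 h11
  obtain ⟨hga, hgb⟩ := fix_card h24 hfix (by norm_num) (by norm_num) hg1 hg7
  obtain ⟨hfa, hfb⟩ := fix_card h24 hfix (by norm_num) (by norm_num) hf1 hf11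
  unfold Nat.ModEq at hgb hfb
  obtain ⟨x, hx⟩ : ∃ x : Ω, f • x ≠ x := by
    by_contra hcon
    push Not at hcon
    have := filter_card_eq (C := Finset.univ) (fun x _ => hcon x)
    rw [Finset.card_univ, h24] at this
    omega
  refine ⟨x, ?_⟩
  have h1 := card_filter_modEq hg7 (orb K x) (fun y hy => smul_mem_orb hg hy)
  have h2 := card_filter_modEq hf11 (orb K x) (fun y hy => smul_mem_orb hf hy)
  unfold Nat.ModEq at h1 h2
  have h3 : ((orb K x).filter fun y => g • y = y).card ≤
      (Finset.univ.filter fun y : Ω => g • y = y).card :=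
    Finset.card_le_card (Finset.filter_subset_filter _ (Finset.subset_univ _))
  have h4 : ((orb K x).filter fun y => f • y = y).card ≤
      (Finset.univ.filter fun y : Ω => f • y = y).card :=
    Finset.card_le_card (Finset.filter_subset_filter _ (Finset.subset_univ _))
  have h5 : ((orb K x).filter fun y => f • y = y).card < (orb K x).card := by
    apply Finset.card_lt_card
    rw [Finset.filter_ssubset]
    exact ⟨x, mem_orb.2 ⟨1, K.one_mem, one_smul _ _⟩, hx⟩
  have h6 : (orb K x).card ≤ 24 := by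
    rw [← h24]
    exact Finset.card_le_univ _
  have h7 : (orb K x).card ≠ 23 := by
    intro h
    apply h23
    rw [← h]
    exact card_orb_dvd K x
  omega

/-- A subgroup of order 887040 fixes a pair of points. -/
theorem exists_pair (h24 : Fintype.card Ω = 24) (hfix : FixBound G Ω) (H : Subgroup G)
    (hH : Nat.card H = 887040) : ∃ s : Finset Ω, s.card = 2 ∧ ∀ h ∈ H, h • s = s := by
  classical
  obtain ⟨x, hx⟩ := orbit_size h24 hfix H (by rw [hH]; norm_num) (by rw [hH]; norm_num)
    (by rw [hH]; norm_num)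
  rcases hx with hx | hx
  · refine ⟨(orb H x)ᶜ, ?_, ?_⟩
    · rw [Finset.card_compl, h24, hx]
    · intro h hh
      apply Finset.eq_of_subset_of_card_le
      · intro y hy
        obtain ⟨z, hz, rfl⟩ := Finset.mem_smul_finset.1 hy
        rw [Finset.mem_compl] at hz ⊢
        intro h1
        apply hz
        have := smul_mem_orb (H.inv_mem hh) h1
        rwa [inv_smul_smul] at this
      · rw [Finset.card_smul_finset]
  · exfalso
    -- `H` is transitive
    have htr : ∀ y z : Ω, ∃ h ∈ H, h • y = z := by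
      have h1 : orb H x = Finset.univ := by
        apply Finset.eq_univ_of_card
        rw [hx, h24]
      intro y z
      obtain ⟨h, hh, rfl⟩ := mem_orb.1 (h1 ▸ Finset.mem_univ y)
      obtain ⟨k, hk, rfl⟩ := mem_orb.1 (h1 ▸ Finset.mem_univ z)
      exact ⟨k * h⁻¹, H.mul_mem hk (H.inv_mem hh), by rw [mul_smul, inv_smul_smul]⟩
    let St : Ω → Subgroup G := fun y => H ⊓ stabilizer G y
    have hSt : ∀ {y : Ω} {k : G}, k ∈ St y ↔ k ∈ H ∧ k • y = y := by
      intro y k
      show k ∈ H ⊓ stabilizer G y ↔ _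
      rw [Subgroup.mem_inf, mem_stabilizer_iff]
    have hcard : ∀ y, Nat.card (St y) = 36960 := by
      intro y
      have h1 : orb H y = Finset.univ := by
        rw [Finset.eq_univ_iff_forall]
        intro z
        exact mem_orb.2 (htr y z)
      have h2 : (orbit H y).ncard = 24 := by
        have h3 : (orbit H y) = Set.univ := by
          rw [Set.eq_univ_iff_forall]
          intro z
          obtain ⟨k, hk, hkz⟩ := htr y z
          exact ⟨⟨k, hk⟩, hkz⟩
        rw [h3, Set.ncard_univ, Nat.card_eq_fintype_card, h24]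
      have h3 := (stabilizer H y).card_mul_index
      rw [index_stabilizer, h2, hH] at h3
      have h4 : Nat.card (St y) = Nat.card (stabilizer H y) := by
        have h5 : (stabilizer H y).map H.subtype = St y := by
          ext k
          rw [Subgroup.mem_map, hSt]
          constructor
          · rintro ⟨m, hm, rfl⟩
            exact ⟨m.2, hm⟩
          · rintro ⟨h6, h7⟩
            exact ⟨⟨k, h6⟩, h7, rfl⟩
        rw [← h5]
        exact Subgroup.card_map_of_injective H.subtype_injective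
      omega
    have hle : ∀ y z : Ω, (∀ k ∈ St y, k • z = z) → St y = St z := by
      intro y z hyz
      apply Subgroup.eq_of_le_of_card_ge
      · intro k hk
        exact hSt.2 ⟨(hSt.1 hk).1, hyz k hk⟩
      · rw [hcard, hcard]
    -- each point stabiliser fixes exactly one more point
    have hmain : ∀ y : Ω, ∃ z, z ≠ y ∧ (∀ k ∈ St y, k • z = z) ∧
        ∀ w, w ≠ y → w ≠ z → ¬ ∀ k ∈ St y, k • w = w := by
      intro y
      obtain ⟨v, hv⟩ := orbit_size h24 hfix (St y) (by rw [hcard]; norm_num)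
        (by rw [hcard]; norm_num) (by rw [hcard]; norm_num)
      have hyv : y ∉ orb (St y) v := by
        intro h1
        obtain ⟨k, hk, hkv⟩ := mem_orb.1 h1
        have h2 := (hSt.1 hk).2
        have h3 : v = y := MulAction.injective k (hkv.trans h2.symm)
        have h4 : orb (St y) v ⊆ {y} := by
          intro z hz
          obtain ⟨m, hm, rfl⟩ := mem_orb.1 hz
          rw [h3, (hSt.1 hm).2]
          exact Finset.mem_singleton_self y
        have h5 := Finset.card_le_card h4
        rw [Finset.card_singleton] at h5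
        omega
      have hv22 : (orb (St y) v).card = 22 := by
        rcases hv with h1 | h1
        · exact h1
        · exfalso
          apply hyv
          rw [Finset.eq_univ_of_card _ (h1.trans h24.symm)]
          exact Finset.mem_univ _
      have hcompl : ((orb (St y) v)ᶜ.erase y).card = 1 := by
        rw [Finset.card_erase_of_mem (Finset.mem_compl.2 hyv), Finset.card_compl, h24, hv22]
      obtain ⟨z, hz⟩ := Finset.card_eq_one.1 hcompl
      have hz' : z ∈ (orb (St y) v)ᶜ.erase y := by rw [hz]; exact Finset.mem_singleton_self z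
      rw [Finset.mem_erase, Finset.mem_compl] at hz'
      refine ⟨z, hz'.1, ?_, ?_⟩
      · intro k hk
        have h1 : k • z ∈ (orb (St y) v)ᶜ.erase y := by
          rw [Finset.mem_erase, Finset.mem_compl]
          refine ⟨?_, ?_⟩
          · intro h2
            apply hz'.1
            exact MulAction.injective k (h2.trans (hSt.1 hk).2.symm)
          · intro h2
            apply hz'.2
            have := smul_mem_orb ((St y).inv_mem hk) h2
            rwa [inv_smul_smul] at this
        rw [hz] at h1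
        exact Finset.mem_singleton.1 h1
      · intro w hwy hwz hw
        have hwo : w ∈ orb (St y) v := by
          by_contra h1
          have h2 : w ∈ (orb (St y) v)ᶜ.erase y :=
            Finset.mem_erase.2 ⟨hwy, Finset.mem_compl.2 h1⟩
          rw [hz] at h2
          exact hwz (Finset.mem_singleton.1 h2)
        have h3 : orb (St y) v ⊆ {w} := by
          intro u hu
          obtain ⟨m, hm, hmv⟩ := mem_orb.1 hwo
          obtain ⟨n, hn, rfl⟩ := mem_orb.1 hu
          have h4 : n • v = (n * m⁻¹) • w := by rw [mul_smul, ← hmv, inv_smul_smul]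
          rw [h4, hw _ ((St y).mul_mem hn ((St y).inv_mem hm))]
          exact Finset.mem_singleton_self w
        have h5 := Finset.card_le_card h3
        rw [Finset.card_singleton] at h5
        omega
    -- an element of order 7 fixing `x`
    have : Fact (Nat.Prime 7) := ⟨by norm_num⟩
    obtain ⟨g, hg, hg1, hg7⟩ := exists_prime_elem (St x) 7 (by rw [hcard]; norm_num)
    obtain ⟨hga, hgb⟩ := fix_card h24 hfix (by norm_num) (by norm_num) hg1 hg7
    unfold Nat.ModEq at hgb
    have hg3 : (Finset.univ.filter fun x : Ω => g • x = x).card = 3 := by omega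
    obtain ⟨y, hyx, hy1, hy2⟩ := hmain x
    have hgx : g • x = x := (hSt.1 hg).2
    have hgy : g • y = y := hy1 g hg
    obtain ⟨w, hw, hwx, hwy⟩ : ∃ w ∈ (Finset.univ.filter fun x : Ω => g • x = x), w ≠ x ∧ w ≠ y := by
      by_contra hcon
      push Not at hcon
      have h1 : (Finset.univ.filter fun x : Ω => g • x = x) ⊆ {x, y} := by
        intro w hw
        rw [Finset.mem_insert, Finset.mem_singleton]
        by_cases h2 : w = x
        · exact Or.inl h2
        · exact Or.inr (hcon w hw h2)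
      have h2 := Finset.card_le_card h1
      have h3 := Finset.card_le_two (a := x) (b := y)
      omega
    have hgw : g • w = w := (Finset.mem_filter.1 hw).2
    obtain ⟨w', hw'w, hw'1, hw'2⟩ := hmain w
    have hgw' : g • w' = w' := hw'1 g (hSt.2 ⟨(hSt.1 hg).1, hgw⟩)
    have hxy := hle x y hy1
    have hww' := hle w w' hw'1
    -- `w'` is `x` or `y`
    have hw'xy : w' = x ∨ w' = y := by
      by_contra hcon
      push Not at hcon
      have h1 : ({x, y, w, w'} : Finset Ω) ⊆ Finset.univ.filter fun x : Ω => g • x = x := by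
        intro v hv
        simp only [Finset.mem_insert, Finset.mem_singleton] at hv
        rw [Finset.mem_filter]
        refine ⟨Finset.mem_univ _, ?_⟩
        rcases hv with rfl | rfl | rfl | rfl
        · exact hgx
        · exact hgy
        · exact hgw
        · exact hgw'
      have h2 := Finset.card_le_card h1
      have h3 : ({x, y, w, w'} : Finset Ω).card = 4 := by
        rw [Finset.card_insert_of_notMem, Finset.card_insert_of_notMem,
          Finset.card_insert_of_notMem, Finset.card_singleton]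
        · rw [Finset.mem_singleton]; exact hw'w.symm
        · simp only [Finset.mem_insert, Finset.mem_singleton, not_or]
          exact ⟨hwy.symm, hcon.2.symm⟩
        · simp only [Finset.mem_insert, Finset.mem_singleton, not_or]
          exact ⟨hyx.symm, hwx.symm, hcon.1.symm⟩
      omega
    have hxw : St x = St w := by
      rcases hw'xy with h1 | h1
      · rw [hww', h1]
      · rw [hww', h1, hxy]
    apply hy2 w hwx hwy
    intro k hk
    rw [hxw] at hk
    exact (hSt.1 hk).2

end Index276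

end Blocks

end Cfsg.Agent.SporadicStructure.M24IndexAbs
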