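import Cfsg.Prelude.Def_SporadicCombinatorics
import Cfsg.Agent.SporadicStructure.M24El
import Cfsg.Agent.SporadicStructure.M24IndexAbs
import Cfsg.Agent.SporadicStructure.M23Index253

/-!
# Subgroups of `M24` of index 759, 276, 1771 and 253
-/

set_option autoImplicit false
open scoped Pointwise
open Cfsg MulAction

namespace Cfsg.Agent.SporadicStructure.M24IndexData

open Cfsg.Agent.SporadicA.GolayBase Cfsg.Agent.SporadicA.GolayPerm
open Cfsg.Agent.SporadicStructure.M24El Cfsg.Agent.SporadicStructure.M24IndexAbs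
open Cfsg.Agent.SporadicStructure.M23Index253 (exists_map card_golayPt exists_conj_le
  eq_of_le_of_index)

/-! ### An explicit 2-subgroup of order 512 -/

/-- Nine involutions generating a 2-group: the first four generate the pointwise stabiliser of an
octad, the others act on the octad as two commuting four-groups and a swap. -/
def gl : List ℕ :=
  [965128854020860192151391391390468128, 963721886883755259286232606933354528,
   979121071158219704299181131031480352, 968708902336673183175954409307867168,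
   970408745037899174542809581725223937, 967616069900692509306086327477895266,
   720981692062171673584743151055243296, 590072960059042287979885064796342304,
   154011290965101378516425393633478085]

/-- The conjugation words. -/
def crt : List (List (List ℕ)) :=
  [[], [[0]], [[0], [1]], [[0], [1], [2]], [[3], [1], [1, 2], [0]],
   [[1, 3], [1], [0, 2, 3], [0, 1], [4]], [[3], [1], [0, 1, 2, 3], [0], [4], [5]],
   [[0, 1], [1], [0, 2, 3], [1, 3], [4], [5], [6]],
   [[3], [0, 1, 3], [2], [0], [6], [7], [4], [5]]]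

theorem ok_gl : ∀ P ∈ gl, ok P = true := by decide +kernel

theorem cert_gl : ∀ k < 9, cert gl crt k = true := by decide +kernel

/-- The explicit 2-subgroup. -/
noncomputable def S : Subgroup M24 := sub gl 9

theorem isPGroup_S : IsPGroup 2 S := isPGroup_sub ok_gl crt 9 cert_gl

theorem word_mem_S {w : List ℕ} (hw : (w.all fun i => Nat.blt i 9) = true) :
    el (prodW gl w) ∈ S := by
  apply el_prodW_mem ok_gl
  intro i hi
  exact mem_sub (Nat.blt_eq.mp (List.all_eq_true.1 hw i hi))

/-- words moving the index 0 to the indices of the octad -/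
def wO : List (List ℕ) :=
  [[], [4], [5], [4, 5], [], [8], [], [], [], [], [], [], [], [], [6, 8], [], [], [7, 8], [], [],
   [], [], [], [6, 7, 8]]

/-- words fixing the index 0 and moving 5 to 5, 14, 17, 23 -/
def wT : List (List ℕ) :=
  [[], [], [], [], [], [], [], [], [], [], [], [], [], [], [6], [], [], [7], [], [], [], [], [],
   [6, 7]]

/-- words fixing the index 0 and moving 4 to the indices outside the octad -/
def wE : List (List ℕ) :=
  [[], [], [], [], [], [], [0], [1], [2], [3], [0, 1, 3], [1, 3], [0, 3], [0, 6, 2], [], [1, 2],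
   [7, 2], [], [0, 1, 2], [6, 2], [0, 2], [2, 3], [0, 1], []]

/-- the octad -/
def mO : ℕ := 8536111
/-- the first tetrad -/
def mT : ℕ := 15
/-- the second tetrad -/
def mT' : ℕ := 8536096

theorem check_O : ∀ i < 24, mO.testBit i = true →
    ((wO.getD i []).all fun j => Nat.blt j 9) = true ∧ papp (prodW gl (wO.getD i [])) 0 = i := by
  decide +kernel

theorem check_T : ∀ i < 24, mT'.testBit i = true →
    ((wT.getD i []).all fun j => Nat.blt j 9) = true ∧ papp (prodW gl (wT.getD i [])) 0 = 0 ∧
      papp (prodW gl (wT.getD i [])) 5 = i := by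
  decide +kernel

theorem check_E : ∀ i < 24, mO.testBit i = false →
    ((wE.getD i []).all fun j => Nat.blt j 9) = true ∧ papp (prodW gl (wE.getD i [])) 0 = 0 ∧
      papp (prodW gl (wE.getD i [])) 4 = i := by
  decide +kernel

theorem check_swap : ∀ k < 9, (pimg (gl.getD k idP) mT = mT ∧ pimg (gl.getD k idP) mT' = mT') ∨
    (pimg (gl.getD k idP) mT = mT' ∧ pimg (gl.getD k idP) mT' = mT) := by
  decide +kernel

/-- a third point of the tetrad -/
def vOf (u : ℕ) : ℕ := if u = 1 then 2 else 1

theorem check_klein_bool : ((List.range 24).all fun u => !(mT.testBit u && !(Nat.beq u 0)) ||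
    (Nat.blt (vOf u) 4 && !(Nat.beq (vOf u) 0) && !(Nat.beq (vOf u) u) &&
      Nat.beq (papp (gl.getD (3 + vOf u) idP) 0) (vOf u) &&
      !(Nat.beq (papp (gl.getD (3 + vOf u) idP) u) u) && Nat.blt (3 + vOf u) 9)) = true := by
  decide +kernel

theorem check_klein (u : ℕ) (hu : u < 24) (h1 : mT.testBit u = true) (h2 : u ≠ 0) :
    vOf u < 4 ∧ vOf u ≠ 0 ∧ vOf u ≠ u ∧ papp (gl.getD (3 + vOf u) idP) 0 = vOf u ∧
      papp (gl.getD (3 + vOf u) idP) u ≠ u ∧ 3 + vOf u < 9 := by
  have h := List.all_eq_true.1 check_klein_bool u (List.mem_range.2 hu)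
  have h3 : Nat.beq u 0 = false := by
    rw [Bool.eq_false_iff]
    intro h4
    exact h2 (Nat.eq_of_beq_eq_true h4)
  rw [h1, h3] at h
  simp only [Bool.not_false, Bool.and_self, Bool.not_true, Bool.false_or, Bool.and_eq_true,
    Bool.not_eq_true', Nat.beq_eq, Nat.blt_eq] at h
  obtain ⟨⟨⟨⟨⟨a, b⟩, c⟩, d⟩, e⟩, f⟩ := h
  refine ⟨a, ?_, ?_, d, ?_, f⟩
  · intro h4; rw [h4] at b; exact Bool.noConfusion b
  · intro h4; rw [h4, Nat.beq_refl] at c; exact Bool.noConfusion c
  · intro h4; rw [h4, Nat.beq_refl] at e; exact Bool.noConfusion e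

theorem pt_zero : idx (some 0 : GolayPt) = 0 := by decide

theorem union_eq : fin mT ∪ fin mT' = fin mO := by
  rw [← fin_or]
  rfl

theorem octad_mem : fin mT ∪ fin mT' ∈ octads := by
  rw [union_eq, fin_mem_octads_iff (by decide)]
  decide +kernel

theorem loc : Loc S (fin mT) (fin mT') (some 0 : GolayPt) := by
  have hswap : ∀ s ∈ S, (s • fin mT = fin mT ∧ s • fin mT' = fin mT') ∨
      (s • fin mT = fin mT' ∧ s • fin mT' = fin mT) := by
    intro s hs
    unfold S sub at hs
    induction hs using Subgroup.closure_induction with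
    | mem x hx =>
      obtain ⟨j, hj, rfl⟩ := hx
      rw [el_smul_fin (ok_getD ok_gl j), el_smul_fin (ok_getD ok_gl j)]
      rcases check_swap j hj with ⟨h1, h2⟩ | ⟨h1, h2⟩
      · left; rw [h1, h2]; exact ⟨rfl, rfl⟩
      · right; rw [h1, h2]; exact ⟨rfl, rfl⟩
    | one => left; exact ⟨one_smul _ _, one_smul _ _⟩
    | mul x y _ _ hx hy =>
      rw [mul_smul, mul_smul]
      rcases hy with ⟨h1, h2⟩ | ⟨h1, h2⟩
      · rw [h1, h2]; exact hx
      · rw [h1, h2]
        rcases hx with ⟨h3, h4⟩ | ⟨h3, h4⟩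
        · right; exact ⟨h4, h3⟩
        · left; exact ⟨h4, h3⟩
    | inv x _ hx =>
      rcases hx with ⟨h1, h2⟩ | ⟨h1, h2⟩
      · left
        constructor
        · rw [inv_smul_eq_iff, h1]
        · rw [inv_smul_eq_iff, h2]
      · right
        constructor
        · rw [inv_smul_eq_iff, h2]
        · rw [inv_smul_eq_iff, h1]
  refine ⟨?_, ?_, ?_, ?_, hswap, ?_, ?_, ?_, ?_⟩
  · rw [card_fin]; decide +kernel
  · rw [card_fin]; decide +kernel
  · rw [Finset.disjoint_iff_inter_eq_empty, ← fin_and]
    have h1 : mT &&& mT' = 0 := by decide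
    rw [h1]
    ext p
    rw [mem_fin]
    simp
  · rw [mem_fin]; decide
  · intro z hz
    rw [union_eq, mem_fin] at hz
    obtain ⟨h1, h2⟩ := check_O (idx z) (idx_lt z) hz
    refine ⟨_, word_mem_S h1, ?_⟩
    rw [el_smul_pt (ok_prodW ok_gl _), pt_zero, h2, pt_idx]
  · intro d hd d' hd'
    rw [mem_fin] at hd hd'
    obtain ⟨h1, h2, h3⟩ := check_T (idx d) (idx_lt d) hd
    obtain ⟨h1', h2', h3'⟩ := check_T (idx d') (idx_lt d') hd'
    have e1 : el (prodW gl (wT.getD (idx d) [])) • (some 0 : GolayPt) = some 0 := by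
      rw [el_smul_pt (ok_prodW ok_gl _), pt_zero, h2]; rfl
    have e2 : el (prodW gl (wT.getD (idx d') [])) • (some 0 : GolayPt) = some 0 := by
      rw [el_smul_pt (ok_prodW ok_gl _), pt_zero, h2']; rfl
    have e3 : el (prodW gl (wT.getD (idx d) [])) • (some 5 : GolayPt) = d := by
      rw [el_smul_pt (ok_prodW ok_gl _), show idx (some 5 : GolayPt) = 5 by decide, h3, pt_idx]
    have e4 : el (prodW gl (wT.getD (idx d') [])) • (some 5 : GolayPt) = d' := by
      rw [el_smul_pt (ok_prodW ok_gl _), show idx (some 5 : GolayPt) = 5 by decide, h3', pt_idx]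
    refine ⟨el (prodW gl (wT.getD (idx d') [])) * (el (prodW gl (wT.getD (idx d) [])))⁻¹,
      S.mul_mem (word_mem_S h1') (S.inv_mem (word_mem_S h1)), ?_, ?_⟩
    · rw [mul_smul, inv_smul_eq_iff.2 e1.symm, e2]
    · rw [mul_smul, inv_smul_eq_iff.2 e3.symm, e4]
  · intro d hd d' hd'
    rw [union_eq, mem_fin, Bool.not_eq_true] at hd hd'
    obtain ⟨h1, h2, h3⟩ := check_E (idx d) (idx_lt d) hd
    obtain ⟨h1', h2', h3'⟩ := check_E (idx d') (idx_lt d') hd'
    have e1 : el (prodW gl (wE.getD (idx d) [])) • (some 0 : GolayPt) = some 0 := by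
      rw [el_smul_pt (ok_prodW ok_gl _), pt_zero, h2]; rfl
    have e2 : el (prodW gl (wE.getD (idx d') [])) • (some 0 : GolayPt) = some 0 := by
      rw [el_smul_pt (ok_prodW ok_gl _), pt_zero, h2']; rfl
    have e3 : el (prodW gl (wE.getD (idx d) [])) • (some 4 : GolayPt) = d := by
      rw [el_smul_pt (ok_prodW ok_gl _), show idx (some 4 : GolayPt) = 4 by decide, h3, pt_idx]
    have e4 : el (prodW gl (wE.getD (idx d') [])) • (some 4 : GolayPt) = d' := by
      rw [el_smul_pt (ok_prodW ok_gl _), show idx (some 4 : GolayPt) = 4 by decide, h3', pt_idx]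
    refine ⟨el (prodW gl (wE.getD (idx d') [])) * (el (prodW gl (wE.getD (idx d) [])))⁻¹,
      S.mul_mem (word_mem_S h1') (S.inv_mem (word_mem_S h1)), ?_, ?_⟩
    · rw [mul_smul, inv_smul_eq_iff.2 e1.symm, e2]
    · rw [mul_smul, inv_smul_eq_iff.2 e3.symm, e4]
  · intro u hu hu0
    rw [mem_fin] at hu
    have hu0' : idx u ≠ 0 := by
      intro h
      apply hu0
      rw [← pt_idx u, h]
      rfl
    obtain ⟨hv4, hv0, hvu, h1, h2, h3⟩ := check_klein (idx u) (idx_lt u) hu hu0'
    generalize vOf (idx u) = v at hv4 hv0 hvu h1 h2 h3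
    have hptv : idx (pt v) = v := idx_pt (by omega)
    refine ⟨pt v, ?_, ?_, ?_, el (gl.getD (3 + v) idP), mem_sub h3, ?_, ?_⟩
    · rw [mem_fin, hptv]
      interval_cases v <;> decide
    · intro h
      apply hv0
      rw [← hptv, h]
      rfl
    · intro h
      apply hvu
      rw [← hptv, h]
    · rw [el_smul_pt (ok_getD ok_gl _), pt_zero, h1]
    · intro h
      apply h2
      have := congrArg idx h
      rwa [idx_el_smul (ok_getD ok_gl _)] at this

end Cfsg.Agent.SporadicStructure.M24IndexData
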