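import Cfsg.Prelude.Def_Spor_Conway
import Cfsg.Agent.SporadicA.LeechSet

/-!
The McLaughlin configuration with 2025 points: for `V = (4, 4, 0²²)`, `W = (1, −3, 1²²)` (positions `none`, `some 0`)
the minimal vectors `y` of the rank-24 lattice with `V·y = 0` and `W·y = 16` are
`(4, −4, 0²²)`, `2·1_O` (`O` an octad avoiding both positions; 330), `2·1_O − 4e₀ − 4e_i` (`O` an octad through both
positions and `i` a further point of `O`; 462) and `1 − 2·1_O + 4e_i` (`O` an octad through `some 0` but not `none`, and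
`i` a further point of `O`; 1232).
-/

set_option autoImplicit false
open Cfsg

namespace Cfsg.Agent.SporadicStructure.McLClassify

open Cfsg.Spor Cfsg.Agent.SporadicA.LeechSet

/-- The vector `(1, −3, 1²²)`. -/
def vecW : GolayPt → ℤ := fun p => if p = some 0 then -3 else 1

/-- `2·1_O` -/
def vecA (O : Finset GolayPt) : GolayPt → ℤ := fun p => if p ∈ O then 2 else 0

/-- `2·1_O − 4e₀ − 4e_i` -/
def vecB (O : Finset GolayPt) (i : GolayPt) : GolayPt → ℤ := fun p =>
  if p = some 0 ∨ p = i then -2 else if p ∈ O then 2 else 0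

/-- `1 − 2·1_O + 4e_i` -/
def vecC (O : Finset GolayPt) (i : GolayPt) : GolayPt → ℤ := fun p =>
  if p = i then 3 else if p ∈ O then -1 else 1

/-- The 22 positions other than `none` and `some 0`. -/
def R : Finset GolayPt := (Finset.univ.erase none).erase (some 0)

theorem mem_R {p : GolayPt} : p ∈ R ↔ p ≠ some 0 ∧ p ≠ none := by
  simp [R]

theorem card_R : R.card = 22 := by decide

theorem sum_split (f : GolayPt → ℤ) : ∑ p, f p = f none + f (some 0) + ∑ p ∈ R, f p := by
  rw [← Finset.add_sum_erase _ f (Finset.mem_univ none),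
    ← Finset.add_sum_erase _ f (show (some 0 : GolayPt) ∈ Finset.univ.erase none by simp), add_assoc]
  rfl

theorem dot_vecU (y : GolayPt → ℤ) : dotInt vecU y = 4 * (y none + y (some 0)) := by
  rw [dotInt, sum_split]
  have : ∑ p ∈ R, vecU p * y p = 0 := by
    apply Finset.sum_eq_zero
    intro p hp
    obtain ⟨h0, h1⟩ := mem_R.1 hp
    simp [vecU, h0, h1]
  rw [this]
  simp [vecU]
  ring

theorem dot_vecU' (y : GolayPt → ℤ) : dotInt vecU' y = 4 * (y none - y (some 0)) := by
  rw [dotInt, sum_split]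
  have : ∑ p ∈ R, vecU' p * y p = 0 := by
    apply Finset.sum_eq_zero
    intro p hp
    obtain ⟨h0, h1⟩ := mem_R.1 hp
    simp [vecU', h0, h1]
  rw [this]
  simp [vecU']
  ring

theorem dot_vecW (y : GolayPt → ℤ) :
    dotInt vecW y = y none - 3 * y (some 0) + ∑ p ∈ R, y p := by
  rw [dotInt, sum_split]
  have : ∑ p ∈ R, vecW p * y p = ∑ p ∈ R, y p := by
    apply Finset.sum_congr rfl
    intro p hp
    obtain ⟨h0, h1⟩ := mem_R.1 hp
    simp [vecW, h0]
  rw [this]
  simp [vecW]
  ring

theorem sqNorm_split (y : GolayPt → ℤ) :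
    sqNorm y = y none ^ 2 + y (some 0) ^ 2 + ∑ p ∈ R, y p ^ 2 := by
  rw [sqNorm, sum_split]

/-- A nonnegative-valued sum equal to 0 vanishes termwise. -/
theorem eq_zero_of_sum_eq_zero {s : Finset GolayPt} {f : GolayPt → ℤ} (hf : ∀ p ∈ s, 0 ≤ f p)
    (h : ∑ p ∈ s, f p = 0) : ∀ p ∈ s, f p = 0 :=
  (Finset.sum_eq_zero_iff_of_nonneg hf).1 h

/-- The set of positions with odd `z` is the support of a code word. -/
theorem odd_mem_supports {z : GolayPt → ℤ} (hc : (fun i => ((z i : ℤ) : ZMod 2)) ∈ golayCode) :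
    (Finset.univ.filter fun i => z i % 2 = 1) ∈ supports (golayCode : Set (GolayPt → ZMod 2)) := by
  refine ⟨_, hc, ?_⟩
  ext i
  simp only [support₂, Finset.mem_filter, Finset.mem_univ, true_and, ne_eq]
  rw [ZMod.intCast_zmod_eq_zero_iff_dvd]
  omega

theorem card_filter_R (P : GolayPt → Prop) [DecidablePred P] :
    ((Finset.univ.filter P).card : ℤ) = (if P none then 1 else 0) + (if P (some 0) then 1 else 0)
      + ∑ p ∈ R, (if P p then 1 else 0) := by
  rw [Finset.card_filter]
  push_cast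
  rw [sum_split]

/-- A sum of nonnegative terms, each 0 or at least `k`, equal to `k > 0`: exactly one term is nonzero and equals `k`. -/
theorem exists_unique_of_sum {s : Finset GolayPt} {f : GolayPt → ℤ} {k : ℤ} (hk : 0 < k)
    (hf : ∀ p ∈ s, f p = 0 ∨ k ≤ f p) (h : ∑ p ∈ s, f p = k) :
    ∃ i ∈ s, f i = k ∧ ∀ p ∈ s, p ≠ i → f p = 0 := by
  have hnn : ∀ p ∈ s, 0 ≤ f p := fun p hp => by rcases hf p hp with h | h <;> omega
  have : ∃ i ∈ s, f i ≠ 0 := by
    by_contra hcon
    push Not at hcon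
    rw [Finset.sum_eq_zero hcon] at h
    omega
  obtain ⟨i, hi, hfi⟩ := this
  have hki : k ≤ f i := (hf i hi).resolve_left hfi
  have hsplit := Finset.add_sum_erase s f hi
  have hrest : 0 ≤ ∑ p ∈ s.erase i, f p :=
    Finset.sum_nonneg fun p hp => hnn p (Finset.mem_of_mem_erase hp)
  have hfik : f i = k := by omega
  refine ⟨i, hi, hfik, fun p hp hpi => ?_⟩
  have h0 : ∑ p ∈ s.erase i, f p = 0 := by omega
  exact eq_zero_of_sum_eq_zero (fun p hp => hnn p (Finset.mem_of_mem_erase hp)) h0 p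
    (Finset.mem_erase.2 ⟨hpi, hp⟩)

/-- Even vectors of the configuration. -/
theorem classify_even (h4 : ∀ D ∈ supports (golayCode : Set (GolayPt → ZMod 2)), D.card ≠ 4)
    (y z : GolayPt → ℤ) (hz : ∀ i, y i = 2 * z i)
    (hc : (fun i => ((z i : ℤ) : ZMod 2)) ∈ golayCode)
    (hn : sqNorm y = 32) (h0 : dotInt vecU y = 0) (h1 : dotInt vecW y = 16) :
    y = vecU' ∨ (∃ O ∈ octads, none ∉ O ∧ some 0 ∉ O ∧ y = vecA O) ∨
      (∃ O ∈ octads, ∃ i ∈ O, none ∈ O ∧ some 0 ∈ O ∧ i ≠ none ∧ i ≠ some 0 ∧ y = vecB O i) := by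
  have hD := odd_mem_supports hc
  have hDc := card_filter_R (fun i => z i % 2 = 1)
  rw [dot_vecU] at h0
  rw [dot_vecW] at h1
  rw [sqNorm_split] at hn
  simp only [hz] at h0 h1 hn
  have e1 : ∑ p ∈ R, 2 * z p = 2 * ∑ p ∈ R, z p := by rw [Finset.mul_sum]
  have e2 : ∑ p ∈ R, (2 * z p) ^ 2 = 4 * ∑ p ∈ R, z p ^ 2 := by
    rw [Finset.mul_sum]; exact Finset.sum_congr rfl fun p _ => by ring
  rw [e1] at h1
  rw [e2] at hn
  have hz0 : z (some 0) = - z none := by linarith
  obtain ⟨b, hb⟩ : ∃ b, z none = b := ⟨_, rfl⟩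
  rw [hz0] at h1 hn
  rw [hb] at h1 hn hz0
  have hS : ∑ p ∈ R, z p = 8 - 4 * b := by linarith
  have hS2 : ∑ p ∈ R, z p ^ 2 = 8 - 2 * b ^ 2 := by linarith
  have hT : ∑ p ∈ R, (z p ^ 2 - z p) = 4 * b - 2 * b ^ 2 := by
    rw [Finset.sum_sub_distrib, hS, hS2]; ring
  have hTn : ∀ p, 0 ≤ z p ^ 2 - z p := by
    intro p
    rcases le_or_gt (z p) 0 with h | h <;> nlinarith
  have hTs : 0 ≤ ∑ p ∈ R, (z p ^ 2 - z p) := Finset.sum_nonneg fun p _ => hTn p
  rw [hT] at hTs
  have hb0 : 0 ≤ b := by nlinarith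
  have hb2 : b ≤ 2 := by nlinarith
  have hb' : b = 0 ∨ b = 1 ∨ b = 2 := by omega
  rcases hb' with hb' | hb' | hb'
  · -- b = 0
    right; left
    rw [hb'] at hT hS hS2
    have hz01 : ∀ p ∈ R, z p ^ 2 - z p = 0 :=
      eq_zero_of_sum_eq_zero (fun p _ => hTn p) (by simpa using hT)
    have hz01' : ∀ p ∈ R, z p = 0 ∨ z p = 1 := by
      intro p hp
      have := hz01 p hp
      have h2 : z p * (z p - 1) = 0 := by linarith
      rcases mul_eq_zero.1 h2 with h | h
      · exact Or.inl h
      · right; omega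
    refine ⟨Finset.univ.filter fun i => z i % 2 = 1, ⟨hD, ?_⟩, ?_, ?_, ?_⟩
    · have : ∑ p ∈ R, (if z p % 2 = 1 then (1 : ℤ) else 0) = ∑ p ∈ R, z p := by
        refine Finset.sum_congr rfl fun p hp => ?_
        rcases hz01' p hp with h | h <;> simp [h]
      rw [this, hS, hb, hb', hz0, hb'] at hDc
      simp at hDc
      exact_mod_cast hDc
    · simp [hb, hb']
    · simp [hz0, hb']
    · funext p
      rw [hz p]
      by_cases hp : p ∈ R
      · rcases hz01' p hp with h | h <;> simp [vecA, h]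
      · rw [mem_R, not_and_or, not_not, not_not] at hp
        rcases hp with rfl | rfl
        · simp [vecA, hz0, hb']
        · simp [vecA, hb, hb']
  · -- b = 1
    right; right
    rw [hb'] at hT hS hS2
    have hkey : ∃ i ∈ R, z i ^ 2 - z i = 2 ∧ ∀ p ∈ R, p ≠ i → z p ^ 2 - z p = 0 := by
      refine exists_unique_of_sum (by norm_num) (fun p _ => ?_) (by rw [hT]; norm_num)
      by_cases h : z p = 0 ∨ z p = 1
      · left; rcases h with h | h <;> simp [h]
      · right
        push Not at h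
        rcases le_or_gt (z p) 0 with h' | h'
        · have : z p ≤ -1 := by omega
          nlinarith
        · have : 2 ≤ z p := by omega
          nlinarith
    obtain ⟨i, hiR, hi, hrest⟩ := hkey
    have hi' : z i = 2 ∨ z i = -1 := by
      have h2 : (z i - 2) * (z i + 1) = 0 := by linarith
      rcases mul_eq_zero.1 h2 with h | h
      · left; omega
      · right; omega
    have hz01' : ∀ p ∈ R, p ≠ i → z p = 0 ∨ z p = 1 := by
      intro p hp hpi
      have := hrest p hp hpi
      have h2 : z p * (z p - 1) = 0 := by linarith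
      rcases mul_eq_zero.1 h2 with h | h
      · exact Or.inl h
      · right; omega
    have hsum := Finset.add_sum_erase R (fun p => (if z p % 2 = 1 then (1 : ℤ) else 0)) hiR
    have hsumz := Finset.add_sum_erase R z hiR
    have hcong : ∑ p ∈ R.erase i, (if z p % 2 = 1 then (1 : ℤ) else 0) = ∑ p ∈ R.erase i, z p := by
      refine Finset.sum_congr rfl fun p hp => ?_
      rcases hz01' p (Finset.mem_of_mem_erase hp) (Finset.ne_of_mem_erase hp) with h | h <;> simp [h]
    rw [← hsum, hcong, hb, hb', hz0, hb'] at hDc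
    rw [hS] at hsumz
    have hin : i ≠ none := (mem_R.1 hiR).2
    have hi0 : i ≠ some 0 := (mem_R.1 hiR).1
    rcases hi' with hi' | hi'
    · exfalso
      rw [hi'] at hDc hsumz
      have : ∑ p ∈ R.erase i, z p = 2 := by linarith
      rw [this] at hDc
      norm_num at hDc
      exact h4 _ hD (by exact_mod_cast hDc)
    · rw [hi'] at hDc hsumz
      have : ∑ p ∈ R.erase i, z p = 5 := by linarith
      rw [this] at hDc
      norm_num at hDc
      refine ⟨Finset.univ.filter fun i => z i % 2 = 1, ⟨hD, by exact_mod_cast hDc⟩, i, ?_, ?_, ?_,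
        hin, hi0, ?_⟩
      · simp [hi']
      · simp [hb, hb']
      · simp [hz0, hb']
      · funext p
        rw [hz p]
        by_cases hpi : p = i
        · subst hpi
          simp [vecB, hi']
        by_cases hp : p ∈ R
        · have h0' := (mem_R.1 hp).1
          rcases hz01' p hp hpi with h | h <;> simp [vecB, h, hpi, h0']
        · rw [mem_R, not_and_or, not_not, not_not] at hp
          rcases hp with rfl | rfl
          · simp [vecB, hz0, hb']
          · simp [vecB, hb, hb', hpi]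
  · -- b = 2
    left
    rw [hb'] at hS2
    have hz0' : ∀ p ∈ R, z p ^ 2 = 0 :=
      eq_zero_of_sum_eq_zero (fun p _ => sq_nonneg _) (by rw [hS2]; norm_num)
    funext p
    rw [hz p]
    by_cases hp : p ∈ R
    · have := hz0' p hp
      have h : z p = 0 := by simpa using this
      have := mem_R.1 hp
      simp [vecU', h, this.1, this.2]
    · rw [mem_R, not_and_or, not_not, not_not] at hp
      rcases hp with rfl | rfl
      · simp [vecU', hz0, hb']
      · simp [vecU', hb, hb']

theorem odd_sq (a : ℤ) (ha : a % 2 = 1) : a ^ 2 = 1 ∨ a ^ 2 = 9 ∨ 25 ≤ a ^ 2 := by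
  rcases le_or_gt a 0 with h | h
  · have h' : a = -1 ∨ a = -3 ∨ a ≤ -5 := by omega
    rcases h' with h' | h' | h'
    · subst h'; norm_num
    · subst h'; norm_num
    · right; right; nlinarith
  · have h' : a = 1 ∨ a = 3 ∨ 5 ≤ a := by omega
    rcases h' with h' | h' | h'
    · subst h'; norm_num
    · subst h'; norm_num
    · right; right; nlinarith

theorem eq_of_sq_nine {a : ℤ} (h : a ^ 2 = 9) : a = 3 ∨ a = -3 := by
  have : (a - 3) * (a + 3) = 0 := by linarith [sq a]
  rcases mul_eq_zero.1 this with h | h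
  · left; omega
  · right; omega

/-- Odd vectors of the configuration. -/
theorem classify_odd (h4 : ∀ D ∈ supports (golayCode : Set (GolayPt → ZMod 2)), D.card ≠ 4)
    (y : GolayPt → ℤ) (hodd : ∀ i, y i % 2 = 1)
    (hD : (Finset.univ.filter fun i => y i % 4 = 3) ∈ supports (golayCode : Set (GolayPt → ZMod 2)))
    (hn : sqNorm y = 32) (h0 : dotInt vecU y = 0) (h1 : dotInt vecW y = 16) :
    ∃ O ∈ octads, ∃ i ∈ O, none ∉ O ∧ some 0 ∈ O ∧ i ≠ some 0 ∧ y = vecC O i := by
  have hDc := card_filter_R (fun i => y i % 4 = 3)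
  rw [dot_vecU] at h0
  rw [dot_vecW] at h1
  rw [sqNorm_split] at hn
  have hy0 : y (some 0) = - y none := by linarith
  obtain ⟨a, ha⟩ : ∃ a, y none = a := ⟨_, rfl⟩
  rw [hy0, ha] at h1 hn
  rw [ha] at hy0
  have haodd : a % 2 = 1 := by rw [← ha]; exact hodd none
  have hS : ∑ p ∈ R, y p = 16 - 4 * a := by linarith
  have hS2 : ∑ p ∈ R, y p ^ 2 = 32 - 2 * a ^ 2 := by linarith
  have hone : ∑ p ∈ R, (1 : ℤ) = 22 := by simp [card_R]
  have hT : ∑ p ∈ R, (y p ^ 2 - 1) = 10 - 2 * a ^ 2 := by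
    rw [Finset.sum_sub_distrib, hS2, hone]; ring
  have hterm : ∀ p, y p ^ 2 - 1 = 0 ∨ 8 ≤ y p ^ 2 - 1 := by
    intro p
    rcases odd_sq (y p) (hodd p) with h | h | h <;> omega
  have hTs : 0 ≤ ∑ p ∈ R, (y p ^ 2 - 1) :=
    Finset.sum_nonneg fun p _ => by rcases hterm p with h | h <;> omega
  rw [hT] at hTs
  have ha2 : a ^ 2 = 1 := by
    rcases odd_sq a haodd with h | h | h
    · exact h
    · omega
    · omega
  rw [ha2] at hT
  obtain ⟨i, hiR, hi, hrest⟩ := exists_unique_of_sum (k := 8) (by norm_num)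
    (fun p _ => hterm p) (by rw [hT]; norm_num)
  have hin : i ≠ none := (mem_R.1 hiR).2
  have hi0 : i ≠ some 0 := (mem_R.1 hiR).1
  have hi' : y i = 3 ∨ y i = -3 := eq_of_sq_nine (by omega)
  have hrest' : ∀ p ∈ R, p ≠ i → y p = 1 ∨ y p = -1 := by
    intro p hp hpi
    have := hrest p hp hpi
    have h2 : (y p - 1) * (y p + 1) = 0 := by linarith [sq (y p)]
    rcases mul_eq_zero.1 h2 with h | h
    · left; omega
    · right; omega
  have ha' : a = 1 ∨ a = -1 := by
    have h2 : (a - 1) * (a + 1) = 0 := by linarith [sq a]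
    rcases mul_eq_zero.1 h2 with h | h
    · left; omega
    · right; omega
  -- the number of positions of `R` other than `i` in `D`
  have hsum := Finset.add_sum_erase R (fun p => (if y p % 4 = 3 then (1 : ℤ) else 0)) hiR
  have hsumy := Finset.add_sum_erase R y hiR
  have hsum1 := Finset.add_sum_erase R (fun _ => (1 : ℤ)) hiR
  have hcong : ∑ p ∈ R.erase i, y p =
      ∑ p ∈ R.erase i, (1 : ℤ) - 2 * ∑ p ∈ R.erase i, (if y p % 4 = 3 then (1 : ℤ) else 0) := by
    rw [Finset.mul_sum, ← Finset.sum_sub_distrib]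
    refine Finset.sum_congr rfl fun p hp => ?_
    rcases hrest' p (Finset.mem_of_mem_erase hp) (Finset.ne_of_mem_erase hp) with h | h <;> simp [h]
  rw [← hsum, ha, hy0] at hDc
  rw [hS] at hsumy
  rw [hone] at hsum1
  rw [hcong] at hsumy
  obtain ⟨t, ht⟩ : ∃ t, ∑ p ∈ R.erase i, (if y p % 4 = 3 then (1 : ℤ) else 0) = t := ⟨_, rfl⟩
  obtain ⟨u, hu⟩ : ∃ u, ∑ p ∈ R.erase i, (1 : ℤ) = u := ⟨_, rfl⟩
  rw [ht] at hDc
  rw [ht, hu] at hsumy
  rw [hu] at hsum1
  rcases ha' with ha' | ha' <;> rcases hi' with hi' | hi' <;> rw [ha', hi'] at hDc <;>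
    rw [ha', hi'] at hsumy <;> norm_num at hDc
  · -- a = 1, y i = 3
    have ht6 : t = 6 := by omega
    rw [ht6] at hDc
    norm_num at hDc
    refine ⟨Finset.univ.filter fun i => y i % 4 = 3, ⟨hD, by exact_mod_cast hDc⟩, i, ?_, ?_, ?_,
      hi0, ?_⟩
    · simp [hi']
    · simp [ha, ha']
    · simp [hy0, ha']
    · funext p
      by_cases hpi : p = i
      · subst hpi
        simp [vecC, hi']
      by_cases hp : p ∈ R
      · rcases hrest' p hp hpi with h | h <;> simp [vecC, h, hpi]
      · rw [mem_R, not_and_or, not_not, not_not] at hp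
        rcases hp with rfl | rfl
        · simp [vecC, hy0, ha', hpi]
        · simp [vecC, ha, ha', hpi]
  · -- a = 1, y i = -3
    exfalso
    have ht6 : t = 3 := by omega
    rw [ht6] at hDc
    norm_num at hDc
    exact h4 _ hD (by exact_mod_cast hDc)
  · exfalso
    have ht6 : t = 2 := by omega
    rw [ht6] at hDc
    norm_num at hDc
    exact h4 _ hD (by exact_mod_cast hDc)
  · exfalso
    have hnn : 0 ≤ t := by
      rw [← ht]
      exact Finset.sum_nonneg fun p _ => by split_ifs <;> norm_num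
    omega

/-- The classification of the vectors of the configuration. -/
theorem classify (h4 : ∀ D ∈ supports (golayCode : Set (GolayPt → ZMod 2)), D.card ≠ 4)
    (y : GolayPt → ℤ) (hy : y ∈ leechSet)
    (hn : sqNorm y = 32) (h0 : dotInt vecU y = 0) (h1 : dotInt vecW y = 16) :
    y = vecU' ∨ (∃ O ∈ octads, none ∉ O ∧ some 0 ∉ O ∧ y = vecA O) ∨
      (∃ O ∈ octads, ∃ i ∈ O, none ∈ O ∧ some 0 ∈ O ∧ i ≠ none ∧ i ≠ some 0 ∧ y = vecB O i) ∨
      (∃ O ∈ octads, ∃ i ∈ O, none ∉ O ∧ some 0 ∈ O ∧ i ≠ some 0 ∧ y = vecC O i) := by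
  obtain ⟨m, hm, hs, hk⟩ := hy
  rcases Int.emod_two_eq_zero_or_one m with hm2 | hm2
  · have hz : ∀ i, ∃ z, y i = 2 * z := by
      intro i
      have := hm i
      unfold Int.ModEq at this
      exact ⟨y i / 2, by omega⟩
    choose z hz using hz
    have hc : (fun i => ((z i : ℤ) : ZMod 2)) ∈ golayCode := by
      have h2 := hk 2
      rw [mem_supports_iff] at h2
      rw [SetLike.mem_coe] at h2
      convert h2 using 1
      funext i
      have : y i ≡ 2 [ZMOD 4] ↔ z i % 2 = 1 := by
        rw [hz i]; unfold Int.ModEq; omega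
      simp only [Finset.mem_filter, Finset.mem_univ, true_and, this]
      by_cases h : z i % 2 = 1
      · rw [if_pos h]
        have h2 : z i = 2 * (z i / 2) + 1 := by omega
        rw [h2]; push_cast
        have h20 : (2 : ZMod 2) = 0 := by decide
        rw [h20]; ring
      · rw [if_neg h, ZMod.intCast_zmod_eq_zero_iff_dvd]
        omega
    rcases classify_even h4 y z hz hc hn h0 h1 with h | h | h
    · exact Or.inl h
    · exact Or.inr (Or.inl h)
    · exact Or.inr (Or.inr (Or.inl h))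
  · right; right; right
    refine classify_odd h4 y (fun i => ?_) ?_ hn h0 h1
    · have := hm i
      unfold Int.ModEq at this
      omega
    · have h2 := hk 3
      convert h2 using 2
      unfold Int.ModEq
      norm_num

end Cfsg.Agent.SporadicStructure.McLClassify
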