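import Cfsg.Agent.SporadicStructure.McLClassify
import Cfsg.Agent.SporadicStructure.M22Flags

/-!
The four families of vectors of the McLaughlin configuration with 2025 points: membership, inner products, counts.
-/

set_option autoImplicit false
open Cfsg

namespace Cfsg.Agent.SporadicStructure.McLCount

open Cfsg.Spor Cfsg.Agent.SporadicA.LeechSet Cfsg.Agent.SporadicStructure.McLClassify
open Cfsg.Agent.Golay.Orbit Cfsg.Agent.Golay.OctadList

theorem no_four (D : Finset GolayPt) (hD : D ∈ supports (golayCode : Set (GolayPt → ZMod 2))) :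
    D.card ≠ 4 := by
  obtain ⟨a, ha, rfl⟩ := (mem_supports D).1 hD
  rw [card_fin]
  have h : (List.range 4096).all (fun a => !(Nat.beq (pop 24 (enc basis a)) 4)) = true := by
    decide +kernel
  have h' := List.all_eq_true.1 h a (List.mem_range.2 ha)
  intro h4
  rw [h4] at h'
  exact absurd h' (by decide)

/-! ### the index sets -/

/-- octads avoiding both points -/
def TA : Set (Finset GolayPt) := {O | O ∈ octads ∧ none ∉ O ∧ some 0 ∉ O}
/-- octads through both points -/
def TB : Set (Finset GolayPt) := {O | O ∈ octads ∧ none ∈ O ∧ some 0 ∈ O}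
/-- octads through `some 0` but not `none` -/
def TC : Set (Finset GolayPt) := {O | O ∈ octads ∧ none ∉ O ∧ some 0 ∈ O}

theorem testBit_iff_none (m : ℕ) : none ∈ fin m ↔ m.testBit 23 = true := mem_fin m none

theorem testBit_iff_zero (m : ℕ) : some 0 ∈ fin m ↔ m.testBit 0 = true := mem_fin m (some 0)

theorem ncard_filter (P : ℕ → Bool) (T : Set (Finset GolayPt))
    (hT : ∀ m ∈ octadMasks, fin m ∈ T ↔ P m = true) (hT' : ∀ O ∈ T, O ∈ octads) :
    T.ncard = (octadMasks.filter P).length := by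
  refine ncard_of_list _ (octadMasks_nodup.filter _)
    (fun m hm => octadMasks_lt m (List.mem_of_mem_filter hm)) T fun O => ?_
  constructor
  · intro hO
    obtain ⟨m, hm, rfl⟩ := (mem_octads O).1 (hT' O hO)
    exact ⟨m, List.mem_filter.2 ⟨hm, (hT m hm).1 hO⟩, rfl⟩
  · rintro ⟨m, hm, rfl⟩
    obtain ⟨h1, h2⟩ := List.mem_filter.1 hm
    exact (hT m h1).2 h2

theorem ncard_TA : TA.ncard = 330 := by
  rw [ncard_filter (fun m => !(m.testBit 23) && !(m.testBit 0)) TA ?_ (fun O hO => hO.1)]
  · decide +kernel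
  · intro m hm
    have : fin m ∈ octads := (mem_octads _).2 ⟨m, hm, rfl⟩
    show (fin m ∈ octads ∧ none ∉ fin m ∧ some 0 ∉ fin m) ↔ _
    rw [testBit_iff_none, testBit_iff_zero]
    simp [this]

theorem ncard_TB : TB.ncard = 77 := by
  rw [ncard_filter (fun m => (m.testBit 23) && (m.testBit 0)) TB ?_ (fun O hO => hO.1)]
  · decide +kernel
  · intro m hm
    have : fin m ∈ octads := (mem_octads _).2 ⟨m, hm, rfl⟩
    show (fin m ∈ octads ∧ none ∈ fin m ∧ some 0 ∈ fin m) ↔ _
    rw [testBit_iff_none, testBit_iff_zero]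
    simp [this]

theorem ncard_TC : TC.ncard = 176 := by
  rw [ncard_filter (fun m => !(m.testBit 23) && (m.testBit 0)) TC ?_ (fun O hO => hO.1)]
  · decide +kernel
  · intro m hm
    have : fin m ∈ octads := (mem_octads _).2 ⟨m, hm, rfl⟩
    show (fin m ∈ octads ∧ none ∉ fin m ∧ some 0 ∈ fin m) ↔ _
    rw [testBit_iff_none, testBit_iff_zero]
    simp [this]

/-- Counting flags. -/
theorem ncard_flags (T : Set (Finset GolayPt)) (f : Finset GolayPt → Finset GolayPt) (k : ℕ)
    (hk : ∀ O ∈ T, (f O).card = k) :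
    {p : Finset GolayPt × GolayPt | p.1 ∈ T ∧ p.2 ∈ f p.1}.ncard = T.ncard * k := by
  classical
  have hfin : T.Finite := Set.toFinite T
  have h1 : {p : Finset GolayPt × GolayPt | p.1 ∈ T ∧ p.2 ∈ f p.1} =
      ((hfin.toFinset.biUnion fun O => (f O).map ⟨fun i => (O, i), fun i j h => (Prod.mk.inj h).2⟩ :
        Finset (Finset GolayPt × GolayPt)) : Set (Finset GolayPt × GolayPt)) := by
    ext ⟨O, i⟩
    rw [Finset.mem_coe, Finset.mem_biUnion]
    constructor
    · rintro ⟨h1, h2⟩
      exact ⟨O, hfin.mem_toFinset.2 h1, Finset.mem_map.2 ⟨i, h2, rfl⟩⟩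
    · rintro ⟨O', h1, h2⟩
      obtain ⟨i', h4, h3⟩ := Finset.mem_map.1 h2
      obtain ⟨rfl, rfl⟩ := Prod.mk.inj h3
      exact ⟨hfin.mem_toFinset.1 h1, h4⟩
  rw [h1, Set.ncard_coe_finset, Finset.card_biUnion]
  · simp only [Finset.card_map]
    rw [Finset.sum_congr rfl (fun O hO => hk O (hfin.mem_toFinset.1 hO)), Finset.sum_const,
      smul_eq_mul, Set.ncard_eq_toFinset_card T hfin]
  · intro O _ O' _ hne
    rw [Function.onFun, Finset.disjoint_left]
    intro p hp hp'
    obtain ⟨i, _, rfl⟩ := Finset.mem_map.1 hp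
    obtain ⟨j, _, h⟩ := Finset.mem_map.1 hp'
    exact hne (Prod.mk.inj h).1.symm

/-- flags of the 462-family -/
def FB : Set (Finset GolayPt × GolayPt) := {p | p.1 ∈ TB ∧ p.2 ∈ (p.1.erase none).erase (some 0)}
/-- flags of the 1232-family -/
def FC : Set (Finset GolayPt × GolayPt) := {p | p.1 ∈ TC ∧ p.2 ∈ p.1.erase (some 0)}

theorem ncard_FB : FB.ncard = 462 := by
  rw [FB, ncard_flags TB (fun O => (O.erase none).erase (some 0)) 6 ?_, ncard_TB]
  rintro O ⟨⟨_, h8⟩, h1, h2⟩
  rw [Finset.card_erase_of_mem (Finset.mem_erase.2 ⟨by simp, h2⟩), Finset.card_erase_of_mem h1, h8]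

theorem ncard_FC : FC.ncard = 1232 := by
  rw [FC, ncard_flags TC (fun O => O.erase (some 0)) 7 ?_, ncard_TC]
  rintro O ⟨⟨_, h8⟩, h1, h2⟩
  rw [Finset.card_erase_of_mem h2, h8]

/-! ### membership and inner products -/

theorem sum_ind (O : Finset GolayPt) (c : ℤ) : ∑ p, (if p ∈ O then c else 0) = c * O.card := by
  rw [Finset.sum_ite_mem, Finset.univ_inter, Finset.sum_const, nsmul_eq_mul, mul_comm]

theorem sum_one_ind (i : GolayPt) (c : ℤ) : ∑ p, (if p = i then c else 0) = c := by
  rw [Finset.sum_ite_eq' Finset.univ i, if_pos (Finset.mem_univ i)]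

theorem sum_const' (c : ℤ) : ∑ _p : GolayPt, c = 24 * c := by
  rw [Finset.sum_const, Finset.card_univ, nsmul_eq_mul]
  rfl

theorem ind_mem {O : Finset GolayPt} (hO : O ∈ octads) :
    (fun p => if p ∈ O then (1 : ZMod 2) else 0) ∈ golayCode := by
  have := hO.1
  rw [mem_supports_iff] at this
  exact this

theorem dot_vecW' (y : GolayPt → ℤ) : dotInt vecW y = ∑ p, y p - 4 * y (some 0) := by
  rw [dot_vecW, sum_split y]
  ring

/-- The values of the invariants of the vectors of the configuration. -/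
structure Conf (y : GolayPt → ℤ) (c : ℤ) : Prop where
  mem : y ∈ leechSet
  norm : sqNorm y = 32
  dotU : dotInt vecU y = 0
  dotW : dotInt vecW y = 16
  dotU' : dotInt vecU' y = c

theorem conf_U' : Conf vecU' 32 := by
  refine ⟨vecU'_mem_leechSet, by decide, by decide, by decide, by decide⟩

theorem conf_A {O : Finset GolayPt} (hO : O ∈ TA) : Conf (vecA O) 0 := by
  obtain ⟨hO, h1, h2⟩ := hO
  have h8 : (O.card : ℤ) = 8 := by exact_mod_cast hO.2
  have hsum : ∑ p, vecA O p = 16 := by
    show ∑ p, (if p ∈ O then (2 : ℤ) else 0) = 16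
    rw [sum_ind, h8]; norm_num
  refine ⟨?_, ?_, ?_, ?_, ?_⟩
  · rw [mem_leechSet_iff]
    refine ⟨0, fun p => if p ∈ O then 1 else 0, fun p => ?_, ?_, ?_⟩
    · by_cases h : p ∈ O <;> simp [vecA, h]
    · rw [hsum]; decide
    · convert ind_mem hO using 1
      funext p
      by_cases h : p ∈ O <;> simp [h]
  · have : ∀ p, vecA O p ^ 2 = if p ∈ O then 4 else 0 := by
      intro p
      by_cases h : p ∈ O <;> simp [vecA, h]
    rw [sqNorm, Finset.sum_congr rfl (fun p _ => this p), sum_ind, h8]; norm_num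
  · rw [dot_vecU]; simp [vecA, h1, h2]
  · rw [dot_vecW', hsum]; simp [vecA, h2]
  · rw [dot_vecU']; simp [vecA, h1, h2]

theorem vecB_eq {O : Finset GolayPt} {i : GolayPt} (h2 : some 0 ∈ O) (hi : i ∈ O) (hi2 : i ≠ some 0)
    (p : GolayPt) : vecB O i p = (if p ∈ O then 2 else 0) - (if p = some 0 then 4 else 0)
      - (if p = i then 4 else 0) := by
  unfold vecB
  by_cases h : p = some 0
  · subst h
    simp [h2, Ne.symm hi2]
  · by_cases h' : p = i
    · subst h'
      simp [hi, hi2]
    · simp [h, h']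

theorem conf_B {O : Finset GolayPt} {i : GolayPt} (hO : (O, i) ∈ FB) : Conf (vecB O i) 16 := by
  obtain ⟨⟨hO, h1, h2⟩, h3⟩ := hO
  have hi2 : i ≠ some 0 := Finset.ne_of_mem_erase h3
  have h3' := Finset.mem_of_mem_erase h3
  have hi1 : i ≠ none := Finset.ne_of_mem_erase h3'
  have hi : i ∈ O := Finset.mem_of_mem_erase h3'
  simp only at h1 h2 hO
  have h8 : (O.card : ℤ) = 8 := by exact_mod_cast hO.2
  have hsum : ∑ p, vecB O i p = 8 := by
    rw [Finset.sum_congr rfl (fun p _ => vecB_eq h2 hi hi2 p), Finset.sum_sub_distrib,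
      Finset.sum_sub_distrib, sum_ind, sum_one_ind, sum_one_ind, h8]; norm_num
  have hn : vecB O i none = 2 := by simp [vecB, h1, Ne.symm hi1]
  have h0 : vecB O i (some 0) = -2 := by simp [vecB]
  refine ⟨?_, ?_, ?_, ?_, ?_⟩
  · rw [mem_leechSet_iff]
    refine ⟨0, fun p => (if p ∈ O then 1 else 0) - (if p = some 0 then 2 else 0)
      - (if p = i then 2 else 0), fun p => ?_, ?_, ?_⟩
    · rw [vecB_eq h2 hi hi2]
      dsimp only
      split_ifs <;> norm_num
    · rw [hsum]; decide
    · convert ind_mem hO using 1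
      funext p
      push_cast
      have h20 : (2 : ZMod 2) = 0 := by decide
      simp [h20]
  · have : ∀ p, vecB O i p ^ 2 = if p ∈ O then 4 else 0 := by
      intro p
      unfold vecB
      by_cases h : p = some 0
      · subst h; simp [h2]
      · by_cases h' : p = i
        · subst h'; simp [hi]
        · by_cases h'' : p ∈ O <;> simp [h, h', h'']
    rw [sqNorm, Finset.sum_congr rfl (fun p _ => this p), sum_ind, h8]; norm_num
  · rw [dot_vecU, hn, h0]; norm_num
  · rw [dot_vecW', hsum, h0]; norm_num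
  · rw [dot_vecU', hn, h0]; norm_num

theorem vecC_eq {O : Finset GolayPt} {i : GolayPt} (hi : i ∈ O) (p : GolayPt) :
    vecC O i p = 1 - (if p ∈ O then 2 else 0) + (if p = i then 4 else 0) := by
  unfold vecC
  by_cases h : p = i
  · subst h; simp [hi]
  · by_cases h' : p ∈ O <;> simp [h, h']

theorem conf_C {O : Finset GolayPt} {i : GolayPt} (hO : (O, i) ∈ FC) : Conf (vecC O i) 8 := by
  obtain ⟨⟨hO, h1, h2⟩, h3⟩ := hO
  have hi2 : i ≠ some 0 := Finset.ne_of_mem_erase h3
  have hi : i ∈ O := Finset.mem_of_mem_erase h3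
  simp only at h1 h2 hO
  have hi1 : i ≠ none := fun h => h1 (h ▸ hi)
  have h8 : (O.card : ℤ) = 8 := by exact_mod_cast hO.2
  have hsum : ∑ p, vecC O i p = 12 := by
    rw [Finset.sum_congr rfl (fun p _ => vecC_eq hi p), Finset.sum_add_distrib,
      Finset.sum_sub_distrib, sum_ind, sum_one_ind, sum_const', h8]; norm_num
  have hn : vecC O i none = 1 := by simp [vecC, h1, Ne.symm hi1]
  have h0 : vecC O i (some 0) = -1 := by simp [vecC, h2, Ne.symm hi2]
  refine ⟨?_, ?_, ?_, ?_, ?_⟩
  · rw [mem_leechSet_iff]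
    refine ⟨1, fun p => - (if p ∈ O then 1 else 0) + (if p = i then 2 else 0), fun p => ?_, ?_, ?_⟩
    · rw [vecC_eq hi]
      dsimp only
      split_ifs <;> norm_num
    · rw [hsum]; decide
    · convert ind_mem hO using 1
      funext p
      push_cast
      have h20 : (2 : ZMod 2) = 0 := by decide
      simp only [h20, ite_self, add_zero]
      split_ifs <;> decide
  · have : ∀ p, vecC O i p ^ 2 = 1 + if p = i then 8 else 0 := by
      intro p
      unfold vecC
      by_cases h : p = i
      · simp [h]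
      · by_cases h' : p ∈ O <;> simp [h, h']
    rw [sqNorm, Finset.sum_congr rfl (fun p _ => this p), Finset.sum_add_distrib, sum_const',
      sum_one_ind]; norm_num
  · rw [dot_vecU, hn, h0]; norm_num
  · rw [dot_vecW', hsum, h0]; norm_num
  · rw [dot_vecU', hn, h0]; norm_num

end Cfsg.Agent.SporadicStructure.McLCount
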