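import Cfsg.Agent.SporadicStructure.McLOrbits
import Cfsg.Agent.Leech.FrameTriplesOf

/-!
The McLaughlin group on 2025 points: everything except the transitivity on vectors of sum of squares 64 and
the existence of a point, which are hypotheses here.
-/

set_option autoImplicit false
open Cfsg

namespace Cfsg.Agent.SporadicStructure.McLMain

open Cfsg.Spor Cfsg.Agent.SporadicStructure.McLClassify Cfsg.Agent.SporadicStructure.McLCount
open Cfsg.Agent.SporadicStructure.McLOrbits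
open Cfsg.Agent.Leech.FrameTriplesOf Cfsg.Agent.Leech.FrameAux

theorem vecU_eq : vecU = vec3 4 4 0 := by
  refine eq_vec3 (by simp [vecU]) (by simp [vecU]) fun p h1 h2 => by simp [vecU, h1, h2]

theorem vecU'_eq : vecU' = vec3 4 (-4) 0 := by
  refine eq_vec3 (by simp [vecU']) (by simp [vecU']) fun p h1 h2 => by simp [vecU', h1, h2]

theorem vecW_eq : vecW = vec3 1 (-3) 1 := by
  refine eq_vec3 (by simp [vecW]) (by simp [vecW]) fun p h1 h2 => by simp [vecW, h2]

/-- The points of the configuration of `v`, `w`. -/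
abbrev S (v w : leechLattice) : Set leechLattice :=
  {x : leechLattice | sqNorm (x : GolayPt → ℤ) = 32 ∧ dotInt (v : GolayPt → ℤ) (x : GolayPt → ℤ) = 0 ∧
    dotInt (w : GolayPt → ℤ) (x : GolayPt → ℤ) = 16}

/-- `g` brings the configuration to standard form. -/
structure Std (v w x : leechLattice) (g : Co0) : Prop where
  hv : ((g • v : leechLattice) : GolayPt → ℤ) = vecU
  hw : ((g • w : leechLattice) : GolayPt → ℤ) = vecW
  hx : ((g • x : leechLattice) : GolayPt → ℤ) = vecU'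

theorem exists_std (hT : Trans64) {v w x : leechLattice}
    (hv : sqNorm (v : GolayPt → ℤ) = 32) (hw : sqNorm (w : GolayPt → ℤ) = 32)
    (hvw : dotInt (v : GolayPt → ℤ) (w : GolayPt → ℤ) = -8) (hx : x ∈ S v w) :
    ∃ g : Co0, Std v w x g := by
  obtain ⟨g, h1, h2, h3⟩ := mcl_triple_of hT v w x hv hw hx.1 hvw hx.2.1 hx.2.2
  exact ⟨g, h1.trans vecU_eq.symm, h2.trans vecW_eq.symm, h3.trans vecU'_eq.symm⟩

theorem mem_leechSet (x : leechLattice) : (x : GolayPt → ℤ) ∈ leechSet :=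
  (Cfsg.Agent.SporadicA.LeechSet.mem_leechLattice_iff _).1 x.2

theorem std_conf {v w x : leechLattice} {g : Co0} (hg : Std v w x g) (y : leechLattice) (c : ℤ) :
    Conf ((g • y : leechLattice) : GolayPt → ℤ) c ↔
      y ∈ S v w ∧ dotInt (x : GolayPt → ℤ) (y : GolayPt → ℤ) = c := by
  have e1 := co0_dot g v y
  have e2 := co0_dot g w y
  have e3 := co0_dot g x y
  have e4 := co0_sqNorm g y
  rw [hg.hv] at e1
  rw [hg.hw] at e2
  rw [hg.hx] at e3
  constructor
  · intro h
    exact ⟨⟨by rw [← e4]; exact h.norm, by rw [← e1]; exact h.dotU, by rw [← e2]; exact h.dotW⟩,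
      by rw [← e3]; exact h.dotU'⟩
  · rintro ⟨⟨h1, h2, h3⟩, h4⟩
    exact ⟨mem_leechSet _, by rw [e4]; exact h1, by rw [e1]; exact h2, by rw [e2]; exact h3,
      by rw [e3]; exact h4⟩

/-- Transport of a set of lattice vectors by `g`. -/
theorem ncard_transport (g : Co0) (s : Set leechLattice) (t : Set (GolayPt → ℤ))
    (ht : ∀ y ∈ t, y ∈ leechSet)
    (h : ∀ y : leechLattice, ((g • y : leechLattice) : GolayPt → ℤ) ∈ t ↔ y ∈ s) :
    s.ncard = t.ncard := by
  have hinj : Function.Injective (fun y : leechLattice => ((g • y : leechLattice) : GolayPt → ℤ)) := by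
    intro y y' hyy
    exact MulAction.injective g (Subtype.ext hyy)
  have : t = (fun y : leechLattice => ((g • y : leechLattice) : GolayPt → ℤ)) '' s := by
    ext y
    constructor
    · intro hy
      have hy' : y ∈ leechLattice := AddSubgroup.subset_closure (ht y hy)
      have e : ((g • (g⁻¹ • (⟨y, hy'⟩ : leechLattice)) : leechLattice) : GolayPt → ℤ) = y := by
        rw [smul_inv_smul]
      refine ⟨g⁻¹ • (⟨y, hy'⟩ : leechLattice), ?_, e⟩
      rw [← h]
      rw [e]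
      exact hy
    · rintro ⟨y, hy, rfl⟩
      exact (h y).2 hy
  rw [this, Set.ncard_image_of_injective _ hinj]

theorem ncard_class {v w x : leechLattice} {g : Co0} (hg : Std v w x g) (c : ℤ) :
    {y : leechLattice | y ∈ S v w ∧ dotInt (x : GolayPt → ℤ) (y : GolayPt → ℤ) = c}.ncard =
      {y : GolayPt → ℤ | Conf y c}.ncard :=
  ncard_transport g _ _ (fun _ hy => hy.mem) fun y => std_conf hg y c

theorem ncard_S {v w x : leechLattice} {g : Co0} (hg : Std v w x g) : (S v w).ncard = 2025 := by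
  rw [← ncard_all]
  refine ncard_transport g _ _ (fun y hy => hy.1) fun y => ?_
  have e1 := co0_dot g v y
  have e2 := co0_dot g w y
  have e4 := co0_sqNorm g y
  rw [hg.hv] at e1
  rw [hg.hw] at e2
  constructor
  · rintro ⟨h1, h2, h3, h4⟩
    exact ⟨by rw [← e4]; exact h2, by rw [← e1]; exact h3, by rw [← e2]; exact h4⟩
  · rintro ⟨h1, h2, h3⟩
    exact ⟨mem_leechSet _, by rw [e4]; exact h1, by rw [e1]; exact h2, by rw [e2]; exact h3⟩

theorem fix_of_perm {σ : Equiv.Perm GolayPt} {k : Co0}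
    (hk : ∀ (u : leechLattice) (i : GolayPt),
      ((k • u : leechLattice) : GolayPt → ℤ) i = (u : GolayPt → ℤ) (σ.symm i))
    (h1 : σ none = none) (h2 : σ (some 0) = some 0) {a b c : ℤ} {u : leechLattice}
    (hu : (u : GolayPt → ℤ) = vec3 a b c) : k • u = u := by
  apply Subtype.ext
  funext i
  rw [hk u i, hu]
  have e1 : σ.symm i = none ↔ i = none := by rw [Equiv.symm_apply_eq, h1]
  have e2 : σ.symm i = some 0 ↔ i = some 0 := by rw [Equiv.symm_apply_eq, h2]
  simp only [vec3, e1, e2]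

/-- The stabiliser of `v`, `w`, `x`. -/
abbrev St (v w x : leechLattice) : Subgroup Co0 :=
  MulAction.stabilizer Co0 v ⊓ MulAction.stabilizer Co0 w ⊓ MulAction.stabilizer Co0 x

/-- The orbits of the stabiliser of `v`, `w`, `x` on the configuration. -/
theorem orbit_eq {v w x : leechLattice} {g : Co0} (hg : Std v w x g) {y : leechLattice} {c : ℤ}
    (hy : y ∈ S v w) (hc : dotInt (x : GolayPt → ℤ) (y : GolayPt → ℤ) = c) :
    MulAction.orbit (St v w x) y =
      {y : leechLattice | y ∈ S v w ∧ dotInt (x : GolayPt → ℤ) (y : GolayPt → ℤ) = c} := by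
  ext y'
  constructor
  · rintro ⟨⟨h, hh⟩, rfl⟩
    obtain ⟨⟨hh1, hh2⟩, hh3⟩ := hh
    have k1 : h • v = v := hh1
    have k2 : h • w = w := hh2
    have k3 : h • x = x := hh3
    show h • y ∈ S v w ∧ dotInt (x : GolayPt → ℤ) ((h • y : leechLattice) : GolayPt → ℤ) = c
    have e1 := co0_dot h v y
    have e2 := co0_dot h w y
    have e3 := co0_dot h x y
    have e4 := co0_sqNorm h y
    rw [k1] at e1
    rw [k2] at e2
    rw [k3] at e3
    exact ⟨⟨by rw [e4]; exact hy.1, by rw [e1]; exact hy.2.1, by rw [e2]; exact hy.2.2⟩,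
      by rw [e3]; exact hc⟩
  · rintro ⟨hy', hc'⟩
    have c1 := (std_conf hg y c).2 ⟨hy, hc⟩
    have c2 := (std_conf hg y' c).2 ⟨hy', hc'⟩
    obtain ⟨σ, s1, s2, s3, s4⟩ := exists_perm c1 c2
    obtain ⟨k, hk⟩ := exists_co0_of_perm σ s1
    have f1 := fix_of_perm hk s2 s3 (hg.hv.trans vecU_eq)
    have f2 := fix_of_perm hk s2 s3 (hg.hw.trans vecW_eq)
    have f3 := fix_of_perm hk s2 s3 (hg.hx.trans vecU'_eq)
    have f4 : k • g • y = g • y' := by
      apply Subtype.ext
      funext i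
      rw [hk, s4]
    refine ⟨⟨g⁻¹ * k * g, ⟨⟨?_, ?_⟩, ?_⟩⟩, ?_⟩
    · show (g⁻¹ * k * g) • v = v
      rw [mul_smul, mul_smul, f1, inv_smul_smul]
    · show (g⁻¹ * k * g) • w = w
      rw [mul_smul, mul_smul, f2, inv_smul_smul]
    · show (g⁻¹ * k * g) • x = x
      rw [mul_smul, mul_smul, f3, inv_smul_smul]
    · show (g⁻¹ * k * g) • y = y'
      rw [mul_smul, mul_smul, f4, inv_smul_smul]

theorem orbit_ncard {v w x : leechLattice} {g : Co0} (hg : Std v w x g) (c : ℤ) (n : ℕ) (hn : n ≠ 0)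
    (h : {y : GolayPt → ℤ | Conf y c}.ncard = n) :
    ∃ y ∈ S v w, (MulAction.orbit (St v w x) y).ncard = n := by
  have hne : {y : leechLattice | y ∈ S v w ∧ dotInt (x : GolayPt → ℤ) (y : GolayPt → ℤ) = c}.Nonempty := by
    apply Set.nonempty_of_ncard_ne_zero
    rw [ncard_class hg, h]
    exact hn
  obtain ⟨y, hy, hc⟩ := hne
  refine ⟨y, hy, ?_⟩
  rw [orbit_eq hg hy hc, ncard_class hg, h]

/-- The McLaughlin group on 2025 points. -/
theorem main (hT : Trans64)
    (hex : ∀ v w : leechLattice, sqNorm (v : GolayPt → ℤ) = 32 → sqNorm (w : GolayPt → ℤ) = 32 →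
      dotInt (v : GolayPt → ℤ) (w : GolayPt → ℤ) = -8 → (S v w).Nonempty)
    (v w : leechLattice) (hv : sqNorm (v : GolayPt → ℤ) = 32) (hw : sqNorm (w : GolayPt → ℤ) = 32)
    (hvw : dotInt (v : GolayPt → ℤ) (w : GolayPt → ℤ) = -8) :
    (S v w).ncard = 2025 ∧
    (∀ x ∈ S v w, ∀ x' ∈ S v w, ∃ g : Co0, g • v = v ∧ g • w = w ∧ g • x = x') ∧
    ∀ x ∈ S v w, ∃ y₁ ∈ S v w, ∃ y₂ ∈ S v w, ∃ y₃ ∈ S v w,
      (MulAction.orbit (St v w x) y₁).ncard = 330 ∧ (MulAction.orbit (St v w x) y₂).ncard = 462 ∧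
      (MulAction.orbit (St v w x) y₃).ncard = 1232 := by
  refine ⟨?_, ?_, ?_⟩
  · obtain ⟨x, hx⟩ := hex v w hv hw hvw
    obtain ⟨g, hg⟩ := exists_std hT hv hw hvw hx
    exact ncard_S hg
  · intro x hx x' hx'
    obtain ⟨g, hg⟩ := exists_std hT hv hw hvw hx
    obtain ⟨g', hg'⟩ := exists_std hT hv hw hvw hx'
    refine ⟨g'⁻¹ * g, ?_, ?_, ?_⟩
    · rw [mul_smul, inv_smul_eq_iff]
      exact Subtype.ext (hg.hv.trans hg'.hv.symm)
    · rw [mul_smul, inv_smul_eq_iff]
      exact Subtype.ext (hg.hw.trans hg'.hw.symm)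
    · rw [mul_smul, inv_smul_eq_iff]
      exact Subtype.ext (hg.hx.trans hg'.hx.symm)
  · intro x hx
    obtain ⟨g, hg⟩ := exists_std hT hv hw hvw hx
    obtain ⟨y₁, h1, h1'⟩ := orbit_ncard hg 0 330 (by norm_num) ncard_0
    obtain ⟨y₂, h2, h2'⟩ := orbit_ncard hg 16 462 (by norm_num) ncard_16
    obtain ⟨y₃, h3, h3'⟩ := orbit_ncard hg 8 1232 (by norm_num) ncard_8
    exact ⟨y₁, h1, y₂, h2, y₃, h3, h1', h2', h3'⟩

end Cfsg.Agent.SporadicStructure.McLMain
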