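import Cfsg.Agent.SporadicStructure.McLCount

/-!
The vectors of the McLaughlin configuration with 2025 points: the four families counted (1 + 330 + 462 + 1232) and
`M22` (acting by coordinate permutations) transitive on each.
-/

set_option autoImplicit false
open scoped Pointwise
open Cfsg

namespace Cfsg.Agent.SporadicStructure.McLOrbits

open Cfsg.Spor Cfsg.Agent.SporadicStructure.McLClassify Cfsg.Agent.SporadicStructure.McLCount
open Cfsg.Agent.SporadicStructure.M22Flags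

theorem classify' {y : GolayPt → ℤ} (hy : y ∈ leechSet)
    (hn : sqNorm y = 32) (h0 : dotInt vecU y = 0) (h1 : dotInt vecW y = 16) :
    y = vecU' ∨ (∃ O ∈ TA, y = vecA O) ∨ (∃ p ∈ FB, y = vecB p.1 p.2) ∨
      (∃ p ∈ FC, y = vecC p.1 p.2) := by
  rcases classify no_four y hy hn h0 h1 with h | ⟨O, hO, h1, h2, h3⟩ |
    ⟨O, hO, i, hi, h1, h2, h3, h4, h5⟩ | ⟨O, hO, i, hi, h1, h2, h3, h4⟩
  · exact Or.inl h
  · exact Or.inr (Or.inl ⟨O, ⟨hO, h1, h2⟩, h3⟩)
  · exact Or.inr (Or.inr (Or.inl ⟨(O, i), ⟨⟨hO, h1, h2⟩,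
      Finset.mem_erase.2 ⟨h4, Finset.mem_erase.2 ⟨h3, hi⟩⟩⟩, h5⟩))
  · exact Or.inr (Or.inr (Or.inr ⟨(O, i), ⟨⟨hO, h1, h2⟩, Finset.mem_erase.2 ⟨h3, hi⟩⟩, h4⟩))

theorem conf_value {y : GolayPt → ℤ} {c d : ℤ} (h : Conf y c) (h' : Conf y d) : c = d := by
  rw [← h.dotU', ← h'.dotU']

theorem conf_32 {y : GolayPt → ℤ} (h : Conf y 32) : y = vecU' := by
  rcases classify' h.mem h.norm h.dotU h.dotW with h1 | ⟨O, hO, rfl⟩ | ⟨p, hp, rfl⟩ | ⟨p, hp, rfl⟩
  · exact h1
  · exact absurd (conf_value h (conf_A hO)) (by norm_num)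
  · exact absurd (conf_value h (conf_B hp)) (by norm_num)
  · exact absurd (conf_value h (conf_C hp)) (by norm_num)

theorem conf_0 {y : GolayPt → ℤ} (h : Conf y 0) : ∃ O ∈ TA, y = vecA O := by
  rcases classify' h.mem h.norm h.dotU h.dotW with rfl | ⟨O, hO, rfl⟩ | ⟨p, hp, rfl⟩ | ⟨p, hp, rfl⟩
  · exact absurd (conf_value h conf_U') (by norm_num)
  · exact ⟨O, hO, rfl⟩
  · exact absurd (conf_value h (conf_B hp)) (by norm_num)
  · exact absurd (conf_value h (conf_C hp)) (by norm_num)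

theorem conf_16 {y : GolayPt → ℤ} (h : Conf y 16) : ∃ p ∈ FB, y = vecB p.1 p.2 := by
  rcases classify' h.mem h.norm h.dotU h.dotW with rfl | ⟨O, hO, rfl⟩ | ⟨p, hp, rfl⟩ | ⟨p, hp, rfl⟩
  · exact absurd (conf_value h conf_U') (by norm_num)
  · exact absurd (conf_value h (conf_A hO)) (by norm_num)
  · exact ⟨p, hp, rfl⟩
  · exact absurd (conf_value h (conf_C hp)) (by norm_num)

theorem conf_8 {y : GolayPt → ℤ} (h : Conf y 8) : ∃ p ∈ FC, y = vecC p.1 p.2 := by
  rcases classify' h.mem h.norm h.dotU h.dotW with rfl | ⟨O, hO, rfl⟩ | ⟨p, hp, rfl⟩ | ⟨p, hp, rfl⟩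
  · exact absurd (conf_value h conf_U') (by norm_num)
  · exact absurd (conf_value h (conf_A hO)) (by norm_num)
  · exact absurd (conf_value h (conf_B hp)) (by norm_num)
  · exact ⟨p, hp, rfl⟩

/-- The possible products with `(4, −4, 0²²)`. -/
theorem conf_cases {y : GolayPt → ℤ} (hy : y ∈ leechSet)
    (hn : sqNorm y = 32) (h0 : dotInt vecU y = 0) (h1 : dotInt vecW y = 16) :
    Conf y 32 ∨ Conf y 0 ∨ Conf y 16 ∨ Conf y 8 := by
  rcases classify' hy hn h0 h1 with rfl | ⟨O, hO, rfl⟩ | ⟨p, hp, rfl⟩ | ⟨p, hp, rfl⟩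
  · exact Or.inl conf_U'
  · exact Or.inr (Or.inl (conf_A hO))
  · exact Or.inr (Or.inr (Or.inl (conf_B hp)))
  · exact Or.inr (Or.inr (Or.inr (conf_C hp)))

/-! ### counts -/

theorem ncard_32 : {y : GolayPt → ℤ | Conf y 32}.ncard = 1 := by
  have : {y : GolayPt → ℤ | Conf y 32} = {vecU'} := by
    ext y
    exact ⟨fun h => conf_32 h, fun h => by rw [Set.mem_singleton_iff.1 h]; exact conf_U'⟩
  rw [this, Set.ncard_singleton]

theorem vecA_inj : Function.Injective vecA := by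
  intro O O' h
  ext p
  have := congrFun h p
  by_cases h1 : p ∈ O <;> by_cases h2 : p ∈ O' <;> simp_all [vecA]

theorem ncard_0 : {y : GolayPt → ℤ | Conf y 0}.ncard = 330 := by
  have : {y : GolayPt → ℤ | Conf y 0} = vecA '' TA := by
    ext y
    constructor
    · intro h
      obtain ⟨O, hO, rfl⟩ := conf_0 h
      exact ⟨O, hO, rfl⟩
    · rintro ⟨O, hO, rfl⟩
      exact conf_A hO
  rw [this, Set.ncard_image_of_injective _ vecA_inj, ncard_TA]

theorem vecB_injOn : Set.InjOn (fun p : Finset GolayPt × GolayPt => vecB p.1 p.2) FB := by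
  rintro ⟨O, i⟩ hO ⟨O', i'⟩ hO' h
  obtain ⟨⟨hO, h1, h2⟩, h3⟩ := hO
  have hi2 : i ≠ some 0 := Finset.ne_of_mem_erase h3
  have h3' := Finset.mem_of_mem_erase h3
  have hi : i ∈ O := Finset.mem_of_mem_erase h3'
  obtain ⟨⟨hO', h1', h2'⟩, h4⟩ := hO'
  have hi2' : i' ≠ some 0 := Finset.ne_of_mem_erase h4
  have h4' := Finset.mem_of_mem_erase h4
  have hi' : i' ∈ O' := Finset.mem_of_mem_erase h4'
  simp only at h h1 h2 h1' h2' hi hi'
  have e1 : i = i' := by
    by_contra hne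
    have := congrFun h i
    simp only [vecB, or_true, if_true, hi2, hne, or_self, if_false] at this
    split_ifs at this <;> omega
  subst e1
  have e2 : O = O' := by
    ext p
    have hp := congrFun h p
    by_cases hp0 : p = some 0
    · subst hp0; simp [h2, h2']
    by_cases hpi : p = i
    · subst hpi; simp [hi, hi']
    simp only [vecB, hp0, hpi, or_self, if_false] at hp
    by_cases h5 : p ∈ O <;> by_cases h6 : p ∈ O' <;> simp_all
  rw [e2]

theorem ncard_16 : {y : GolayPt → ℤ | Conf y 16}.ncard = 462 := by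
  have : {y : GolayPt → ℤ | Conf y 16} = (fun p : Finset GolayPt × GolayPt => vecB p.1 p.2) '' FB := by
    ext y
    constructor
    · intro h
      obtain ⟨p, hp, rfl⟩ := conf_16 h
      exact ⟨p, hp, rfl⟩
    · rintro ⟨p, hp, rfl⟩
      exact conf_B hp
  rw [this, vecB_injOn.ncard_image, ncard_FB]

theorem vecC_injOn : Set.InjOn (fun p : Finset GolayPt × GolayPt => vecC p.1 p.2) FC := by
  rintro ⟨O, i⟩ hO ⟨O', i'⟩ hO' h
  obtain ⟨⟨hO, h1, h2⟩, h3⟩ := hO
  have hi : i ∈ O := Finset.mem_of_mem_erase h3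
  obtain ⟨⟨hO', h1', h2'⟩, h4⟩ := hO'
  have hi' : i' ∈ O' := Finset.mem_of_mem_erase h4
  simp only at h h1 h2 h1' h2' hi hi'
  have e1 : i = i' := by
    by_contra hne
    have := congrFun h i
    simp only [vecC, if_true, hne, if_false] at this
    split_ifs at this <;> omega
  subst e1
  have e2 : O = O' := by
    ext p
    have hp := congrFun h p
    by_cases hpi : p = i
    · subst hpi; simp [hi, hi']
    simp only [vecC, hpi, if_false] at hp
    by_cases h5 : p ∈ O <;> by_cases h6 : p ∈ O' <;> simp_all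
  rw [e2]

theorem ncard_8 : {y : GolayPt → ℤ | Conf y 8}.ncard = 1232 := by
  have : {y : GolayPt → ℤ | Conf y 8} = (fun p : Finset GolayPt × GolayPt => vecC p.1 p.2) '' FC := by
    ext y
    constructor
    · intro h
      obtain ⟨p, hp, rfl⟩ := conf_8 h
      exact ⟨p, hp, rfl⟩
    · rintro ⟨p, hp, rfl⟩
      exact conf_C hp
  rw [this, vecC_injOn.ncard_image, ncard_FC]

/-- The configuration for the standard pair has 2025 members. -/
theorem ncard_all : {y : GolayPt → ℤ | y ∈ leechSet ∧ sqNorm y = 32 ∧ dotInt vecU y = 0 ∧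
    dotInt vecW y = 16}.ncard = 2025 := by
  have hun : {y : GolayPt → ℤ | y ∈ leechSet ∧ sqNorm y = 32 ∧ dotInt vecU y = 0 ∧
      dotInt vecW y = 16} = (({y : GolayPt → ℤ | Conf y 32} ∪ {y : GolayPt → ℤ | Conf y 0}) ∪
        {y : GolayPt → ℤ | Conf y 16}) ∪ {y : GolayPt → ℤ | Conf y 8} := by
    ext y
    constructor
    · rintro ⟨h1, h2, h3, h4⟩
      rcases conf_cases h1 h2 h3 h4 with h | h | h | h
      · exact Or.inl (Or.inl (Or.inl h))
      · exact Or.inl (Or.inl (Or.inr h))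
      · exact Or.inl (Or.inr h)
      · exact Or.inr h
    · rintro (((h | h) | h) | h) <;> exact ⟨h.mem, h.norm, h.dotU, h.dotW⟩
  have hd : ∀ c d : ℤ, c ≠ d → Disjoint {y : GolayPt → ℤ | Conf y c} {y : GolayPt → ℤ | Conf y d} := by
    intro c d hcd
    rw [Set.disjoint_left]
    intro y h1 h2
    exact hcd (conf_value h1 h2)
  have f32 := Set.finite_of_ncard_ne_zero (s := {y : GolayPt → ℤ | Conf y 32}) (by rw [ncard_32]; norm_num)
  have f0 := Set.finite_of_ncard_ne_zero (s := {y : GolayPt → ℤ | Conf y 0}) (by rw [ncard_0]; norm_num)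
  have f16 := Set.finite_of_ncard_ne_zero (s := {y : GolayPt → ℤ | Conf y 16}) (by rw [ncard_16]; norm_num)
  have f8 := Set.finite_of_ncard_ne_zero (s := {y : GolayPt → ℤ | Conf y 8}) (by rw [ncard_8]; norm_num)
  rw [hun, Set.ncard_union_eq _ ((f32.union f0).union f16) f8,
    Set.ncard_union_eq _ (f32.union f0) f16, Set.ncard_union_eq (hd _ _ (by norm_num)) f32 f0,
    ncard_32, ncard_0, ncard_16, ncard_8]
  · exact Disjoint.sup_left (hd _ _ (by norm_num)) (hd _ _ (by norm_num))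
  · exact Disjoint.sup_left (Disjoint.sup_left (hd _ _ (by norm_num)) (hd _ _ (by norm_num)))
      (hd _ _ (by norm_num))

/-! ### transitivity -/

theorem mem_smul_iff (σ : Equiv.Perm GolayPt) (O : Finset GolayPt) (p : GolayPt) :
    p ∈ σ • O ↔ σ.symm p ∈ O := by
  rw [Finset.mem_smul_finset]
  constructor
  · rintro ⟨q, hq, rfl⟩
    rw [Equiv.Perm.smul_def, Equiv.symm_apply_apply]
    exact hq
  · intro h
    exact ⟨_, h, by rw [Equiv.Perm.smul_def, Equiv.apply_symm_apply]⟩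

/-- `M22` is transitive on the members of the configuration with given product with `(4, −4, 0²²)`. -/
theorem exists_perm {y y' : GolayPt → ℤ} {c : ℤ} (hy : Conf y c) (hy' : Conf y' c) :
    ∃ σ ∈ M24, σ none = none ∧ σ (some 0) = some 0 ∧ ∀ p, y' p = y (σ.symm p) := by
  rcases conf_cases hy.mem hy.norm hy.dotU hy.dotW with h | h | h | h
  · obtain rfl := conf_value hy h
    obtain rfl := conf_32 hy
    obtain rfl := conf_32 hy'
    exact ⟨1, one_mem _, rfl, rfl, fun p => rfl⟩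
  · obtain rfl := conf_value hy h
    obtain ⟨O, hO, rfl⟩ := conf_0 hy
    obtain ⟨O', hO', rfl⟩ := conf_0 hy'
    obtain ⟨σ, h1, h2, h3, rfl⟩ := exists_map_A hO.1 hO'.1 hO.2.1 hO.2.2 hO'.2.1 hO'.2.2
    refine ⟨σ, h1, h2, h3, fun p => ?_⟩
    simp only [vecA, mem_smul_iff]
  · obtain rfl := conf_value hy h
    obtain ⟨⟨O, i⟩, hO, rfl⟩ := conf_16 hy
    obtain ⟨⟨O', i'⟩, hO', rfl⟩ := conf_16 hy'
    have k1 := Finset.mem_erase.1 hO.2
    have k2 := Finset.mem_erase.1 k1.2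
    have k1' := Finset.mem_erase.1 hO'.2
    have k2' := Finset.mem_erase.1 k1'.2
    obtain ⟨σ, h1, h2, h3, h4, h5⟩ := exists_map_flag_B hO.1.1 hO'.1.1 hO.1.2.1 hO.1.2.2 hO'.1.2.1
      hO'.1.2.2 k2.2 k2.1 k1.1 k2'.2 k2'.1 k1'.1
    refine ⟨σ, h1, h2, h3, fun p => ?_⟩
    simp only at h4 h5
    subst h4 h5
    have e1 : σ.symm p = some 0 ↔ p = some 0 := by
      rw [Equiv.symm_apply_eq, h3]
    have e2 : σ.symm p = i ↔ p = σ i := by
      rw [Equiv.symm_apply_eq]
    simp only [vecB, mem_smul_iff, e1, e2]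
  · obtain rfl := conf_value hy h
    obtain ⟨⟨O, i⟩, hO, rfl⟩ := conf_8 hy
    obtain ⟨⟨O', i'⟩, hO', rfl⟩ := conf_8 hy'
    have k1 := Finset.mem_erase.1 hO.2
    have k1' := Finset.mem_erase.1 hO'.2
    obtain ⟨σ, h1, h2, h3, h4, h5⟩ := exists_map_flag_C hO.1.1 hO'.1.1 hO.1.2.1 hO.1.2.2 hO'.1.2.1
      hO'.1.2.2 k1.2 k1.1 k1'.2 k1'.1
    refine ⟨σ, h1, h2, h3, fun p => ?_⟩
    simp only at h4 h5
    subst h4 h5
    have e2 : σ.symm p = i ↔ p = σ i := by
      rw [Equiv.symm_apply_eq]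
    simp only [vecC, mem_smul_iff, e2]

end Cfsg.Agent.SporadicStructure.McLOrbits
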