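import Cfsg.Agent.SporadicStructure.MonoTypes

/-!
# Orbits of the monomial subgroup of `Cfsg.Co0` on minimal vectors
-/

set_option autoImplicit false
open scoped Pointwise
open Cfsg

namespace Cfsg.Agent.SporadicStructure.MonoOrbits

open Cfsg.Agent.SporadicA.GolayBase Cfsg.Agent.SporadicA.GolayPerm
open Cfsg.Agent.SporadicStructure.MinShapes Cfsg.Agent.SporadicStructure.MonoPerms
open Cfsg.Agent.SporadicStructure.MonoSigns Cfsg.Agent.SporadicStructure.MonoTypes
open Cfsg.Agent.SporadicStructure.Co0Base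

/-! ### Membership of the standard vectors in the lattice -/

theorem vec_two_mem {O S : Finset GolayPt} (hO : O ∈ octads) (hS : S ⊆ O) (he : Even S.card) :
    vec 2 O S ∈ leechLattice := by
  have h : vec 2 O S = fun i => 2 * ((fun j => if j ∈ O then (if j ∈ S then -1 else 1) else 0 :
      GolayPt → ℤ) i) := by
    funext i
    simp only [vec]
    split_ifs <;> norm_num
  rw [h]
  apply two_mul_mem
  · have : Cfsg.Agent.SporadicStructure.LeechBase.red
        (fun j => if j ∈ O then (if j ∈ S then -1 else 1) else 0 : GolayPt → ℤ) =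
        Cfsg.Agent.SporadicStructure.LeechBase.ind O := by
      funext i
      simp only [Cfsg.Agent.SporadicStructure.LeechBase.red,
        Cfsg.Agent.SporadicStructure.LeechBase.ind]
      split_ifs
      · decide
      · decide
      · decide
    rw [this]
    exact (Cfsg.Agent.SporadicStructure.LeechBase.mem_supports_iff_ind O).1 hO.1
  · have h2 : ∀ i, (if i ∈ O then (if i ∈ S then -1 else 1) else 0 : ℤ) =
        (if i ∈ O then 1 else 0) - 2 * (if i ∈ S then 1 else 0) := by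
      intro i
      by_cases h1 : i ∈ O <;> by_cases h2 : i ∈ S
      · simp [h1, h2]
      · simp [h1, h2]
      · exact absurd (hS h2) h1
      · simp [h1, h2]
    have h3 : ∑ i, (if i ∈ O then (if i ∈ S then -1 else 1) else 0 : ℤ) =
        8 - 2 * (S.card : ℤ) := by
      rw [Finset.sum_congr rfl fun i _ => h2 i, Finset.sum_sub_distrib, ← Finset.mul_sum,
        Finset.sum_ite_mem, Finset.sum_ite_mem, Finset.univ_inter, Finset.univ_inter,
        Finset.sum_const, Finset.sum_const, octad_card hO]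
      norm_num
    rw [h3]
    obtain ⟨k, hk⟩ := he
    exact ⟨2 - (k : ℤ), by rw [hk]; push_cast; ring⟩

theorem vec_four_mem {T S : Finset GolayPt} (hT : T.card = 2) (hS : S ⊆ T) :
    vec 4 T S ∈ leechLattice := by
  have h : vec 4 T S = fun i => 4 * ((fun j => if j ∈ T then (if j ∈ S then -1 else 1) else 0 :
      GolayPt → ℤ) i) := by
    funext i
    simp only [vec]
    split_ifs <;> norm_num
  rw [h]
  apply four_mul_mem
  have h2 : ∀ i, (if i ∈ T then (if i ∈ S then -1 else 1) else 0 : ℤ) =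
      (if i ∈ T then 1 else 0) - 2 * (if i ∈ S then 1 else 0) := by
    intro i
    by_cases h1 : i ∈ T <;> by_cases h2 : i ∈ S
    · simp [h1, h2]
    · simp [h1, h2]
    · exact absurd (hS h2) h1
    · simp [h1, h2]
  have h3 : ∑ i, (if i ∈ T then (if i ∈ S then -1 else 1) else 0 : ℤ) =
      2 - 2 * (S.card : ℤ) := by
    rw [Finset.sum_congr rfl fun i _ => h2 i, Finset.sum_sub_distrib, ← Finset.mul_sum,
      Finset.sum_ite_mem, Finset.sum_ite_mem, Finset.univ_inter, Finset.univ_inter,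
      Finset.sum_const, Finset.sum_const, hT]
    norm_num
  rw [h3]
  exact ⟨1 - (S.card : ℤ), by ring⟩

theorem odd_mem {j : GolayPt} {d : Finset GolayPt} (hd : d ∈ SC) : odd j d ∈ leechLattice :=
  signChange_mem hd (minus3_mem j)

/-- `(4, 4, 0^22)`. -/
def v0 : leechLattice := ⟨vec 4 {none, some 0} ∅, vec_four_mem (by decide) (by simp)⟩

/-- `(4, -4, 0^22)`. -/
def w0 : leechLattice := ⟨vec 4 {none, some 0} {some 0}, vec_four_mem (by decide) (by simp)⟩

/-- `(2^8, 0^16)`. -/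
def b0 : leechLattice := ⟨vec 2 O2 ∅, vec_two_mem O2_mem (by simp) (by simp)⟩

/-- `(-3, 1^23)`. -/
def o0 : leechLattice := ⟨odd none ∅, odd_mem empty_mem⟩

variable (M : Subgroup ↥Co0)
variable (hM : ∀ (σ : Equiv.Perm GolayPt) (hσ : σ ∈ M24) (c : Finset GolayPt) (hc : c ∈ SC),
  monomial σ hσ c hc ∈ M)

include hM in
theorem orb4 (v : leechLattice) {T S : Finset GolayPt} (hT : T.card = 2) (hS : S ⊆ T)
    (hv : (v : GolayPt → ℤ) = vec 4 T S) : ∃ g ∈ M, g • v0 = v := by
  obtain ⟨p, q, hpq, rfl⟩ := Finset.card_eq_two.1 hT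
  obtain ⟨σ, hσ, h1, h2⟩ := exists_M24_pair hpq
  have hT2 : σ • ({none, some 0} : Finset GolayPt) = {p, q} := by
    rw [Finset.smul_finset_insert, Finset.smul_finset_singleton]
    show ({σ none, σ (some 0)} : Finset GolayPt) = _
    rw [h1, h2]
  obtain ⟨d, hd, -, h⟩ := exists_mono_vec 4 (T := {none, some 0}) (T' := {p, q}) (S := S) (R := ∅)
    hσ hT2 (fun _ => True) (fun _ _ => trivial) hS (by
      have h3 : symmDiff (σ⁻¹ • S) ∅ ⊆ {none, some 0} := by
        rw [show (∅ : Finset GolayPt) = ⊥ from rfl, symmDiff_bot, Finset.smul_finset_subset_iff,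
          inv_inv, hT2]
        exact hS
      obtain ⟨d, hd, h4⟩ := sign_T0 h3
      exact ⟨d, hd, trivial, h4⟩) (by simp)
  refine ⟨monomial σ hσ d hd, hM _ _ _ _, ?_⟩
  apply Subtype.ext
  rw [monomial_smul, hv]
  exact h

include hM in
theorem orb2 (v : leechLattice) {O S : Finset GolayPt} (hO : O ∈ octads) (hS : S ⊆ O)
    (he : Even S.card) (hv : (v : GolayPt → ℤ) = vec 2 O S) : ∃ g ∈ M, g • b0 = v := by
  obtain ⟨σ, hσ, h1⟩ := exists_M24_octad hO
  obtain ⟨d, hd, -, h⟩ := exists_mono_vec 2 (T := O2) (T' := O) (S := S) (R := ∅)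
    hσ h1 (fun _ => True) (fun _ _ => trivial) hS (by
      have h3 : symmDiff (σ⁻¹ • S) ∅ ⊆ O2 := by
        rw [show (∅ : Finset GolayPt) = ⊥ from rfl, symmDiff_bot, Finset.smul_finset_subset_iff,
          inv_inv, h1]
        exact hS
      obtain ⟨d, hd, h4⟩ := sign_O2 h3 (by
        rw [show (∅ : Finset GolayPt) = ⊥ from rfl, symmDiff_bot, Finset.card_smul_finset]
        exact he)
      exact ⟨d, hd, trivial, h4⟩) (by simp)
  refine ⟨monomial σ hσ d hd, hM _ _ _ _, ?_⟩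
  apply Subtype.ext
  rw [monomial_smul, hv]
  exact h

include hM in
theorem orbodd (v : leechLattice) {j : GolayPt} {d : Finset GolayPt} (hd : d ∈ SC)
    (hv : (v : GolayPt → ℤ) = odd j d) : ∃ g ∈ M, g • o0 = v := by
  obtain ⟨q, hq⟩ : ∃ q : GolayPt, j ≠ q := ⟨_, (exists_ne j).choose_spec.symm⟩
  obtain ⟨σ, hσ, h1, -⟩ := exists_M24_pair hq
  refine ⟨monomial σ hσ d hd, hM _ _ _ _, ?_⟩
  apply Subtype.ext
  rw [monomial_smul, hv]
  show signedPerm σ d (odd none ∅) = odd j d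
  rw [signedPerm_odd, h1, Finset.smul_finset_empty, show (∅ : Finset GolayPt) = ⊥ from rfl,
    symmDiff_bot]

/-! ### The stabiliser of `v0` -/

theorem smul_pair (σ : Equiv.Perm GolayPt) (a b : GolayPt) :
    σ • ({a, b} : Finset GolayPt) = {σ a, σ b} := by
  rw [Finset.smul_finset_insert, Finset.smul_finset_singleton]
  rfl

theorem mono_v0 {σ : Equiv.Perm GolayPt} (hσ : σ ∈ M24)
    (h : σ • ({none, some 0} : Finset GolayPt) = {none, some 0})
    {d : Finset GolayPt} (hd : d ∈ SC) (h1 : none ∉ d ∧ some 0 ∉ d) :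
    monomial σ hσ d hd • v0 = v0 := by
  apply Subtype.ext
  rw [monomial_smul]
  show signedPerm σ d (vec 4 {none, some 0} ∅) = vec 4 {none, some 0} ∅
  rw [signedPerm_vec, h]
  apply vec_congr
  rw [Finset.smul_finset_empty, show (∅ : Finset GolayPt) = ⊥ from rfl, symmDiff_bot]
  ext x
  simp only [Finset.mem_inter, Finset.mem_insert, Finset.mem_singleton, Finset.bot_eq_empty,
    Finset.notMem_empty, false_and, iff_false]
  rintro ⟨hx, rfl | rfl⟩
  · exact h1.1 hx
  · exact h1.2 hx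

theorem mem_N22_smul {σ : Equiv.Perm GolayPt} (hσ : σ ∈ N22) (d : Finset GolayPt)
    (h : none ∉ d ∧ some 0 ∉ d) : none ∉ σ • d ∧ some 0 ∉ σ • d := by
  obtain ⟨-, h1, h2⟩ := mem_N22.1 hσ
  have e1 := mem_smul_iff σ d none
  have e2 := mem_smul_iff σ d (some 0)
  rw [h1] at e1
  rw [h2] at e2
  exact ⟨fun h' => h.1 (e1.1 h'), fun h' => h.2 (e2.1 h')⟩

theorem N22_pair {σ : Equiv.Perm GolayPt} (hσ : σ ∈ N22) :
    σ • ({none, some 0} : Finset GolayPt) = {none, some 0} := by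
  obtain ⟨-, h1, h2⟩ := mem_N22.1 hσ
  rw [smul_pair, h1, h2]

/-- An element of `M24` exchanging `none` and `some 0`. -/
theorem exists_swap : ∃ ρ ∈ M24, ρ none = some 0 ∧ ρ (some 0) = none :=
  exists_M24_pair (by decide)

theorem r1_mem : vec 4 {some 1, some 2} ∅ ∈ leechLattice := vec_four_mem (by decide) (by simp)

theorem r2_mem : vec 2 O2 {some 0, some 12} ∈ leechLattice :=
  vec_two_mem O2_mem (by decide +kernel) (by decide)

theorem r3_mem : vec 2 O3 ∅ ∈ leechLattice := vec_two_mem O3_mem (by simp) (by simp)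

/-- A code word containing `some 0` and not `none`. -/
theorem d1_mem : fin 1302533 ∈ SC := fin_mem (by decide +kernel)

theorem r4_mem : odd (some 1) (fin 1302533) ∈ leechLattice := odd_mem d1_mem

include hM in
theorem orbT1 (v : leechLattice) (hv : (v : GolayPt → ℤ) ∈ T1) :
    ∃ g ∈ M, g • v0 = v0 ∧ g • (⟨_, r1_mem⟩ : leechLattice) = v := by
  obtain ⟨T, S, ⟨hT, hn, h0⟩, hS, hv⟩ := hv
  obtain ⟨p, q, hpq, rfl⟩ := Finset.card_eq_two.1 hT
  simp only [Finset.mem_insert, Finset.mem_singleton, not_or] at hn h0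
  obtain ⟨σ, hσ, h1, h2⟩ := exists_N22_pair hpq (fun h => hn.1 h.symm) (fun h => h0.1 h.symm)
    (fun h => hn.2 h.symm) (fun h => h0.2 h.symm)
  have hT2 : σ • ({some 1, some 2} : Finset GolayPt) = {p, q} := by
    rw [smul_pair, h1, h2]
  obtain ⟨d, hd, hA, h⟩ := exists_mono_vec 4 (T := {some 1, some 2}) (T' := {p, q}) (S := S)
    (R := ∅) (N22_le hσ) hT2 (fun d => none ∉ d ∧ some 0 ∉ d) (mem_N22_smul hσ) hS (by
      have h3 : symmDiff (σ⁻¹ • S) ∅ ⊆ {some 1, some 2} := by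
        rw [show (∅ : Finset GolayPt) = ⊥ from rfl, symmDiff_bot, Finset.smul_finset_subset_iff,
          inv_inv, hT2]
        exact hS
      exact sign_T1 h3) (by simp)
  refine ⟨monomial σ (N22_le hσ) d hd, hM _ _ _ _, mono_v0 _ (N22_pair hσ) hd hA, ?_⟩
  apply Subtype.ext
  rw [monomial_smul, hv]
  exact h

include hM in
theorem orbT3 (v : leechLattice) (hv : (v : GolayPt → ℤ) ∈ T3) :
    ∃ g ∈ M, g • v0 = v0 ∧ g • (⟨_, r3_mem⟩ : leechLattice) = v := by
  obtain ⟨O, S, ⟨hO, hn, h0⟩, ⟨hS, he⟩, hv⟩ := hv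
  obtain ⟨σ, hσ, h1⟩ := exists_N22_octad_out hO hn h0
  obtain ⟨d, hd, hA, h⟩ := exists_mono_vec 2 (T := O3) (T' := O) (S := S)
    (R := ∅) (N22_le hσ) h1 (fun d => none ∉ d ∧ some 0 ∉ d) (mem_N22_smul hσ) hS (by
      have h3 : symmDiff (σ⁻¹ • S) ∅ ⊆ O3 := by
        rw [show (∅ : Finset GolayPt) = ⊥ from rfl, symmDiff_bot, Finset.smul_finset_subset_iff,
          inv_inv, h1]
        exact hS
      exact sign_O3 h3 (by
        rw [show (∅ : Finset GolayPt) = ⊥ from rfl, symmDiff_bot, Finset.card_smul_finset]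
        exact he)) (by simp)
  refine ⟨monomial σ (N22_le hσ) d hd, hM _ _ _ _, mono_v0 _ (N22_pair hσ) hd hA, ?_⟩
  apply Subtype.ext
  rw [monomial_smul, hv]
  exact h

theorem even_card_symmDiff {A B : Finset GolayPt} (hA : Even A.card) (hB : Even B.card) :
    Even (symmDiff A B).card := by
  have h := card_symmDiff_add A B
  rw [Nat.even_iff] at *
  omega

include hM in
theorem orbT2_aux (v : leechLattice) {O S : Finset GolayPt} (hO : O ∈ octads) (hnO : none ∈ O)
    (h0O : some 0 ∈ O) (hS : S ⊆ O) (he : Even S.card) (hn : none ∉ S) (h0 : some 0 ∈ S)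
    (hv : (v : GolayPt → ℤ) = vec 2 O S) :
    ∃ g ∈ M, g • v0 = v0 ∧ g • (⟨_, r2_mem⟩ : leechLattice) = v := by
  obtain ⟨σ, hσ, h1⟩ := exists_N22_octad_in hO hnO h0O
  obtain ⟨-, hσn, hσ0⟩ := mem_N22.1 hσ
  have m1 : none ∈ O2 := by decide +kernel
  have m2 : some 0 ∈ O2 := by decide +kernel
  have hR : ({some 0, some 12} : Finset GolayPt) ⊆ O2 := by decide +kernel
  have hσS : σ⁻¹ • S ⊆ O2 := by
    rw [Finset.smul_finset_subset_iff, inv_inv, h1]
    exact hS
  have hn' : none ∉ σ⁻¹ • S := by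
    intro h
    have := (mem_smul_iff σ (σ⁻¹ • S) none).2 h
    rw [smul_inv_smul, hσn] at this
    exact hn this
  have h0' : some 0 ∈ σ⁻¹ • S := by
    rw [← mem_smul_iff σ, smul_inv_smul, hσ0]
    exact h0
  obtain ⟨d, hd, hA, h⟩ := exists_mono_vec 2 (T := O2) (T' := O) (S := S)
    (R := {some 0, some 12}) (N22_le hσ) h1 (fun d => none ∉ d ∧ some 0 ∉ d) (mem_N22_smul hσ) hS (by
      have h3 : symmDiff (σ⁻¹ • S) {some 0, some 12} ⊆ O2 := by
        intro x hx
        rcases Finset.mem_symmDiff.1 hx with h | h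
        · exact hσS h.1
        · exact hR h.1
      obtain ⟨d, hd, h4⟩ := sign_O2 h3 (even_card_symmDiff
        (by rw [Finset.card_smul_finset]; exact he) (by decide))
      refine ⟨d, hd, ⟨?_, ?_⟩, h4⟩
      · intro h
        have h5 : none ∈ d ∩ O2 := Finset.mem_inter.2 ⟨h, m1⟩
        rw [h4, Finset.mem_symmDiff] at h5
        rcases h5 with h5 | h5
        · exact hn' h5.1
        · exact absurd h5.1 (by decide)
      · intro h
        have h5 : some 0 ∈ d ∩ O2 := Finset.mem_inter.2 ⟨h, m2⟩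
        rw [h4, Finset.mem_symmDiff] at h5
        rcases h5 with h5 | h5
        · exact h5.2 (by decide)
        · exact h5.2 h0') hR
  refine ⟨monomial σ (N22_le hσ) d hd, hM _ _ _ _, mono_v0 _ (N22_pair hσ) hd hA, ?_⟩
  apply Subtype.ext
  rw [monomial_smul, hv]
  exact h

include hM in
theorem orbT2 (v : leechLattice) (hv : (v : GolayPt → ℤ) ∈ T2) :
    ∃ g ∈ M, g • v0 = v0 ∧ g • (⟨_, r2_mem⟩ : leechLattice) = v := by
  obtain ⟨O, S, ⟨hO, hnO, h0O⟩, ⟨hS, he, hn0⟩, hv⟩ := hv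
  by_cases hn : none ∈ S
  · have h0 : some 0 ∉ S := hn0.1 hn
    obtain ⟨ρ, hρ, hρn, hρ0⟩ := exists_swap
    have hfix : monomial ρ hρ ∅ empty_mem • v0 = v0 :=
      mono_v0 hρ (by rw [smul_pair, hρn, hρ0, Finset.pair_comm]) empty_mem (by simp)
    have hv' : ((monomial ρ hρ ∅ empty_mem • v : leechLattice) : GolayPt → ℤ) =
        vec 2 (ρ • O) (ρ • S) := by
      rw [monomial_smul, hv, signedPerm_vec]
      apply vec_congr
      rw [show (∅ : Finset GolayPt) = ⊥ from rfl, bot_symmDiff]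
    have a1 := mem_smul_iff ρ O none
    have a2 := mem_smul_iff ρ O (some 0)
    have a3 := mem_smul_iff ρ S none
    have a4 := mem_smul_iff ρ S (some 0)
    rw [hρn] at a1 a3
    rw [hρ0] at a2 a4
    obtain ⟨g, hg, h1, h2⟩ := orbT2_aux M hM (monomial ρ hρ ∅ empty_mem • v)
      ((smul_mem_octads hρ).2 hO) (a2.2 h0O) (a1.2 hnO) (Finset.smul_finset_subset_smul_finset hS)
      (by rw [Finset.card_smul_finset]; exact he) (fun h => h0 (a4.1 h)) (a3.2 hn) hv'
    refine ⟨(monomial ρ hρ ∅ empty_mem)⁻¹ * g, M.mul_mem (M.inv_mem (hM _ _ _ _)) hg, ?_, ?_⟩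
    · rw [mul_smul, h1, inv_smul_eq_iff, hfix]
    · rw [mul_smul, h2, inv_smul_smul]
  · have h0 : some 0 ∈ S := by
      by_contra h
      exact hn (hn0.2 h)
    exact orbT2_aux M hM v hO hnO h0O hS he hn h0 hv

include hM in
theorem orbT4_aux (v : leechLattice) {j : GolayPt} {d : Finset GolayPt} (hj1 : j ≠ none)
    (hj2 : j ≠ some 0) (hd : d ∈ SC) (hn : none ∉ d) (h0 : some 0 ∈ d)
    (hv : (v : GolayPt → ℤ) = odd j d) :
    ∃ g ∈ M, g • v0 = v0 ∧ g • (⟨_, r4_mem⟩ : leechLattice) = v := by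
  obtain ⟨σ, hσ, h1⟩ := exists_N22_point hj1 hj2
  obtain ⟨hσM, hσn, hσ0⟩ := mem_N22.1 hσ
  have b1 : none ∉ fin 1302533 := by decide +kernel
  have b2 : some 0 ∈ fin 1302533 := by decide +kernel
  have a1 := mem_smul_iff σ (fin 1302533) none
  have a2 := mem_smul_iff σ (fin 1302533) (some 0)
  rw [hσn] at a1
  rw [hσ0] at a2
  have he : symmDiff d (σ • fin 1302533) ∈ SC :=
    symmDiff_mem_supports hd ((smul_mem_supports hσM).2 d1_mem)
  refine ⟨monomial σ hσM _ he, hM _ _ _ _, mono_v0 _ (N22_pair hσ) he ⟨?_, ?_⟩, ?_⟩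
  · intro h
    rcases Finset.mem_symmDiff.1 h with h | h
    · exact hn h.1
    · exact b1 (a1.1 h.1)
  · intro h
    rcases Finset.mem_symmDiff.1 h with h | h
    · exact h.2 (a2.2 b2)
    · exact h.2 h0
  · apply Subtype.ext
    rw [monomial_smul, hv]
    show signedPerm σ _ (odd (some 1) (fin 1302533)) = odd j d
    rw [signedPerm_odd, h1, symmDiff_symmDiff_cancel_right]

include hM in
theorem orbT4 (v : leechLattice) (hv : (v : GolayPt → ℤ) ∈ T4) :
    ∃ g ∈ M, g • v0 = v0 ∧ g • (⟨_, r4_mem⟩ : leechLattice) = v := by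
  obtain ⟨j, d, ⟨hj1, hj2⟩, ⟨hd, hn0⟩, hv⟩ := hv
  by_cases hn : none ∈ d
  · have h0 : some 0 ∉ d := hn0.1 hn
    obtain ⟨ρ, hρ, hρn, hρ0⟩ := exists_swap
    have hfix : monomial ρ hρ ∅ empty_mem • v0 = v0 :=
      mono_v0 hρ (by rw [smul_pair, hρn, hρ0, Finset.pair_comm]) empty_mem (by simp)
    have hv' : ((monomial ρ hρ ∅ empty_mem • v : leechLattice) : GolayPt → ℤ) =
        odd (ρ j) (ρ • d) := by
      rw [monomial_smul, hv, signedPerm_odd, show (∅ : Finset GolayPt) = ⊥ from rfl, bot_symmDiff]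
    have a3 := mem_smul_iff ρ d none
    have a4 := mem_smul_iff ρ d (some 0)
    rw [hρn] at a3
    rw [hρ0] at a4
    obtain ⟨g, hg, h1, h2⟩ := orbT4_aux M hM (monomial ρ hρ ∅ empty_mem • v)
      (j := ρ j) (d := ρ • d) (fun h => hj2 (ρ.injective (h.trans hρ0.symm)))
      (fun h => hj1 (ρ.injective (h.trans hρn.symm)))
      ((smul_mem_supports hρ).2 hd) (fun h => h0 (a4.1 h)) (a3.2 hn) hv'
    refine ⟨(monomial ρ hρ ∅ empty_mem)⁻¹ * g, M.mul_mem (M.inv_mem (hM _ _ _ _)) hg, ?_, ?_⟩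
    · rw [mul_smul, h1, inv_smul_eq_iff, hfix]
    · rw [mul_smul, h2, inv_smul_smul]
  · have h0 : some 0 ∈ d := by
      by_contra h
      exact hn (hn0.2 h)
    exact orbT4_aux M hM v hj1 hj2 hd hn h0 hv

end Cfsg.Agent.SporadicStructure.MonoOrbits
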