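import Cfsg.Agent.SporadicStructure.MonoCounts

/-!
# The four nontrivial types of minimal vectors orthogonal to `(4, 4, 0^22)`
-/

set_option autoImplicit false
open scoped Pointwise
open Cfsg

namespace Cfsg.Agent.SporadicStructure.MonoTypes

open Cfsg.Agent.SporadicA.GolayBase Cfsg.Agent.SporadicA.GolayPerm
open Cfsg.Agent.SporadicStructure.MinShapes Cfsg.Agent.SporadicStructure.MonoPerms
open Cfsg.Agent.SporadicStructure.MonoSigns Cfsg.Agent.SporadicStructure.MonoCounts
open Cfsg.Agent.SporadicStructure.Co0Base Cfsg.Agent.SporadicStructure.LeechBase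

/-- Shape `(±4, ±4)` away from `none`, `some 0`. -/
def T1 : Set (GolayPt → ℤ) :=
  {x | ∃ T S : Finset GolayPt, (T.card = 2 ∧ none ∉ T ∧ some 0 ∉ T) ∧ S ⊆ T ∧ x = vec 4 T S}

/-- Shape `(±2)^8` on an octad through `none`, `some 0`, with opposite signs there. -/
def T2 : Set (GolayPt → ℤ) :=
  {x | ∃ O S : Finset GolayPt, (O ∈ octads ∧ none ∈ O ∧ some 0 ∈ O) ∧
    (S ⊆ O ∧ Even S.card ∧ (none ∈ S ↔ some 0 ∉ S)) ∧ x = vec 2 O S}

/-- Shape `(±2)^8` on an octad avoiding `none`, `some 0`. -/
def T3 : Set (GolayPt → ℤ) :=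
  {x | ∃ O S : Finset GolayPt, (O ∈ octads ∧ none ∉ O ∧ some 0 ∉ O) ∧
    (S ⊆ O ∧ Even S.card) ∧ x = vec 2 O S}

/-- Odd shape with opposite coordinates `±1` at `none`, `some 0`. -/
def T4 : Set (GolayPt → ℤ) :=
  {x | ∃ (j : GolayPt) (d : Finset GolayPt), (j ≠ none ∧ j ≠ some 0) ∧
    (d ∈ SC ∧ (none ∈ d ↔ some 0 ∉ d)) ∧ x = odd j d}

theorem vec_inj {c : ℤ} (hc : c ≠ 0) {T S T' S' : Finset GolayPt} (hS : S ⊆ T) (hS' : S' ⊆ T')
    (h : vec c T S = vec c T' S') : T = T' ∧ S = S' := by
  have hc2 : -c ≠ c := fun h => hc (by omega)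
  have hT : T = T' := by
    ext i
    have hi := congrFun h i
    simp only [vec] at hi
    by_cases h1 : i ∈ T <;> by_cases h2 : i ∈ T' <;> simp only [h1, h2, if_true, if_false] at hi ⊢
    · exfalso
      by_cases h3 : i ∈ S <;> simp only [h3, if_true, if_false] at hi
      · exact hc (by omega)
      · exact hc hi
    · exfalso
      by_cases h3 : i ∈ S' <;> simp only [h3, if_true, if_false] at hi
      · exact hc (by omega)
      · exact hc hi.symm
  refine ⟨hT, ?_⟩
  subst hT
  ext i
  have hi := congrFun h i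
  simp only [vec] at hi
  by_cases h1 : i ∈ T
  · by_cases h2 : i ∈ S <;> by_cases h3 : i ∈ S' <;> simp only [h1, h2, h3, if_true, if_false] at hi ⊢
    · exact absurd hi hc2
    · exact absurd hi.symm hc2
  · exact ⟨fun h => absurd (hS h) h1, fun h => absurd (hS' h) h1⟩

theorem odd_inj {j j' : GolayPt} {d d' : Finset GolayPt} (h : odd j d = odd j' d') :
    j = j' ∧ d = d' := by
  have hj : j = j' := by
    by_contra hne
    have hi := congrFun h j
    simp only [odd, if_true, if_neg hne] at hi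
    by_cases h1 : j ∈ d <;> by_cases h2 : j ∈ d' <;> simp [h1, h2] at hi
  refine ⟨hj, ?_⟩
  subst hj
  ext i
  have hi := congrFun h i
  simp only [odd] at hi
  by_cases h1 : i ∈ d <;> by_cases h2 : i ∈ d' <;>
    simp only [h1, h2, if_true, if_false] at hi ⊢
  · exfalso; split_ifs at hi <;> omega
  · exfalso; split_ifs at hi <;> omega

/-- A general counting principle. -/
theorem ncard_sigma {α β γ : Type*} (P : Set α) (Q : α → Set β) (f : α → β → γ)
    (hP : P.Finite) (hQ : ∀ a ∈ P, (Q a).Finite) (n : ℕ) (hn : ∀ a ∈ P, (Q a).ncard = n)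
    (hf : ∀ a ∈ P, ∀ b ∈ Q a, ∀ a' ∈ P, ∀ b' ∈ Q a', f a b = f a' b' → a = a' ∧ b = b') :
    {x | ∃ a b, a ∈ P ∧ b ∈ Q a ∧ x = f a b}.ncard = P.ncard * n := by
  classical
  have hQ' : ∀ a : α, (P ∩ {a' | a' = a}).Nonempty → (Q a).Finite := by
    rintro a ⟨a', h1, rfl⟩; exact hQ a' h1
  let QF : α → Finset β := fun a => if h : a ∈ P then (hQ a h).toFinset else ∅
  have hmem : ∀ a ∈ P, ∀ b, b ∈ QF a ↔ b ∈ Q a := by
    intro a ha b
    simp only [QF, dif_pos ha, Set.Finite.mem_toFinset]
  have h1 : {x | ∃ a b, a ∈ P ∧ b ∈ Q a ∧ x = f a b} =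
      (fun z : (_ : α) × β => f z.1 z.2) '' ((hP.toFinset.sigma QF : Finset _) : Set _) := by
    ext x
    simp only [Set.mem_ofPred_eq, Set.mem_image, Finset.mem_coe, Finset.mem_sigma,
      Set.Finite.mem_toFinset, Sigma.exists]
    constructor
    · rintro ⟨a, b, ha, hb, rfl⟩
      exact ⟨a, b, ⟨ha, (hmem a ha b).2 hb⟩, rfl⟩
    · rintro ⟨a, b, ⟨ha, hb⟩, rfl⟩
      exact ⟨a, b, ha, (hmem a ha b).1 hb, rfl⟩
  rw [h1, Set.InjOn.ncard_image, Set.ncard_coe_finset, Finset.card_sigma]
  · rw [Finset.sum_congr rfl (g := fun _ => n), Finset.sum_const, smul_eq_mul,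
      Set.ncard_eq_toFinset_card P hP]
    intro a ha
    rw [Set.Finite.mem_toFinset] at ha
    rw [← hn a ha, Set.ncard_eq_toFinset_card (Q a) (hQ a ha)]
    simp only [QF, dif_pos ha]
  · rintro ⟨a, b⟩ hab ⟨a', b'⟩ hab' heq
    simp only [Finset.mem_coe, Finset.mem_sigma, Set.Finite.mem_toFinset] at hab hab'
    obtain ⟨e1, e2⟩ := hf a hab.1 b ((hmem a hab.1 b).1 hab.2) a' hab'.1 b'
      ((hmem a' hab'.1 b').1 hab'.2) heq
    subst e1 e2
    rfl

theorem ncard_T1 : T1.ncard = 924 := by
  have h := ncard_sigma {T : Finset GolayPt | T.card = 2 ∧ none ∉ T ∧ some 0 ∉ T}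
    (fun T => {S | S ⊆ T}) (fun T S => vec 4 T S) (Set.toFinite _) (fun _ _ => Set.toFinite _) 4
    (by
      rintro T ⟨hT, -⟩
      have : {S | S ⊆ T} = (T.powerset : Set (Finset GolayPt)) := by
        ext S; simp
      rw [this, Set.ncard_coe_finset, Finset.card_powerset, hT]
      norm_num)
    (by
      intro T _ S hS T' _ S' hS' h
      exact vec_inj (by norm_num) hS hS' h)
  have h2 : {T : Finset GolayPt | T.card = 2 ∧ none ∉ T ∧ some 0 ∉ T}.ncard = 231 := by
    have : {T : Finset GolayPt | T.card = 2 ∧ none ∉ T ∧ some 0 ∉ T} =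
        ((Finset.powersetCard 2 (Finset.univ \ {none, some 0} : Finset GolayPt) :
          Finset (Finset GolayPt)) : Set (Finset GolayPt)) := by
      ext T
      simp only [Set.mem_ofPred_eq, Finset.mem_coe, Finset.mem_powersetCard]
      constructor
      · rintro ⟨h1, h2, h3⟩
        refine ⟨?_, h1⟩
        intro x hx
        simp only [Finset.mem_sdiff, Finset.mem_univ, Finset.mem_insert, Finset.mem_singleton,
          true_and]
        rintro (rfl | rfl)
        · exact h2 hx
        · exact h3 hx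
      · rintro ⟨h1, h2⟩
        refine ⟨h2, ?_, ?_⟩
        · intro h; have := h1 h; simp at this
        · intro h; have := h1 h; simp at this
    rw [this, Set.ncard_coe_finset, Finset.card_powersetCard]
    have h3 : (Finset.univ \ {none, some 0} : Finset GolayPt).card = 22 := by decide
    rw [h3]
    decide
  rw [h2] at h
  exact h

theorem ncard_T2 : T2.ncard = 4928 := by
  have h := ncard_sigma {O : Finset GolayPt | O ∈ octads ∧ none ∈ O ∧ some 0 ∈ O}
    (fun O => {S | S ⊆ O ∧ Even S.card ∧ (none ∈ S ↔ some 0 ∉ S)}) (fun T S => vec 2 T S)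
    (Set.toFinite _) (fun _ _ => Set.toFinite _) 64
    (by
      rintro O ⟨hO, h1, h2⟩
      have h8 : O.card = 8 := octad_card hO
      obtain ⟨q, hq, hqa, hqb⟩ : ∃ q ∈ O, q ≠ none ∧ q ≠ some 0 := by
        have : 0 < (O \ {none, some 0}).card := by
          have := Finset.le_card_sdiff {none, some 0} O
          have h2 : ({none, some 0} : Finset GolayPt).card = 2 := by decide
          omega
        obtain ⟨q, hq⟩ := Finset.card_pos.1 this
        rw [Finset.mem_sdiff] at hq
        refine ⟨q, hq.1, ?_, ?_⟩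
        · rintro rfl; exact hq.2 (by simp)
        · rintro rfl; exact hq.2 (by simp)
      have := card_split_sub O none (some 0) q (by decide) h1 h2 hq hqa hqb
      rw [h8] at this
      have h3 : {S | S ⊆ O ∧ Even S.card ∧ (none ∈ S ↔ some 0 ∉ S)} =
          ((O.powerset.filter fun S => Even S.card ∧ (none ∈ S ↔ some 0 ∉ S) :
            Finset (Finset GolayPt)) : Set (Finset GolayPt)) := by
        ext S; simp
      rw [h3, Set.ncard_coe_finset, this]
      norm_num)
    (by
      intro T _ S hS T' _ S' hS' h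
      exact vec_inj (by norm_num) hS.1 hS'.1 h)
  rw [ncard_octads_in] at h
  exact h

theorem ncard_T3 : T3.ncard = 42240 := by
  have h := ncard_sigma {O : Finset GolayPt | O ∈ octads ∧ none ∉ O ∧ some 0 ∉ O}
    (fun O => {S | S ⊆ O ∧ Even S.card}) (fun T S => vec 2 T S)
    (Set.toFinite _) (fun _ _ => Set.toFinite _) 128
    (by
      rintro O ⟨hO, h1, h2⟩
      have h8 : O.card = 8 := octad_card hO
      obtain ⟨q, hq⟩ : O.Nonempty := by
        rw [← Finset.card_pos, h8]; norm_num
      have := card_even_sub O q hq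
      rw [h8] at this
      have h3 : {S | S ⊆ O ∧ Even S.card} =
          ((O.powerset.filter fun S => Even S.card : Finset (Finset GolayPt)) :
            Set (Finset GolayPt)) := by
        ext S; simp
      rw [h3, Set.ncard_coe_finset, this]
      norm_num)
    (by
      intro T _ S hS T' _ S' hS' h
      exact vec_inj (by norm_num) hS.1 hS'.1 h)
  rw [ncard_octads_out] at h
  exact h

theorem ncard_T4 : T4.ncard = 45056 := by
  have h := ncard_sigma {j : GolayPt | j ≠ none ∧ j ≠ some 0}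
    (fun _ => {d | d ∈ SC ∧ (none ∈ d ↔ some 0 ∉ d)}) (fun j d => odd j d)
    (Set.toFinite _) (fun _ _ => Set.toFinite _) 2048
    (fun _ _ => ncard_code_split)
    (by
      intro T _ S hS T' _ S' hS' h
      exact odd_inj h)
  have h2 : {j : GolayPt | j ≠ none ∧ j ≠ some 0}.ncard = 22 := by
    have : {j : GolayPt | j ≠ none ∧ j ≠ some 0} =
        ((Finset.univ.filter fun j : GolayPt => j ≠ none ∧ j ≠ some 0 : Finset GolayPt) :
          Set GolayPt) := by
      ext j; simp
    rw [this, Set.ncard_coe_finset]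
    decide
  rw [h2] at h
  exact h

end Cfsg.Agent.SporadicStructure.MonoTypes
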