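import Mathlib
import Cfsg.Prelude.Def_Sporadic_a

set_option autoImplicit false

namespace Cfsg.Agent.SporadicStructure.OctadMeet

open Finset

variable {α : Type*} [Fintype α] [DecidableEq α]

/-- Bottom row of the Leech triangle, 4-subsets: given the number of blocks through `s`. -/
theorem ncard_meet_four {B : Set (Finset α)} (𝓑 : Finset (Finset α)) (h𝓑 : ∀ b, b ∈ 𝓑 ↔ b ∈ B)
    (hint : ∀ b ∈ B, ∀ c ∈ B, b ≠ c → (b ∩ c).card = 0 ∨ (b ∩ c).card = 2 ∨ (b ∩ c).card = 4)
    {o : Finset α} (ho : o ∈ B) (ho8 : o.card = 8) {s : Finset α} (hs : s ⊆ o) (hs4 : s.card = 4)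
    (h5 : (𝓑.filter (s ⊆ ·)).card = 5) :
    (𝓑.filter (fun o' => o ∩ o' = s)).card = 4 := by
  have : 𝓑.filter (fun o' => o ∩ o' = s) = (𝓑.filter (s ⊆ ·)).erase o := by
    ext o'
    simp only [mem_filter, mem_erase]
    constructor
    · rintro ⟨h1, h2⟩
      refine ⟨?_, h1, ?_⟩
      · rintro rfl
        rw [inter_self] at h2
        rw [h2] at ho8
        omega
      · rw [← h2]; exact inter_subset_right
    · rintro ⟨h1, h2, h3⟩
      refine ⟨h2, ?_⟩
      have h4 := hint o ho o' ((h𝓑 o').1 h2) (Ne.symm h1)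
      symm
      apply eq_of_subset_of_card_le (subset_inter hs h3)
      omega
  rw [this, card_erase_of_mem, h5]
  simp only [mem_filter]
  exact ⟨(h𝓑 o).2 ho, hs⟩

/-- Bottom row of the Leech triangle, 2-subsets. -/
theorem ncard_meet_two {B : Set (Finset α)} (𝓑 : Finset (Finset α)) (h𝓑 : ∀ b, b ∈ 𝓑 ↔ b ∈ B)
    (hint : ∀ b ∈ B, ∀ c ∈ B, b ≠ c → (b ∩ c).card = 0 ∨ (b ∩ c).card = 2 ∨ (b ∩ c).card = 4)
    {o : Finset α} (ho : o ∈ B) (ho8 : o.card = 8) {s : Finset α} (hs : s ⊆ o) (hs2 : s.card = 2)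
    (h5 : ∀ t : Finset α, t.card = 4 → (𝓑.filter (t ⊆ ·)).card = 5)
    (h77 : (𝓑.filter (s ⊆ ·)).card = 77) :
    (𝓑.filter (fun o' => o ∩ o' = s)).card = 16 := by
  classical
  set T4 : Finset (Finset α) := ((o \ s).powersetCard 2).image (s ∪ ·) with hT4
  have hdisj : ∀ t ∈ (o \ s).powersetCard 2, Disjoint s t := by
    intro t ht
    rw [mem_powersetCard] at ht
    exact disjoint_of_subset_right ht.1 disjoint_sdiff
  have hcT4 : T4.card = 15 := by
    rw [hT4, card_image_of_injOn, card_powersetCard, card_sdiff_of_subset hs, ho8, hs2]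
    · rfl
    · intro t ht u hu htu
      have h1 := hdisj t (by simpa using ht)
      have h2 := hdisj u (by simpa using hu)
      have h3 : (s ∪ t) \ s = (s ∪ u) \ s := by
        simp only at htu
        rw [htu]
      rwa [union_sdiff_cancel_left h1, union_sdiff_cancel_left h2] at h3
  have hmemT4 : ∀ t ∈ T4, t ⊆ o ∧ t.card = 4 ∧ s ⊆ t := by
    intro t ht
    rw [hT4, mem_image] at ht
    obtain ⟨u, hu, rfl⟩ := ht
    have h1 := hdisj u hu
    rw [mem_powersetCard] at hu
    refine ⟨union_subset hs (hu.1.trans sdiff_subset), ?_, subset_union_left⟩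
    rw [card_union_of_disjoint h1, hs2, hu.2]
  have hmaps : ∀ o' ∈ 𝓑.filter (s ⊆ ·), o ∩ o' ∈ insert o (insert s T4) := by
    intro o' ho'
    rw [mem_filter] at ho'
    by_cases hoo : o = o'
    · subst hoo; simp
    · have h4 := hint o ho o' ((h𝓑 o').1 ho'.1) hoo
      have hsub : s ⊆ o ∩ o' := subset_inter hs ho'.2
      have hle := card_le_card hsub
      rcases h4 with h4 | h4 | h4
      · omega
      · have : o ∩ o' = s := (eq_of_subset_of_card_le hsub (by omega)).symm
        rw [this]; simp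
      · have : o ∩ o' ∈ T4 := by
          rw [hT4, mem_image]
          refine ⟨(o ∩ o') \ s, ?_, ?_⟩
          · rw [mem_powersetCard]
            refine ⟨sdiff_subset_sdiff inter_subset_left (le_refl _), ?_⟩
            rw [card_sdiff_of_subset hsub]; omega
          · exact union_sdiff_of_subset hsub
        simp [this]
  have hsum := card_eq_sum_card_fiberwise hmaps
  rw [h77] at hsum
  have hos : o ∉ insert s T4 := by
    rw [mem_insert]
    rintro (h | h)
    · rw [h] at ho8; omega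
    · have := (hmemT4 o h).2.1; omega
  have hsT : s ∉ T4 := by
    intro h
    have := (hmemT4 s h).2.1; omega
  rw [sum_insert hos, sum_insert hsT] at hsum
  have e1 : ((𝓑.filter (s ⊆ ·)).filter (fun o' => o ∩ o' = o)).card = 1 := by
    rw [card_eq_one]
    refine ⟨o, ?_⟩
    ext o'
    simp only [mem_filter, mem_singleton]
    constructor
    · rintro ⟨⟨h1, _⟩, h3⟩
      by_contra hne
      have h4 := hint o ho o' ((h𝓑 o').1 h1) (Ne.symm hne)
      rw [h3, ho8] at h4
      omega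
    · rintro rfl
      exact ⟨⟨(h𝓑 _).2 ho, hs⟩, inter_self _⟩
  have e2 : ∀ t ∈ T4, ((𝓑.filter (s ⊆ ·)).filter (fun o' => o ∩ o' = t)).card = 4 := by
    intro t ht
    obtain ⟨ht1, ht2, ht3⟩ := hmemT4 t ht
    rw [← ncard_meet_four 𝓑 h𝓑 hint ho ho8 ht1 ht2 (h5 t ht2)]
    congr 1
    ext o'
    simp only [mem_filter]
    constructor
    · rintro ⟨⟨h1, _⟩, h3⟩; exact ⟨h1, h3⟩
    · rintro ⟨h1, h3⟩
      refine ⟨⟨h1, ?_⟩, h3⟩
      exact ht3.trans (h3 ▸ inter_subset_right)
  have e3 : (𝓑.filter (s ⊆ ·)).filter (fun o' => o ∩ o' = s) = 𝓑.filter (fun o' => o ∩ o' = s) := by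
    ext o'
    simp only [mem_filter]
    constructor
    · rintro ⟨⟨h1, _⟩, h3⟩; exact ⟨h1, h3⟩
    · rintro ⟨h1, h3⟩
      exact ⟨⟨h1, h3 ▸ inter_subset_right⟩, h3⟩
  rw [e1, e3, sum_congr rfl e2, sum_const, hcT4] at hsum
  simp only [smul_eq_mul] at hsum
  omega

end Cfsg.Agent.SporadicStructure.OctadMeet
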