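import Mathlib

/-!
Abstract part of the structure of an octad stabiliser: a permutation group `G` on `α`, an
8-element set `o`, a point `p ∉ o`.  `K` = elements of `G` fixing `o` pointwise,
`L` = elements of `G` stabilising `o` and fixing `p`.  Hypotheses: `K` can move every point outside
`o` to `p`; elements of `L` fixing 6 points of `o` are trivial; for a 5-subset `s` of `o` and
`x, y ∈ o \ s` some element of `L` fixes `s` pointwise and maps `x` to `y`.
Conclusion: `L` restricts isomorphically onto the alternating group of `o`, and the whole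
stabiliser induces exactly the alternating group.
-/

set_option autoImplicit false

namespace Cfsg.Agent.SporadicStructure.OctadStabAbs

open scoped Pointwise
open Equiv Equiv.Perm

variable {α : Type*} [Fintype α] [DecidableEq α]

/-- stabilising a finset, elementwise. -/
theorem mem_stabilizer_finset_iff (g : Perm α) (o : Finset α) :
    g ∈ MulAction.stabilizer (Perm α) o ↔ ∀ x, g x ∈ o ↔ x ∈ o := by
  rw [MulAction.mem_stabilizer_iff]
  constructor
  · intro h x
    constructor
    · intro hx
      rw [← h] at hx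
      have : g • x ∈ g • o := hx
      rwa [Finset.smul_mem_smul_finset_iff] at this
    · intro hx
      have : g • x ∈ g • o := Finset.smul_mem_smul_finset hx
      rwa [h] at this
  · intro h
    apply Finset.eq_of_subset_of_card_le
    · intro y hy
      obtain ⟨x, hx, rfl⟩ := Finset.mem_smul_finset.1 hy
      exact (h x).2 hx
    · rw [Finset.card_smul_finset]

/-- The data and hypotheses. -/
structure Hyp (G : Subgroup (Perm α)) (o : Finset α) (p : α) : Prop where
  card : o.card = 8
  hp : p ∉ o
  hK : ∀ q, q ∉ o → ∃ g ∈ G, (∀ x ∈ o, g x = x) ∧ g q = p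
  hR : ∀ g ∈ G, (∀ x, g x ∈ o ↔ x ∈ o) → g p = p → ∀ s ⊆ o, s.card = 6 → (∀ z ∈ s, g z = z) → g = 1
  hT : ∀ s ⊆ o, s.card = 5 → ∀ x ∈ o, ∀ y ∈ o, x ∉ s → y ∉ s →
    ∃ g ∈ G, (∀ x, g x ∈ o ↔ x ∈ o) ∧ g p = p ∧ (∀ z ∈ s, g z = z) ∧ g x = y

variable {G : Subgroup (Perm α)} {o : Finset α} {p : α}

/-- The subgroup `L`. -/
def L (G : Subgroup (Perm α)) (o : Finset α) (p : α) : Subgroup (Perm α) :=
  G ⊓ MulAction.stabilizer (Perm α) o ⊓ MulAction.stabilizer (Perm α) p

theorem mem_L {g : Perm α} : g ∈ L G o p ↔ g ∈ G ∧ (∀ x, g x ∈ o ↔ x ∈ o) ∧ g p = p := by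
  unfold L
  rw [Subgroup.mem_inf, Subgroup.mem_inf, mem_stabilizer_finset_iff, MulAction.mem_stabilizer_iff,
    and_assoc]
  rfl

/-- restriction to `o`. -/
def res (G : Subgroup (Perm α)) (o : Finset α) (p : α) : L G o p →* Perm ↥o where
  toFun g := (g : Perm α).subtypePerm (fun x => (mem_L.1 g.2).2.1 x)
  map_one' := by ext x; rfl
  map_mul' := by intro a b; ext x; rfl

theorem res_apply (g : L G o p) (x : ↥o) : ((res G o p g x : ↥o) : α) = (g : Perm α) x := rfl

theorem res_injective (H : Hyp G o p) : Function.Injective (res G o p) := by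
  rw [injective_iff_map_eq_one]
  intro g hg
  obtain ⟨g, hgL⟩ := g
  have hgL' := mem_L.1 hgL
  have hfix : ∀ x ∈ o, g x = x := by
    intro x hx
    have := congrArg (fun e : Perm ↥o => ((e ⟨x, hx⟩ : ↥o) : α)) hg
    exact this
  obtain ⟨s, hs, hs6⟩ := Finset.exists_subset_card_eq (s := o) (n := 6) (by rw [H.card]; norm_num)
  have := H.hR g hgL'.1 hgL'.2.1 hgL'.2.2 s hs hs6 (fun z hz => hfix z (hs hz))
  exact Subtype.ext this

theorem threeCycle_mem_range (H : Hyp G o p) (c : Perm ↥o) (hc : c.IsThreeCycle) :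
    c ∈ (res G o p).range := by
  classical
  obtain ⟨x, hx⟩ := hc.isCycle.nonempty_support
  have hcx : c x ≠ x := mem_support.1 hx
  have h3 : c (c (c x)) = x := by
    have h := hc.orderOf
    have h' := pow_orderOf_eq_one c
    rw [h] at h'
    have := congrArg (fun e : Perm ↥o => e x) h'
    simpa [pow_succ, Perm.mul_apply] using this
  have hcc : c (c x) ≠ x := by
    intro h
    rw [h] at h3
    exact hcx h3
  have hcy : c (c x) ≠ c x := fun h => hcx (c.injective h)
  have hsupp : c.support = {x, c x, c (c x)} := by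
    symm
    apply Finset.eq_of_subset_of_card_le
    · intro y hy
      rw [Finset.mem_insert, Finset.mem_insert, Finset.mem_singleton] at hy
      rcases hy with rfl | rfl | rfl
      · exact hx
      · exact apply_mem_support.2 hx
      · exact apply_mem_support.2 (apply_mem_support.2 hx)
    · rw [hc.card_support]
      rw [Finset.card_insert_of_notMem, Finset.card_pair hcy.symm]
      rw [Finset.mem_insert, Finset.mem_singleton]
      push_neg
      exact ⟨hcx.symm, hcc.symm⟩
  set y := c x with hy
  set z := c y with hz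
  -- the 5 remaining points
  let s : Finset α := o \ {(x : α), (y : α), (z : α)}
  have hxy : (x : α) ≠ y := fun h => hcx (Subtype.ext h.symm)
  have hxz : (x : α) ≠ z := fun h => hcc (Subtype.ext h.symm)
  have hyz : (y : α) ≠ z := fun h => hcy (Subtype.ext h.symm)
  have hsub : ({(x : α), (y : α), (z : α)} : Finset α) ⊆ o := by
    intro w hw
    rw [Finset.mem_insert, Finset.mem_insert, Finset.mem_singleton] at hw
    rcases hw with rfl | rfl | rfl
    · exact x.2
    · exact y.2
    · exact z.2
  have hcard3 : ({(x : α), (y : α), (z : α)} : Finset α).card = 3 := by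
    rw [Finset.card_insert_of_notMem, Finset.card_pair hyz]
    rw [Finset.mem_insert, Finset.mem_singleton]
    push_neg
    exact ⟨hxy, hxz⟩
  have hs5 : s.card = 5 := by
    rw [Finset.card_sdiff_of_subset hsub, H.card, hcard3]
  have hso : s ⊆ o := Finset.sdiff_subset
  have hmems : ∀ w, w ∈ s ↔ w ∈ o ∧ w ≠ x ∧ w ≠ y ∧ w ≠ z := by
    intro w
    simp only [s, Finset.mem_sdiff, Finset.mem_insert, Finset.mem_singleton]
    tauto
  obtain ⟨g, hgG, hgo, hgp, hgs, hgx⟩ := H.hT s hso hs5 x x.2 y y.2
    (fun h => ((hmems _).1 h).2.1 rfl) (fun h => ((hmems _).1 h).2.2.1 rfl)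
  have hgL : g ∈ L G o p := mem_L.2 ⟨hgG, hgo, hgp⟩
  -- images of y and z
  have himg : ∀ w : α, w ∈ o → w ∉ s → g w ∉ s := by
    intro w _ hws hgw
    apply hws
    have : g (g w) = g w := hgs _ hgw
    have := g.injective this
    rwa [this] at hgw
  have hy3 : g y = x ∨ g y = y ∨ g y = z := by
    have h1 := himg y y.2 (fun h => ((hmems _).1 h).2.2.1 rfl)
    by_contra hcon
    push_neg at hcon
    exact h1 ((hmems _).2 ⟨(hgo _).2 y.2, hcon.1, hcon.2.1, hcon.2.2⟩)
  have hz3 : g z = x ∨ g z = y ∨ g z = z := by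
    have h1 := himg z z.2 (fun h => ((hmems _).1 h).2.2.2 rfl)
    by_contra hcon
    push_neg at hcon
    exact h1 ((hmems _).2 ⟨(hgo _).2 z.2, hcon.1, hcon.2.1, hcon.2.2⟩)
  have hgy_ne : g y ≠ y := by
    intro h
    exact hxy (g.injective (hgx.trans h.symm))
  have hgz_ne : g z ≠ y := by
    intro h
    exact hxz (g.injective (hgx.trans h.symm))
  have hgyz : g y ≠ g z := fun h => hyz (g.injective h)
  have hgy : g y = z := by
    rcases hy3 with h | h | h
    · exfalso
      have hgz : g z = z := by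
        rcases hz3 with h' | h' | h'
        · exact absurd (h.trans h'.symm) hgyz
        · exact absurd h' hgz_ne
        · exact h'
      have h1 : g = 1 := by
        refine H.hR g hgG hgo hgp (insert (z : α) s) ?_ ?_ ?_
        · exact Finset.insert_subset z.2 hso
        · rw [Finset.card_insert_of_notMem, hs5]
          intro hzs
          exact ((hmems _).1 hzs).2.2.2 rfl
        · intro w hw
          rcases Finset.mem_insert.1 hw with rfl | hw
          · exact hgz
          · exact hgs w hw
      rw [h1] at hgx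
      exact hxy hgx
    · exact absurd h hgy_ne
    · exact h
  have hgz : g z = x := by
    rcases hz3 with h' | h' | h'
    · exact h'
    · exact absurd h' hgz_ne
    · exact absurd (hgy.trans h'.symm) hgyz
  refine ⟨⟨g, hgL⟩, ?_⟩
  ext w
  rw [res_apply]
  by_cases hw : w ∈ c.support
  · rw [hsupp, Finset.mem_insert, Finset.mem_insert, Finset.mem_singleton] at hw
    rcases hw with rfl | rfl | rfl
    · exact hgx
    · exact hgy
    · show g z = ((c z : ↥o) : α)
      rw [hgz, hz, h3]
  · have hcw : c w = w := notMem_support.1 hw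
    rw [hcw]
    apply hgs
    rw [hmems]
    refine ⟨w.2, ?_, ?_, ?_⟩
    · intro h
      apply hw
      rw [Subtype.ext h]
      exact hx
    · intro h
      apply hw
      rw [Subtype.ext h, hsupp]
      simp
    · intro h
      apply hw
      rw [Subtype.ext h, hsupp]
      simp

theorem alternating_le_range (H : Hyp G o p) : alternatingGroup ↥o ≤ (res G o p).range := by
  rw [← closure_three_cycles_eq_alternating, Subgroup.closure_le]
  intro c hc
  exact threeCycle_mem_range H c hc

theorem range_le_alternating (H : Hyp G o p) : (res G o p).range ≤ alternatingGroup ↥o := by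
  rintro _ ⟨g, rfl⟩
  rw [mem_alternatingGroup]
  by_contra hne
  have hs : Perm.sign (res G o p g) = -1 := (Int.units_eq_one_or _).resolve_left hne
  have hcard : 1 < o.card := by rw [H.card]; norm_num
  obtain ⟨x, hx, y, hy, hxy⟩ := Finset.one_lt_card.1 hcard
  let x' : ↥o := ⟨x, hx⟩
  let y' : ↥o := ⟨y, hy⟩
  have hxy' : x' ≠ y' := fun h => hxy (congrArg Subtype.val h)
  have hmem : Equiv.swap x' y' * res G o p g ∈ alternatingGroup ↥o := by
    rw [mem_alternatingGroup, Perm.sign_mul, hs, Perm.sign_swap hxy']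
    rfl
  obtain ⟨h, hh⟩ := alternating_le_range H hmem
  have hk : res G o p (h * g⁻¹) = Equiv.swap x' y' := by
    rw [map_mul, hh, map_inv, mul_inv_cancel_right]
  have hkL := mem_L.1 (h * g⁻¹).2
  have h1 : ((h * g⁻¹ : L G o p) : Perm α) = 1 := by
    refine H.hR _ hkL.1 hkL.2.1 hkL.2.2 (o \ {x, y}) Finset.sdiff_subset ?_ ?_
    · rw [Finset.card_sdiff_of_subset, H.card, Finset.card_pair hxy]
      intro w hw
      rw [Finset.mem_insert, Finset.mem_singleton] at hw
      rcases hw with rfl | rfl
      · exact hx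
      · exact hy
    · intro z hz
      rw [Finset.mem_sdiff, Finset.mem_insert, Finset.mem_singleton] at hz
      push_neg at hz
      have h2 := res_apply (h * g⁻¹) ⟨z, hz.1⟩
      rw [hk] at h2
      rw [← h2, Equiv.swap_apply_of_ne_of_ne]
      · intro h; exact hz.2.1 (congrArg Subtype.val h)
      · intro h; exact hz.2.2 (congrArg Subtype.val h)
  have h2 := res_apply (h * g⁻¹) x'
  rw [hk, h1, Equiv.swap_apply_left] at h2
  exact hxy h2.symm

theorem range_eq_alternating (H : Hyp G o p) : (res G o p).range = alternatingGroup ↥o :=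
  le_antisymm (range_le_alternating H) (alternating_le_range H)

/-- Every element of `G` stabilising `o` is congruent modulo `K` to an element of `L`. -/
theorem exists_mul_mem_L (H : Hyp G o p) (g : Perm α) (hg : g ∈ G) (ho : ∀ x, g x ∈ o ↔ x ∈ o) :
    ∃ k ∈ G, (∀ x ∈ o, k x = x) ∧ k * g ∈ L G o p := by
  have hgp : g p ∉ o := fun h => H.hp ((ho p).1 h)
  obtain ⟨k, hk, hko, hkp⟩ := H.hK (g p) hgp
  have hk' : ∀ x, k x ∈ o ↔ x ∈ o := by
    rw [← mem_stabilizer_finset_iff, MulAction.mem_stabilizer_iff]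
    apply Finset.eq_of_subset_of_card_le
    · intro y hy
      obtain ⟨x, hx, rfl⟩ := Finset.mem_smul_finset.1 hy
      have : k x = x := hko x hx
      rw [show k • x = k x from rfl, this]
      exact hx
    · rw [Finset.card_smul_finset]
  refine ⟨k, hk, hko, mem_L.2 ⟨G.mul_mem hk hg, ?_, ?_⟩⟩
  · intro x
    rw [Perm.mul_apply, hk', ho]
  · rw [Perm.mul_apply, hkp]

theorem induced_eq_alternating (H : Hyp G o p) :
    {e : Equiv.Perm ↥o | ∃ g : Equiv.Perm α, g ∈ G ∧ ∃ h : (∀ x, g x ∈ o ↔ x ∈ o),
      g.subtypePerm h = e} = (alternatingGroup ↥o : Set (Equiv.Perm ↥o)) := by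
  ext e
  rw [Set.mem_setOf_eq, SetLike.mem_coe, ← range_eq_alternating H]
  constructor
  · rintro ⟨g, hg, h, rfl⟩
    obtain ⟨k, hk, hko, hkg⟩ := exists_mul_mem_L H g hg h
    refine ⟨⟨k * g, hkg⟩, ?_⟩
    ext x
    rw [res_apply]
    show k (g x) = g x
    exact hko _ ((h _).2 x.2)
  · rintro ⟨g, rfl⟩
    have := mem_L.1 g.2
    exact ⟨g, this.1, this.2.1, rfl⟩

theorem inf_eq_bot (H : Hyp G o p) :
    (G ⊓ fixingSubgroup (Perm α) (o : Set α)) ⊓ L G o p = ⊥ := by
  rw [eq_bot_iff]
  intro g hg
  rw [Subgroup.mem_inf, Subgroup.mem_inf] at hg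
  obtain ⟨⟨hgG, hgf⟩, hgL⟩ := hg
  rw [mem_fixingSubgroup_iff] at hgf
  have hgL' := mem_L.1 hgL
  obtain ⟨s, hs, hs6⟩ := Finset.exists_subset_card_eq (s := o) (n := 6) (by rw [H.card]; norm_num)
  exact H.hR g hgL'.1 hgL'.2.1 hgL'.2.2 s hs hs6 (fun z hz => hgf z (hs hz))

theorem sup_eq_stabilizer (H : Hyp G o p) :
    (G ⊓ fixingSubgroup (Perm α) (o : Set α)) ⊔ L G o p = G ⊓ MulAction.stabilizer (Perm α) o := by
  apply le_antisymm
  · apply sup_le
    · intro g hg
      rw [Subgroup.mem_inf] at hg ⊢
      refine ⟨hg.1, ?_⟩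
      have hgf := (mem_fixingSubgroup_iff _).1 hg.2
      rw [MulAction.mem_stabilizer_iff]
      apply Finset.eq_of_subset_of_card_le
      · intro y hy
        obtain ⟨x, hx, rfl⟩ := Finset.mem_smul_finset.1 hy
        rw [hgf x hx]
        exact hx
      · rw [Finset.card_smul_finset]
    · intro g hg
      exact (Subgroup.mem_inf.1 hg).1
  · intro g hg
    rw [Subgroup.mem_inf, mem_stabilizer_finset_iff] at hg
    obtain ⟨k, hk, hko, hkg⟩ := exists_mul_mem_L H g hg.1 hg.2
    have h1 : g = k⁻¹ * (k * g) := by rw [inv_mul_cancel_left]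
    rw [h1]
    apply Subgroup.mul_mem
    · apply Subgroup.mem_sup_left
      apply Subgroup.inv_mem
      rw [Subgroup.mem_inf, mem_fixingSubgroup_iff]
      exact ⟨hk, fun x hx => hko x hx⟩
    · exact Subgroup.mem_sup_right hkg

theorem nonempty_mulEquiv (H : Hyp G o p) : Nonempty (↥(L G o p) ≃* alternatingGroup (Fin 8)) := by
  have e1 : ↥(L G o p) ≃* (res G o p).range := MonoidHom.ofInjective (res_injective H)
  have e2 : (res G o p).range ≃* alternatingGroup ↥o :=
    MulEquiv.subgroupCongr (range_eq_alternating H)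
  have hcard : Fintype.card ↥o = Fintype.card (Fin 8) := by
    rw [Fintype.card_coe, H.card, Fintype.card_fin]
  have e3 : alternatingGroup ↥o ≃* alternatingGroup (Fin 8) :=
    Equiv.altCongrHom (Fintype.equivOfCardEq hcard)
  exact ⟨(e1.trans e2).trans e3⟩

end Cfsg.Agent.SporadicStructure.OctadStabAbs
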