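import Cfsg.Prelude.Def_SporadicCombinatorics
import Cfsg.Agent.SporadicA.GolayBase
import Cfsg.Agent.SporadicA.M24Mem
import Cfsg.Agent.SporadicStructure.OctadStabAbs

/-!
The octad stabiliser in `M24`: verification of the hypotheses of `OctadStabAbs` from the simple
transitivity of `M24` on admissible 7-tuples (5 distinct points, a 6th in their octad, a 7th outside
it) and the order of the pointwise stabiliser of an octad.
-/

set_option autoImplicit false

namespace Cfsg.Agent.SporadicStructure.OctadStabM24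

open scoped Pointwise
open Cfsg Equiv Cfsg.Agent.SporadicA

/-- Members of `M24` map octads to octads. -/
theorem smul_octad {g : Perm GolayPt} (hg : g ∈ M24) {o : Finset GolayPt} (ho : o ∈ octads) :
    g • o ∈ octads := by
  refine ⟨?_, ?_⟩
  · obtain ⟨w, hw, rfl⟩ := ho.1
    rw [M24Mem.smul_support₂, M24Mem.support₂_mem_supports]
    exact (M24Mem.mem_M24_iff g).1 hg w hw
  · rw [Finset.card_smul_finset]; exact ho.2

/-- A member of `M24` mapping at least 5 points of an octad `o` into `o` stabilises `o`. -/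
theorem smul_octad_eq {g : Perm GolayPt} (hg : g ∈ M24) {o : Finset GolayPt} (ho : o ∈ octads)
    {s : Finset GolayPt} (hs : s ⊆ o) (h5 : 5 ≤ s.card) (h : ∀ z ∈ s, g z ∈ o) : g • o = o := by
  apply GolayBase.octad_unique (smul_octad hg ho) ho
  calc 5 ≤ s.card := h5
    _ = (g • s).card := (Finset.card_smul_finset _ _).symm
    _ ≤ (g • o ∩ o).card := by
      apply Finset.card_le_card
      intro y hy
      obtain ⟨x, hx, rfl⟩ := Finset.mem_smul_finset.1 hy
      rw [Finset.mem_inter]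
      exact ⟨Finset.smul_mem_smul_finset (hs hx), h x hx⟩

/-- Simple transitivity on admissible 7-tuples. -/
def MapHyp : Prop := ∀ (o o' : Finset GolayPt), o ∈ octads → o' ∈ octads →
  ∀ (a a' : Fin 6 → GolayPt), Function.Injective a → Function.Injective a' →
    (∀ i, a i ∈ o) → (∀ i, a' i ∈ o') → ∀ p p', p ∉ o → p' ∉ o' →
    ∃! g : Perm GolayPt, g ∈ M24 ∧ (∀ i, g (a i) = a' i) ∧ g p = p'

theorem hR (hmap : MapHyp) {o : Finset GolayPt} (ho : o ∈ octads) {p : GolayPt} (hp : p ∉ o)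
    (g : Perm GolayPt) (hg : g ∈ M24) (hgp : g p = p) (s : Finset GolayPt) (hs : s ⊆ o)
    (h6 : s.card = 6) (hfix : ∀ z ∈ s, g z = z) : g = 1 := by
  let e : Fin 6 ≃ ↥s := (Fintype.equivFinOfCardEq (by rw [Fintype.card_coe, h6])).symm
  let a : Fin 6 → GolayPt := fun i => (e i : GolayPt)
  have ha : Function.Injective a := Subtype.val_injective.comp e.injective
  have hao : ∀ i, a i ∈ o := fun i => hs (e i).2
  obtain ⟨u, _, hu⟩ := hmap o o ho ho a a ha ha hao hao p p hp hp
  have h1 := hu g ⟨hg, fun i => hfix _ (e i).2, hgp⟩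
  have h2 := hu 1 ⟨M24.one_mem, fun i => rfl, rfl⟩
  rw [h1, h2]

theorem hT (hmap : MapHyp) {o : Finset GolayPt} (ho : o ∈ octads) {p : GolayPt} (hp : p ∉ o)
    (s : Finset GolayPt) (hs : s ⊆ o) (h5 : s.card = 5) (x : GolayPt) (hx : x ∈ o)
    (y : GolayPt) (hy : y ∈ o) (hxs : x ∉ s) (hys : y ∉ s) :
    ∃ g ∈ M24, (∀ x, g x ∈ o ↔ x ∈ o) ∧ g p = p ∧ (∀ z ∈ s, g z = z) ∧ g x = y := by
  let e : Fin 5 ≃ ↥s := (Fintype.equivFinOfCardEq (by rw [Fintype.card_coe, h5])).symm
  let a : Fin 5 → GolayPt := fun i => (e i : GolayPt)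
  have ha : Function.Injective a := Subtype.val_injective.comp e.injective
  have hao : ∀ i, a i ∈ s := fun i => (e i).2
  let ax : Fin 6 → GolayPt := Fin.cons x a
  let ay : Fin 6 → GolayPt := Fin.cons y a
  have hax : Function.Injective ax := Fin.cons_injective_iff.2
    ⟨fun ⟨i, hi⟩ => hxs (hi ▸ hao i), ha⟩
  have hay : Function.Injective ay := Fin.cons_injective_iff.2
    ⟨fun ⟨i, hi⟩ => hys (hi ▸ hao i), ha⟩
  have haxo : ∀ i, ax i ∈ o := by
    intro i
    refine Fin.cases hx (fun j => hs (hao j)) i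
  have hayo : ∀ i, ay i ∈ o := by
    intro i
    refine Fin.cases hy (fun j => hs (hao j)) i
  obtain ⟨g, ⟨hg, hga, hgp⟩, _⟩ := hmap o o ho ho ax ay hax hay haxo hayo p p hp hp
  have hgs : ∀ z ∈ s, g z = z := by
    intro z hz
    have h1 := hga (Fin.succ (e.symm ⟨z, hz⟩))
    have h2 : ax (Fin.succ (e.symm ⟨z, hz⟩)) = z := by
      show (e (e.symm ⟨z, hz⟩) : GolayPt) = z
      rw [Equiv.apply_symm_apply]
    have h3 : ay (Fin.succ (e.symm ⟨z, hz⟩)) = z := by
      show (e (e.symm ⟨z, hz⟩) : GolayPt) = z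
      rw [Equiv.apply_symm_apply]
    rw [h2, h3] at h1
    exact h1
  have hgx : g x = y := hga 0
  refine ⟨g, hg, ?_, hgp, hgs, hgx⟩
  rw [← OctadStabAbs.mem_stabilizer_finset_iff, MulAction.mem_stabilizer_iff]
  apply smul_octad_eq hg ho hs h5.ge
  intro z hz
  rw [hgs z hz]
  exact hs hz

theorem hK (hmap : MapHyp) {o : Finset GolayPt} (ho : o ∈ octads)
    (hcard : Nat.card ↥(M24 ⊓ fixingSubgroup (Perm GolayPt) (o : Set GolayPt)) = 16)
    {p : GolayPt} (hp : p ∉ o) (q : GolayPt) (hq : q ∉ o) :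
    ∃ g ∈ M24, (∀ x ∈ o, g x = x) ∧ g q = p := by
  classical
  let K := M24 ⊓ fixingSubgroup (Perm GolayPt) (o : Set GolayPt)
  have hKmem : ∀ k : Perm GolayPt, k ∈ K ↔ k ∈ M24 ∧ ∀ x ∈ o, k x = x := by
    intro k
    show k ∈ M24 ⊓ _ ↔ _
    rw [Subgroup.mem_inf, mem_fixingSubgroup_iff]
    rfl
  have hout : ∀ k ∈ K, ∀ z, z ∉ o → k z ∉ o := by
    intro k hk z hz hkz
    have h1 := ((hKmem k).1 hk).2 _ hkz
    have h2 := k.injective h1
    rw [h2] at hkz
    exact hz hkz
  let f : K → {z // z ∈ (Finset.univ \ o : Finset GolayPt)} := fun k =>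
    ⟨(k : Perm GolayPt) q, by
      rw [Finset.mem_sdiff]
      exact ⟨Finset.mem_univ _, hout k k.2 q hq⟩⟩
  have hf : Function.Injective f := by
    intro k k' h
    have h1 : (k : Perm GolayPt) q = (k' : Perm GolayPt) q := congrArg Subtype.val h
    have h2 : (k'⁻¹ * k : K) = 1 := by
      apply Subtype.ext
      obtain ⟨s, hs, hs6⟩ := Finset.exists_subset_card_eq (s := o) (n := 6)
        (by rw [GolayBase.octad_card ho]; norm_num)
      apply hR hmap ho hq _ ((hKmem _).1 (k'⁻¹ * k).2).1 _ s hs hs6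
      · intro z hz
        exact ((hKmem _).1 (k'⁻¹ * k).2).2 z (hs hz)
      · show ((k' : Perm GolayPt)⁻¹ * (k : Perm GolayPt)) q = q
        rw [Perm.mul_apply, h1]
        exact Equiv.symm_apply_apply _ _
    rw [inv_mul_eq_one] at h2
    exact h2.symm
  have hfb : Function.Bijective f := by
    apply (Nat.bijective_iff_injective_and_card f).2
    refine ⟨hf, ?_⟩
    rw [hcard, Nat.card_eq_fintype_card, Fintype.card_coe,
      Finset.card_sdiff_of_subset (Finset.subset_univ _), GolayBase.octad_card ho]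
    rfl
  obtain ⟨k, hk⟩ := hfb.2 ⟨p, by rw [Finset.mem_sdiff]; exact ⟨Finset.mem_univ _, hp⟩⟩
  exact ⟨k, ((hKmem _).1 k.2).1, ((hKmem _).1 k.2).2, congrArg Subtype.val hk⟩

theorem hyp (hmap : MapHyp) {o : Finset GolayPt} (ho : o ∈ octads)
    (hcard : Nat.card ↥(M24 ⊓ fixingSubgroup (Perm GolayPt) (o : Set GolayPt)) = 16)
    {p : GolayPt} (hp : p ∉ o) : OctadStabAbs.Hyp M24 o p where
  card := GolayBase.octad_card ho
  hp := hp
  hK := fun q hq => hK hmap ho hcard hp q hq
  hR := fun g hg _ hgp s hs h6 hfix => hR hmap ho hp g hg hgp s hs h6 hfix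
  hT := fun s hs h5 x hx y hy hxs hys => hT hmap ho hp s hs h5 x hx y hy hxs hys

end Cfsg.Agent.SporadicStructure.OctadStabM24
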