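import Mathlib
import Cfsg.Prelude.Def_SporadicCombinatorics
import Cfsg.Prelude.Def_Spor_Conway

set_option autoImplicit false

/-!
# Pairs of minimal vectors with customary inner product −1

From the sign changes `ε_C` (`C` a codeword), the Conway maps `ξ_S` (`S` a 4-set) and transitivity of `Co0`
on minimal vectors we derive transitivity of `Co0` on ordered pairs of minimal vectors of coordinate dot product −8.
The inputs are hypotheses so that the file does not depend on where they are proved.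
-/

namespace Cfsg.Agent.SporadicStructure.PairsMinusOne

open Cfsg

/-- The coordinate sign changes on codeword supports, as elements of `Co0`. -/
def SignHyp : Prop :=
  ∀ c ∈ supports (golayCode : Set (GolayPt → ZMod 2)), ∃ g : Co0, ∀ (x : leechLattice) (p : GolayPt),
    ((g • x : leechLattice) : GolayPt → ℤ) p =
      if p ∈ c then -(x : GolayPt → ℤ) p else (x : GolayPt → ℤ) p

/-- Coordinate permutations in `M24`, as elements of `Co0`. -/
def PermHyp : Prop :=
  ∀ p q : GolayPt, ∃ σ : Equiv.Perm GolayPt, σ p = q ∧ ∃ g : Co0, ∀ (x : leechLattice) (r : GolayPt),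
    ((g • x : leechLattice) : GolayPt → ℤ) (σ r) = (x : GolayPt → ℤ) r

/-- The Conway map of a 4-set, as an element of `Co0`. -/
def XiHyp : Prop :=
  ∀ i j k l : GolayPt, i ≠ j → i ≠ k → i ≠ l → j ≠ k → j ≠ l → k ≠ l →
    ∃ (T : GolayPt → Fin 6) (g : Co0),
      (∀ p, T p = 0 ↔ (p = i ∨ p = j ∨ p = k ∨ p = l)) ∧
      (∀ p, (Finset.univ.filter fun q => T q = T p).card = 4) ∧
      ∀ (x : leechLattice) (p : GolayPt),
        2 * ((g • x : leechLattice) : GolayPt → ℤ) p =
          (if T p = 0 then -1 else 1) * (2 * (x : GolayPt → ℤ) p -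
            ∑ q ∈ Finset.univ.filter (fun q => T q = T p), (x : GolayPt → ℤ) q)

/-- `v` is 4 at `i`, `j` and 0 elsewhere. -/
def IsV (i j : GolayPt) (v : leechLattice) : Prop :=
  ∀ p, (v : GolayPt → ℤ) p = if p = i ∨ p = j then 4 else 0

/-- The pair `(4e_i + 4e_j, 4e_k − 1)`. -/
def IsB (i j k : GolayPt) (v w : leechLattice) : Prop :=
  i ≠ j ∧ k ≠ i ∧ k ≠ j ∧ IsV i j v ∧ ∀ p, (w : GolayPt → ℤ) p = if p = k then 3 else -1

/-- The pair `(4e_k + 4e_l, 1 − 4e_k)`. -/
def IsC (k l : GolayPt) (v w : leechLattice) : Prop :=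
  k ≠ l ∧ IsV k l v ∧ ∀ p, (w : GolayPt → ℤ) p = if p = k then -3 else 1

theorem isV_ext {i j : GolayPt} {v v' : leechLattice} (h : IsV i j v) (h' : IsV i j v') : v = v' :=
  Subtype.ext (funext fun p => by rw [h p, h' p])

theorem isB_ext {i j k : GolayPt} {v w v' w' : leechLattice} (h : IsB i j k v w) (h' : IsB i j k v' w') :
    v = v' ∧ w = w' :=
  ⟨isV_ext h.2.2.2.1 h'.2.2.2.1, Subtype.ext (funext fun p => by rw [h.2.2.2.2 p, h'.2.2.2.2 p])⟩

theorem isV_symm {i j : GolayPt} {v : leechLattice} (h : IsV i j v) : IsV j i v := by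
  intro p; rw [h p]; simp only [or_comm]

theorem sum_block {i j k l : GolayPt} (hij : i ≠ j) (hik : i ≠ k) (hil : i ≠ l) (hjk : j ≠ k) (hjl : j ≠ l)
    (hkl : k ≠ l) {T : GolayPt → Fin 6} (hT : ∀ p, T p = 0 ↔ (p = i ∨ p = j ∨ p = k ∨ p = l))
    (f : GolayPt → ℤ) {p : GolayPt} (hp : T p = 0) :
    ∑ q ∈ Finset.univ.filter (fun q => T q = T p), f q = f i + f j + f k + f l := by
  have h1 : (Finset.univ.filter fun q => T q = T p) = {i, j, k, l} := by
    ext q
    simp only [Finset.mem_filter, Finset.mem_univ, true_and, Finset.mem_insert, Finset.mem_singleton]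
    rw [hp, hT q]
  rw [h1, Finset.sum_insert (by simp [hij, hik, hil]), Finset.sum_insert (by simp [hjk, hjl]),
    Finset.sum_insert (by simp [hkl]), Finset.sum_singleton]
  ring

theorem sum_other {i j k l : GolayPt} {T : GolayPt → Fin 6}
    (hT : ∀ p, T p = 0 ↔ (p = i ∨ p = j ∨ p = k ∨ p = l))
    (h4 : ∀ p, (Finset.univ.filter fun q => T q = T p).card = 4)
    (f : GolayPt → ℤ) (c : ℤ) (hf : ∀ q, ¬ (q = i ∨ q = j ∨ q = k ∨ q = l) → f q = c)
    {p : GolayPt} (hp : T p ≠ 0) :
    ∑ q ∈ Finset.univ.filter (fun q => T q = T p), f q = 4 * c := by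
  rw [Finset.sum_congr rfl (g := fun _ => c)]
  · rw [Finset.sum_const, h4 p]; simp
  · intro q hq
    apply hf
    rw [← hT q]
    rw [Finset.mem_filter] at hq
    rw [hq.2]; exact hp

/-- `ξ_{ijkl}` maps `4e_i + 4e_j` to `4e_k + 4e_l`. -/
theorem xi_isV {i j k l : GolayPt} (hij : i ≠ j) (hik : i ≠ k) (hil : i ≠ l) (hjk : j ≠ k) (hjl : j ≠ l)
    (hkl : k ≠ l) {T : GolayPt → Fin 6} {g : Co0} (hT : ∀ p, T p = 0 ↔ (p = i ∨ p = j ∨ p = k ∨ p = l))
    (h4 : ∀ p, (Finset.univ.filter fun q => T q = T p).card = 4)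
    (hg : ∀ (x : leechLattice) (p : GolayPt),
        2 * ((g • x : leechLattice) : GolayPt → ℤ) p =
          (if T p = 0 then -1 else 1) * (2 * (x : GolayPt → ℤ) p -
            ∑ q ∈ Finset.univ.filter (fun q => T q = T p), (x : GolayPt → ℤ) q))
    {v : leechLattice} (hv : IsV i j v) : IsV k l (g • v) := by
  intro p
  have h := hg v p
  by_cases hp : T p = 0
  · rw [sum_block hij hik hil hjk hjl hkl hT _ hp, if_pos hp] at h
    rw [hv p, hv i, hv j, hv k, hv l] at h
    rw [hT p] at hp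
    rcases hp with rfl | rfl | rfl | rfl
    · simp only [true_or, or_true, if_true, hik, hil, hik.symm, hil.symm, hjk.symm, hjl.symm, or_self,
        if_false] at h ⊢
      linarith
    · simp only [true_or, or_true, if_true, hik.symm, hil.symm, hjk, hjl, hjk.symm, hjl.symm, or_self,
        if_false] at h ⊢
      linarith
    · simp only [true_or, or_true, if_true, hik.symm, hil.symm, hjk.symm, hjl.symm, or_self,
        if_false] at h ⊢
      linarith
    · simp only [true_or, or_true, if_true, hik.symm, hil.symm, hjk.symm, hjl.symm, or_self,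
        if_false] at h ⊢
      linarith
  · rw [sum_other hT h4 _ 0 ?_ hp, if_neg hp, hv p] at h
    · rw [hT p] at hp
      push Not at hp
      simp only [hp.1, hp.2.1, hp.2.2.1, hp.2.2.2, or_self, if_false] at h ⊢
      linarith
    · intro q hq
      push Not at hq
      rw [hv q]
      simp only [hq.1, hq.2.1, or_self, if_false]

theorem isB_to_isC (hX : XiHyp) {i j k l : GolayPt} {v w : leechLattice} (h : IsB i j k v w)
    (hil : i ≠ l) (hjl : j ≠ l) (hkl : k ≠ l) : ∃ g : Co0, IsC k l (g • v) (g • w) := by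
  obtain ⟨hij, hki, hkj, hv, hw⟩ := h
  obtain ⟨T, g, hT, h4, hg⟩ := hX i j k l hij hki.symm hil hkj.symm hjl hkl
  refine ⟨g, hkl, xi_isV hij hki.symm hil hkj.symm hjl hkl hT h4 hg hv, ?_⟩
  intro p
  have h := hg w p
  by_cases hp : T p = 0
  · rw [sum_block hij hki.symm hil hkj.symm hjl hkl hT _ hp, if_pos hp] at h
    rw [hw p, hw i, hw j, hw k, hw l] at h
    simp only [hki.symm, hkj.symm, hkl.symm, if_true, if_false] at h
    split_ifs at h ⊢ <;> linarith
  · rw [sum_other hT h4 _ (-1) ?_ hp, if_neg hp, hw p] at h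
    · rw [hT p] at hp
      push Not at hp
      simp only [hp.2.2.1, if_false] at h ⊢
      linarith
    · intro q hq
      push Not at hq
      rw [hw q]
      simp only [hq.2.2.1, if_false]

theorem isC_to_isB (hX : XiHyp) {i j k l : GolayPt} {v w : leechLattice} (h : IsC i j v w)
    (hik : i ≠ k) (hil : i ≠ l) (hjk : j ≠ k) (hjl : j ≠ l) (hkl : k ≠ l) :
    ∃ g : Co0, IsB k l i (g • v) (g • w) := by
  obtain ⟨hij, hv, hw⟩ := h
  obtain ⟨T, g, hT, h4, hg⟩ := hX i j k l hij hik hil hjk hjl hkl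
  refine ⟨g, hkl, hik, hil, xi_isV hij hik hil hjk hjl hkl hT h4 hg hv, ?_⟩
  intro p
  have h := hg w p
  by_cases hp : T p = 0
  · rw [sum_block hij hik hil hjk hjl hkl hT _ hp, if_pos hp] at h
    rw [hw p, hw i, hw j, hw k, hw l] at h
    simp only [hij.symm, hik.symm, hil.symm, if_true, if_false] at h
    split_ifs at h ⊢ <;> linarith
  · rw [sum_other hT h4 _ 1 ?_ hp, if_neg hp, hw p] at h
    · rw [hT p] at hp
      push Not at hp
      simp only [hp.1, if_false] at h ⊢
      linarith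
    · intro q hq
      push Not at hq
      rw [hw q]
      simp only [hq.1, if_false]

/-- An odd vector of norm 32 has one coordinate `±3` and all others `±1`. -/
theorem odd_norm32 {x : GolayPt → ℤ} (hodd : ∀ p, x p % 2 = 1) (hn : sqNorm x = 32) :
    ∃ k, x k ^ 2 = 9 ∧ ∀ p, p ≠ k → x p ^ 2 = 1 := by
  have h8 : ∀ p, ∃ t : ℤ, 0 ≤ t ∧ x p ^ 2 = 8 * t + 1 := by
    intro p
    obtain ⟨a, ha⟩ : ∃ a, x p = 2 * a + 1 := ⟨x p / 2, by have := hodd p; omega⟩
    obtain ⟨b, hb⟩ : ∃ b, a * (a + 1) = 2 * b := by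
      rcases Int.even_mul_succ_self a with ⟨b, hb⟩
      exact ⟨b, by linarith⟩
    refine ⟨b, ?_, by rw [ha]; nlinarith⟩
    have : 0 ≤ a * (a + 1) := by
      rcases le_or_gt 0 a with h | h
      · positivity
      · nlinarith
    linarith
  choose t ht0 ht using h8
  have hsum : ∑ p, t p = 1 := by
    have h1 : sqNorm x = ∑ p, (8 * t p + 1) := Finset.sum_congr rfl fun p _ => ht p
    rw [hn, Finset.sum_add_distrib, ← Finset.mul_sum] at h1
    have h2 : (∑ _p : GolayPt, (1 : ℤ)) = 24 := by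
      rw [Finset.sum_const, Finset.card_univ]; decide
    rw [h2] at h1
    linarith
  obtain ⟨k, hk⟩ : ∃ k, t k ≠ 0 := by
    by_contra hcon
    push Not at hcon
    rw [Finset.sum_eq_zero (fun p _ => hcon p)] at hsum
    exact absurd hsum (by norm_num)
  have hk1 : 1 ≤ t k := by
    have := ht0 k
    omega
  have hsplit := Finset.add_sum_erase Finset.univ t (Finset.mem_univ k)
  have hrest : 0 ≤ ∑ p ∈ Finset.univ.erase k, t p := Finset.sum_nonneg fun p _ => ht0 p
  have hk2 : t k = 1 := by linarith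
  have hrest0 : ∑ p ∈ Finset.univ.erase k, t p = 0 := by linarith
  have hz := (Finset.sum_eq_zero_iff_of_nonneg (fun p _ => ht0 p)).1 hrest0
  refine ⟨k, by rw [ht k, hk2]; norm_num, fun p hp => ?_⟩
  rw [ht p, hz p (Finset.mem_erase.2 ⟨hp, Finset.mem_univ p⟩)]
  norm_num

theorem sq_eq_nine {a : ℤ} (h : a ^ 2 = 9) : a = 3 ∨ a = -3 := by
  have : (a - 3) * (a + 3) = 0 := by ring_nf; linarith
  rcases mul_eq_zero.1 this with h | h
  · left; linarith
  · right; linarith

theorem sq_eq_one' {a : ℤ} (h : a ^ 2 = 1) : a = 1 ∨ a = -1 := by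
  have : (a - 1) * (a + 1) = 0 := by ring_nf; linarith
  rcases mul_eq_zero.1 this with h | h
  · left; linarith
  · right; linarith

/-- The pairs of minimal vectors we are interested in. -/
def IsPair (v w : leechLattice) : Prop :=
  sqNorm (v : GolayPt → ℤ) = 32 ∧ sqNorm (w : GolayPt → ℤ) = 32 ∧
    dotInt (v : GolayPt → ℤ) (w : GolayPt → ℤ) = -8

theorem co0_sqNorm (g : Co0) (x : leechLattice) :
    sqNorm ((g • x : leechLattice) : GolayPt → ℤ) = sqNorm (x : GolayPt → ℤ) := g.2.2 x

theorem co0_add (g : Co0) (x y : leechLattice) : g • (x + y) = g • x + g • y := g.2.1 x y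

theorem sqNorm_add (x y : GolayPt → ℤ) : sqNorm (x + y) = sqNorm x + sqNorm y + 2 * dotInt x y := by
  unfold sqNorm dotInt
  rw [Finset.mul_sum, ← Finset.sum_add_distrib, ← Finset.sum_add_distrib]
  refine Finset.sum_congr rfl fun p _ => ?_
  simp only [Pi.add_apply]
  ring

theorem co0_dotInt (g : Co0) (x y : leechLattice) :
    dotInt ((g • x : leechLattice) : GolayPt → ℤ) ((g • y : leechLattice) : GolayPt → ℤ) =
      dotInt (x : GolayPt → ℤ) (y : GolayPt → ℤ) := by
  have h1 := co0_sqNorm g (x + y)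
  rw [co0_add, AddSubgroup.coe_add, AddSubgroup.coe_add, sqNorm_add, sqNorm_add, co0_sqNorm, co0_sqNorm] at h1
  linarith

theorem isPair_smul {v w : leechLattice} (h : IsPair v w) (g : Co0) : IsPair (g • v) (g • w) :=
  ⟨by rw [co0_sqNorm]; exact h.1, by rw [co0_sqNorm]; exact h.2.1, by rw [co0_dotInt]; exact h.2.2⟩

/-- If `v = 4e_i + 4e_j` then `v·w = −8` says `w_i + w_j = −2`. -/
theorem dot_isV {i j : GolayPt} (hij : i ≠ j) {v w : leechLattice} (hv : IsV i j v) :
    dotInt (v : GolayPt → ℤ) (w : GolayPt → ℤ) =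
      4 * ((w : GolayPt → ℤ) i + (w : GolayPt → ℤ) j) := by
  unfold dotInt
  have h1 : ∀ p, (v : GolayPt → ℤ) p * (w : GolayPt → ℤ) p =
      (if p = i then 4 * (w : GolayPt → ℤ) p else 0) + (if p = j then 4 * (w : GolayPt → ℤ) p else 0) := by
    intro p
    rw [hv p]
    by_cases h1 : p = i
    · subst h1; simp [hij]
    · by_cases h2 : p = j
      · subst h2; simp [hij.symm]
      · simp [h1, h2]
  rw [Finset.sum_congr rfl fun p _ => h1 p, Finset.sum_add_distrib]
  simp only [Finset.sum_ite_eq', Finset.mem_univ, if_true]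
  ring

/-- Odd `w`: sign changes bring the pair to one of the standard forms. -/
theorem odd_case (hS : SignHyp)
    (hmem : ∀ x : GolayPt → ℤ, x ∈ leechLattice → x ∈ leechSet)
    {i j : GolayPt} (hij : i ≠ j) {v w : leechLattice} (hv : IsV i j v) (hp : IsPair v w)
    (hodd : (w : GolayPt → ℤ) i % 2 = 1) :
    ∃ g : Co0, (∃ k, IsB i j k (g • v) (g • w)) ∨ IsC i j (g • v) (g • w) ∨ IsC j i (g • v) (g • w) := by
  obtain ⟨m, hm, -, hc⟩ := hmem _ w.2
  have hm1 : m % 2 = 1 := by have := hm i; unfold Int.ModEq at this; omega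
  have hwodd : ∀ p, (w : GolayPt → ℤ) p % 2 = 1 := fun p => by
    have := hm p; unfold Int.ModEq at this; omega
  have hsum : (w : GolayPt → ℤ) i + (w : GolayPt → ℤ) j = -2 := by
    have := dot_isV hij (w := w) hv
    rw [hp.2.2] at this; linarith
  by_cases hi : (w : GolayPt → ℤ) i % 4 = 1
  · -- change the signs on {p | w p ≡ 3}
    obtain ⟨g, hg⟩ := hS _ (hc 3)
    have hgv : IsV i j (g • v) := by
      intro p
      rw [hg v p, ← hv p]
      split_ifs with h
      · rw [Finset.mem_filter] at h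
        have h3 := h.2
        unfold Int.ModEq at h3
        have hpi : p ≠ i := by rintro rfl; omega
        have hpj : p ≠ j := by rintro rfl; omega
        rw [hv p]; simp [hpi, hpj]
      · rfl
    have hgw : ∀ p, ((g • w : leechLattice) : GolayPt → ℤ) p % 4 = 1 := by
      intro p
      rw [hg w p]
      split_ifs with h
      · rw [Finset.mem_filter] at h
        have h3 := h.2
        unfold Int.ModEq at h3
        omega
      · rw [Finset.mem_filter] at h
        have h3 : ¬ ((w : GolayPt → ℤ) p ≡ 3 [ZMOD 4]) := fun h' => h ⟨Finset.mem_univ p, h'⟩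
        unfold Int.ModEq at h3
        have := hwodd p
        omega
    obtain ⟨k, hk, hk'⟩ := odd_norm32 (x := ((g • w : leechLattice) : GolayPt → ℤ))
      (fun p => by have := hgw p; omega) (by rw [co0_sqNorm]; exact hp.2.1)
    have hval : ∀ p, ((g • w : leechLattice) : GolayPt → ℤ) p = if p = k then -3 else 1 := by
      intro p
      by_cases hpk : p = k
      · subst hpk
        rw [if_pos rfl]
        rcases sq_eq_nine hk with h | h
        · have := hgw p; omega
        · exact h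
      · rw [if_neg hpk]
        rcases sq_eq_one' (hk' p hpk) with h | h
        · exact h
        · have := hgw p; omega
    have hsum' : ((g • w : leechLattice) : GolayPt → ℤ) i + ((g • w : leechLattice) : GolayPt → ℤ) j = -2 := by
      have := dot_isV hij (w := g • w) hgv
      rw [(isPair_smul hp g).2.2] at this; linarith
    refine ⟨g, Or.inr ?_⟩
    by_cases hki : k = i
    · subst hki
      exact Or.inl ⟨hij, hgv, hval⟩
    · by_cases hkj : k = j
      · subst hkj
        exact Or.inr ⟨hij.symm, isV_symm hgv, hval⟩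
      · exfalso
        rw [hval i, hval j, if_neg (Ne.symm hki), if_neg (Ne.symm hkj)] at hsum'
        omega
  · -- change the signs on {p | w p ≡ 1}
    obtain ⟨g, hg⟩ := hS _ (hc 1)
    have hgv : IsV i j (g • v) := by
      intro p
      rw [hg v p, ← hv p]
      split_ifs with h
      · rw [Finset.mem_filter] at h
        have h3 := h.2
        unfold Int.ModEq at h3
        have hi' := hwodd i
        have hpi : p ≠ i := by rintro rfl; omega
        have hpj : p ≠ j := by rintro rfl; omega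
        rw [hv p]; simp [hpi, hpj]
      · rfl
    have hgw : ∀ p, ((g • w : leechLattice) : GolayPt → ℤ) p % 4 = 3 := by
      intro p
      rw [hg w p]
      split_ifs with h
      · rw [Finset.mem_filter] at h
        have h3 := h.2
        unfold Int.ModEq at h3
        omega
      · rw [Finset.mem_filter] at h
        have h3 : ¬ ((w : GolayPt → ℤ) p ≡ 1 [ZMOD 4]) := fun h' => h ⟨Finset.mem_univ p, h'⟩
        unfold Int.ModEq at h3
        have := hwodd p
        omega
    obtain ⟨k, hk, hk'⟩ := odd_norm32 (x := ((g • w : leechLattice) : GolayPt → ℤ))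
      (fun p => by have := hgw p; omega) (by rw [co0_sqNorm]; exact hp.2.1)
    have hval : ∀ p, ((g • w : leechLattice) : GolayPt → ℤ) p = if p = k then 3 else -1 := by
      intro p
      by_cases hpk : p = k
      · subst hpk
        rw [if_pos rfl]
        rcases sq_eq_nine hk with h | h
        · exact h
        · have := hgw p; omega
      · rw [if_neg hpk]
        rcases sq_eq_one' (hk' p hpk) with h | h
        · have := hgw p; omega
        · exact h
    have hsum' : ((g • w : leechLattice) : GolayPt → ℤ) i + ((g • w : leechLattice) : GolayPt → ℤ) j = -2 := by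
      have := dot_isV hij (w := g • w) hgv
      rw [(isPair_smul hp g).2.2] at this; linarith
    refine ⟨g, Or.inl ⟨k, hij, ?_, ?_, hgv, hval⟩⟩
    · rintro rfl
      rw [hval k, hval j, if_pos rfl, if_neg hij.symm] at hsum'
      omega
    · rintro rfl
      rw [hval k, hval i, if_pos rfl, if_neg hij] at hsum'
      omega

theorem exists_not_mem (s : Finset GolayPt) (hs : s.card < 24) : ∃ l, l ∉ s := by
  by_contra hcon
  push Not at hcon
  have : s = Finset.univ := Finset.eq_univ_iff_forall.2 hcon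
  rw [this, Finset.card_univ] at hs
  exact absurd hs (by decide)

/-- Even `w`: a suitable `ξ_S` makes it odd. -/
theorem even_case (hX : XiHyp)
    (hmem : ∀ x : GolayPt → ℤ, x ∈ leechLattice → x ∈ leechSet)
    {i j : GolayPt} (hij : i ≠ j) {v w : leechLattice} (hv : IsV i j v) (hp : IsPair v w)
    (heven : (w : GolayPt → ℤ) i % 2 = 0) :
    ∃ (g : Co0) (k l : GolayPt), k ≠ l ∧ IsV k l (g • v) ∧ ((g • w : leechLattice) : GolayPt → ℤ) k % 2 = 1 := by
  obtain ⟨m, hm, -, -⟩ := hmem _ w.2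
  have hm1 : m % 2 = 0 := by have := hm i; unfold Int.ModEq at this; omega
  have hweven : ∀ p, (w : GolayPt → ℤ) p % 2 = 0 := fun p => by
    have := hm p; unfold Int.ModEq at this; omega
  have hsum : (w : GolayPt → ℤ) i + (w : GolayPt → ℤ) j = -2 := by
    have := dot_isV hij (w := w) hv
    rw [hp.2.2] at this; linarith
  obtain ⟨k, l, hki, hkj, hli, hlj, hkl, hkl4⟩ : ∃ k l : GolayPt, k ≠ i ∧ k ≠ j ∧ l ≠ i ∧ l ≠ j ∧ k ≠ l ∧
      (w : GolayPt → ℤ) k % 4 = (w : GolayPt → ℤ) l % 4 := by
    have hcard : 2 < ((Finset.univ.erase i).erase j).card := by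
      rw [Finset.card_erase_of_mem (Finset.mem_erase.2 ⟨hij.symm, Finset.mem_univ j⟩),
        Finset.card_erase_of_mem (Finset.mem_univ i), Finset.card_univ]
      decide
    obtain ⟨a, b, c, ha, hb, hc, hab, hac, hbc⟩ := Finset.two_lt_card_iff.1 hcard
    simp only [Finset.mem_erase, Finset.mem_univ, and_true] at ha hb hc
    have h1 := hweven a
    have h2 := hweven b
    have h3 := hweven c
    by_cases hab4 : (w : GolayPt → ℤ) a % 4 = (w : GolayPt → ℤ) b % 4
    · exact ⟨a, b, ha.2, ha.1, hb.2, hb.1, hab, hab4⟩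
    · by_cases hac4 : (w : GolayPt → ℤ) a % 4 = (w : GolayPt → ℤ) c % 4
      · exact ⟨a, c, ha.2, ha.1, hc.2, hc.1, hac, hac4⟩
      · exact ⟨b, c, hb.2, hb.1, hc.2, hc.1, hbc, by omega⟩
  obtain ⟨T, g, hT, h4, hg⟩ := hX i j k l hij hki.symm hli.symm hkj.symm hlj.symm hkl
  refine ⟨g, k, l, hkl, xi_isV hij hki.symm hli.symm hkj.symm hlj.symm hkl hT h4 hg hv, ?_⟩
  have hk0 : T k = 0 := (hT k).2 (by simp)
  have h := hg w k
  rw [sum_block hij hki.symm hli.symm hkj.symm hlj.symm hkl hT _ hk0, if_pos hk0] at h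
  have h5 := hweven k
  omega

theorem smul_trans {A : leechLattice → leechLattice → Prop} {B : leechLattice → leechLattice → Prop}
    {v w : leechLattice} (h1 : ∃ g : Co0, A (g • v) (g • w))
    (h2 : ∀ v w, A v w → ∃ g : Co0, B (g • v) (g • w)) : ∃ g : Co0, B (g • v) (g • w) := by
  obtain ⟨g, hg⟩ := h1
  obtain ⟨g', hg'⟩ := h2 _ _ hg
  exact ⟨g' * g, by rw [mul_smul, mul_smul]; exact hg'⟩

/-- Moving the pair `{i, j}` while keeping `k`. -/
theorem isB_move (hX : XiHyp) {i j k : GolayPt} {v w : leechLattice} (h : IsB i j k v w)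
    {i' j' : GolayPt} (hij' : i' ≠ j') (hki' : k ≠ i') (hkj' : k ≠ j') :
    ∃ g : Co0, IsB i' j' k (g • v) (g • w) := by
  obtain ⟨l, hl⟩ := exists_not_mem {i, j, k, i', j'}
    (lt_of_le_of_lt Finset.card_le_five (by norm_num))
  simp only [Finset.mem_insert, Finset.mem_singleton] at hl
  push Not at hl
  obtain ⟨h1, h2, h3, h4, h5⟩ := hl
  refine smul_trans (isB_to_isC hX h h1.symm h2.symm h3.symm) fun v w hC => ?_
  exact isC_to_isB hX hC hki' hkj' h4 h5 hij'

/-- Moving the position `k`, keeping nothing. -/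
theorem isB_perm (hP : PermHyp) {i j k : GolayPt} {v w : leechLattice} (h : IsB i j k v w) (k' : GolayPt) :
    ∃ i' j', ∃ g : Co0, IsB i' j' k' (g • v) (g • w) := by
  obtain ⟨σ, hσ, g, hg⟩ := hP k k'
  obtain ⟨hij, hki, hkj, hv, hw⟩ := h
  refine ⟨σ i, σ j, g, fun h => hij (σ.injective h), ?_, ?_, ?_, ?_⟩
  · rw [← hσ]; exact fun h => hki (σ.injective h)
  · rw [← hσ]; exact fun h => hkj (σ.injective h)
  · intro p
    obtain ⟨r, rfl⟩ := σ.surjective p
    rw [hg, hv r]
    simp only [σ.injective.eq_iff]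
  · intro p
    obtain ⟨r, rfl⟩ := σ.surjective p
    rw [hg, hw r, ← hσ]
    simp only [σ.injective.eq_iff]

/-- Every pair can be brought to the standard form. -/
theorem exists_isB (hS : SignHyp) (hP : PermHyp) (hX : XiHyp)
    (hmem : ∀ x : GolayPt → ℤ, x ∈ leechLattice → x ∈ leechSet)
    (hT : ∀ v w : leechLattice, sqNorm (v : GolayPt → ℤ) = 32 → sqNorm (w : GolayPt → ℤ) = 32 →
      ∃ g : Co0, g • v = w)
    {v w : leechLattice} (h : IsPair v w) :
    ∃ g : Co0, IsB none (some 0) (some 1) (g • v) (g • w) := by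
  have h01 : (0 : ZMod 23) ≠ 1 := by decide
  -- any odd pair can be brought to the standard form
  have hodd : ∀ {i j : GolayPt} (hij : i ≠ j) {v w : leechLattice} (hv : IsV i j v) (hp : IsPair v w)
      (ho : (w : GolayPt → ℤ) i % 2 = 1), ∃ g : Co0, IsB none (some 0) (some 1) (g • v) (g • w) := by
    intro i j hij v w hv hp ho
    have hCB : ∀ {i j : GolayPt} {v w : leechLattice}, IsC i j v w →
        ∃ g : Co0, ∃ i' j' k', IsB i' j' k' (g • v) (g • w) := by
      intro i j v w hC
      obtain ⟨k, hk⟩ := exists_not_mem {i, j} (lt_of_le_of_lt Finset.card_le_two (by norm_num))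
      obtain ⟨l, hl⟩ := exists_not_mem {i, j, k} (lt_of_le_of_lt Finset.card_le_three (by norm_num))
      simp only [Finset.mem_insert, Finset.mem_singleton] at hk hl
      push Not at hk hl
      obtain ⟨g, hg⟩ := isC_to_isB hX hC hk.1.symm hl.1.symm hk.2.symm hl.2.1.symm hl.2.2.symm
      exact ⟨g, _, _, _, hg⟩
    have h1 : ∃ g : Co0, ∃ i' j' k', IsB i' j' k' (g • v) (g • w) := by
      obtain ⟨g, hg⟩ := odd_case hS hmem hij hv hp ho
      rcases hg with ⟨k, hk⟩ | hC | hC
      · exact ⟨g, i, j, k, hk⟩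
      · obtain ⟨g', i', j', k', h'⟩ := hCB hC
        exact ⟨g' * g, i', j', k', by rw [mul_smul, mul_smul]; exact h'⟩
      · obtain ⟨g', i', j', k', h'⟩ := hCB hC
        exact ⟨g' * g, i', j', k', by rw [mul_smul, mul_smul]; exact h'⟩
    obtain ⟨g, i', j', k', hB⟩ := h1
    obtain ⟨i₂, j₂, g₂, hB₂⟩ := isB_perm hP hB (some 1)
    obtain ⟨g₃, hB₃⟩ := isB_move hX hB₂ (i' := none) (j' := some 0) (by simp) (by simp)
      (by simp only [ne_eq, Option.some.injEq]; exact h01.symm)
    refine ⟨g₃ * (g₂ * g), ?_⟩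
    rw [mul_smul, mul_smul, mul_smul, mul_smul]
    exact hB₃
  -- bring v to 4e_∞ + 4e_0
  obtain ⟨g₀, hg₀⟩ := hT v Spor.leechU h.1 (by decide)
  have hv₀ : IsV none (some 0) (g₀ • v) := by
    rw [hg₀]
    intro p
    rfl
  have hp₀ := isPair_smul h g₀
  rcases Int.emod_two_eq_zero_or_one (((g₀ • w : leechLattice) : GolayPt → ℤ) none) with he | ho
  · obtain ⟨g₁, k, l, hkl, hv₁, ho₁⟩ := even_case hX hmem (by simp) hv₀ hp₀ he
    obtain ⟨g₂, hg₂⟩ := hodd hkl hv₁ (isPair_smul hp₀ g₁) ho₁
    refine ⟨g₂ * (g₁ * g₀), ?_⟩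
    rw [mul_smul, mul_smul, mul_smul, mul_smul]
    exact hg₂
  · obtain ⟨g₂, hg₂⟩ := hodd (by simp) hv₀ hp₀ ho
    refine ⟨g₂ * g₀, ?_⟩
    rw [mul_smul, mul_smul]
    exact hg₂

/-- Transitivity on ordered pairs of minimal vectors of coordinate dot product −8, from the inputs. -/
theorem pairs_transitive (hS : SignHyp) (hP : PermHyp) (hX : XiHyp)
    (hmem : ∀ x : GolayPt → ℤ, x ∈ leechLattice → x ∈ leechSet)
    (hT : ∀ v w : leechLattice, sqNorm (v : GolayPt → ℤ) = 32 → sqNorm (w : GolayPt → ℤ) = 32 →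
      ∃ g : Co0, g • v = w)
    {v w v' w' : leechLattice} (h : IsPair v w) (h' : IsPair v' w') :
    ∃ g : Co0, g • v = v' ∧ g • w = w' := by
  obtain ⟨g, hg⟩ := exists_isB hS hP hX hmem hT h
  obtain ⟨g', hg'⟩ := exists_isB hS hP hX hmem hT h'
  obtain ⟨h1, h2⟩ := isB_ext hg hg'
  exact ⟨g'⁻¹ * g, by rw [mul_smul, h1, inv_smul_smul], by rw [mul_smul, h2, inv_smul_smul]⟩

end Cfsg.Agent.SporadicStructure.PairsMinusOne
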