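import Mathlib
import Cfsg.Agent.S0007

/-!
Helper for S1618 (helper46): an involution `t` all of whose commutators `t * (g t g⁻¹)` are
`p`-elements, lying in a normal subgroup `N` of odd order.
-/

set_option autoImplicit false
open Pointwise

namespace Cfsg.Agent.SporadicStructure.PowerCommutator

variable {G : Type*} [Group G] [Finite G]

/-- An involution normalises some Sylow `q`-subgroup of each normal subgroup of odd order. -/
theorem exists_sylow_normalized (N : Subgroup G) [N.Normal] (hN : Odd (Nat.card N))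
    (t : G) (ht : orderOf t = 2) (q : ℕ) [Fact q.Prime] :
    ∃ Q : Sylow q N, ∀ x : N, x ∈ Q → (⟨t * x * t⁻¹, Subgroup.Normal.conj_mem ‹_› _ x.2 t⟩ : N) ∈ Q := by
  classical
  let a : ConjAct G := ConjAct.toConjAct t
  let A : Subgroup (ConjAct G) := Subgroup.zpowers a
  have hA : IsPGroup 2 A := by
    refine IsPGroup.of_card (n := 1) ?_
    have h1 : Nat.card A = orderOf a := Nat.card_zpowers a
    have h2 : orderOf a = orderOf t := by
      exact orderOf_injective (ConjAct.toConjAct : G ≃* ConjAct G).toMonoidHom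
        (ConjAct.toConjAct : G ≃* ConjAct G).injective t
    rw [h1, h2, ht, pow_one]
  have hfin : Finite (Sylow q N) := inferInstance
  have hcard : Nat.card (Sylow q N) ≡ Nat.card (MulAction.fixedPoints A (Sylow q N)) [MOD 2] :=
    hA.card_modEq_card_fixedPoints (Sylow q N)
  have hodd : Odd (Nat.card (Sylow q N)) := by
    have h1 : Nat.card (Sylow q N) ∣ Nat.card N := by
      obtain ⟨P⟩ := (inferInstance : Nonempty (Sylow q N))
      exact P.card_dvd_index.trans (Subgroup.index_dvd_card _)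
    exact Odd.of_dvd_nat hN h1
  have hne : Nat.card (MulAction.fixedPoints A (Sylow q N)) ≠ 0 := by
    intro h0
    rw [h0] at hcard
    rw [Nat.odd_iff] at hodd
    have : Nat.card (Sylow q N) % 2 = 0 := hcard
    omega
  obtain ⟨⟨Q, hQ⟩⟩ := (Nat.card_ne_zero.mp hne).1
  refine ⟨Q, fun x hx => ?_⟩
  have h1 : (⟨a, Subgroup.mem_zpowers a⟩ : A) • Q = Q := hQ _
  have h2 : a • Q = Q := h1
  have h3 : a • x ∈ a • Q := by
    have : a • x ∈ a • (Q : Subgroup N) := Subgroup.smul_mem_pointwise_smul x a _ hx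
    exact this
  rw [h2] at h3
  exact h3

/-- If all the products `t * (g t g⁻¹)` have `p`-power order (`p` odd) and lie in a normal subgroup
of odd order, they lie in a normal `p`-subgroup. -/
theorem exists_normal_pSubgroup (p : ℕ) [Fact p.Prime] (hp2 : p ≠ 2) (t : G) (ht : orderOf t = 2)
    (h : ∀ g : G, ∃ k : ℕ, orderOf (t * (g * t * g⁻¹)) = p ^ k)
    (N : Subgroup G) [hNn : N.Normal] (hN : Odd (Nat.card N))
    (hcomm : ∀ g : G, t * (g * t * g⁻¹) ∈ N) :
    ∃ R : Subgroup G, R.Normal ∧ IsPGroup p R ∧ ∀ g : G, t * (g * t * g⁻¹) ∈ R := by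
  classical
  have htt : t * t = 1 := by rw [← pow_two, ← ht]; exact pow_orderOf_eq_one t
  have htinv : t⁻¹ = t := inv_eq_of_mul_eq_one_left htt
  let C : Subgroup N := (Subgroup.centralizer {t}).subgroupOf N
  have hC : ∀ q : ℕ, q.Prime → q ≠ p → ¬ q ∣ C.index := by
    intro q hq hqp hdvd
    have : Fact q.Prime := ⟨hq⟩
    obtain ⟨Q, hQ⟩ := exists_sylow_normalized N hN t ht q
    have hQC : (Q : Subgroup N) ≤ C := by
      intro x hx
      have h1 : t * (x : G) * t⁻¹ * (x : G)⁻¹ = t * ((x : G) * t * (x : G)⁻¹) := by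
        rw [htinv]; group
      obtain ⟨k, hk⟩ := h x
      have h2 : (⟨t * (x : G) * t⁻¹, hNn.conj_mem _ x.2 t⟩ : N) * x⁻¹ ∈ (Q : Subgroup N) :=
        Subgroup.mul_mem _ (hQ x hx) (Subgroup.inv_mem _ hx)
      obtain ⟨m, hm⟩ := (IsPGroup.iff_orderOf.mp Q.isPGroup') ⟨_, h2⟩
      have h3 : orderOf (t * ((x : G) * t * (x : G)⁻¹)) = q ^ m := by
        rw [← hm, ← h1, ← Subgroup.orderOf_coe, ← Subgroup.orderOf_coe]
        rfl
      have h4 : orderOf (t * ((x : G) * t * (x : G)⁻¹)) = 1 := by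
        have h5 : Nat.Coprime (p ^ k) (q ^ m) := Nat.coprime_pow_primes _ _ Fact.out hq (Ne.symm hqp)
        rw [← hk, ← h3] at h5
        exact (Nat.coprime_self _).mp h5
      have h6 : t * ((x : G) * t * (x : G)⁻¹) = 1 := orderOf_eq_one_iff.mp h4
      have h7 : t * (x : G) = x * t := by
        have h8 : (x : G) * t * (x : G)⁻¹ = t := by
          rw [← mul_right_inj t, h6, htt]
        rw [mul_inv_eq_iff_eq_mul] at h8
        exact h8.symm
      change (x : G) ∈ Subgroup.centralizer {t}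
      rw [Subgroup.mem_centralizer_singleton_iff]
      exact h7.symm
    have h9 : q ∣ (Q : Subgroup N).index := hdvd.trans (Subgroup.index_dvd_of_le hQC)
    exact Q.not_dvd_index h9
  obtain ⟨P, hP⟩ := exists_sylow_normalized N hN t ht p
  have hcop : (P : Subgroup N).index.Coprime C.index := by
    rw [Nat.coprime_iff_gcd_eq_one, Nat.eq_one_iff_not_exists_prime_dvd]
    intro q hq hdvd
    by_cases hqp : q = p
    · subst hqp
      exact P.not_dvd_index (hdvd.trans (Nat.gcd_dvd_left _ _))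
    · exact hC q hq hqp (hdvd.trans (Nat.gcd_dvd_right _ _))
  have hprod := (Cfsg.Agent.S0007.result (P : Subgroup N) C hcop).2
  let P' : Subgroup G := (P : Subgroup N).map N.subtype
  have hP' : IsPGroup p P' := P.isPGroup'.map _
  -- products with `N`-conjugates
  have hmemN : ∀ x : N, t * ((x : G) * t * (x : G)⁻¹) ∈ P' := by
    intro x
    obtain ⟨y, hy, c, hc, rfl⟩ := hprod x
    have hc' : (c : G) * t = t * c := Subgroup.mem_centralizer_singleton_iff.mp hc
    have h1 : ((y * c : N) : G) * t * ((y * c : N) : G)⁻¹ = (y : G) * t * (y : G)⁻¹ := by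
      rw [Subgroup.coe_mul, mul_inv_rev]
      calc (y : G) * c * t * ((c : G)⁻¹ * (y : G)⁻¹)
          = (y : G) * ((c : G) * t) * (c : G)⁻¹ * (y : G)⁻¹ := by group
        _ = (y : G) * t * (y : G)⁻¹ := by rw [hc']; group
    rw [h1]
    have h2 : t * ((y : G) * t * (y : G)⁻¹) = t * (y : G) * t⁻¹ * (y : G)⁻¹ := by
      rw [htinv]; group
    rw [h2]
    exact ⟨(⟨t * (y : G) * t⁻¹, hNn.conj_mem _ y.2 t⟩ : N) * y⁻¹,
      Subgroup.mul_mem _ (hP y hy) (Subgroup.inv_mem _ hy), rfl⟩
  -- every conjugate is an `N`-conjugate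
  have hmem : ∀ g : G, t * (g * t * g⁻¹) ∈ P' := by
    intro g
    set y := t * (g * t * g⁻¹) with hy
    have hyN : y ∈ N := hcomm g
    have hinv : t * y * t⁻¹ = y⁻¹ := by
      rw [hy, htinv]
      simp only [mul_inv_rev, inv_inv, htinv]
      rw [← mul_assoc, ← mul_assoc, htt, one_mul]
      group
    have hyodd : Odd (orderOf y) := by
      have : orderOf y ∣ Nat.card N := by
        have := orderOf_dvd_natCard (⟨y, hyN⟩ : N)
        rwa [← Subgroup.orderOf_coe] at this
      exact Odd.of_dvd_nat hN this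
    obtain ⟨m, hm⟩ := hyodd
    -- the square root `z = y ^ (m + 1)`
    let z : G := y ^ (m + 1)
    have hzz : z * z = y := by
      change y ^ (m + 1) * y ^ (m + 1) = y
      rw [← pow_add]
      have : m + 1 + (m + 1) = orderOf y + 1 := by omega
      rw [this, pow_succ, pow_orderOf_eq_one, one_mul]
    have hzN : z ∈ N := Subgroup.pow_mem _ hyN _
    have hzinv : t * z * t⁻¹ = z⁻¹ := by
      change t * y ^ (m + 1) * t⁻¹ = (y ^ (m + 1))⁻¹
      rw [← conj_pow, hinv, inv_pow]
    have h1 : g * t * g⁻¹ = t * y := by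
      rw [hy, ← mul_assoc t t, htt, one_mul]
    have h2 : z⁻¹ * t * z = t * y := by
      rw [← hzinv, ← hzz]
      rw [htinv]
      calc t * z * t * t * z = t * z * (t * t) * z := by group
        _ = t * (z * z) := by rw [htt]; group
    have h3 := hmemN ⟨z⁻¹, N.inv_mem hzN⟩
    simp only [inv_inv] at h3
    rw [h2, ← h1] at h3
    exact h3
  refine ⟨P'.normalCore, Subgroup.normalCore_normal _, hP'.to_le (Subgroup.normalCore_le _), ?_⟩
  intro g b
  have h1 : b * (t * (g * t * g⁻¹)) * b⁻¹ =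
      (t * (b * t * b⁻¹))⁻¹ * (t * ((b * g) * t * (b * g)⁻¹)) := by
    simp only [mul_inv_rev, inv_inv, htinv]
    calc b * (t * (g * t * g⁻¹)) * b⁻¹ = b * t * b⁻¹ * 1 * (b * g * t * (g⁻¹ * b⁻¹)) := by group
      _ = b * t * b⁻¹ * (t * t) * (b * g * t * (g⁻¹ * b⁻¹)) := by rw [htt]
      _ = b * (t * b⁻¹) * t * (t * (b * g * t * (g⁻¹ * b⁻¹))) := by group
  rw [h1]
  exact Subgroup.mul_mem _ (Subgroup.inv_mem _ (hmem b)) (hmem (b * g))

end Cfsg.Agent.SporadicStructure.PowerCommutator
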