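import Cfsg.Agent.SporadicA.GolayPerm
import Cfsg.Prelude.Def_SporadicCombinatorics

/-!
Families of point sets of the 24 points coded by lists of masks, moved by packed permutations;
certified walks in Schreier graphs.
-/

set_option autoImplicit false

namespace Cfsg.Agent.SporadicStructure.QuartetCode

open Cfsg Cfsg.Agent.SporadicA.GolayBase Cfsg.Agent.SporadicA.GolayPerm
open scoped Pointwise

/-! ### Families of sets coded by lists of masks -/

/-- The family of point sets coded by a list of masks. -/
def fam (l : List ℕ) : Finset (Finset GolayPt) := (l.map fin).toFinset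

theorem mem_fam {l : List ℕ} {t : Finset GolayPt} : t ∈ fam l ↔ ∃ m ∈ l, fin m = t := by
  rw [fam, List.mem_toFinset, List.mem_map]

/-- Insertion in a sorted list. -/
def ins (a : ℕ) : List ℕ → List ℕ
  | [] => [a]
  | b :: l => bif Nat.ble a b then a :: b :: l else b :: ins a l

/-- Insertion sort. -/
def srt : List ℕ → List ℕ
  | [] => []
  | a :: l => ins a (srt l)

theorem mem_ins {a m : ℕ} {l : List ℕ} : m ∈ ins a l ↔ m = a ∨ m ∈ l := by
  induction l with
  | nil => simp [ins]
  | cons b l ih =>
    rw [ins]
    cases Nat.ble a b with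
    | true => simp
    | false =>
      rw [cond_false, List.mem_cons, ih, List.mem_cons]
      tauto

theorem mem_srt {m : ℕ} {l : List ℕ} : m ∈ srt l ↔ m ∈ l := by
  induction l with
  | nil => rfl
  | cons b l ih => rw [srt, mem_ins, ih, List.mem_cons]

theorem fam_srt (l : List ℕ) : fam (srt l) = fam l := by
  ext t
  rw [mem_fam, mem_fam]
  simp only [mem_srt]

theorem fam_eq_of_mem_iff {l l' : List ℕ} (h : ∀ m, m ∈ l ↔ m ∈ l') : fam l = fam l' := by
  ext t
  rw [mem_fam, mem_fam]
  simp only [h]

/-- The image of a coded family under a packed permutation. -/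
def aimg (P : ℕ) (l : List ℕ) : List ℕ := srt (l.map (pimg P))

theorem smul_fam {P : ℕ} (hP : isPerm P = true) (l : List ℕ) :
    permOf P hP • fam l = fam (aimg P l) := by
  rw [aimg, fam_srt]
  ext t
  rw [mem_fam, Finset.mem_smul_finset]
  constructor
  · rintro ⟨s, hs, rfl⟩
    obtain ⟨m, hm, rfl⟩ := mem_fam.1 hs
    exact ⟨pimg P m, List.mem_map_of_mem hm, (smul_fin hP m).symm⟩
  · rintro ⟨m, hm, rfl⟩
    obtain ⟨n, hn, rfl⟩ := List.mem_map.1 hm
    exact ⟨fin n, mem_fam.2 ⟨n, hn, rfl⟩, smul_fin hP n⟩

/-- Sum of squares of the masks: an invariant used to separate families. -/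
def keyL (l : List ℕ) : ℕ := (l.map fun m => m * m).foldr (· + ·) 0

/-- Sum of squares of the masks of the members. -/
def keyF (Q : Finset (Finset GolayPt)) : ℕ := ∑ t ∈ Q, maskOf t * maskOf t

theorem keyF_fam {l : List ℕ} (hl : l.Nodup) (h : ∀ m ∈ l, m < 2 ^ 24) :
    keyF (fam l) = keyL l := by
  induction l with
  | nil => rfl
  | cons a l ih =>
    rw [List.nodup_cons] at hl
    have h1 : fam (a :: l) = insert (fin a) (fam l) := by
      ext t; simp [mem_fam, eq_comm]
    have h2 : fin a ∉ fam l := by
      intro hmem
      obtain ⟨m, hm, e⟩ := mem_fam.1 hmem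
      have := fin_injective (h m (List.mem_cons_of_mem _ hm)) (h a List.mem_cons_self) e
      exact hl.1 (this ▸ hm)
    have ih' := ih hl.2 (fun m hm => h m (List.mem_cons_of_mem _ hm))
    rw [keyF] at ih' ⊢
    rw [h1, Finset.sum_insert h2, ih', maskOf_fin (h a List.mem_cons_self)]
    rfl

/-! ### Equality and membership tests -/

/-- Equality test for lists of natural numbers. -/
def eqB : List ℕ → List ℕ → Bool
  | [], [] => true
  | a :: l, b :: l' => Nat.beq a b && eqB l l'
  | _, _ => false

theorem eq_of_eqB : ∀ {l l' : List ℕ}, eqB l l' = true → l = l'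
  | [], [], _ => rfl
  | a :: l, b :: l', h => by
    rw [eqB, Bool.and_eq_true] at h
    rw [Nat.eq_of_beq_eq_true h.1, eq_of_eqB h.2]
  | [], _ :: _, h => absurd (show false = true from h) (by decide)
  | _ :: _, [], h => absurd (show false = true from h) (by decide)

/-- Membership test for lists of lists of natural numbers. -/
def memB (x : List ℕ) : List (List ℕ) → Bool
  | [] => false
  | y :: l => eqB x y || memB x l

theorem mem_of_memB {x : List ℕ} {l : List (List ℕ)} (h : memB x l = true) : x ∈ l := by
  induction l with
  | nil => exact absurd h (by simp [memB])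
  | cons y l ih =>
    rw [memB, Bool.or_eq_true] at h
    rcases h with h | h
    · rw [eq_of_eqB h]; exact List.mem_cons_self
    · exact List.mem_cons_of_mem _ (ih h)

/-- Whether all entries of the first list occur in the second one. -/
def subB (l l' : List (List ℕ)) : Bool := l.all fun x => memB x l'

theorem mem_of_subB {l l' : List (List ℕ)} (h : subB l l' = true) {x : List ℕ} (hx : x ∈ l) :
    x ∈ l' := mem_of_memB (List.all_eq_true.1 h x hx)

/-! ### Walks -/

/-- Check that a list of nodes is a walk from `x` along the maps `f`, the Boolean with each node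
telling which map leads to it. -/
def chk (f : Bool → List ℕ → List ℕ) : List ℕ → List (Bool × List ℕ) → Bool
  | _, [] => true
  | x, (i, y) :: l => eqB (f i x) y && chk f y l

/-- All nodes on a walk have a property preserved by the steps. -/
theorem chk_induction {f : Bool → List ℕ → List ℕ} {C : List ℕ → Prop}
    (hf : ∀ i x, C x → C (f i x)) (l : List (Bool × List ℕ)) :
    ∀ x, chk f x l = true → C x → ∀ y ∈ x :: l.map Prod.snd, C y := by
  induction l with
  | nil =>
    intro x _ hx y hy
    rw [List.map_nil, List.mem_singleton] at hy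
    rw [hy]; exact hx
  | cons a l ih =>
    intro x h hx y hy
    rw [chk, Bool.and_eq_true] at h
    have h1 := eq_of_eqB h.1
    rw [List.mem_cons] at hy
    rcases hy with rfl | hy
    · exact hx
    · exact ih a.2 h.2 (h1 ▸ hf a.1 x hx) y hy

end Cfsg.Agent.SporadicStructure.QuartetCode
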