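import Cfsg.Agent.SporadicStructure.QuartetCode
import Cfsg.Agent.S0384

/-!
The joint stabiliser in `M24` of the base dodecad `d0` and the base quartet `Q0`: generators.
-/

set_option autoImplicit false

namespace Cfsg.Agent.SporadicStructure.QuartetStab

open Cfsg Cfsg.Agent.SporadicA.GolayBase Cfsg.Agent.SporadicA.GolayPerm
open Cfsg.Agent.SporadicStructure.QuartetCode
open scoped Pointwise

/-- The base dodecad. -/
def d0 : Finset GolayPt := fin 340831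

theorem d0_mem : d0 ∈ dodecads :=
  (fin_mem_dodecads_iff (by norm_num)).2 ⟨by decide +kernel, by decide +kernel⟩

/-- Code of the base quartet. -/
def q0 : List ℕ := [7, 336, 70144, 270344]

/-- The base quartet. -/
def Q0 : Finset (Finset GolayPt) := fam q0

/-- Packed permutations. -/
def PA : ℕ := 444811686193746537964266158765281542
@[inherit_doc PA] def PB : ℕ := 304344777206199280595870928151774210
@[inherit_doc PA] def PX : ℕ := 929000492124499343650182431580424224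
@[inherit_doc PA] def PY : ℕ := 796596989235290860699862416851632193

theorem permA : isPerm PA = true := by decide +kernel
theorem permB : isPerm PB = true := by decide +kernel
theorem permX : isPerm PX = true := by decide +kernel
theorem permY : isPerm PY = true := by decide +kernel

/-- The element of `M24` with a given packed permutation. -/
noncomputable def mElt (P : ℕ) (hP : isPerm P = true) (hA : isAut P = true) : M24 :=
  ⟨permOf P hP, permOf_mem_M24 hP hA⟩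

noncomputable def ga : M24 := mElt PA permA (by decide +kernel)
noncomputable def gb : M24 := mElt PB permB (by decide +kernel)
noncomputable def gx : M24 := mElt PX permX (by decide +kernel)
noncomputable def gy : M24 := mElt PY permY (by decide +kernel)

theorem mElt_smul_fin {P : ℕ} (hP : isPerm P = true) (hA : isAut P = true) (m : ℕ) :
    mElt P hP hA • fin m = fin (pimg P m) := smul_fin hP m

theorem mElt_smul_fam {P : ℕ} (hP : isPerm P = true) (hA : isAut P = true) (l : List ℕ) :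
    mElt P hP hA • fam l = fam (aimg P l) := smul_fam hP l

theorem mElt_apply {P : ℕ} (hP : isPerm P = true) (hA : isAut P = true) (p : GolayPt) :
    ((mElt P hP hA : M24) : Equiv.Perm GolayPt) p = pt (papp P (idx p)) := rfl

/-- The joint stabiliser of the base dodecad and the base quartet. -/
abbrev H0 : Subgroup M24 := MulAction.stabilizer M24 d0 ⊓ MulAction.stabilizer M24 Q0

theorem mElt_mem_H0 {P : ℕ} (hP : isPerm P = true) (hA : isAut P = true)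
    (h1 : Nat.beq (pimg P 340831) 340831 = true) (h2 : eqB (aimg P q0) q0 = true) :
    mElt P hP hA ∈ H0 := by
  refine ⟨?_, ?_⟩
  · show mElt P hP hA • d0 = d0
    rw [d0, mElt_smul_fin, Nat.eq_of_beq_eq_true h1]
  · show mElt P hP hA • Q0 = Q0
    rw [Q0, mElt_smul_fam, eq_of_eqB h2]

theorem ga_mem : ga ∈ H0 := mElt_mem_H0 _ _ (by decide +kernel) (by decide +kernel)
theorem gb_mem : gb ∈ H0 := mElt_mem_H0 _ _ (by decide +kernel) (by decide +kernel)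
theorem gx_mem : gx ∈ H0 := mElt_mem_H0 _ _ (by decide +kernel) (by decide +kernel)
theorem gy_mem : gy ∈ H0 := mElt_mem_H0 _ _ (by decide +kernel) (by decide +kernel)

/-! ### Flags -/

/-- The images of the five base points. -/
def flagOf (h : M24) : List ℕ :=
  [idx ((h : Equiv.Perm GolayPt) (pt 0)), idx ((h : Equiv.Perm GolayPt) (pt 1)),
   idx ((h : Equiv.Perm GolayPt) (pt 2)), idx ((h : Equiv.Perm GolayPt) (pt 4)),
   idx ((h : Equiv.Perm GolayPt) (pt 6))]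

theorem flagOf_mul {P : ℕ} (hP : isPerm P = true) (hA : isAut P = true) (h : M24) :
    flagOf (mElt P hP hA * h) = (flagOf h).map (papp P) := by
  have key : ∀ p : GolayPt, idx (((mElt P hP hA * h : M24) : Equiv.Perm GolayPt) p) =
      papp P (idx ((h : Equiv.Perm GolayPt) p)) := by
    intro p
    exact idx_permOf hP _
  simp only [flagOf, key, List.map_cons, List.map_nil]

/-- The base points. -/
def base : Fin 5 ↪ GolayPt := ⟨![pt 0, pt 1, pt 2, pt 4, pt 6], by decide +kernel⟩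

theorem base_mem (i : Fin 5) : base i ∈ d0 := by
  revert i; decide +kernel

/-- An element of the stabiliser of `d0` is determined by the images of the five base points. -/
theorem eq_of_flag {h k : M24} (hh : h • d0 = d0) (hk : k • d0 = d0)
    (hf : flagOf h = flagOf k) : h = k := by
  simp only [flagOf, List.cons.injEq, and_true] at hf
  obtain ⟨h0, h1, h2, h3, h4⟩ := hf
  have key : ∀ i : Fin 5, (h : Equiv.Perm GolayPt) (base i) = (k : Equiv.Perm GolayPt) (base i) := by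
    intro i
    fin_cases i
    · exact idx_injective h0
    · exact idx_injective h1
    · exact idx_injective h2
    · exact idx_injective h3
    · exact idx_injective h4
  have hmem : ∀ i : Fin 5, (h : Equiv.Perm GolayPt) (base i) ∈ d0 := by
    intro i
    have h1 : (h : Equiv.Perm GolayPt) (base i) ∈ (h : Equiv.Perm GolayPt) • d0 :=
      Finset.smul_mem_smul_finset (base_mem i)
    have h2 : (h : Equiv.Perm GolayPt) • d0 = d0 := hh
    rwa [h2] at h1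
  obtain ⟨g, -, hg⟩ := Cfsg.Agent.S0384.result d0 d0_mem base
    (base.trans (h : Equiv.Perm GolayPt).toEmbedding) base_mem hmem
  have e1 := hg ⟨h, hh⟩ (fun i => rfl)
  have e2 := hg ⟨k, hk⟩ (fun i => (key i).symm)
  exact congrArg Subtype.val (e1.trans e2.symm)

/-- Whether two indices lie in the same triple of the base quartet. -/
def sameB (i j : ℕ) : Bool :=
  (Nat.testBit 7 i && Nat.testBit 7 j) || (Nat.testBit 336 i && Nat.testBit 336 j) ||
  (Nat.testBit 70144 i && Nat.testBit 70144 j) || (Nat.testBit 270344 i && Nat.testBit 270344 j)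

theorem sameB_iff (p q : GolayPt) :
    sameB (idx p) (idx q) = true ↔ ∃ T ∈ Q0, p ∈ T ∧ q ∈ T := by
  simp only [Q0, q0, mem_fam, sameB, Bool.or_eq_true, Bool.and_eq_true]
  constructor
  · rintro (((⟨h1, h2⟩ | ⟨h1, h2⟩) | ⟨h1, h2⟩) | ⟨h1, h2⟩)
    · exact ⟨_, ⟨7, by simp, rfl⟩, mem_fin.2 h1, mem_fin.2 h2⟩
    · exact ⟨_, ⟨336, by simp, rfl⟩, mem_fin.2 h1, mem_fin.2 h2⟩
    · exact ⟨_, ⟨70144, by simp, rfl⟩, mem_fin.2 h1, mem_fin.2 h2⟩
    · exact ⟨_, ⟨270344, by simp, rfl⟩, mem_fin.2 h1, mem_fin.2 h2⟩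
  · rintro ⟨T, ⟨m, hm, rfl⟩, h1, h2⟩
    rw [mem_fin] at h1 h2
    simp only [List.mem_cons, List.not_mem_nil, or_false] at hm
    rcases hm with rfl | rfl | rfl | rfl
    · exact Or.inl (Or.inl (Or.inl ⟨h1, h2⟩))
    · exact Or.inl (Or.inl (Or.inr ⟨h1, h2⟩))
    · exact Or.inl (Or.inr ⟨h1, h2⟩)
    · exact Or.inr ⟨h1, h2⟩

theorem same_of_mem {h : M24} (hh : h ∈ H0) {p q : GolayPt}
    (hs : sameB (idx p) (idx q) = true) :
    sameB (idx ((h : Equiv.Perm GolayPt) p)) (idx ((h : Equiv.Perm GolayPt) q)) = true := by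
  rw [sameB_iff] at hs ⊢
  obtain ⟨T, hT, hp, hq⟩ := hs
  have h2 : (h : Equiv.Perm GolayPt) • Q0 = Q0 := hh.2
  refine ⟨(h : Equiv.Perm GolayPt) • T, ?_, Finset.smul_mem_smul_finset hp,
    Finset.smul_mem_smul_finset hq⟩
  rw [← h2]
  exact Finset.smul_mem_smul_finset hT

theorem same_iff_of_mem {h : M24} (hh : h ∈ H0) (p q : GolayPt) :
    sameB (idx ((h : Equiv.Perm GolayPt) p)) (idx ((h : Equiv.Perm GolayPt) q)) =
      sameB (idx p) (idx q) := by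
  rw [Bool.eq_iff_iff]
  constructor
  · intro hs
    have h1 := same_of_mem (H0.inv_mem hh) hs
    have key : ∀ r : GolayPt, ((h⁻¹ : M24) : Equiv.Perm GolayPt) ((h : Equiv.Perm GolayPt) r) = r :=
      fun r => (h : Equiv.Perm GolayPt).symm_apply_apply r
    rwa [key, key] at h1
  · exact same_of_mem hh

/-- The steps on flags. -/
def stepF (i : Bool) (l : List ℕ) : List ℕ := bif i then l.map (papp PB) else l.map (papp PA)

/-- A walk through all 432 flags. -/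
def flagWalk : List (Bool × List ℕ) := [
  (true, [2, 0, 1, 3, 18]), (true, [1, 2, 0, 16, 9]), (false, [8, 4, 6, 16, 9]),
  (true, [13, 3, 18, 4, 6]), (false, [3, 13, 18, 2, 0]), (true, [16, 12, 9, 1, 2]),
  (true, [4, 8, 6, 0, 1]), (false, [2, 1, 0, 6, 8]), (true, [1, 0, 2, 18, 13]),
  (false, [8, 6, 4, 18, 3]), (true, [13, 18, 3, 9, 16]), (false, [3, 18, 13, 9, 16]),
  (true, [16, 9, 12, 6, 4]), (true, [4, 6, 8, 18, 3]), (false, [2, 0, 1, 18, 13]),
  (true, [1, 2, 0, 9, 12]), (true, [0, 1, 2, 6, 8]), (false, [6, 8, 4, 0, 1]),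
  (true, [18, 13, 3, 2, 0]), (true, [9, 12, 16, 1, 2]), (false, [9, 12, 16, 8, 4]),
  (true, [6, 8, 4, 13, 3]), (false, [0, 1, 2, 3, 13]), (true, [2, 0, 1, 16, 12]),
  (true, [1, 2, 0, 4, 8]), (false, [8, 4, 6, 2, 1]), (true, [13, 3, 18, 1, 0]),
  (true, [12, 16, 9, 0, 2]), (false, [12, 16, 9, 6, 4]), (true, [8, 4, 6, 18, 3]),
  (false, [1, 2, 0, 18, 13]), (true, [0, 1, 2, 9, 12]), (true, [2, 0, 1, 6, 8]),
  (false, [4, 6, 8, 0, 1]), (true, [3, 18, 13, 2, 0]), (true, [16, 9, 12, 1, 2]),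
  (false, [16, 9, 12, 8, 4]), (true, [4, 6, 8, 13, 3]), (true, [3, 18, 13, 12, 16]),
  (false, [13, 18, 3, 12, 16]), (true, [12, 9, 16, 8, 4]), (false, [12, 9, 16, 1, 2]),
  (true, [8, 6, 4, 0, 1]), (false, [1, 0, 2, 6, 8]), (true, [0, 2, 1, 18, 13]),
  (false, [6, 4, 8, 18, 3]), (true, [18, 3, 13, 9, 16]), (true, [9, 16, 12, 6, 4]),
  (false, [9, 16, 12, 0, 2]), (true, [6, 4, 8, 2, 1]), (false, [0, 2, 1, 4, 8]),
  (true, [2, 1, 0, 3, 13]), (true, [1, 0, 2, 16, 12]), (false, [8, 6, 4, 16, 12]),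
  (true, [13, 18, 3, 4, 8]), (true, [12, 9, 16, 3, 13]), (false, [12, 9, 16, 13, 3]),
  (true, [8, 6, 4, 12, 16]), (false, [1, 0, 2, 12, 16]), (true, [0, 2, 1, 8, 4]),
  (true, [2, 1, 0, 13, 3]), (false, [4, 8, 6, 3, 13]), (true, [3, 13, 18, 16, 12]),
  (false, [13, 3, 18, 16, 12]), (true, [12, 16, 9, 4, 8]), (false, [12, 16, 9, 2, 1]),
  (true, [8, 4, 6, 1, 0]), (false, [1, 2, 0, 8, 6]), (true, [0, 1, 2, 13, 18]),
  (false, [6, 8, 4, 3, 18]), (true, [18, 13, 3, 16, 9]), (false, [18, 3, 13, 16, 9]),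
  (true, [9, 16, 12, 4, 6]), (true, [6, 4, 8, 3, 18]), (false, [0, 2, 1, 13, 18]),
  (true, [2, 1, 0, 12, 9]), (false, [4, 8, 6, 12, 9]), (true, [3, 13, 18, 8, 6]),
  (true, [16, 12, 9, 13, 18]), (false, [16, 12, 9, 3, 18]), (true, [4, 8, 6, 16, 9]),
  (false, [2, 1, 0, 16, 9]), (true, [1, 0, 2, 4, 6]), (true, [0, 2, 1, 3, 18]),
  (false, [6, 4, 8, 13, 18]), (true, [18, 3, 13, 12, 9]), (false, [18, 13, 3, 12, 9]),
  (true, [9, 12, 16, 8, 6]), (true, [6, 8, 4, 13, 18]), (false, [0, 1, 2, 3, 18]),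
  (true, [2, 0, 1, 16, 9]), (false, [4, 6, 8, 16, 9]), (true, [3, 18, 13, 4, 6]),
  (false, [13, 18, 3, 2, 0]), (false, [3, 18, 13, 4, 6]), (true, [16, 9, 12, 3, 18]),
  (false, [16, 9, 12, 13, 18]), (true, [4, 6, 8, 12, 9]), (true, [3, 18, 13, 8, 6]),
  (false, [13, 18, 3, 1, 0]), (true, [12, 9, 16, 0, 2]), (false, [12, 9, 16, 6, 4]),
  (false, [12, 9, 16, 0, 2]), (true, [8, 6, 4, 2, 1]), (false, [1, 0, 2, 4, 8]),
  (true, [0, 2, 1, 3, 13]), (false, [6, 4, 8, 13, 3]), (true, [18, 3, 13, 12, 16]),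
  (true, [9, 16, 12, 8, 4]), (false, [9, 16, 12, 1, 2]), (true, [6, 4, 8, 0, 1]),
  (true, [18, 3, 13, 2, 0]), (false, [18, 13, 3, 4, 6]), (true, [9, 12, 16, 3, 18]),
  (false, [9, 12, 16, 13, 18]), (true, [6, 8, 4, 12, 9]), (false, [0, 1, 2, 12, 9]),
  (true, [2, 0, 1, 8, 6]), (false, [4, 6, 8, 1, 0]), (true, [3, 18, 13, 0, 2]),
  (false, [13, 18, 3, 6, 4]), (true, [12, 9, 16, 18, 3]), (true, [8, 6, 4, 9, 16]),
  (false, [1, 0, 2, 9, 16]), (true, [0, 2, 1, 6, 4]), (true, [2, 1, 0, 18, 3]),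
  (false, [4, 8, 6, 18, 13]), (true, [3, 13, 18, 9, 12]), (true, [16, 12, 9, 6, 8]),
  (false, [16, 12, 9, 0, 1]), (true, [4, 8, 6, 2, 0]), (false, [2, 1, 0, 4, 6]),
  (true, [1, 0, 2, 3, 18]), (false, [8, 6, 4, 13, 18]), (true, [13, 18, 3, 12, 9]),
  (true, [12, 9, 16, 8, 6]), (false, [12, 9, 16, 1, 0]), (true, [8, 6, 4, 0, 2]),
  (true, [13, 18, 3, 2, 1]), (false, [3, 18, 13, 4, 8]), (true, [16, 9, 12, 3, 13]),
  (true, [4, 6, 8, 16, 12]), (true, [3, 18, 13, 4, 8]), (true, [16, 9, 12, 3, 13]),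
  (false, [16, 9, 12, 13, 3]), (true, [4, 6, 8, 12, 16]), (true, [3, 18, 13, 8, 4]),
  (false, [13, 18, 3, 1, 2]), (true, [12, 9, 16, 0, 1]), (false, [12, 9, 16, 6, 8]),
  (true, [8, 6, 4, 18, 13]), (true, [13, 18, 3, 9, 12]), (false, [3, 18, 13, 9, 12]),
  (true, [16, 9, 12, 6, 8]), (true, [4, 6, 8, 18, 13]), (false, [2, 0, 1, 18, 3]),
  (true, [1, 2, 0, 9, 16]), (true, [0, 1, 2, 6, 4]), (false, [6, 8, 4, 0, 2]),
  (true, [18, 13, 3, 2, 1]), (false, [18, 3, 13, 4, 8]), (true, [9, 16, 12, 3, 13]),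
  (true, [6, 4, 8, 16, 12]), (false, [0, 2, 1, 16, 12]), (true, [2, 1, 0, 4, 8]),
  (true, [1, 0, 2, 3, 13]), (false, [8, 6, 4, 13, 3]), (false, [1, 0, 2, 3, 13]),
  (true, [0, 2, 1, 16, 12]), (true, [2, 1, 0, 4, 8]), (false, [4, 8, 6, 2, 1]),
  (true, [3, 13, 18, 1, 0]), (true, [16, 12, 9, 0, 2]), (false, [16, 12, 9, 6, 4]),
  (true, [4, 8, 6, 18, 3]), (true, [3, 13, 18, 9, 16]), (false, [13, 3, 18, 9, 16]),
  (false, [3, 13, 18, 9, 16]), (true, [16, 12, 9, 6, 4]), (true, [4, 8, 6, 18, 3]),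
  (false, [2, 1, 0, 18, 13]), (true, [1, 0, 2, 9, 12]), (false, [8, 6, 4, 9, 12]),
  (true, [13, 18, 3, 6, 8]), (false, [3, 18, 13, 0, 1]), (true, [16, 9, 12, 2, 0]),
  (false, [16, 9, 12, 4, 6]), (true, [4, 6, 8, 3, 18]), (false, [2, 0, 1, 13, 18]),
  (true, [1, 2, 0, 12, 9]), (false, [8, 4, 6, 12, 9]), (true, [13, 3, 18, 8, 6]),
  (true, [12, 16, 9, 13, 18]), (false, [12, 16, 9, 3, 18]), (true, [8, 4, 6, 16, 9]),
  (false, [1, 2, 0, 16, 9]), (true, [0, 1, 2, 4, 6]), (false, [6, 8, 4, 2, 0]),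
  (true, [18, 13, 3, 1, 2]), (false, [18, 3, 13, 8, 4]), (true, [9, 16, 12, 13, 3]),
  (true, [6, 4, 8, 12, 16]), (false, [0, 2, 1, 12, 16]), (true, [2, 1, 0, 8, 4]),
  (true, [1, 0, 2, 13, 3]), (false, [8, 6, 4, 3, 13]), (true, [13, 18, 3, 16, 12]),
  (true, [12, 9, 16, 4, 8]), (false, [12, 9, 16, 2, 1]), (true, [8, 6, 4, 1, 0]),
  (false, [1, 0, 2, 8, 6]), (false, [8, 6, 4, 1, 0]), (true, [13, 18, 3, 0, 2]),
  (false, [3, 18, 13, 6, 4]), (true, [16, 9, 12, 18, 3]), (true, [4, 6, 8, 9, 16]),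
  (false, [2, 0, 1, 9, 16]), (true, [1, 2, 0, 6, 4]), (true, [0, 1, 2, 18, 3]),
  (false, [6, 8, 4, 18, 13]), (true, [18, 13, 3, 9, 12]), (false, [18, 3, 13, 9, 12]),
  (true, [9, 16, 12, 6, 8]), (false, [9, 16, 12, 0, 1]), (true, [6, 4, 8, 2, 0]),
  (false, [0, 2, 1, 4, 6]), (true, [2, 1, 0, 3, 18]), (true, [1, 0, 2, 16, 9]),
  (false, [8, 6, 4, 16, 9]), (true, [13, 18, 3, 4, 6]), (true, [12, 9, 16, 3, 18]),
  (false, [12, 9, 16, 13, 18]), (true, [8, 6, 4, 12, 9]), (true, [13, 18, 3, 8, 6]),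
  (false, [3, 18, 13, 1, 0]), (true, [16, 9, 12, 0, 2]), (true, [4, 6, 8, 2, 1]),
  (false, [2, 0, 1, 4, 8]), (true, [1, 2, 0, 3, 13]), (false, [8, 4, 6, 13, 3]),
  (true, [13, 3, 18, 12, 16]), (false, [3, 13, 18, 12, 16]), (true, [16, 12, 9, 8, 4]),
  (true, [4, 8, 6, 13, 3]), (true, [3, 13, 18, 12, 16]), (false, [13, 3, 18, 12, 16]),
  (true, [12, 16, 9, 8, 4]), (false, [12, 16, 9, 1, 2]), (true, [8, 4, 6, 0, 1]),
  (false, [1, 2, 0, 6, 8]), (true, [0, 1, 2, 18, 13]), (false, [6, 8, 4, 18, 3]),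
  (true, [18, 13, 3, 9, 16]), (true, [9, 12, 16, 6, 4]), (false, [9, 12, 16, 0, 2]),
  (true, [6, 8, 4, 2, 1]), (true, [18, 13, 3, 1, 0]), (false, [18, 3, 13, 8, 6]),
  (true, [9, 16, 12, 13, 18]), (false, [9, 16, 12, 3, 18]), (true, [6, 4, 8, 16, 9]),
  (true, [18, 3, 13, 4, 6]), (true, [9, 16, 12, 3, 18]), (false, [9, 16, 12, 13, 18]),
  (true, [6, 4, 8, 12, 9]), (false, [0, 2, 1, 12, 9]), (true, [2, 1, 0, 8, 6]),
  (true, [1, 0, 2, 13, 18]), (false, [8, 6, 4, 3, 18]), (true, [13, 18, 3, 16, 9]),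
  (false, [3, 18, 13, 16, 9]), (false, [13, 18, 3, 16, 9]), (true, [12, 9, 16, 4, 6]),
  (false, [12, 9, 16, 2, 0]), (true, [8, 6, 4, 1, 2]), (true, [13, 18, 3, 0, 1]),
  (false, [3, 18, 13, 6, 8]), (true, [16, 9, 12, 18, 13]), (true, [4, 6, 8, 9, 12]),
  (false, [2, 0, 1, 9, 12]), (true, [1, 2, 0, 6, 8]), (false, [8, 4, 6, 0, 1]),
  (true, [13, 3, 18, 2, 0]), (false, [3, 13, 18, 4, 6]), (true, [16, 12, 9, 3, 18]),
  (true, [4, 8, 6, 16, 9]), (false, [2, 1, 0, 16, 9]), (true, [1, 0, 2, 4, 6]),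
  (false, [8, 6, 4, 2, 0]), (false, [1, 0, 2, 4, 6]), (true, [0, 2, 1, 3, 18]),
  (false, [6, 4, 8, 13, 18]), (true, [18, 3, 13, 12, 9]), (true, [9, 16, 12, 8, 6]),
  (false, [9, 16, 12, 1, 0]), (true, [6, 4, 8, 0, 2]), (true, [18, 3, 13, 2, 1]),
  (false, [18, 13, 3, 4, 8]), (true, [9, 12, 16, 3, 13]), (false, [9, 12, 16, 13, 3]),
  (true, [6, 8, 4, 12, 16]), (true, [18, 13, 3, 8, 4]), (false, [18, 3, 13, 1, 2]),
  (true, [9, 16, 12, 0, 1]), (false, [9, 16, 12, 6, 8]), (true, [6, 4, 8, 18, 13]),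
  (false, [0, 2, 1, 18, 3]), (true, [2, 1, 0, 9, 16]), (false, [4, 8, 6, 9, 16]),
  (true, [3, 13, 18, 6, 4]), (false, [13, 3, 18, 0, 2]), (false, [3, 13, 18, 6, 4]),
  (true, [16, 12, 9, 18, 3]), (false, [16, 12, 9, 18, 13]), (true, [4, 8, 6, 9, 12]),
  (false, [2, 1, 0, 9, 12]), (false, [4, 8, 6, 9, 12]), (true, [3, 13, 18, 6, 8]),
  (false, [13, 3, 18, 0, 1]), (true, [12, 16, 9, 2, 0]), (true, [8, 4, 6, 1, 2]),
  (false, [1, 2, 0, 8, 4]), (true, [0, 1, 2, 13, 3]), (true, [2, 0, 1, 12, 16]),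
  (true, [1, 2, 0, 8, 4]), (true, [0, 1, 2, 13, 3]), (false, [6, 8, 4, 3, 13]),
  (true, [18, 13, 3, 16, 12]), (true, [9, 12, 16, 4, 8]), (false, [9, 12, 16, 2, 1]),
  (true, [6, 8, 4, 1, 0]), (false, [0, 1, 2, 8, 6]), (false, [6, 8, 4, 1, 0]),
  (true, [18, 13, 3, 0, 2]), (false, [18, 3, 13, 6, 4]), (true, [9, 16, 12, 18, 3]),
  (false, [9, 16, 12, 18, 13]), (true, [6, 4, 8, 9, 12]), (true, [18, 3, 13, 6, 8]),
  (false, [18, 13, 3, 0, 1]), (true, [9, 12, 16, 2, 0]), (true, [6, 8, 4, 1, 2]),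
  (false, [0, 1, 2, 8, 4]), (true, [2, 0, 1, 13, 3]), (true, [1, 2, 0, 12, 16]),
  (false, [8, 4, 6, 12, 16]), (true, [13, 3, 18, 8, 4]), (false, [3, 13, 18, 1, 2]),
  (false, [13, 3, 18, 8, 4]), (true, [12, 16, 9, 13, 3]), (false, [12, 16, 9, 3, 13]),
  (true, [8, 4, 6, 16, 12]), (false, [1, 2, 0, 16, 12]), (true, [0, 1, 2, 4, 8]),
  (true, [2, 0, 1, 3, 13]), (true, [1, 2, 0, 16, 12]), (false, [8, 4, 6, 16, 12]),
  (true, [13, 3, 18, 4, 8]), (false, [3, 13, 18, 2, 1]), (true, [16, 12, 9, 1, 0]),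
  (true, [4, 8, 6, 0, 2]), (false, [2, 1, 0, 6, 4]), (true, [1, 0, 2, 18, 3]),
  (true, [0, 2, 1, 9, 16]), (false, [6, 4, 8, 9, 16]), (true, [18, 3, 13, 6, 4]),
  (true, [9, 16, 12, 18, 3]), (false, [9, 16, 12, 18, 13]), (true, [6, 4, 8, 9, 12]),
  (false, [0, 2, 1, 9, 12]), (false, [6, 4, 8, 9, 12]), (true, [18, 3, 13, 6, 8]),
  (false, [18, 13, 3, 0, 1]), (true, [9, 12, 16, 2, 0]), (false, [9, 12, 16, 4, 6]),
  (true, [6, 8, 4, 3, 18]), (false, [0, 1, 2, 13, 18]), (true, [2, 0, 1, 12, 9]),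
  (true, [1, 2, 0, 8, 6]), (false, [8, 4, 6, 1, 0]), (true, [13, 3, 18, 0, 2]),
  (true, [12, 16, 9, 2, 1]), (false, [12, 16, 9, 4, 8]), (true, [8, 4, 6, 3, 13]),
  (false, [1, 2, 0, 13, 3]), (true, [0, 1, 2, 12, 16]), (true, [2, 0, 1, 8, 4]),
  (false, [4, 6, 8, 1, 2]), (true, [3, 18, 13, 0, 1]), (false, [13, 18, 3, 6, 8]),
  (true, [12, 9, 16, 18, 13]), (true, [8, 6, 4, 9, 12]), (false, [1, 0, 2, 9, 12]),
  (true, [0, 2, 1, 6, 8]), (false, [6, 4, 8, 0, 1]), (true, [18, 3, 13, 2, 0]),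
  (false, [18, 13, 3, 4, 6]), (true, [9, 12, 16, 3, 18]), (true, [6, 8, 4, 16, 9]),
  (false, [0, 1, 2, 16, 9]), (true, [2, 0, 1, 4, 6]), (false, [4, 6, 8, 2, 0]),
  (true, [3, 18, 13, 1, 2]), (true, [16, 9, 12, 0, 1]), (true, [4, 6, 8, 2, 0]),
  (true, [3, 18, 13, 1, 2]), (false, [13, 18, 3, 8, 4]), (false, [3, 18, 13, 1, 2]),
  (true, [16, 9, 12, 0, 1]), (true, [4, 6, 8, 2, 0]), (false, [2, 0, 1, 4, 6]),
  (true, [1, 2, 0, 3, 18]), (false, [8, 4, 6, 13, 18]), (true, [13, 3, 18, 12, 9]),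
  (false, [3, 13, 18, 12, 9]), (true, [16, 12, 9, 8, 6]), (true, [4, 8, 6, 13, 18]),
  (true, [3, 13, 18, 12, 9]), (false, [13, 3, 18, 12, 9]), (true, [12, 16, 9, 8, 6]),
  (false, [12, 16, 9, 1, 0]), (true, [8, 4, 6, 0, 2]), (true, [13, 3, 18, 2, 1]),
  (false, [3, 13, 18, 4, 8]), (true, [16, 12, 9, 3, 13]), (false, [16, 12, 9, 13, 3]),
  (true, [4, 8, 6, 12, 16]), (false, [2, 1, 0, 12, 16]), (true, [1, 0, 2, 8, 4]),
  (true, [0, 2, 1, 13, 3]), (false, [6, 4, 8, 3, 13]), (true, [18, 3, 13, 16, 12]),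
  (true, [9, 16, 12, 4, 8]), (false, [9, 16, 12, 2, 1]), (true, [6, 4, 8, 1, 0]),
  (false, [0, 2, 1, 8, 6]), (true, [2, 1, 0, 13, 18]), (false, [4, 8, 6, 3, 18]),
  (true, [3, 13, 18, 16, 9]), (false, [13, 3, 18, 16, 9]), (true, [12, 16, 9, 4, 6]),
  (true, [8, 4, 6, 3, 18]), (false, [1, 2, 0, 13, 18]), (true, [0, 1, 2, 12, 9]),
  (false, [6, 8, 4, 12, 9]), (true, [18, 13, 3, 8, 6]), (false, [18, 3, 13, 1, 0]),
  (true, [9, 16, 12, 0, 2]), (true, [6, 4, 8, 2, 1]), (false, [0, 2, 1, 4, 8]),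
  (true, [2, 1, 0, 3, 13]), (true, [1, 0, 2, 16, 12]), (false, [8, 6, 4, 16, 12]),
  (true, [13, 18, 3, 4, 8]), (false, [3, 18, 13, 2, 1]), (true, [16, 9, 12, 1, 0]),
  (false, [16, 9, 12, 8, 6]), (true, [4, 6, 8, 13, 18]), (true, [3, 18, 13, 12, 9]),
  (true, [16, 9, 12, 8, 6]), (false, [16, 9, 12, 1, 0]), (true, [4, 6, 8, 0, 2]),
  (false, [2, 0, 1, 6, 4]), (true, [1, 2, 0, 18, 3]), (true, [0, 1, 2, 9, 16]),
  (false, [6, 8, 4, 9, 16]), (true, [18, 13, 3, 6, 4]), (false, [18, 3, 13, 0, 2]),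
  (false, [18, 13, 3, 6, 4]), (true, [9, 12, 16, 18, 3]), (false, [9, 12, 16, 18, 13]),
  (true, [6, 8, 4, 9, 12]), (true, [18, 13, 3, 6, 8]), (false, [18, 3, 13, 0, 1]),
  (true, [9, 16, 12, 2, 0]), (true, [6, 4, 8, 1, 2]), (false, [0, 2, 1, 8, 4]),
  (true, [2, 1, 0, 13, 3]), (false, [4, 8, 6, 3, 13]), (true, [3, 13, 18, 16, 12]),
  (true, [16, 12, 9, 4, 8]), (false, [16, 12, 9, 2, 1]), (true, [4, 8, 6, 1, 0]),
  (true, [3, 13, 18, 0, 2]), (false, [13, 3, 18, 6, 4]), (true, [12, 16, 9, 18, 3]),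
  (true, [8, 4, 6, 9, 16]), (true, [13, 3, 18, 6, 4]), (true, [12, 16, 9, 18, 3]),
  (false, [12, 16, 9, 18, 13]), (true, [8, 4, 6, 9, 12]), (true, [13, 3, 18, 6, 8]),
  (false, [3, 13, 18, 0, 1]), (true, [16, 12, 9, 2, 0]), (false, [16, 12, 9, 4, 6]),
  (false, [16, 12, 9, 2, 0]), (true, [4, 8, 6, 1, 2]), (false, [2, 1, 0, 8, 4]),
  (true, [1, 0, 2, 13, 3]), (false, [8, 6, 4, 3, 13]), (true, [13, 18, 3, 16, 12]),
  (false, [3, 18, 13, 16, 12]), (true, [16, 9, 12, 4, 8]), (false, [16, 9, 12, 2, 1]),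
  (false, [16, 9, 12, 4, 8]), (true, [4, 6, 8, 3, 13]), (false, [2, 0, 1, 13, 3]),
  (true, [1, 2, 0, 12, 16]), (false, [8, 4, 6, 12, 16]), (true, [13, 3, 18, 8, 4]),
  (false, [3, 13, 18, 1, 2]), (true, [16, 12, 9, 0, 1]), (true, [4, 8, 6, 2, 0]),
  (false, [2, 1, 0, 4, 6]), (true, [1, 0, 2, 3, 18]), (true, [0, 2, 1, 16, 9]),
  (false, [6, 4, 8, 16, 9]), (true, [18, 3, 13, 4, 6]), (false, [18, 13, 3, 2, 0]),
  (true, [9, 12, 16, 1, 2]), (false, [9, 12, 16, 8, 4]), (true, [6, 8, 4, 13, 3]),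
  (true, [18, 13, 3, 12, 16]), (false, [18, 3, 13, 12, 16]), (true, [9, 16, 12, 8, 4]),
  (true, [6, 4, 8, 13, 3]), (false, [0, 2, 1, 3, 13]), (true, [2, 1, 0, 16, 12]),
  (false, [4, 8, 6, 16, 12]), (true, [3, 13, 18, 4, 8]), (true, [16, 12, 9, 3, 13]),
  (false, [16, 12, 9, 13, 3]), (true, [4, 8, 6, 12, 16]), (true, [3, 13, 18, 8, 4]),
  (false, [13, 3, 18, 1, 2]), (true, [12, 16, 9, 0, 1]), (false, [12, 16, 9, 6, 8]),
  (true, [8, 4, 6, 18, 13]), (true, [13, 3, 18, 9, 12]), (true, [12, 16, 9, 6, 8]),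
  (false, [12, 16, 9, 0, 1]), (true, [8, 4, 6, 2, 0]), (false, [1, 2, 0, 4, 6]),
  (true, [0, 1, 2, 3, 18]), (false, [6, 8, 4, 13, 18]), (true, [18, 13, 3, 12, 9]),
  (true, [9, 12, 16, 8, 6]), (false, [9, 12, 16, 1, 0]), (true, [6, 8, 4, 0, 2]),
  (true, [18, 13, 3, 2, 1]), (false, [18, 3, 13, 4, 8]), (true, [9, 16, 12, 3, 13]),
  (false, [9, 16, 12, 13, 3]), (true, [6, 4, 8, 12, 16]), (true, [18, 3, 13, 8, 4]),
  (false, [18, 13, 3, 1, 2]), (true, [9, 12, 16, 0, 1]), (false, [9, 12, 16, 6, 8]),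
  (true, [6, 8, 4, 18, 13]), (true, [18, 13, 3, 9, 12]), (false, [18, 3, 13, 9, 12]),
  (true, [9, 16, 12, 6, 8]), (true, [6, 4, 8, 18, 13]), (false, [0, 2, 1, 18, 3]),
  (true, [2, 1, 0, 9, 16]), (true, [1, 0, 2, 6, 4]), (true, [0, 2, 1, 18, 3]),
  (false, [6, 4, 8, 18, 13]), (true, [18, 3, 13, 9, 12]), (true, [9, 16, 12, 6, 8]),
  (false, [9, 16, 12, 0, 1]), (true, [6, 4, 8, 2, 0]), (true, [18, 3, 13, 1, 2]),
  (false, [18, 13, 3, 8, 4]), (true, [9, 12, 16, 13, 3]), (false, [9, 12, 16, 3, 13]),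
  (true, [6, 8, 4, 16, 12]), (false, [0, 1, 2, 16, 12]), (true, [2, 0, 1, 4, 8]),
  (false, [4, 6, 8, 2, 1]), (true, [3, 18, 13, 1, 0]), (false, [13, 18, 3, 8, 6]),
  (true, [12, 9, 16, 13, 18]), (true, [8, 6, 4, 12, 9]), (false, [1, 0, 2, 12, 9])]

/-- The nodes of the walk. -/
def flagNodes : List (List ℕ) := [0, 1, 2, 4, 6] :: flagWalk.map Prod.snd

theorem flagWalk_chk : chk stepF [0, 1, 2, 4, 6] flagWalk = true := by decide +kernel

/-- Every flag satisfying the obvious conditions is on the walk. -/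
def flagAll : Bool :=
  (List.range 24).all fun i0 => (List.range 24).all fun i1 =>
    !(sameB i0 i1 && !(Nat.beq i0 i1)) ||
    (List.range 24).all fun i2 =>
      !(sameB i0 i2 && !(Nat.beq i0 i2) && !(Nat.beq i1 i2)) ||
      (List.range 24).all fun i3 =>
        !(sameB i3 i3 && !(sameB i0 i3)) ||
        (List.range 24).all fun i4 =>
          !(sameB i3 i4 && !(Nat.beq i3 i4)) || memB [i0, i1, i2, i3, i4] flagNodes

theorem flagAll_eq : flagAll = true := by decide +kernel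

theorem mem_flagNodes {i0 i1 i2 i3 i4 : ℕ} (h0 : i0 < 24) (h1 : i1 < 24) (h2 : i2 < 24)
    (h3 : i3 < 24) (h4 : i4 < 24) (s1 : sameB i0 i1 = true) (n1 : i0 ≠ i1)
    (s2 : sameB i0 i2 = true) (n2 : i0 ≠ i2) (n3 : i1 ≠ i2) (s3 : sameB i3 i3 = true)
    (s4 : sameB i0 i3 = false) (s5 : sameB i3 i4 = true) (n4 : i3 ≠ i4) :
    [i0, i1, i2, i3, i4] ∈ flagNodes := by
  have hb : ∀ {i j : ℕ}, i ≠ j → Nat.beq i j = false := by
    intro i j hij
    cases hh : Nat.beq i j with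
    | false => rfl
    | true => exact absurd (Nat.eq_of_beq_eq_true hh) hij
  have h := flagAll_eq
  unfold flagAll at h
  have g1 := List.all_eq_true.1 (List.all_eq_true.1 h i0 (List.mem_range.2 h0)) i1
    (List.mem_range.2 h1)
  rw [s1, hb n1] at g1
  simp only [Bool.not_false, Bool.and_true, Bool.not_true, Bool.false_or] at g1
  have g2 := List.all_eq_true.1 g1 i2 (List.mem_range.2 h2)
  rw [s2, hb n2, hb n3] at g2
  simp only [Bool.not_false, Bool.and_true, Bool.not_true, Bool.false_or] at g2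
  have g3 := List.all_eq_true.1 g2 i3 (List.mem_range.2 h3)
  rw [s3, s4] at g3
  simp only [Bool.not_false, Bool.and_true, Bool.not_true, Bool.false_or] at g3
  have g4 := List.all_eq_true.1 g3 i4 (List.mem_range.2 h4)
  rw [s5, hb n4] at g4
  simp only [Bool.not_false, Bool.and_true, Bool.not_true, Bool.false_or] at g4
  exact mem_of_memB g4

theorem flagNodes_reached (f : List ℕ) (hf : f ∈ flagNodes) :
    ∃ k ∈ Subgroup.closure ({ga, gb} : Set M24), flagOf k = f := by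
  refine chk_induction (f := stepF)
    (C := fun f => ∃ k ∈ Subgroup.closure ({ga, gb} : Set M24), flagOf k = f)
    ?_ flagWalk _ flagWalk_chk ?_ f hf
  · rintro i x ⟨k, hk, rfl⟩
    cases i with
    | false =>
      exact ⟨ga * k, Subgroup.mul_mem _ (Subgroup.subset_closure (by simp)) hk, flagOf_mul _ _ _⟩
    | true =>
      exact ⟨gb * k, Subgroup.mul_mem _ (Subgroup.subset_closure (by simp)) hk, flagOf_mul _ _ _⟩
  · exact ⟨1, Subgroup.one_mem _, by decide +kernel⟩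

theorem closure_le : Subgroup.closure ({ga, gb} : Set M24) ≤ H0 := by
  rw [Subgroup.closure_le]
  intro g hg
  rcases hg with rfl | hg
  · exact ga_mem
  · rw [Set.mem_singleton_iff] at hg
    rw [hg]; exact gb_mem

/-- The joint stabiliser is generated by two elements. -/
theorem H0_eq_closure : H0 = Subgroup.closure ({ga, gb} : Set M24) := by
  apply le_antisymm _ closure_le
  intro h hh
  have inj : ∀ {i j : ℕ}, i < 24 → j < 24 → i ≠ j →
      idx ((h : Equiv.Perm GolayPt) (pt i)) ≠ idx ((h : Equiv.Perm GolayPt) (pt j)) := by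
    intro i j hi hj hij e
    apply hij
    have := (h : Equiv.Perm GolayPt).injective (idx_injective e)
    rw [← idx_pt hi, ← idx_pt hj, this]
  have hs : ∀ {i j : ℕ}, i < 24 → j < 24 →
      sameB (idx ((h : Equiv.Perm GolayPt) (pt i))) (idx ((h : Equiv.Perm GolayPt) (pt j))) =
        sameB i j := by
    intro i j hi hj
    rw [same_iff_of_mem hh, idx_pt hi, idx_pt hj]
  have hmem : flagOf h ∈ flagNodes := by
    refine mem_flagNodes (idx_lt _) (idx_lt _) (idx_lt _) (idx_lt _) (idx_lt _) ?_ ?_ ?_ ?_ ?_ ?_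
      ?_ ?_ ?_
    · rw [hs (by norm_num) (by norm_num)]; decide +kernel
    · exact inj (by norm_num) (by norm_num) (by norm_num)
    · rw [hs (by norm_num) (by norm_num)]; decide +kernel
    · exact inj (by norm_num) (by norm_num) (by norm_num)
    · exact inj (by norm_num) (by norm_num) (by norm_num)
    · rw [hs (by norm_num) (by norm_num)]; decide +kernel
    · rw [hs (by norm_num) (by norm_num)]; decide +kernel
    · rw [hs (by norm_num) (by norm_num)]; decide +kernel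
    · exact inj (by norm_num) (by norm_num) (by norm_num)
  obtain ⟨k, hk, hkf⟩ := flagNodes_reached _ hmem
  have : h = k := eq_of_flag hh.1 (closure_le hk).1 hkf.symm
  rw [this]; exact hk

end Cfsg.Agent.SporadicStructure.QuartetStab
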