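import Cfsg.Agent.LieClassical.HermGen
import Cfsg.Agent.SporadicA.FieldFour

/-!
The group `SU_6(2)` over the explicit field with four elements is generated by four explicit matrices: the permutation
matrices of a transposition and of a 6-cycle, `diag(ω, ω², 1, 1, 1, 1)`, and a matrix acting on three coordinates.
-/

set_option autoImplicit false

namespace Cfsg.Agent.SporadicStructure.SU62

open Cfsg Matrix Cfsg.Agent.LieClassical.HermBasic Cfsg.Agent.LieClassical.HermSiegel
  Cfsg.Agent.LieClassical.HermGen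
open Cfsg.Agent.SporadicA.FieldFour

/-! ### The field -/

theorem hF4 : Fintype.card F4 = 2 ^ 2 := rfl

theorem neg_one_eq : (-1 : F4) = 1 := by decide

theorem add_self (a : F4) : a + a = 0 := by revert a; decide

theorem mul_sq_self (a : F4) : a * a ^ 2 = if a = 0 then 0 else 1 := by revert a; decide

/-! ### Determinants -/

/-- Determinant by expansion along the first row (characteristic two). -/
def detF : (n : ℕ) → (Fin n → Fin n → F4) → F4
  | 0, _ => 1
  | n + 1, A => ((List.finRange (n + 1)).map fun j =>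
      A 0 j * detF n (fun i k => A i.succ (j.succAbove k))).sum

theorem det_eq_detF (n : ℕ) (A : Matrix (Fin n) (Fin n) F4) : A.det = detF n A := by
  induction n with
  | zero => simp [detF]
  | succ n ih =>
    rw [Matrix.det_succ_row_zero, Fin.sum_univ_def]
    show _ = ((List.finRange (n + 1)).map fun j =>
      A 0 j * detF n (fun i k => A i.succ (j.succAbove k))).sum
    congr 1
    refine List.map_congr_left fun j _ => ?_
    rw [ih, neg_one_eq, one_pow, one_mul]
    rfl

/-- A matrix from a table of codes (`0, 1, 2 = ω, 3 = ω²`). -/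
def matOf (l : List (List ℕ)) : Matrix (Fin 6) (Fin 6) F4 :=
  fun i j => F4.ofNat ((l.getD i []).getD j 0)

theorem matOf_apply (l : List (List ℕ)) (i j : Fin 6) :
    matOf l i j = F4.ofNat ((l.getD i []).getD j 0) := rfl

/-- The form is preserved if the columns are orthonormal. -/
theorem herm_of_cols (M : Matrix (Fin 6) (Fin 6) F4)
    (h : ∀ i j, ∑ l, M l i * (M l j) ^ 2 = if i = j then 1 else 0) (u v : Fin 6 → F4) :
    hermForm 6 F4 2 (M *ᵥ u) (M *ᵥ v) = hermForm 6 F4 2 u v := by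
  have h1 : ∀ l, (M *ᵥ u) l * ((M *ᵥ v) l) ^ 2 =
      ∑ i, ∑ j, (M l i * (M l j) ^ 2) * (u i * (v j) ^ 2) := by
    intro l
    have e1 : (M *ᵥ u) l = ∑ i, M l i * u i := rfl
    have e2 : (M *ᵥ v) l = ∑ j, M l j * v j := rfl
    rw [e1, e2, sum_pow_q hF4, Finset.sum_mul_sum]
    refine Finset.sum_congr rfl fun i _ => Finset.sum_congr rfl fun j _ => ?_
    rw [mul_pow]; ring
  rw [herm_def, herm_def, Finset.sum_congr rfl fun l _ => h1 l, Finset.sum_comm]
  refine Finset.sum_congr rfl fun i _ => ?_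
  rw [Finset.sum_comm]
  have h2 : ∀ j, ∑ l, M l i * M l j ^ 2 * (u i * v j ^ 2) =
      (if i = j then 1 else 0) * (u i * v j ^ 2) := by
    intro j
    rw [← h i j, Finset.sum_mul]
  rw [Finset.sum_congr rfl fun j _ => h2 j, Finset.sum_eq_single i]
  · rw [if_pos rfl, one_mul]
  · intro j _ hj; rw [if_neg (Ne.symm hj), zero_mul]
  · intro h; exact absurd (Finset.mem_univ i) h

/-- The sum of six values. -/
def s6 (f : Fin 6 → F4) : F4 := f 0 + f 1 + f 2 + f 3 + f 4 + f 5

theorem sum_eq_s6 (f : Fin 6 → F4) : ∑ i, f i = s6 f := Fin.sum_univ_six f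

/-- Check that the columns are orthonormal and the determinant is one. -/
def suB (l : List (List ℕ)) : Bool :=
  decide (∀ i j : Fin 6, s6 (fun k => matOf l k i * (matOf l k j * matOf l k j)) = if i = j then 1 else 0) &&
    decide (detF 6 (matOf l) = 1)

/-- An element of `SU_6(2)` from a table. -/
def ofTable (l : List (List ℕ)) (h : suB l = true) : SU 6 F4 2 :=
  mkSU (matOf l)
    (by
      rw [det_eq_detF]
      exact of_decide_eq_true ((Bool.and_eq_true _ _).mp h).2)
    (herm_of_cols _ (by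
      intro i j
      have := of_decide_eq_true ((Bool.and_eq_true _ _).mp h).1 i j
      rw [sum_eq_s6, ← this]
      simp only [sq]))

theorem mat_ofTable (l : List (List ℕ)) (h : suB l = true) : mat (ofTable l h) = matOf l := rfl

def tT : List (List ℕ) := [[0, 1, 0, 0, 0, 0], [1, 0, 0, 0, 0, 0], [0, 0, 1, 0, 0, 0],
  [0, 0, 0, 1, 0, 0], [0, 0, 0, 0, 1, 0], [0, 0, 0, 0, 0, 1]]

def tC : List (List ℕ) := [[0, 0, 0, 0, 0, 1], [1, 0, 0, 0, 0, 0], [0, 1, 0, 0, 0, 0],
  [0, 0, 1, 0, 0, 0], [0, 0, 0, 1, 0, 0], [0, 0, 0, 0, 1, 0]]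

def tD : List (List ℕ) := [[2, 0, 0, 0, 0, 0], [0, 3, 0, 0, 0, 0], [0, 0, 1, 0, 0, 0],
  [0, 0, 0, 1, 0, 0], [0, 0, 0, 0, 1, 0], [0, 0, 0, 0, 0, 1]]

def tM : List (List ℕ) := [[1, 1, 1, 0, 0, 0], [1, 2, 3, 0, 0, 0], [1, 3, 2, 0, 0, 0],
  [0, 0, 0, 1, 0, 0], [0, 0, 0, 0, 1, 0], [0, 0, 0, 0, 0, 1]]

/-- transposition -/
def gT : SU 6 F4 2 := ofTable tT (by decide +kernel)
/-- 6-cycle -/
def gC : SU 6 F4 2 := ofTable tC (by decide +kernel)
/-- diagonal -/
def gD : SU 6 F4 2 := ofTable tD (by decide +kernel)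
/-- the matrix on three coordinates -/
def gM : SU 6 F4 2 := ofTable tM (by decide +kernel)

/-! ### Actions -/

theorem ofNat0 : F4.ofNat 0 = 0 := rfl
theorem ofNat1 : F4.ofNat 1 = 1 := rfl

theorem act_ofTable (l : List (List ℕ)) (h : suB l = true) (y : Fin 6 → F4) (i : Fin 6) :
    act (ofTable l h) y i = s6 fun j => matOf l i j * y j := by
  rw [← sum_eq_s6]; rfl

theorem act_gM (y : Fin 6 → F4) : act gM y = ![y 0 + y 1 + y 2, y 0 + F4.w * y 1 + F4.v * y 2,
    y 0 + F4.v * y 1 + F4.w * y 2, y 3, y 4, y 5] := by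
  funext i
  rw [gM, act_ofTable]
  fin_cases i <;>
    simp [s6, matOf_apply, tM, ofNat0, ofNat1, show F4.ofNat 2 = F4.w from rfl,
      show F4.ofNat 3 = F4.v from rfl]

theorem act_gD (y : Fin 6 → F4) : act gD y = ![F4.w * y 0, F4.v * y 1, y 2, y 3, y 4, y 5] := by
  funext i
  rw [gD, act_ofTable]
  fin_cases i <;>
    simp [s6, matOf_apply, tD, ofNat0, ofNat1, show F4.ofNat 2 = F4.w from rfl,
      show F4.ofNat 3 = F4.v from rfl]

theorem act_gT (y : Fin 6 → F4) : act gT y = y ∘ Equiv.swap (0 : Fin 6) 1 := by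
  funext i
  rw [gT, act_ofTable]
  fin_cases i
  · simp [s6, matOf_apply, tT, ofNat0, ofNat1]
  · simp [s6, matOf_apply, tT, ofNat0, ofNat1]
  · have : Equiv.swap (0 : Fin 6) 1 2 = 2 := by decide
    simp [s6, matOf_apply, tT, ofNat0, ofNat1, this]
  · have : Equiv.swap (0 : Fin 6) 1 3 = 3 := by decide
    simp [s6, matOf_apply, tT, ofNat0, ofNat1, this]
  · have : Equiv.swap (0 : Fin 6) 1 4 = 4 := by decide
    simp [s6, matOf_apply, tT, ofNat0, ofNat1, this]
  · have : Equiv.swap (0 : Fin 6) 1 5 = 5 := by decide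
    simp [s6, matOf_apply, tT, ofNat0, ofNat1, this]

theorem act_gC (y : Fin 6 → F4) : act gC y = y ∘ (finRotate 6).symm := by
  funext i
  rw [gC, act_ofTable]
  fin_cases i
  · have : (finRotate 6).symm 0 = 5 := by decide
    simp [s6, matOf_apply, tC, ofNat0, ofNat1, this]
  · have : (finRotate 6).symm 1 = 0 := by decide
    simp [s6, matOf_apply, tC, ofNat0, ofNat1, this]
  · have : (finRotate 6).symm 2 = 1 := by decide
    simp [s6, matOf_apply, tC, ofNat0, ofNat1, this]
  · have : (finRotate 6).symm 3 = 2 := by decide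
    simp [s6, matOf_apply, tC, ofNat0, ofNat1, this]
  · have : (finRotate 6).symm 4 = 3 := by decide
    simp [s6, matOf_apply, tC, ofNat0, ofNat1, this]
  · have : (finRotate 6).symm 5 = 4 := by decide
    simp [s6, matOf_apply, tC, ofNat0, ofNat1, this]

/-- The generated subgroup. -/
def H : Subgroup (SU 6 F4 2) := Subgroup.closure {gT, gC, gD, gM}

theorem gT_mem : gT ∈ H := Subgroup.subset_closure (by simp)
theorem gC_mem : gC ∈ H := Subgroup.subset_closure (by simp)
theorem gD_mem : gD ∈ H := Subgroup.subset_closure (by simp)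
theorem gM_mem : gM ∈ H := Subgroup.subset_closure (by simp)

/-- All coordinate permutations are in `H`. -/
theorem perm_mem (σ : Equiv.Perm (Fin 6)) :
    ∃ g ∈ H, ∀ y : Fin 6 → F4, act g y = y ∘ σ.symm := by
  let S : Subgroup (Equiv.Perm (Fin 6)) :=
    { carrier := {σ | ∃ g ∈ H, ∀ y : Fin 6 → F4, act g y = y ∘ σ.symm}
      one_mem' := ⟨1, H.one_mem, fun y => act_one y⟩
      mul_mem' := by
        rintro σ τ ⟨g, hg, hgy⟩ ⟨h, hh, hhy⟩
        refine ⟨g * h, H.mul_mem hg hh, fun y => ?_⟩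
        rw [act_mul, hhy, hgy]
        rfl
      inv_mem' := by
        rintro σ ⟨g, hg, hgy⟩
        refine ⟨g⁻¹, H.inv_mem hg, fun y => ?_⟩
        have : act g (y ∘ (σ⁻¹).symm) = y := by
          rw [hgy]
          funext i
          show y (σ (σ.symm i)) = y i
          rw [Equiv.apply_symm_apply]
        exact ((act_eq_iff g).mp this).symm }
  have hS : S = ⊤ := by
    rw [eq_top_iff, ← Equiv.Perm.closure_cycle_adjacent_swap (isCycle_finRotate (n := 4))
      support_finRotate 0, Subgroup.closure_le]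
    rintro σ hσ
    rcases hσ with rfl | hσ
    · exact ⟨gC, gC_mem, act_gC⟩
    · rw [Set.mem_singleton_iff] at hσ
      subst hσ
      refine ⟨gT, gT_mem, fun y => ?_⟩
      rw [act_gT]
      have : (finRotate 6) 0 = 1 := by decide
      rw [Equiv.symm_swap]
      rfl
  have := Subgroup.mem_top σ
  rw [← hS] at this
  exact this

/-- diagonal entries: `c` at `i`, `c⁻¹` at `j`. -/
def dE (i j : Fin 6) (c : F4) : Fin 6 → F4 := fun k => if k = i then c else if k = j then c⁻¹ else 1

theorem exists_perm_two (i j : Fin 6) (hij : i ≠ j) :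
    ∃ σ : Equiv.Perm (Fin 6), σ 0 = i ∧ σ 1 = j := by
  refine ⟨Equiv.swap 0 i * Equiv.swap 1 (Equiv.swap 0 i j), ?_, ?_⟩
  · have h0 : (0 : Fin 6) ≠ Equiv.swap 0 i j := by
      intro h
      have := congrArg (Equiv.swap 0 i) h
      rw [Equiv.swap_apply_self, Equiv.swap_apply_left] at this
      exact hij this
    rw [Equiv.Perm.mul_apply, Equiv.swap_apply_of_ne_of_ne (show (0 : Fin 6) ≠ 1 by decide) h0,
      Equiv.swap_apply_left]
  · rw [Equiv.Perm.mul_apply, Equiv.swap_apply_left, Equiv.swap_apply_self]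

theorem exists_perm_three (i j k : Fin 6) (hij : i ≠ j) (hik : i ≠ k) (hjk : j ≠ k) :
    ∃ σ : Equiv.Perm (Fin 6), σ 0 = i ∧ σ 1 = j ∧ σ 2 = k := by
  obtain ⟨τ, h0, h1⟩ := exists_perm_two i j hij
  refine ⟨τ * Equiv.swap 2 (τ.symm k), ?_, ?_, ?_⟩
  · have h : (0 : Fin 6) ≠ τ.symm k := fun h => hik (by rw [← h0, h, Equiv.apply_symm_apply])
    rw [Equiv.Perm.mul_apply, Equiv.swap_apply_of_ne_of_ne (show (0 : Fin 6) ≠ 2 by decide) h, h0]
  · have h : (1 : Fin 6) ≠ τ.symm k := fun h => hjk (by rw [← h1, h, Equiv.apply_symm_apply])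
    rw [Equiv.Perm.mul_apply, Equiv.swap_apply_of_ne_of_ne (show (1 : Fin 6) ≠ 2 by decide) h, h1]
  · rw [Equiv.Perm.mul_apply, Equiv.swap_apply_left, Equiv.apply_symm_apply]

theorem diag_mem_w (i j : Fin 6) (hij : i ≠ j) :
    ∃ g ∈ H, ∀ y : Fin 6 → F4, act g y = fun k => dE i j F4.w k * y k := by
  obtain ⟨σ, h0, h1⟩ := exists_perm_two i j hij
  obtain ⟨p, hp, hpy⟩ := perm_mem σ
  refine ⟨p * gD * p⁻¹, H.mul_mem (H.mul_mem hp gD_mem) (H.inv_mem hp), fun y => ?_⟩
  have hpi : act p⁻¹ y = y ∘ σ := by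
    have : act p (y ∘ σ) = y := by rw [hpy]; funext i; simp
    exact ((act_eq_iff p).mp this).symm
  have hD : ∀ z : Fin 6 → F4, act gD z = fun k => (dE 0 1 F4.w k) * z k := by
    intro z
    rw [act_gD]
    funext k
    fin_cases k
    · rfl
    · rfl
    · show z 2 = dE 0 1 F4.w 2 * z 2
      rw [show dE 0 1 F4.w 2 = 1 by decide, one_mul]
    · show z 3 = dE 0 1 F4.w 3 * z 3
      rw [show dE 0 1 F4.w 3 = 1 by decide, one_mul]
    · show z 4 = dE 0 1 F4.w 4 * z 4
      rw [show dE 0 1 F4.w 4 = 1 by decide, one_mul]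
    · show z 5 = dE 0 1 F4.w 5 * z 5
      rw [show dE 0 1 F4.w 5 = 1 by decide, one_mul]
  rw [act_mul, act_mul, hpi, hD, hpy]
  funext k
  simp only [Function.comp_apply, Equiv.apply_symm_apply]
  congr 1
  unfold dE
  have e0 : σ.symm k = 0 ↔ k = i := by rw [← h0, Equiv.symm_apply_eq]
  have e1 : σ.symm k = 1 ↔ k = j := by rw [← h1, Equiv.symm_apply_eq]
  simp only [e0, e1]

theorem diag_mem (i j : Fin 6) (hij : i ≠ j) (c : F4) (hc : c ≠ 0) :
    ∃ g ∈ H, ∀ y : Fin 6 → F4, act g y = fun k => dE i j c k * y k := by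
  obtain ⟨g, hg, hgy⟩ := diag_mem_w i j hij
  have hcases : c = 1 ∨ c = F4.w ∨ c = F4.v := by
    revert c; decide
  rcases hcases with rfl | rfl | rfl
  · refine ⟨1, H.one_mem, fun y => ?_⟩
    rw [act_one]
    funext k
    have : dE i j 1 k = 1 := by
      unfold dE
      split_ifs
      · rfl
      · decide
      · rfl
    rw [this, one_mul]
  · exact ⟨g, hg, hgy⟩
  · refine ⟨g * g, H.mul_mem hg hg, fun y => ?_⟩
    rw [act_mul, hgy, hgy]
    funext k
    rw [← mul_assoc]
    congr 1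
    unfold dE
    split_ifs <;> decide

/-- Move a vector with three nonzero coordinates. -/
theorem triple0 (x : Fin 6 → F4) (h0 : x 0 ≠ 0) (h1 : x 1 ≠ 0) (h2 : x 2 ≠ 0) :
    ∃ g ∈ H, act g x = ![1, 0, 0, x 3, x 4, x 5] ∧
      ∀ y : Fin 6 → F4, y 0 = 0 → y 1 = 0 → y 2 = 0 → act g y = y := by
  obtain ⟨d0, hd0, e0⟩ := diag_mem 0 3 (by decide) (x 0)⁻¹ (inv_ne_zero h0)
  obtain ⟨d1, hd1, e1⟩ := diag_mem 1 3 (by decide) (x 1)⁻¹ (inv_ne_zero h1)
  obtain ⟨d2, hd2, e2⟩ := diag_mem 2 3 (by decide) (x 2)⁻¹ (inv_ne_zero h2)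
  obtain ⟨d3, hd3, e3⟩ := diag_mem 1 3 (by decide) (x 0 * x 1 * x 2)
    (mul_ne_zero (mul_ne_zero h0 h1) h2)
  refine ⟨d3 * gM * (d0 * d1 * d2), H.mul_mem (H.mul_mem hd3 gM_mem)
    (H.mul_mem (H.mul_mem hd0 hd1) hd2), ?_, ?_⟩
  · rw [act_mul, act_mul, act_mul, act_mul, e2, e1, e0, act_gM, e3]
    have key : ∀ a b c d : F4, a ≠ 0 → b ≠ 0 → c ≠ 0 →
        a⁻¹ * a = 1 ∧ c⁻¹ * (b⁻¹ * a⁻¹) * (a * (b * (c * d))) = d := by decide
    have k01 := key (x 0) (x 1) (x 2) (x 3) h0 h1 h2
    have k1 := inv_mul_cancel₀ h1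
    have k2 := inv_mul_cancel₀ h2
    have w1 : (1 : F4) + 1 + 1 = 1 := by decide
    have w2 : (1 : F4) + F4.w + F4.v = 0 := by decide
    have w3 : (1 : F4) + F4.v + F4.w = 0 := by decide
    funext k
    fin_cases k <;> simp [dE, k01.1, k1, k2, w1, w2, w3]
    exact k01.2
  · intro y y0 y1 y2
    rw [act_mul, act_mul, act_mul, act_mul, e2, e1, e0, act_gM, e3]
    have key : ∀ a b c d : F4, a ≠ 0 → b ≠ 0 → c ≠ 0 →
        (a * b * c)⁻¹ * ((a⁻¹)⁻¹ * ((b⁻¹)⁻¹ * ((c⁻¹)⁻¹ * d))) = d := by decide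
    have k01 := key (x 0) (x 1) (x 2) (y 3) h0 h1 h2
    funext k
    fin_cases k <;> simp [dE, y0, y1, y2]
    simpa using k01

/-- Move a vector with three nonzero coordinates, general position. -/
theorem triple (x : Fin 6 → F4) {i j k : Fin 6} (hij : i ≠ j) (hik : i ≠ k) (hjk : j ≠ k)
    (hi : x i ≠ 0) (hj : x j ≠ 0) (hk : x k ≠ 0) :
    ∃ g ∈ H, (∀ l, act g x l = if l = i then 1 else if l = j then 0 else if l = k then 0 else x l) ∧
      ∀ y : Fin 6 → F4, y i = 0 → y j = 0 → y k = 0 → act g y = y := by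
  obtain ⟨σ, s0, s1, s2⟩ := exists_perm_three i j k hij hik hjk
  obtain ⟨p, hp, hpy⟩ := perm_mem σ
  have hpi : ∀ y : Fin 6 → F4, act p⁻¹ y = y ∘ σ := by
    intro y
    have : act p (y ∘ σ) = y := by rw [hpy]; funext i; simp
    exact ((act_eq_iff p).mp this).symm
  obtain ⟨g, hg, hgx, hgy⟩ := triple0 (x ∘ σ) (by simpa [s0] using hi) (by simpa [s1] using hj)
    (by simpa [s2] using hk)
  refine ⟨p * g * p⁻¹, H.mul_mem (H.mul_mem hp hg) (H.inv_mem hp), fun l => ?_, fun y y0 y1 y2 => ?_⟩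
  · rw [act_mul, act_mul, hpi, hgx, hpy, Function.comp_apply]
    obtain ⟨m, rfl⟩ := σ.surjective l
    rw [Equiv.symm_apply_apply, ← s0, ← s1, ← s2]
    simp only [EmbeddingLike.apply_eq_iff_eq]
    fin_cases m <;> simp
  · rw [act_mul, act_mul, hpi, hgy _ (by simpa [s0] using y0) (by simpa [s1] using y1)
      (by simpa [s2] using y2), hpy]
    funext l
    simp

theorem herm_self (x : Fin 6 → F4) :
    hermForm 6 F4 2 x x = ((Finset.univ.filter fun i => x i ≠ 0).card : F4) := by
  rw [herm_def, Finset.sum_congr rfl fun i _ => mul_sq_self (x i), Finset.card_filter]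
  push_cast
  refine Finset.sum_congr rfl fun i _ => ?_
  by_cases h : x i = 0 <;> simp [h]

/-- `H` is transitive on unit vectors, level by level. -/
theorem exists_reduce (n : ℕ) (hn : 2 ≤ n) (hn6 : n ≤ 6) : ∀ (c : ℕ) (x : Fin 6 → F4),
    (Finset.univ.filter fun i => x i ≠ 0).card = c → hermForm 6 F4 2 x x = 1 →
    x ∈ coordSub F4 6 n → ∃ h ∈ H, h ∈ (fixGrp n : Subgroup (SU 6 F4 2)) ∧
      act h x = Pi.single ⟨n - 1, by omega⟩ 1 := by
  intro c
  induction c using Nat.strong_induction_on with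
  | _ c ih =>
  intro x hc hx hsub
  rcases Nat.lt_or_ge 2 c with h3 | h2
  · -- at least three nonzero coordinates
    rw [← hc] at h3
    obtain ⟨i, hi, j, hj, k, hk, hij, hik, hjk⟩ := Finset.two_lt_card.mp h3
    rw [Finset.mem_filter] at hi hj hk
    obtain ⟨g, hg, hgx, hgy⟩ := triple x hij hik hjk hi.2 hj.2 hk.2
    have hfix : g ∈ (fixGrp n : Subgroup (SU 6 F4 2)) := by
      intro l hl
      have hxl : x l = 0 := hsub l hl
      apply hgy
      · exact Pi.single_eq_of_ne (fun h : i = l => hi.2 (by rw [h]; exact hxl)) _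
      · exact Pi.single_eq_of_ne (fun h : j = l => hj.2 (by rw [h]; exact hxl)) _
      · exact Pi.single_eq_of_ne (fun h : k = l => hk.2 (by rw [h]; exact hxl)) _
    have hlt : (Finset.univ.filter fun l => act g x l ≠ 0).card < c := by
      rw [← hc]
      apply Finset.card_lt_card
      refine ⟨fun l hl => ?_, fun hsup => ?_⟩
      · rw [Finset.mem_filter] at hl ⊢
        refine ⟨Finset.mem_univ _, fun h => hl.2 ?_⟩
        rw [hgx]
        have h1 : l ≠ i := fun h' => hi.2 (h' ▸ h)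
        rw [if_neg h1]
        split_ifs
        · rfl
        · rfl
        · exact h
      · have : j ∈ Finset.univ.filter fun l => act g x l ≠ 0 := hsup (by
          rw [Finset.mem_filter]; exact hj)
        rw [Finset.mem_filter] at this
        apply this.2
        rw [hgx, if_neg (Ne.symm hij), if_pos rfl]
    obtain ⟨h, hh, hhf, hhx⟩ := ih _ hlt (act g x) rfl (by rw [herm_act, hx])
      (act_mem_coordSub hF4 hfix hsub)
    exact ⟨h * g, H.mul_mem hh hg, Subgroup.mul_mem _ hhf hfix, by rw [act_mul, hhx]⟩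
  · -- exactly one nonzero coordinate
    have hc1 : c = 1 := by
      rw [herm_self, hc] at hx
      interval_cases c
      · exact absurd hx (by decide)
      · rfl
      · exact absurd hx (by decide)
    rw [hc1, Finset.card_eq_one] at hc
    obtain ⟨i, hi⟩ := hc
    have hxi : x i ≠ 0 := by
      have : i ∈ Finset.univ.filter fun l => x l ≠ 0 := by rw [hi]; exact Finset.mem_singleton_self i
      exact (Finset.mem_filter.mp this).2
    have hxl : ∀ l, l ≠ i → x l = 0 := by
      intro l hl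
      by_contra h
      have : l ∈ Finset.univ.filter fun l => x l ≠ 0 := by
        rw [Finset.mem_filter]; exact ⟨Finset.mem_univ _, h⟩
      rw [hi, Finset.mem_singleton] at this
      exact hl this
    have hin : i.val < n := by
      by_contra h
      exact hxi (hsub i (by omega))
    set m : Fin 6 := ⟨n - 1, by omega⟩ with hm
    obtain ⟨p, hp, hpy⟩ := perm_mem (Equiv.swap i m)
    obtain ⟨j, hjn, hjm⟩ : ∃ j : Fin 6, j.val < n ∧ j ≠ m := by
      refine ⟨⟨n - 2, by omega⟩, by simp; omega, ?_⟩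
      rw [hm]
      intro h
      have := congrArg Fin.val h
      simp at this
      omega
    obtain ⟨d, hd, hdy⟩ := diag_mem m j (Ne.symm hjm) (x i)⁻¹ (inv_ne_zero hxi)
    refine ⟨d * p, H.mul_mem hd hp, Subgroup.mul_mem _ ?_ ?_, ?_⟩
    · intro l hl
      rw [hdy]
      funext k
      by_cases hk : k = l
      · subst hk
        have h1 : k ≠ m := by rintro rfl; simp [hm] at hl; omega
        have h2 : k ≠ j := by rintro rfl; omega
        simp [dE, h1, h2]
      · rw [Pi.single_eq_of_ne hk, mul_zero]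
    · intro l hl
      rw [hpy]
      have h1 : l ≠ m := by rintro rfl; simp [hm] at hl; omega
      have h2 : l ≠ i := by rintro rfl; omega
      rw [Equiv.symm_swap]
      funext k
      rw [Function.comp_apply]
      by_cases hk : k = l
      · subst hk
        rw [Equiv.swap_apply_of_ne_of_ne h2 h1]
      · rw [Pi.single_eq_of_ne hk, Pi.single_eq_of_ne]
        intro h
        apply hk
        have := congrArg (Equiv.swap i m) h
        rwa [Equiv.swap_apply_self, Equiv.swap_apply_of_ne_of_ne h2 h1] at this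
    · rw [act_mul, hpy, hdy, Equiv.symm_swap]
      funext k
      rw [Function.comp_apply]
      by_cases hk : k = m
      · subst hk
        rw [Equiv.swap_apply_right, Pi.single_eq_same, dE, if_pos rfl, inv_mul_cancel₀ hxi]
      · have h0 : x (Equiv.swap i m k) = 0 := by
          apply hxl
          intro h
          apply hk
          have := congrArg (Equiv.swap i m) h
          rwa [Equiv.swap_apply_self, Equiv.swap_apply_left] at this
        rw [Pi.single_eq_of_ne hk, h0, mul_zero]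

/-- The four matrices generate `SU_6(2)`. -/
theorem H_eq_top : H = ⊤ := by
  rw [eq_top_iff]
  intro g _
  have hstep : ∀ k : ℕ, k ≤ 5 → ∃ h ∈ H, h * g ∈ (fixGrp (6 - k) : Subgroup (SU 6 F4 2)) := by
    intro k
    induction k with
    | zero => intro _; exact ⟨1, H.one_mem, mem_fixGrp_top _⟩
    | succ k ih =>
      intro hk
      obtain ⟨h, hh, hfix⟩ := ih (by omega)
      obtain ⟨n, hn⟩ : ∃ n, n = 6 - k := ⟨_, rfl⟩
      rw [← hn] at hfix
      set e : Fin 6 → F4 := Pi.single ⟨n - 1, by omega⟩ 1 with he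
      have he1 : hermForm 6 F4 2 e e = 1 := by
        rw [he, herm_single_right hF4, Pi.single_eq_same, one_pow, one_mul]
      have hsub : e ∈ coordSub F4 6 n := single_mem_coordSub (by simp; omega) 1
      obtain ⟨h', hh', hf', hx'⟩ := exists_reduce n (by omega) (by omega) _ (act (h * g) e) rfl
        (by rw [herm_act, he1]) (act_mem_coordSub hF4 hfix hsub)
      refine ⟨h' * h, H.mul_mem hh' hh, ?_⟩
      have hn' : 6 - (k + 1) = n - 1 := by omega
      rw [hn', mul_assoc]
      intro l hl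
      by_cases hln : n ≤ l.val
      · rw [act_mul, hfix l hln, hf' l hln]
      · have : l = ⟨n - 1, by omega⟩ := by
          apply Fin.ext
          simp
          omega
        rw [this, act_mul, hx']
  obtain ⟨h, hh, hfix⟩ := hstep 5 le_rfl
  have h1 : h * g = 1 := by
    apply eq_one_of_fix hF4 0
    intro j hj
    apply hfix j
    have : j.val ≠ 0 := fun h => hj (Fin.ext h)
    omega
  have : g = h⁻¹ := (inv_eq_of_mul_eq_one_right h1).symm
  rw [this]
  exact H.inv_mem hh

end Cfsg.Agent.SporadicStructure.SU62
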