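import Cfsg.Agent.SporadicA.GolayBase
import Cfsg.Agent.SporadicA.M24Mem

/-!
# Permutations of the 24 points given by tables, acting on masks

`tabPerm F G h` is the permutation with image table `F` and inverse image table `G`;
`tabPerm F G h • fin m = fin (pull G m)`; membership in `M24` is a kernel check.
-/

set_option autoImplicit false

namespace Cfsg.Agent.SporadicStructure.TabPerm

open Cfsg Cfsg.Agent.SporadicA.GolayBase
open scoped Pointwise

/-- Bit `i` of `pull l m` is bit `l[i]` of `m`. -/
def pull : List ℕ → ℕ → ℕ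
  | [], _ => 0
  | x :: xs, m => (m >>> x) % 2 + 2 * pull xs m

theorem testBit_pull (l : List ℕ) (m : ℕ) : ∀ i, i < l.length →
    (pull l m).testBit i = m.testBit (l.getD i 0) := by
  induction l with
  | nil => intro i hi; exact absurd hi (Nat.not_lt_zero _)
  | cons x xs ih =>
    intro i hi
    have hb : (m >>> x) % 2 < 2 := Nat.mod_lt _ (by norm_num)
    change ((m >>> x) % 2 + 2 * pull xs m).testBit i = _
    cases i with
    | zero =>
      rw [Nat.testBit_zero, List.getD_cons_zero]
      have h1 : ((m >>> x) % 2 + 2 * pull xs m) % 2 = (m >>> x) % 2 := by omega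
      rw [h1, Nat.testBit_eq_decide_div_mod_eq, Nat.shiftRight_eq_div_pow]
    | succ i =>
      rw [Nat.testBit_succ, List.getD_cons_succ]
      have h1 : ((m >>> x) % 2 + 2 * pull xs m) / 2 = pull xs m := by omega
      rw [h1]
      exact ih i (by simpa using hi)

/-- Bounded check for `i < 24`. -/
def all24 (p : ℕ → Bool) : Bool :=
  p 0 && p 1 && p 2 && p 3 && p 4 && p 5 && p 6 && p 7 && p 8 && p 9 && p 10 && p 11 &&
  p 12 && p 13 && p 14 && p 15 && p 16 && p 17 && p 18 && p 19 && p 20 && p 21 && p 22 && p 23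

theorem all24_spec {p : ℕ → Bool} (h : all24 p = true) (i : ℕ) (hi : i < 24) : p i = true := by
  unfold all24 at h
  simp only [Bool.and_eq_true] at h
  interval_cases i <;> tauto

/-- The tables `F` and `G` are inverse to each other. -/
def chk (F G : List ℕ) : Bool :=
  Nat.beq F.length 24 && Nat.beq G.length 24 && all24 fun i =>
    Nat.blt (F.getD i 0) 24 && Nat.blt (G.getD i 0) 24 && Nat.beq (G.getD (F.getD i 0) 0) i &&
      Nat.beq (F.getD (G.getD i 0) 0) i

theorem chk_spec {F G : List ℕ} (h : chk F G = true) :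
    F.length = 24 ∧ G.length = 24 ∧ ∀ i < 24, F.getD i 0 < 24 ∧ G.getD i 0 < 24 ∧
      G.getD (F.getD i 0) 0 = i ∧ F.getD (G.getD i 0) 0 = i := by
  unfold chk at h
  simp only [Bool.and_eq_true] at h
  refine ⟨Nat.eq_of_beq_eq_true h.1.1, Nat.eq_of_beq_eq_true h.1.2, fun i hi => ?_⟩
  have h2 := all24_spec h.2 i hi
  simp only [Bool.and_eq_true] at h2
  exact ⟨Nat.blt_eq.mp h2.1.1.1, Nat.blt_eq.mp h2.1.1.2, Nat.eq_of_beq_eq_true h2.1.2,
    Nat.eq_of_beq_eq_true h2.2⟩

/-- The permutation with image table `F` and inverse image table `G`. -/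
def tabPerm (F G : List ℕ) (h : chk F G = true) : Equiv.Perm GolayPt where
  toFun p := pt (F.getD (idx p) 0)
  invFun p := pt (G.getD (idx p) 0)
  left_inv p := by
    obtain ⟨-, -, h⟩ := chk_spec h
    have := h (idx p) (idx_lt p)
    change pt (G.getD (idx (pt (F.getD (idx p) 0))) 0) = p
    rw [idx_pt this.1, this.2.2.1, pt_idx]
  right_inv p := by
    obtain ⟨-, -, h⟩ := chk_spec h
    have := h (idx p) (idx_lt p)
    change pt (F.getD (idx (pt (G.getD (idx p) 0))) 0) = p
    rw [idx_pt this.2.1, this.2.2.2, pt_idx]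

theorem tabPerm_apply (F G : List ℕ) (h : chk F G = true) (p : GolayPt) :
    tabPerm F G h p = pt (F.getD (idx p) 0) := rfl

theorem tabPerm_symm_apply (F G : List ℕ) (h : chk F G = true) (p : GolayPt) :
    (tabPerm F G h).symm p = pt (G.getD (idx p) 0) := rfl

theorem tabPerm_smul_fin (F G : List ℕ) (h : chk F G = true) (m : ℕ) :
    tabPerm F G h • fin m = fin (pull G m) := by
  obtain ⟨-, hG, h'⟩ := chk_spec h
  ext p
  rw [← Finset.inv_smul_mem_iff, mem_fin, mem_fin, testBit_pull _ _ _ (by rw [hG]; exact idx_lt p)]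
  have h1 : (tabPerm F G h)⁻¹ • p = pt (G.getD (idx p) 0) := rfl
  rw [h1, idx_pt (h' _ (idx_lt p)).2.1]

theorem word_comp_tabPerm (F G : List ℕ) (h : chk F G = true) (m : ℕ) :
    word m ∘ tabPerm F G h = word (pull F m) := by
  obtain ⟨hF, -, h'⟩ := chk_spec h
  funext p
  rw [Function.comp_apply, word_apply, word_apply, tabPerm_apply,
    idx_pt (h' _ (idx_lt p)).1, testBit_pull _ _ _ (by rw [hF]; exact idx_lt p)]

/-- The check that the permutation with image table `F` preserves the code. -/
def chkM (F : List ℕ) : Bool := all24 fun t => Nat.beq t 23 || isCode (pull F (qrMask t))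

theorem tabPerm_mem_M24 (F G : List ℕ) (h : chk F G = true) (hM : chkM F = true) :
    tabPerm F G h ∈ M24 := by
  apply SporadicA.M24Mem.mem_M24_of_qrWord
  intro t
  rw [← word_qrMask, word_comp_tabPerm]
  have ht : t.val < 23 := ZMod.val_lt t
  have h1 := all24_spec hM t.val (by omega)
  rw [Bool.or_eq_true] at h1
  rcases h1 with h1 | h1
  · have := Nat.eq_of_beq_eq_true h1
    omega
  · rw [mem_golayCode_iff, maskW_word (isCode_lt h1)]
    exact h1

end Cfsg.Agent.SporadicStructure.TabPerm
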