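import Cfsg.Agent.SporadicA.GolayPerm
import Cfsg.Prelude.Def_SporadicCombinatorics

/-!
# Kernel-checked orbit certificates for trios of the length-24 code

A trio is written `tri a b c = {fin a, fin b, fin c}` with masks `a > b > c`.  A certificate is one natural number
with 80 bits per trio of the orbit: masks `a` and `b`, the index of the parent trio, the generator leading from the
parent, and the distance from the root.
-/

set_option autoImplicit false

namespace Cfsg.Agent.SporadicStructure.TrioCert

open Cfsg Cfsg.Agent.SporadicA.GolayBase Cfsg.Agent.SporadicA.GolayPerm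
open scoped Pointwise

/-- Three octads given by masks. -/
def tri (a b c : ℕ) : Finset (Finset GolayPt) := {fin a, fin b, fin c}

theorem smul_tri {P : ℕ} (hP : isPerm P = true) (a b c : ℕ) :
    permOf P hP • tri a b c = tri (pimg P a) (pimg P b) (pimg P c) := by
  unfold tri
  rw [Finset.smul_finset_insert, Finset.smul_finset_insert, Finset.smul_finset_singleton,
    smul_fin, smul_fin, smul_fin]

/-- The mask of the complement of the union of two disjoint masks. -/
def third (a b : ℕ) : ℕ := Nat.xor (Nat.xor a b) 16777215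

/-- Whether `x, y, z` is a rearrangement of `a, b, c`. -/
def same3 (x y z a b c : ℕ) : Bool :=
  (Nat.beq x a && ((Nat.beq y b && Nat.beq z c) || (Nat.beq y c && Nat.beq z b))) ||
  (Nat.beq x b && ((Nat.beq y a && Nat.beq z c) || (Nat.beq y c && Nat.beq z a))) ||
  (Nat.beq x c && ((Nat.beq y a && Nat.beq z b) || (Nat.beq y b && Nat.beq z a)))

theorem tri_eq_of_same3 {x y z a b c : ℕ} (h : same3 x y z a b c = true) :
    tri x y z = tri a b c := by
  unfold same3 at h
  simp only [Bool.or_eq_true, Bool.and_eq_true, Nat.beq_eq] at h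
  unfold tri
  rcases h with (⟨rfl, ⟨rfl, rfl⟩ | ⟨rfl, rfl⟩⟩ | ⟨rfl, ⟨rfl, rfl⟩ | ⟨rfl, rfl⟩⟩) |
    ⟨rfl, ⟨rfl, rfl⟩ | ⟨rfl, rfl⟩⟩
  · rfl
  · rw [Finset.pair_comm]
  · rw [Finset.insert_comm]
  · rw [Finset.pair_comm, Finset.insert_comm]
  · rw [Finset.insert_comm, Finset.pair_comm]
  · ext s
    simp only [Finset.mem_insert, Finset.mem_singleton]
    tauto

/-- Decreasing masks below `2 ^ 24` are determined by the family of their point sets. -/
theorem tri_injective {a b c a' b' c' : ℕ} (ha : a < 2 ^ 24) (hb : b < a) (hc : c < b)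
    (ha' : a' < 2 ^ 24) (hb' : b' < a') (hc' : c' < b') (h : tri a b c = tri a' b' c') :
    a = a' ∧ b = b' := by
  have key : ∀ x y, x < 2 ^ 24 → y < 2 ^ 24 → (fin x = fin y ↔ x = y) := by
    intro x y hx hy
    exact ⟨fun h => fin_injective hx hy h, fun h => by rw [h]⟩
  have hmem : ∀ s, s ∈ tri a b c ↔ s ∈ tri a' b' c' := fun s => by rw [h]
  unfold tri at hmem
  simp only [Finset.mem_insert, Finset.mem_singleton] at hmem
  have h1 := (hmem (fin a)).1 (Or.inl rfl)
  have h2 := (hmem (fin b)).1 (Or.inr (Or.inl rfl))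
  have h3 := (hmem (fin c)).1 (Or.inr (Or.inr rfl))
  rw [key _ _ (by omega) (by omega), key _ _ (by omega) (by omega),
    key _ _ (by omega) (by omega)] at h1 h2 h3
  omega

/-- Entry `i` of a packed certificate. -/
def ent (C i : ℕ) : ℕ := Nat.mod (Nat.shiftRight C (Nat.mul 80 i)) 1208925819614629174706176

/-- First mask. -/
def fa (e : ℕ) : ℕ := Nat.shiftRight e 56
/-- Second mask. -/
def fb (e : ℕ) : ℕ := Nat.mod (Nat.shiftRight e 32) 16777216
/-- Third mask. -/
def fc (e : ℕ) : ℕ := third (fa e) (fb e)
/-- Parent index. -/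
def fp (e : ℕ) : ℕ := Nat.mod (Nat.shiftRight e 16) 65536
/-- Generator index. -/
def fg (e : ℕ) : ℕ := Nat.mod (Nat.shiftRight e 8) 256
/-- Distance from the root. -/
def fd (e : ℕ) : ℕ := Nat.mod e 256

/-- The trio of an entry. -/
def triE (e : ℕ) : Finset (Finset GolayPt) := tri (fa e) (fb e) (fc e)

/-- Ordering checks of an entry. -/
def ordOk (e : ℕ) : Bool :=
  Nat.blt (fa e) 16777216 && Nat.blt (fb e) (fa e) && Nat.blt (fc e) (fb e)

/-- Check that entry `e` arises from entry `e'` by the generator `P`. -/
def stepOk (P e e' : ℕ) : Bool :=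
  same3 (pimg P (fa e')) (pimg P (fb e')) (pimg P (fc e')) (fa e) (fb e) (fc e)

/-- Check of one entry. -/
def entOk (C n P0 P1 r i : ℕ) : Bool :=
  ordOk (ent C i) &&
  (Nat.ble n (Nat.add i 1) ||
    Nat.blt (Nat.shiftRight (ent C i) 32) (Nat.shiftRight (ent C (Nat.add i 1)) 32)) &&
  (Nat.beq i r ||
    (Nat.blt (fp (ent C i)) n && Nat.blt (fd (ent C (fp (ent C i)))) (fd (ent C i)) &&
      stepOk (cond (Nat.beq (fg (ent C i)) 0) P0 P1) (ent C i) (ent C (fp (ent C i)))))

/-- Check of the entries with index in `[s, s + 2 ^ k)` that are less than `n`. -/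
def allR (C n P0 P1 r : ℕ) : ℕ → ℕ → Bool
  | 0, s => Nat.ble n s || entOk C n P0 P1 r s
  | k + 1, s => allR C n P0 P1 r k s && allR C n P0 P1 r k (Nat.add s (Nat.pow 2 k))

theorem allR_spec (C n P0 P1 r k : ℕ) : ∀ s, allR C n P0 P1 r k s = true →
    ∀ i, s ≤ i → i < s + 2 ^ k → i < n → entOk C n P0 P1 r i = true := by
  induction k with
  | zero =>
    intro s h i h1 h2 h3
    have : i = s := by omega
    subst this
    have h' : (Nat.ble n i || entOk C n P0 P1 r i) = true := h
    rw [Bool.or_eq_true] at h'
    rcases h' with h' | h'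
    · have := Nat.le_of_ble_eq_true h'
      omega
    · exact h'
  | succ k ih =>
    intro s h i h1 h2 h3
    have h' : (allR C n P0 P1 r k s && allR C n P0 P1 r k (Nat.add s (Nat.pow 2 k))) = true := h
    rw [Bool.and_eq_true] at h'
    by_cases hi : i < s + 2 ^ k
    · exact ih s h'.1 i h1 hi h3
    · refine ih _ h'.2 i ?_ ?_ h3
      · exact not_lt.1 hi
      · rw [pow_succ] at h2
        change i < s + 2 ^ k + 2 ^ k
        omega

/-- The data checked by a certificate: all trios are in one orbit, and they are distinct. -/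
theorem cert_spec {C n P0 P1 r k : ℕ} (hcheck : allR C n P0 P1 r k 0 = true) (hn : n ≤ 2 ^ k)
    (H : Subgroup (Equiv.Perm GolayPt)) (hP0 : isPerm P0 = true) (hP1 : isPerm P1 = true)
    (hH0 : permOf P0 hP0 ∈ H) (hH1 : permOf P1 hP1 ∈ H) :
    (∀ i, i < n → ∃ g ∈ H, g • triE (ent C r) = triE (ent C i)) ∧
      (∀ i j, i < n → j < n → triE (ent C i) = triE (ent C j) → i = j) := by
  have hall : ∀ i, i < n → entOk C n P0 P1 r i = true := fun i hi =>
    allR_spec C n P0 P1 r k 0 hcheck i (Nat.zero_le _) (by omega) hi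
  constructor
  · have key : ∀ d i, i < n → fd (ent C i) ≤ d → ∃ g ∈ H, g • triE (ent C r) = triE (ent C i) := by
      intro d
      induction d with
      | zero =>
        intro i hi hd
        have h := hall i hi
        unfold entOk at h
        simp only [Bool.and_eq_true, Bool.or_eq_true] at h
        rcases h.2 with h1 | ⟨⟨-, h1⟩, -⟩
        · rw [Nat.eq_of_beq_eq_true h1]
          exact ⟨1, H.one_mem, one_smul _ _⟩
        · have := Nat.blt_eq.mp h1
          omega
      | succ d ih =>
        intro i hi hd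
        have h := hall i hi
        unfold entOk at h
        simp only [Bool.and_eq_true, Bool.or_eq_true] at h
        rcases h.2 with h1 | ⟨⟨h1, h2⟩, h3⟩
        · rw [Nat.eq_of_beq_eq_true h1]
          exact ⟨1, H.one_mem, one_smul _ _⟩
        · obtain ⟨g, hg, hgr⟩ := ih (fp (ent C i)) (Nat.blt_eq.mp h1) (by
            have := Nat.blt_eq.mp h2
            omega)
          unfold stepOk at h3
          cases hb : Nat.beq (fg (ent C i)) 0 with
          | true =>
            rw [hb, cond_true] at h3
            refine ⟨permOf P0 hP0 * g, H.mul_mem hH0 hg, ?_⟩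
            rw [mul_smul, hgr]
            unfold triE
            rw [smul_tri, tri_eq_of_same3 h3]
          | false =>
            rw [hb, cond_false] at h3
            refine ⟨permOf P1 hP1 * g, H.mul_mem hH1 hg, ?_⟩
            rw [mul_smul, hgr]
            unfold triE
            rw [smul_tri, tri_eq_of_same3 h3]
    exact fun i hi => key _ i hi le_rfl
  · have hord : ∀ i, i < n → fa (ent C i) < 2 ^ 24 ∧ fb (ent C i) < fa (ent C i) ∧
        fc (ent C i) < fb (ent C i) := by
      intro i hi
      have h := hall i hi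
      unfold entOk ordOk at h
      simp only [Bool.and_eq_true] at h
      exact ⟨Nat.blt_eq.mp h.1.1.1.1, Nat.blt_eq.mp h.1.1.1.2, Nat.blt_eq.mp h.1.1.2⟩
    have hcode : ∀ i, i + 1 < n → ent C i >>> 32 < ent C (i + 1) >>> 32 := by
      intro i hi
      have h := hall i (by omega)
      unfold entOk at h
      simp only [Bool.and_eq_true, Bool.or_eq_true] at h
      rcases h.1.2 with h1 | h1
      · have : n ≤ i + 1 := Nat.le_of_ble_eq_true h1
        omega
      · exact Nat.blt_eq.mp h1
    have hmono : ∀ j i, i < j → j < n → ent C i >>> 32 < ent C j >>> 32 := by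
      intro j
      induction j with
      | zero => intro i hi; omega
      | succ j ih =>
        intro i hi hj
        have h1 := hcode j hj
        rcases Nat.lt_succ_iff_lt_or_eq.1 hi with h2 | h2
        · exact lt_trans (ih i h2 (by omega)) h1
        · rw [h2]; exact h1
    have hcd : ∀ e, e >>> 32 = fa e * 16777216 + fb e := by
      intro e
      have h1 : fa e = e / 2 ^ 56 := Nat.shiftRight_eq_div_pow _ _
      have h2 : fb e = (e / 2 ^ 32) % 16777216 := by
        show (e >>> 32) % 16777216 = _
        rw [Nat.shiftRight_eq_div_pow]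
      rw [h1, h2, Nat.shiftRight_eq_div_pow]
      omega
    intro i j hi hj hij
    obtain ⟨a1, a2, a3⟩ := hord i hi
    obtain ⟨b1, b2, b3⟩ := hord j hj
    have h1 := tri_injective a1 a2 a3 b1 b2 b3 hij
    have h2 : ent C i >>> 32 = ent C j >>> 32 := by
      rw [hcd, hcd, h1.1, h1.2]
    rcases lt_trichotomy i j with h3 | h3 | h3
    · have := hmono j i h3 hj
      omega
    · exact h3
    · have := hmono i j h3 hi
      omega

end Cfsg.Agent.SporadicStructure.TrioCert
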