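import Cfsg.Agent.SporadicStructure.Co0Matrix

/-!
Explicit data: four automorphisms of the rank-24 lattice fixing `(4, -4, 0, …)` and `(0, 4, -4, …)` (coordinates
`∞, 0, 1`), and twenty lattice vectors.
-/

set_option autoImplicit false

namespace Cfsg.Agent.SporadicStructure.U62Data

open Cfsg Cfsg.Agent.SporadicStructure.Co0Matrix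

/-- rows of the automorphism `t12` -/
def RA : List (List ℤ) := [
  [8, 0, 0, 0, 0, 0, 0, 0, 0, 0, 0, 0, 0, 0, 0, 0, 0, 0, 0, 0, 0, 0, 0, 0],
  [0, 8, 0, 0, 0, 0, 0, 0, 0, 0, 0, 0, 0, 0, 0, 0, 0, 0, 0, 0, 0, 0, 0, 0],
  [0, 0, -8, 0, 0, 0, 0, 0, 0, 0, 0, 0, 0, 0, 0, 0, 0, 0, 0, 0, 0, 0, 0, 0],
  [0, 0, 0, -8, 0, 0, 0, 0, 0, 0, 0, 0, 0, 0, 0, 0, 0, 0, 0, 0, 0, 0, 0, 0],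
  [0, 0, 0, 0, 8, 0, 0, 0, 0, 0, 0, 0, 0, 0, 0, 0, 0, 0, 0, 0, 0, 0, 0, 0],
  [0, 0, 0, 0, 0, -8, 0, 0, 0, 0, 0, 0, 0, 0, 0, 0, 0, 0, 0, 0, 0, 0, 0, 0],
  [0, 0, 0, 0, 0, 0, -8, 0, 0, 0, 0, 0, 0, 0, 0, 0, 0, 0, 0, 0, 0, 0, 0, 0],
  [0, 0, 0, 0, 0, 0, 0, -8, 0, 0, 0, 0, 0, 0, 0, 0, 0, 0, 0, 0, 0, 0, 0, 0],
  [0, 0, 0, 0, 0, 0, 0, 0, -8, 0, 0, 0, 0, 0, 0, 0, 0, 0, 0, 0, 0, 0, 0, 0],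
  [0, 0, 0, 0, 0, 0, 0, 0, 0, -8, 0, 0, 0, 0, 0, 0, 0, 0, 0, 0, 0, 0, 0, 0],
  [0, 0, 0, 0, 0, 0, 0, 0, 0, 0, 8, 0, 0, 0, 0, 0, 0, 0, 0, 0, 0, 0, 0, 0],
  [0, 0, 0, 0, 0, 0, 0, 0, 0, 0, 0, -8, 0, 0, 0, 0, 0, 0, 0, 0, 0, 0, 0, 0],
  [0, 0, 0, 0, 0, 0, 0, 0, 0, 0, 0, 0, -8, 0, 0, 0, 0, 0, 0, 0, 0, 0, 0, 0],
  [0, 0, 0, 0, 0, 0, 0, 0, 0, 0, 0, 0, 0, -8, 0, 0, 0, 0, 0, 0, 0, 0, 0, 0],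
  [0, 0, 0, 0, 0, 0, 0, 0, 0, 0, 0, 0, 0, 0, 8, 0, 0, 0, 0, 0, 0, 0, 0, 0],
  [0, 0, 0, 0, 0, 0, 0, 0, 0, 0, 0, 0, 0, 0, 0, -8, 0, 0, 0, 0, 0, 0, 0, 0],
  [0, 0, 0, 0, 0, 0, 0, 0, 0, 0, 0, 0, 0, 0, 0, 0, -8, 0, 0, 0, 0, 0, 0, 0],
  [0, 0, 0, 0, 0, 0, 0, 0, 0, 0, 0, 0, 0, 0, 0, 0, 0, -8, 0, 0, 0, 0, 0, 0],
  [0, 0, 0, 0, 0, 0, 0, 0, 0, 0, 0, 0, 0, 0, 0, 0, 0, 0, 8, 0, 0, 0, 0, 0],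
  [0, 0, 0, 0, 0, 0, 0, 0, 0, 0, 0, 0, 0, 0, 0, 0, 0, 0, 0, -8, 0, 0, 0, 0],
  [0, 0, 0, 0, 0, 0, 0, 0, 0, 0, 0, 0, 0, 0, 0, 0, 0, 0, 0, 0, -8, 0, 0, 0],
  [0, 0, 0, 0, 0, 0, 0, 0, 0, 0, 0, 0, 0, 0, 0, 0, 0, 0, 0, 0, 0, 8, 0, 0],
  [0, 0, 0, 0, 0, 0, 0, 0, 0, 0, 0, 0, 0, 0, 0, 0, 0, 0, 0, 0, 0, 0, -8, 0],
  [0, 0, 0, 0, 0, 0, 0, 0, 0, 0, 0, 0, 0, 0, 0, 0, 0, 0, 0, 0, 0, 0, 0, 8]]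

/-- columns of the automorphism `t12` -/
def CA : List (List ℤ) := [
  [8, 0, 0, 0, 0, 0, 0, 0, 0, 0, 0, 0, 0, 0, 0, 0, 0, 0, 0, 0, 0, 0, 0, 0],
  [0, 8, 0, 0, 0, 0, 0, 0, 0, 0, 0, 0, 0, 0, 0, 0, 0, 0, 0, 0, 0, 0, 0, 0],
  [0, 0, -8, 0, 0, 0, 0, 0, 0, 0, 0, 0, 0, 0, 0, 0, 0, 0, 0, 0, 0, 0, 0, 0],
  [0, 0, 0, -8, 0, 0, 0, 0, 0, 0, 0, 0, 0, 0, 0, 0, 0, 0, 0, 0, 0, 0, 0, 0],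
  [0, 0, 0, 0, 8, 0, 0, 0, 0, 0, 0, 0, 0, 0, 0, 0, 0, 0, 0, 0, 0, 0, 0, 0],
  [0, 0, 0, 0, 0, -8, 0, 0, 0, 0, 0, 0, 0, 0, 0, 0, 0, 0, 0, 0, 0, 0, 0, 0],
  [0, 0, 0, 0, 0, 0, -8, 0, 0, 0, 0, 0, 0, 0, 0, 0, 0, 0, 0, 0, 0, 0, 0, 0],
  [0, 0, 0, 0, 0, 0, 0, -8, 0, 0, 0, 0, 0, 0, 0, 0, 0, 0, 0, 0, 0, 0, 0, 0],
  [0, 0, 0, 0, 0, 0, 0, 0, -8, 0, 0, 0, 0, 0, 0, 0, 0, 0, 0, 0, 0, 0, 0, 0],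
  [0, 0, 0, 0, 0, 0, 0, 0, 0, -8, 0, 0, 0, 0, 0, 0, 0, 0, 0, 0, 0, 0, 0, 0],
  [0, 0, 0, 0, 0, 0, 0, 0, 0, 0, 8, 0, 0, 0, 0, 0, 0, 0, 0, 0, 0, 0, 0, 0],
  [0, 0, 0, 0, 0, 0, 0, 0, 0, 0, 0, -8, 0, 0, 0, 0, 0, 0, 0, 0, 0, 0, 0, 0],
  [0, 0, 0, 0, 0, 0, 0, 0, 0, 0, 0, 0, -8, 0, 0, 0, 0, 0, 0, 0, 0, 0, 0, 0],
  [0, 0, 0, 0, 0, 0, 0, 0, 0, 0, 0, 0, 0, -8, 0, 0, 0, 0, 0, 0, 0, 0, 0, 0],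
  [0, 0, 0, 0, 0, 0, 0, 0, 0, 0, 0, 0, 0, 0, 8, 0, 0, 0, 0, 0, 0, 0, 0, 0],
  [0, 0, 0, 0, 0, 0, 0, 0, 0, 0, 0, 0, 0, 0, 0, -8, 0, 0, 0, 0, 0, 0, 0, 0],
  [0, 0, 0, 0, 0, 0, 0, 0, 0, 0, 0, 0, 0, 0, 0, 0, -8, 0, 0, 0, 0, 0, 0, 0],
  [0, 0, 0, 0, 0, 0, 0, 0, 0, 0, 0, 0, 0, 0, 0, 0, 0, -8, 0, 0, 0, 0, 0, 0],
  [0, 0, 0, 0, 0, 0, 0, 0, 0, 0, 0, 0, 0, 0, 0, 0, 0, 0, 8, 0, 0, 0, 0, 0],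
  [0, 0, 0, 0, 0, 0, 0, 0, 0, 0, 0, 0, 0, 0, 0, 0, 0, 0, 0, -8, 0, 0, 0, 0],
  [0, 0, 0, 0, 0, 0, 0, 0, 0, 0, 0, 0, 0, 0, 0, 0, 0, 0, 0, 0, -8, 0, 0, 0],
  [0, 0, 0, 0, 0, 0, 0, 0, 0, 0, 0, 0, 0, 0, 0, 0, 0, 0, 0, 0, 0, 8, 0, 0],
  [0, 0, 0, 0, 0, 0, 0, 0, 0, 0, 0, 0, 0, 0, 0, 0, 0, 0, 0, 0, 0, 0, -8, 0],
  [0, 0, 0, 0, 0, 0, 0, 0, 0, 0, 0, 0, 0, 0, 0, 0, 0, 0, 0, 0, 0, 0, 0, 8]]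

theorem okA : Ok RA CA := Ok.of_bool (by decide +kernel)

/-- rows of the automorphism `c6` -/
def RB : List (List ℤ) := [
  [6, -2, 0, 0, -2, 0, 2, 0, 0, -2, 0, 0, 2, 0, 0, 0, 0, -2, 0, 0, 0, 0, 0, -2],
  [-2, 6, 0, 0, -2, 0, 2, 0, 0, -2, 0, 0, 2, 0, 0, 0, 0, -2, 0, 0, 0, 0, 0, -2],
  [0, 0, -2, 2, 0, -2, 0, -2, 2, 0, -2, 2, 0, 2, 2, 2, -2, 0, 2, 2, 2, -2, 2, 0],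
  [0, 0, -2, -2, 0, 2, 0, -2, 2, 0, 2, 2, 0, 2, 2, -2, 2, 0, 2, -2, 2, 2, -2, 0],
  [-2, -2, 0, 0, -2, 0, 2, 0, 0, 6, 0, 0, 2, 0, 0, 0, 0, -2, 0, 0, 0, 0, 0, -2],
  [0, 0, 2, -2, 0, -2, 0, -2, -2, 0, -2, -2, 0, 2, 2, -2, -2, 0, -2, 2, 2, 2, -2, 0],
  [2, 2, 0, 0, -6, 0, -2, 0, 0, 2, 0, 0, -2, 0, 0, 0, 0, 2, 0, 0, 0, 0, 0, 2],
  [0, 0, 2, 2, 0, 2, 0, 2, -2, 0, -2, 2, 0, -2, 2, -2, 2, 0, 2, 2, 2, -2, -2, 0],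
  [0, 0, -2, 2, 0, -2, 0, 2, -2, 0, 2, -2, 0, 2, 2, 2, 2, 0, 2, 2, -2, 2, -2, 0],
  [-2, -2, 0, 0, -2, 0, -6, 0, 0, -2, 0, 0, 2, 0, 0, 0, 0, -2, 0, 0, 0, 0, 0, -2],
  [0, 0, -2, 2, 0, 2, 0, -2, 2, 0, -2, -2, 0, 2, -2, -2, 2, 0, -2, 2, -2, -2, -2, 0],
  [0, 0, -2, 2, 0, -2, 0, 2, 2, 0, 2, -2, 0, -2, 2, -2, -2, 0, -2, -2, 2, -2, -2, 0],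
  [2, 2, 0, 0, 2, 0, -2, 0, 0, 2, 0, 0, -2, 0, 0, 0, 0, -6, 0, 0, 0, 0, 0, 2],
  [0, 0, 2, 2, 0, 2, 0, -2, 2, 0, 2, -2, 0, -2, 2, -2, -2, 0, 2, 2, -2, 2, 2, 0],
  [0, 0, 2, 2, 0, 2, 0, -2, -2, 0, 2, -2, 0, 2, 2, 2, 2, 0, -2, -2, 2, -2, 2, 0],
  [0, 0, -2, -2, 0, 2, 0, -2, -2, 0, 2, 2, 0, -2, 2, 2, -2, 0, -2, 2, -2, -2, -2, 0],
  [0, 0, -2, 2, 0, 2, 0, -2, -2, 0, -2, -2, 0, -2, -2, 2, -2, 0, 2, -2, 2, 2, -2, 0],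
  [-2, -2, 0, 0, -2, 0, 2, 0, 0, -2, 0, 0, -6, 0, 0, 0, 0, -2, 0, 0, 0, 0, 0, -2],
  [0, 0, 2, -2, 0, 2, 0, 2, 2, 0, 2, -2, 0, 2, -2, 2, -2, 0, 2, 2, 2, -2, -2, 0],
  [0, 0, -2, 2, 0, 2, 0, 2, -2, 0, 2, 2, 0, 2, -2, -2, -2, 0, -2, 2, 2, 2, 2, 0],
  [0, 0, -2, -2, 0, -2, 0, -2, -2, 0, 2, -2, 0, -2, -2, -2, 2, 0, 2, 2, 2, -2, 2, 0],
  [0, 0, -2, -2, 0, 2, 0, 2, -2, 0, -2, -2, 0, 2, 2, -2, -2, 0, 2, -2, -2, -2, 2, 0],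
  [0, 0, 2, 2, 0, -2, 0, -2, -2, 0, 2, 2, 0, 2, -2, -2, -2, 0, 2, -2, -2, -2, -2, 0],
  [-2, -2, 0, 0, -2, 0, 2, 0, 0, -2, 0, 0, 2, 0, 0, 0, 0, -2, 0, 0, 0, 0, 0, 6]]

/-- columns of the automorphism `c6` -/
def CB : List (List ℤ) := [
  [6, -2, 0, 0, -2, 0, 2, 0, 0, -2, 0, 0, 2, 0, 0, 0, 0, -2, 0, 0, 0, 0, 0, -2],
  [-2, 6, 0, 0, -2, 0, 2, 0, 0, -2, 0, 0, 2, 0, 0, 0, 0, -2, 0, 0, 0, 0, 0, -2],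
  [0, 0, -2, -2, 0, 2, 0, 2, -2, 0, -2, -2, 0, 2, 2, -2, -2, 0, 2, -2, -2, -2, 2, 0],
  [0, 0, 2, -2, 0, -2, 0, 2, 2, 0, 2, 2, 0, 2, 2, -2, 2, 0, -2, 2, -2, -2, 2, 0],
  [-2, -2, 0, 0, -2, 0, -6, 0, 0, -2, 0, 0, 2, 0, 0, 0, 0, -2, 0, 0, 0, 0, 0, -2],
  [0, 0, -2, 2, 0, -2, 0, 2, -2, 0, 2, -2, 0, 2, 2, 2, 2, 0, 2, 2, -2, 2, -2, 0],
  [2, 2, 0, 0, 2, 0, -2, 0, 0, -6, 0, 0, -2, 0, 0, 0, 0, 2, 0, 0, 0, 0, 0, 2],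
  [0, 0, -2, -2, 0, -2, 0, 2, 2, 0, -2, 2, 0, -2, -2, -2, -2, 0, 2, 2, -2, 2, -2, 0],
  [0, 0, 2, 2, 0, -2, 0, -2, -2, 0, 2, 2, 0, 2, -2, -2, -2, 0, 2, -2, -2, -2, -2, 0],
  [-2, -2, 0, 0, 6, 0, 2, 0, 0, -2, 0, 0, 2, 0, 0, 0, 0, -2, 0, 0, 0, 0, 0, -2],
  [0, 0, -2, 2, 0, -2, 0, -2, 2, 0, -2, 2, 0, 2, 2, 2, -2, 0, 2, 2, 2, -2, 2, 0],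
  [0, 0, 2, 2, 0, -2, 0, 2, -2, 0, -2, -2, 0, -2, -2, 2, -2, 0, -2, 2, -2, -2, 2, 0],
  [2, 2, 0, 0, 2, 0, -2, 0, 0, 2, 0, 0, -2, 0, 0, 0, 0, -6, 0, 0, 0, 0, 0, 2],
  [0, 0, 2, 2, 0, 2, 0, -2, 2, 0, 2, -2, 0, -2, 2, -2, -2, 0, 2, 2, -2, 2, 2, 0],
  [0, 0, 2, 2, 0, 2, 0, 2, 2, 0, -2, 2, 0, 2, 2, 2, -2, 0, -2, -2, -2, 2, -2, 0],
  [0, 0, 2, -2, 0, -2, 0, -2, 2, 0, -2, -2, 0, -2, 2, 2, 2, 0, 2, -2, -2, -2, -2, 0],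
  [0, 0, -2, 2, 0, -2, 0, 2, 2, 0, 2, -2, 0, -2, 2, -2, -2, 0, -2, -2, 2, -2, -2, 0],
  [-2, -2, 0, 0, -2, 0, 2, 0, 0, -2, 0, 0, -6, 0, 0, 0, 0, -2, 0, 0, 0, 0, 0, -2],
  [0, 0, 2, 2, 0, -2, 0, 2, 2, 0, -2, -2, 0, 2, -2, -2, 2, 0, 2, -2, 2, 2, 2, 0],
  [0, 0, 2, -2, 0, 2, 0, 2, 2, 0, 2, -2, 0, 2, -2, 2, -2, 0, 2, 2, 2, -2, -2, 0],
  [0, 0, 2, 2, 0, 2, 0, 2, -2, 0, -2, 2, 0, -2, 2, -2, 2, 0, 2, 2, 2, -2, -2, 0],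
  [0, 0, -2, 2, 0, 2, 0, -2, 2, 0, -2, -2, 0, 2, -2, -2, 2, 0, -2, 2, -2, -2, -2, 0],
  [0, 0, 2, -2, 0, -2, 0, -2, -2, 0, -2, -2, 0, 2, 2, -2, -2, 0, -2, 2, 2, 2, -2, 0],
  [-2, -2, 0, 0, -2, 0, 2, 0, 0, -2, 0, 0, 2, 0, 0, 0, 0, -2, 0, 0, 0, 0, 0, 6]]

theorem okB : Ok RB CB := Ok.of_bool (by decide +kernel)

/-- rows of the automorphism `D` -/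
def RD : List (List ℤ) := [
  [4, -4, -4, 0, 0, 0, 0, 0, 0, 0, 0, 0, 0, 0, 0, 0, 0, 0, 0, 0, 0, 0, 0, -4],
  [-4, 4, -4, 0, 0, 0, 0, 0, 0, 0, 0, 0, 0, 0, 0, 0, 0, 0, 0, 0, 0, 0, 0, -4],
  [4, 4, -4, 0, 0, 0, 0, 0, 0, 0, 0, 0, 0, 0, 0, 0, 0, 0, 0, 0, 0, 0, 0, 4],
  [0, 0, 0, 4, 0, -4, 0, 0, 0, 0, 0, 0, 0, 0, 4, 0, 0, 4, 0, 0, 0, 0, 0, 0],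
  [0, 0, 0, 0, -4, 0, 0, 0, 0, 0, 0, 0, 0, -4, 0, 0, 4, 0, 0, 0, 0, 0, -4, 0],
  [0, 0, 0, -4, 0, 4, 0, 0, 0, 0, 0, 0, 0, 0, 4, 0, 0, 4, 0, 0, 0, 0, 0, 0],
  [0, 0, 0, 0, 0, 0, 4, -4, 0, 0, 0, 0, 0, 0, 0, 0, 0, 0, 0, -4, 0, -4, 0, 0],
  [0, 0, 0, 0, 0, 0, -4, 4, 0, 0, 0, 0, 0, 0, 0, 0, 0, 0, 0, -4, 0, -4, 0, 0],
  [0, 0, 0, 0, 0, 0, 0, 0, 4, 0, 0, 4, 4, 0, 0, 0, 0, 0, -4, 0, 0, 0, 0, 0],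
  [0, 0, 0, 0, 0, 0, 0, 0, 0, 4, 4, 0, 0, 0, 0, -4, 0, 0, 0, 0, 4, 0, 0, 0],
  [0, 0, 0, 0, 0, 0, 0, 0, 0, -4, -4, 0, 0, 0, 0, -4, 0, 0, 0, 0, 4, 0, 0, 0],
  [0, 0, 0, 0, 0, 0, 0, 0, 4, 0, 0, 4, -4, 0, 0, 0, 0, 0, 4, 0, 0, 0, 0, 0],
  [0, 0, 0, 0, 0, 0, 0, 0, 4, 0, 0, -4, 4, 0, 0, 0, 0, 0, 4, 0, 0, 0, 0, 0],
  [0, 0, 0, 0, 4, 0, 0, 0, 0, 0, 0, 0, 0, 4, 0, 0, 4, 0, 0, 0, 0, 0, -4, 0],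
  [0, 0, 0, -4, 0, -4, 0, 0, 0, 0, 0, 0, 0, 0, -4, 0, 0, 4, 0, 0, 0, 0, 0, 0],
  [0, 0, 0, 0, 0, 0, 0, 0, 0, -4, 4, 0, 0, 0, 0, 4, 0, 0, 0, 0, 4, 0, 0, 0],
  [0, 0, 0, 0, -4, 0, 0, 0, 0, 0, 0, 0, 0, 4, 0, 0, 4, 0, 0, 0, 0, 0, 4, 0],
  [0, 0, 0, 4, 0, 4, 0, 0, 0, 0, 0, 0, 0, 0, -4, 0, 0, 4, 0, 0, 0, 0, 0, 0],
  [0, 0, 0, 0, 0, 0, 0, 0, 4, 0, 0, -4, -4, 0, 0, 0, 0, 0, -4, 0, 0, 0, 0, 0],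
  [0, 0, 0, 0, 0, 0, -4, -4, 0, 0, 0, 0, 0, 0, 0, 0, 0, 0, 0, 4, 0, -4, 0, 0],
  [0, 0, 0, 0, 0, 0, 0, 0, 0, 4, -4, 0, 0, 0, 0, 4, 0, 0, 0, 0, 4, 0, 0, 0],
  [0, 0, 0, 0, 0, 0, 4, 4, 0, 0, 0, 0, 0, 0, 0, 0, 0, 0, 0, 4, 0, -4, 0, 0],
  [0, 0, 0, 0, 4, 0, 0, 0, 0, 0, 0, 0, 0, -4, 0, 0, 4, 0, 0, 0, 0, 0, 4, 0],
  [-4, -4, -4, 0, 0, 0, 0, 0, 0, 0, 0, 0, 0, 0, 0, 0, 0, 0, 0, 0, 0, 0, 0, 4]]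

/-- columns of the automorphism `D` -/
def CD : List (List ℤ) := [
  [4, -4, 4, 0, 0, 0, 0, 0, 0, 0, 0, 0, 0, 0, 0, 0, 0, 0, 0, 0, 0, 0, 0, -4],
  [-4, 4, 4, 0, 0, 0, 0, 0, 0, 0, 0, 0, 0, 0, 0, 0, 0, 0, 0, 0, 0, 0, 0, -4],
  [-4, -4, -4, 0, 0, 0, 0, 0, 0, 0, 0, 0, 0, 0, 0, 0, 0, 0, 0, 0, 0, 0, 0, -4],
  [0, 0, 0, 4, 0, -4, 0, 0, 0, 0, 0, 0, 0, 0, -4, 0, 0, 4, 0, 0, 0, 0, 0, 0],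
  [0, 0, 0, 0, -4, 0, 0, 0, 0, 0, 0, 0, 0, 4, 0, 0, -4, 0, 0, 0, 0, 0, 4, 0],
  [0, 0, 0, -4, 0, 4, 0, 0, 0, 0, 0, 0, 0, 0, -4, 0, 0, 4, 0, 0, 0, 0, 0, 0],
  [0, 0, 0, 0, 0, 0, 4, -4, 0, 0, 0, 0, 0, 0, 0, 0, 0, 0, 0, -4, 0, 4, 0, 0],
  [0, 0, 0, 0, 0, 0, -4, 4, 0, 0, 0, 0, 0, 0, 0, 0, 0, 0, 0, -4, 0, 4, 0, 0],
  [0, 0, 0, 0, 0, 0, 0, 0, 4, 0, 0, 4, 4, 0, 0, 0, 0, 0, 4, 0, 0, 0, 0, 0],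
  [0, 0, 0, 0, 0, 0, 0, 0, 0, 4, -4, 0, 0, 0, 0, -4, 0, 0, 0, 0, 4, 0, 0, 0],
  [0, 0, 0, 0, 0, 0, 0, 0, 0, 4, -4, 0, 0, 0, 0, 4, 0, 0, 0, 0, -4, 0, 0, 0],
  [0, 0, 0, 0, 0, 0, 0, 0, 4, 0, 0, 4, -4, 0, 0, 0, 0, 0, -4, 0, 0, 0, 0, 0],
  [0, 0, 0, 0, 0, 0, 0, 0, 4, 0, 0, -4, 4, 0, 0, 0, 0, 0, -4, 0, 0, 0, 0, 0],
  [0, 0, 0, 0, -4, 0, 0, 0, 0, 0, 0, 0, 0, 4, 0, 0, 4, 0, 0, 0, 0, 0, -4, 0],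
  [0, 0, 0, 4, 0, 4, 0, 0, 0, 0, 0, 0, 0, 0, -4, 0, 0, -4, 0, 0, 0, 0, 0, 0],
  [0, 0, 0, 0, 0, 0, 0, 0, 0, -4, -4, 0, 0, 0, 0, 4, 0, 0, 0, 0, 4, 0, 0, 0],
  [0, 0, 0, 0, 4, 0, 0, 0, 0, 0, 0, 0, 0, 4, 0, 0, 4, 0, 0, 0, 0, 0, 4, 0],
  [0, 0, 0, 4, 0, 4, 0, 0, 0, 0, 0, 0, 0, 0, 4, 0, 0, 4, 0, 0, 0, 0, 0, 0],
  [0, 0, 0, 0, 0, 0, 0, 0, -4, 0, 0, 4, 4, 0, 0, 0, 0, 0, -4, 0, 0, 0, 0, 0],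
  [0, 0, 0, 0, 0, 0, -4, -4, 0, 0, 0, 0, 0, 0, 0, 0, 0, 0, 0, 4, 0, 4, 0, 0],
  [0, 0, 0, 0, 0, 0, 0, 0, 0, 4, 4, 0, 0, 0, 0, 4, 0, 0, 0, 0, 4, 0, 0, 0],
  [0, 0, 0, 0, 0, 0, -4, -4, 0, 0, 0, 0, 0, 0, 0, 0, 0, 0, 0, -4, 0, -4, 0, 0],
  [0, 0, 0, 0, -4, 0, 0, 0, 0, 0, 0, 0, 0, -4, 0, 0, 4, 0, 0, 0, 0, 0, 4, 0],
  [-4, -4, 4, 0, 0, 0, 0, 0, 0, 0, 0, 0, 0, 0, 0, 0, 0, 0, 0, 0, 0, 0, 0, 4]]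

theorem okD : Ok RD CD := Ok.of_bool (by decide +kernel)

/-- rows of the automorphism `M3` -/
def RM : List (List ℤ) := [
  [6, -2, 2, 0, 0, 0, 2, -2, 0, 0, 0, 0, 0, 0, 0, 0, 0, 0, 0, 2, 0, 2, 0, -2],
  [-2, 6, 2, 0, 0, 0, 2, -2, 0, 0, 0, 0, 0, 0, 0, 0, 0, 0, 0, 2, 0, 2, 0, -2],
  [-2, -2, 2, 0, 0, 0, 2, 6, 0, 0, 0, 0, 0, 0, 0, 0, 0, 0, 0, 2, 0, 2, 0, -2],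
  [0, 0, 0, 2, 2, -2, 0, 0, 2, 2, -2, 2, 2, 2, -2, -2, -2, -2, -2, 0, -2, 0, 2, 0],
  [0, 0, 0, -2, 2, 2, 0, 0, -2, 2, -2, -2, -2, 2, 2, -2, -2, 2, 2, 0, -2, 0, 2, 0],
  [0, 0, 0, 2, -2, 2, 0, 0, -2, 2, 2, -2, 2, 2, -2, 2, -2, 2, -2, 0, -2, 0, -2, 0],
  [2, 2, -2, 0, 0, 0, 6, 2, 0, 0, 0, 0, 0, 0, 0, 0, 0, 0, 0, -2, 0, -2, 0, 2],
  [2, 2, -2, 0, 0, 0, -2, 2, 0, 0, 0, 0, 0, 0, 0, 0, 0, 0, 0, -2, 0, 6, 0, 2],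
  [0, 0, 0, 2, 2, 2, 0, 0, 2, 2, -2, -2, 2, 2, 2, 2, 2, -2, 2, 0, 2, 0, -2, 0],
  [0, 0, 0, -2, 2, -2, 0, 0, -2, 2, -2, 2, -2, 2, -2, 2, 2, 2, -2, 0, 2, 0, -2, 0],
  [0, 0, 0, -2, 2, -2, 0, 0, -2, 2, 2, -2, 2, -2, 2, 2, 2, -2, -2, 0, -2, 0, 2, 0],
  [0, 0, 0, -2, 2, 2, 0, 0, 2, -2, 2, 2, 2, 2, 2, 2, -2, 2, -2, 0, 2, 0, 2, 0],
  [0, 0, 0, -2, -2, -2, 0, 0, -2, -2, -2, -2, 2, 2, 2, -2, -2, -2, -2, 0, 2, 0, -2, 0],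
  [0, 0, 0, 2, -2, -2, 0, 0, 2, -2, -2, -2, -2, 2, 2, 2, 2, 2, -2, 0, -2, 0, 2, 0],
  [0, 0, 0, 2, -2, 2, 0, 0, -2, 2, -2, 2, -2, -2, 2, 2, -2, -2, -2, 0, 2, 0, 2, 0],
  [0, 0, 0, 2, 2, -2, 0, 0, -2, -2, -2, 2, 2, -2, 2, 2, -2, 2, 2, 0, -2, 0, -2, 0],
  [0, 0, 0, 2, 2, 2, 0, 0, -2, -2, -2, -2, 2, -2, -2, -2, 2, 2, -2, 0, 2, 0, 2, 0],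
  [0, 0, 0, 2, 2, -2, 0, 0, 2, 2, 2, -2, -2, -2, 2, -2, -2, 2, -2, 0, 2, 0, -2, 0],
  [0, 0, 0, 2, -2, -2, 0, 0, -2, 2, 2, 2, 2, 2, 2, -2, 2, 2, 2, 0, 2, 0, 2, 0],
  [-2, -2, -6, 0, 0, 0, 2, -2, 0, 0, 0, 0, 0, 0, 0, 0, 0, 0, 0, 2, 0, 2, 0, -2],
  [0, 0, 0, 2, 2, -2, 0, 0, -2, -2, 2, -2, -2, 2, -2, 2, -2, -2, 2, 0, 2, 0, 2, 0],
  [-2, -2, 2, 0, 0, 0, 2, -2, 0, 0, 0, 0, 0, 0, 0, 0, 0, 0, 0, -6, 0, 2, 0, -2],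
  [0, 0, 0, -2, -2, -2, 0, 0, 2, 2, -2, -2, 2, -2, -2, 2, -2, 2, 2, 0, 2, 0, 2, 0],
  [-2, -2, 2, 0, 0, 0, 2, -2, 0, 0, 0, 0, 0, 0, 0, 0, 0, 0, 0, 2, 0, 2, 0, 6]]

/-- columns of the automorphism `M3` -/
def CM : List (List ℤ) := [
  [6, -2, -2, 0, 0, 0, 2, 2, 0, 0, 0, 0, 0, 0, 0, 0, 0, 0, 0, -2, 0, -2, 0, -2],
  [-2, 6, -2, 0, 0, 0, 2, 2, 0, 0, 0, 0, 0, 0, 0, 0, 0, 0, 0, -2, 0, -2, 0, -2],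
  [2, 2, 2, 0, 0, 0, -2, -2, 0, 0, 0, 0, 0, 0, 0, 0, 0, 0, 0, -6, 0, 2, 0, 2],
  [0, 0, 0, 2, -2, 2, 0, 0, 2, -2, -2, -2, -2, 2, 2, 2, 2, 2, 2, 0, 2, 0, -2, 0],
  [0, 0, 0, 2, 2, -2, 0, 0, 2, 2, 2, 2, -2, -2, -2, 2, 2, 2, -2, 0, 2, 0, -2, 0],
  [0, 0, 0, -2, 2, 2, 0, 0, 2, -2, -2, 2, -2, -2, 2, -2, 2, -2, -2, 0, -2, 0, -2, 0],
  [2, 2, 2, 0, 0, 0, 6, -2, 0, 0, 0, 0, 0, 0, 0, 0, 0, 0, 0, 2, 0, 2, 0, 2],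
  [-2, -2, 6, 0, 0, 0, 2, 2, 0, 0, 0, 0, 0, 0, 0, 0, 0, 0, 0, -2, 0, -2, 0, -2],
  [0, 0, 0, 2, -2, -2, 0, 0, 2, -2, -2, 2, -2, 2, -2, -2, -2, 2, -2, 0, -2, 0, 2, 0],
  [0, 0, 0, 2, 2, 2, 0, 0, 2, 2, 2, -2, -2, -2, 2, -2, -2, 2, 2, 0, -2, 0, 2, 0],
  [0, 0, 0, -2, -2, 2, 0, 0, -2, -2, 2, 2, -2, -2, -2, -2, -2, 2, 2, 0, 2, 0, -2, 0],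
  [0, 0, 0, 2, -2, -2, 0, 0, -2, 2, -2, 2, -2, -2, 2, 2, -2, -2, 2, 0, -2, 0, -2, 0],
  [0, 0, 0, 2, -2, 2, 0, 0, 2, -2, 2, 2, 2, -2, -2, 2, 2, -2, 2, 0, -2, 0, 2, 0],
  [0, 0, 0, 2, 2, 2, 0, 0, 2, 2, -2, 2, 2, 2, -2, -2, -2, -2, 2, 0, 2, 0, -2, 0],
  [0, 0, 0, -2, 2, -2, 0, 0, 2, -2, 2, 2, 2, 2, 2, 2, -2, 2, 2, 0, -2, 0, -2, 0],
  [0, 0, 0, -2, -2, 2, 0, 0, 2, 2, 2, 2, -2, 2, 2, 2, -2, -2, -2, 0, 2, 0, 2, 0],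
  [0, 0, 0, -2, -2, -2, 0, 0, 2, 2, 2, -2, -2, 2, -2, -2, 2, -2, 2, 0, -2, 0, -2, 0],
  [0, 0, 0, -2, 2, 2, 0, 0, -2, 2, -2, 2, -2, 2, -2, 2, 2, 2, 2, 0, -2, 0, 2, 0],
  [0, 0, 0, -2, 2, -2, 0, 0, 2, -2, -2, -2, -2, -2, -2, 2, -2, -2, 2, 0, 2, 0, 2, 0],
  [2, 2, 2, 0, 0, 0, -2, -2, 0, 0, 0, 0, 0, 0, 0, 0, 0, 0, 0, 2, 0, -6, 0, 2],
  [0, 0, 0, -2, -2, -2, 0, 0, 2, 2, -2, 2, 2, -2, 2, -2, 2, 2, 2, 0, 2, 0, 2, 0],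
  [2, 2, 2, 0, 0, 0, -2, 6, 0, 0, 0, 0, 0, 0, 0, 0, 0, 0, 0, 2, 0, 2, 0, 2],
  [0, 0, 0, 2, 2, -2, 0, 0, -2, -2, 2, 2, -2, 2, 2, -2, 2, -2, 2, 0, 2, 0, 2, 0],
  [-2, -2, -2, 0, 0, 0, 2, 2, 0, 0, 0, 0, 0, 0, 0, 0, 0, 0, 0, -2, 0, -2, 0, 6]]

theorem okM : Ok RM CM := Ok.of_bool (by decide +kernel)

end Cfsg.Agent.SporadicStructure.U62Data
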