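import Cfsg.Agent.SporadicStructure.SU62

/-!
Trilinear forms on `F₄⁶`: the 20-dimensional space over the field with two elements of "real" alternating trilinear
forms, described by coefficients, and explicit checks of its invariance under the generators of `SU_6(2)`.
-/

set_option autoImplicit false

namespace Cfsg.Agent.SporadicStructure.U62Tensor

open Cfsg Matrix Cfsg.Agent.LieClassical.HermBasic Cfsg.Agent.LieClassical.HermSiegel
open Cfsg.Agent.SporadicA.FieldFour
open Cfsg.Agent.SporadicStructure.SU62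

/-- The trilinear form with coefficients `t`. -/
def tri (t : Fin 6 → Fin 6 → Fin 6 → F4) (x y z : Fin 6 → F4) : F4 :=
  ∑ i, x i * ∑ j, y j * ∑ m, z m * t i j m

theorem sum_swap {ι κ : Type*} (s : Finset ι) (s' : Finset κ) (p : ι → F4) (q : κ → F4)
    (R : ι → κ → F4) :
    ∑ i ∈ s, p i * ∑ b ∈ s', q b * R i b = ∑ b ∈ s', q b * ∑ i ∈ s, p i * R i b := by
  simp only [Finset.mul_sum]
  rw [Finset.sum_comm]
  refine Finset.sum_congr rfl fun b _ => Finset.sum_congr rfl fun i _ => ?_
  ring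

theorem sum_act (g : SU 6 F4 2) (x A : Fin 6 → F4) :
    ∑ i, act g x i * A i = ∑ a, x a * ∑ i, mat g i a * A i := by
  have h : ∀ i, act g x i * A i = ∑ a, x a * (mat g i a * A i) := by
    intro i
    rw [show act g x i = ∑ a, mat g i a * x a from rfl, Finset.sum_mul]
    refine Finset.sum_congr rfl fun a _ => ?_
    ring
  rw [Finset.sum_congr rfl fun i _ => h i, Finset.sum_comm]
  refine Finset.sum_congr rfl fun a _ => ?_
  rw [Finset.mul_sum]

/-- Codes of the three-element subsets, by masks: `1 + 2m + s`, `s` telling a subset from its complement. -/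
def codeT : List ℕ := [0, 0, 0, 0, 0, 0, 0, 1, 0, 0, 0, 3, 0, 9, 20, 0, 0, 0, 0, 5, 0, 11, 18, 0, 0, 15, 14, 0, 8, 0,
  0, 0, 0, 0, 0, 7, 0, 13, 16, 0, 0, 17, 12, 0, 6, 0, 0, 0, 0, 19, 10, 0, 4, 0, 0, 0, 2, 0, 0, 0, 0, 0, 0, 0]

/-- The code of `{i, j, m}`. -/
def code (i j m : Fin 6) : ℕ :=
  codeT.getD (Nat.lor (Nat.pow 2 i.val) (Nat.lor (Nat.pow 2 j.val) (Nat.pow 2 m.val))) 0

/-- The value of a code on a sequence of scalars. -/
def cval (a : ℕ → F4) : ℕ → F4
  | 0 => 0
  | c + 1 => a (2 * (c / 2)) + a (2 * (c / 2) + 1) * (if c % 2 = 0 then F4.w else F4.v)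

/-- The tensor with coordinates `a`. -/
def Tc (a : ℕ → F4) (i j m : Fin 6) : F4 := cval a (code i j m)

theorem code_le (i j m : Fin 6) : code i j m ≤ 20 := by
  revert i j m; decide +kernel

theorem cval_congr {a b : ℕ → F4} (h : ∀ k < 20, a k = b k) {c : ℕ} (hc : c ≤ 20) :
    cval a c = cval b c := by
  rcases c with _ | c
  · rfl
  · show a _ + a _ * _ = b _ + b _ * _
    rw [h _ (by omega), h _ (by omega)]

theorem cval_sum (s : Finset ℕ) (co : ℕ → F4) (f : ℕ → ℕ → F4) (c : ℕ) :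
    cval (fun k => ∑ l ∈ s, co l * f l k) c = ∑ l ∈ s, co l * cval (f l) c := by
  rcases c with _ | c
  · show (0 : F4) = ∑ l ∈ s, co l * 0
    simp
  · show (∑ l ∈ s, co l * f l (2 * (c / 2))) + (∑ l ∈ s, co l * f l (2 * (c / 2) + 1)) * _ =
      ∑ l ∈ s, co l * (f l (2 * (c / 2)) + f l (2 * (c / 2) + 1) * _)
    rw [Finset.sum_mul, ← Finset.sum_add_distrib]
    exact Finset.sum_congr rfl fun l _ => by ring

theorem Tc_congr {a b : ℕ → F4} (h : ∀ k < 20, a k = b k) : Tc a = Tc b := by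
  funext i j m
  exact cval_congr h (code_le i j m)

theorem Tc_sum (s : Finset ℕ) (co : ℕ → F4) (f : ℕ → ℕ → F4) (i j m : Fin 6) :
    Tc (fun k => ∑ l ∈ s, co l * f l k) i j m = ∑ l ∈ s, co l * Tc (f l) i j m :=
  cval_sum s co f _

/-- Unit coordinates. -/
def dl (l k : ℕ) : F4 := if k = l then 1 else 0

theorem Tc_eq_sum (a : ℕ → F4) (i j m : Fin 6) :
    Tc a i j m = ∑ l ∈ Finset.range 20, a l * Tc (dl l) i j m := by
  rw [← Tc_sum]
  refine congrFun (congrFun (congrFun (Tc_congr fun k hk => ?_) i) j) m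
  rw [Finset.sum_eq_single k]
  · rw [dl, if_pos rfl, mul_one]
  · intro l _ hl; rw [dl, if_neg (Ne.symm hl), mul_zero]
  · intro h; exact absurd (Finset.mem_range.mpr hk) h

/-- The coordinates of column `l` of a matrix of masks. -/
def colH (Hm : List ℕ) (l k : ℕ) : F4 := if (Hm.getD k 0).testBit l then 1 else 0

/-- Sum of six values, computable. -/
def s6c (f : Fin 6 → F4) : F4 :=
  F4.add (f 0) (F4.add (f 1) (F4.add (f 2) (F4.add (f 3) (F4.add (f 4) (f 5)))))

theorem s6c_eq (f : Fin 6 → F4) : s6c f = ∑ i, f i := by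
  rw [Fin.sum_univ_six]
  show f 0 + (f 1 + (f 2 + (f 3 + (f 4 + f 5)))) = _
  ring

/-- Pull back of a tensor. -/
def pull (g : Matrix (Fin 6) (Fin 6) F4) (t : Fin 6 → Fin 6 → Fin 6 → F4) (a b c : Fin 6) : F4 :=
  s6c fun i => F4.mul (g i a) (s6c fun j => F4.mul (g j b) (s6c fun m => F4.mul (g m c) (t i j m)))

theorem pull_eq (g : Matrix (Fin 6) (Fin 6) F4) (t : Fin 6 → Fin 6 → Fin 6 → F4) (a b c : Fin 6) :
    pull g t a b c = ∑ i, g i a * ∑ j, g j b * ∑ m, g m c * t i j m := by
  unfold pull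
  simp only [s6c_eq]
  rfl

theorem tri_act (g : SU 6 F4 2) (t : Fin 6 → Fin 6 → Fin 6 → F4) (x y z : Fin 6 → F4) :
    tri t (act g x) (act g y) (act g z) = tri (pull (mat g) t) x y z := by
  unfold tri
  rw [sum_act]
  refine Finset.sum_congr rfl fun a _ => ?_
  congr 1
  have h1 : ∀ i, ∑ j, act g y j * ∑ m, act g z m * t i j m =
      ∑ b, y b * ∑ c, z c * ∑ j, mat g j b * ∑ m, mat g m c * t i j m := by
    intro i
    rw [sum_act]
    refine Finset.sum_congr rfl fun b _ => ?_
    congr 1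
    have h0 : ∀ j, ∑ m, act g z m * t i j m = ∑ c, z c * ∑ m, mat g m c * t i j m :=
      fun j => sum_act g z _
    rw [Finset.sum_congr rfl fun j _ => by rw [h0 j], sum_swap]
  rw [Finset.sum_congr rfl fun i _ => by rw [h1 i], sum_swap]
  refine Finset.sum_congr rfl fun b _ => ?_
  congr 1
  rw [sum_swap]
  refine Finset.sum_congr rfl fun c _ => ?_
  rw [pull_eq]

theorem pull_sum (g : Matrix (Fin 6) (Fin 6) F4) (s : Finset ℕ) (co : ℕ → F4)
    (t : ℕ → Fin 6 → Fin 6 → Fin 6 → F4) (a b c : Fin 6) :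
    pull g (fun i j m => ∑ l ∈ s, co l * t l i j m) a b c = ∑ l ∈ s, co l * pull g (t l) a b c := by
  simp only [pull_eq]
  have e1 : ∀ i j : Fin 6, ∑ m, g m c * ∑ l ∈ s, co l * t l i j m =
      ∑ l ∈ s, co l * ∑ m, g m c * t l i j m := fun i j => sum_swap _ _ _ _ _
  have e2 : ∀ i : Fin 6, ∑ j, g j b * ∑ m, g m c * ∑ l ∈ s, co l * t l i j m =
      ∑ l ∈ s, co l * ∑ j, g j b * ∑ m, g m c * t l i j m := by
    intro i
    rw [Finset.sum_congr rfl fun j _ => by rw [e1 i j], sum_swap]
  rw [Finset.sum_congr rfl fun i _ => by rw [e2 i], sum_swap]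

/-- The check. -/
def starB (g : List (List ℕ)) (Hm : List ℕ) : Bool :=
  decide (∀ l : Fin 20, ∀ a b c : Fin 6,
    pull (matOf g) (Tc (colH Hm l)) a b c = Tc (dl l) a b c)

def HA : List ℕ := [1, 2, 4, 8, 16, 32, 64, 128, 2883584, 524288, 3342336, 1179648, 3194880, 3178496, 12288, 3153920, 2100224, 1050624, 2097920, 512]

set_option maxRecDepth 100000 in
/-- The tensor identity from the check. -/
theorem pull_of_star {g : List (List ℕ)} {Hm : List ℕ} (h : starB g Hm = true) (f f' : ℕ → F4)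
    (hf : ∀ k < 20, f' k = ∑ l ∈ Finset.range 20, f l * colH Hm l k) :
    pull (matOf g) (Tc f') = Tc f := by
  have h1 : Tc f' = fun i j m => ∑ l ∈ Finset.range 20, f l * Tc (colH Hm l) i j m := by
    rw [Tc_congr hf]
    funext i j m
    exact Tc_sum _ _ _ i j m
  have h2 := of_decide_eq_true h
  funext a b c
  rw [h1, pull_sum, Tc_eq_sum]
  refine Finset.sum_congr rfl fun l hl => ?_
  rw [Finset.mem_range] at hl
  rw [h2 ⟨l, hl⟩ a b c]

theorem starA : starB tT HA = true := by decide +kernel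

def HM : List ℕ := [2097153, 1048578, 1835784, 2621708, 3345440, 132144, 61568, 3182784, 1835532, 2622212, 3344432, 134160, 57536, 3190848, 28864, 2138240, 2165808, 1181728, 2360076, 3670536]

theorem starM : starB tM HM = true := by decide +kernel


def HB : List ℕ := [64, 2097280, 3149824, 2105344, 3211264, 131072, 1310720, 3670016, 1097728, 2129920, 2100224, 2048, 1049344, 1049088, 3145776, 2097184, 2097164, 3145736, 3145731, 1048578]

theorem starC : starB tC HB = true := by decide +kernel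

def HD : List ℕ := [1, 2, 4, 8, 16, 32, 64, 128, 3146496, 2097408, 2100224, 1024, 2109440, 1052672, 1097728, 16384, 3342336, 1114112, 3932160, 3407872]

theorem starD : starB tD HD = true := by decide +kernel

/-! ### The kernel -/

theorem tri_single (t : Fin 6 → Fin 6 → Fin 6 → F4) (a b c : Fin 6) (α β γ : F4) :
    tri t (Pi.single a α) (Pi.single b β) (Pi.single c γ) = α * (β * (γ * t a b c)) := by
  unfold tri
  rw [Finset.sum_eq_single a, Finset.sum_eq_single b, Finset.sum_eq_single c]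
  · simp
  · intro i _ hi; rw [Pi.single_eq_of_ne hi, zero_mul]
  · intro h; exact absurd (Finset.mem_univ _) h
  · intro i _ hi; rw [Pi.single_eq_of_ne hi, zero_mul]
  · intro h; exact absurd (Finset.mem_univ _) h
  · intro i _ hi; rw [Pi.single_eq_of_ne hi, zero_mul]
  · intro h; exact absurd (Finset.mem_univ _) h

theorem tri_single₁ (t : Fin 6 → Fin 6 → Fin 6 → F4) (a : Fin 6) (y z : Fin 6 → F4) :
    tri t (Pi.single a 1) y z = ∑ j, y j * ∑ m, z m * t a j m := by
  unfold tri
  rw [Finset.sum_eq_single a]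
  · simp
  · intro i _ hi; rw [Pi.single_eq_of_ne hi, zero_mul]
  · intro h; exact absurd (Finset.mem_univ _) h

theorem tri_single₂₃ (t : Fin 6 → Fin 6 → Fin 6 → F4) (b c : Fin 6) (x : Fin 6 → F4) :
    tri t x (Pi.single b 1) (Pi.single c 1) = ∑ i, x i * t i b c := by
  unfold tri
  refine Finset.sum_congr rfl fun i _ => ?_
  congr 1
  rw [Finset.sum_eq_single b, Finset.sum_eq_single c]
  · simp
  · intro i _ hi; rw [Pi.single_eq_of_ne hi, zero_mul]
  · intro h; exact absurd (Finset.mem_univ _) h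
  · intro i _ hi; rw [Pi.single_eq_of_ne hi, zero_mul]
  · intro h; exact absurd (Finset.mem_univ _) h

theorem tri_comb (α : F4) (t t' : Fin 6 → Fin 6 → Fin 6 → F4) (x y z : Fin 6 → F4) :
    tri (fun i j m => α * t i j m + t' i j m) x y z = α * tri t x y z + tri t' x y z := by
  unfold tri
  simp only [Finset.mul_sum, ← Finset.sum_add_distrib]
  refine Finset.sum_congr rfl fun i _ => Finset.sum_congr rfl fun j _ =>
    Finset.sum_congr rfl fun m _ => ?_
  ring

/-- The indicator tensor of a code. -/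
def P (c : ℕ) (i j m : Fin 6) : F4 := if code i j m = c then 1 else 0

/-- The scalar needed for `P_eq`. -/
def al (c : ℕ) : F4 := if (c - 1) % 2 = 0 then F4.v else F4.w

theorem P_eq0 : ∀ c : Fin 20, ∀ i j m : Fin 6, P (c.val + 1) i j m =
    F4.add (F4.mul (al (c.val + 1)) (Tc (dl (2 * (c.val / 2))) i j m)) (Tc (dl (2 * (c.val / 2) + 1)) i j m) := by
  decide +kernel

theorem P_eq (c : ℕ) (hc : c < 20) : P (c + 1) = fun i j m =>
    al (c + 1) * Tc (dl (2 * (c / 2))) i j m + Tc (dl (2 * (c / 2) + 1)) i j m := by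
  funext i j m
  exact P_eq0 ⟨c, hc⟩ i j m

theorem code_distinct : ∀ d b c : Fin 6, d ≠ b → d ≠ c → b ≠ c → ∀ i : Fin 6,
    code d b c ≠ 0 ∧ (code i b c = code d b c ↔ i = d) := by decide +kernel

/-- The mask of three elements. -/
def mask (i j m : Fin 6) : ℕ := Nat.lor (Nat.pow 2 i.val) (Nat.lor (Nat.pow 2 j.val) (Nat.pow 2 m.val))

/-- Masks of codes. -/
def inv (c : ℕ) : ℕ := codeT.idxOf c

theorem inv_code : ∀ i j m : Fin 6, code i j m ≠ 0 → inv (code i j m) = mask i j m := by
  decide +kernel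

theorem mask_self : ∀ i j m : Fin 6, (mask i j m).testBit i.val = true := by decide +kernel

theorem mask_mem : ∀ i j m p : Fin 6, (mask i j m).testBit p.val = true → p = i ∨ p = j ∨ p = m := by
  decide +kernel

theorem code_ne {d b c p : Fin 6} (j m : Fin 6) (h0 : code d b c ≠ 0) (h1 : p ≠ d) (h2 : p ≠ b)
    (h3 : p ≠ c) : code p j m ≠ code d b c := by
  intro h
  have e1 := inv_code d b c h0
  have e2 := inv_code p j m (h ▸ h0)
  rw [h, e1] at e2
  have := mask_self p j m
  rw [← e2] at this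
  rcases mask_mem d b c p this with h | h | h
  · exact h1 h
  · exact h2 h
  · exact h3 h

theorem exists_two_others : ∀ d p : Fin 6, d ≠ p →
    ∃ b c : Fin 6, b ≠ c ∧ b ≠ d ∧ b ≠ p ∧ c ≠ d ∧ c ≠ p := by decide

/-- An element preserving the twenty forms is central. -/
theorem mem_center_of_inv (g : SU 6 F4 2) (hg : ∀ k < 20, ∀ x y z : Fin 6 → F4,
    tri (Tc (dl k)) (act g x) (act g y) (act g z) = tri (Tc (dl k)) x y z) :
    g ∈ Subgroup.center (SU 6 F4 2) := by
  -- pass to the inverse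
  have h1 : ∀ c : ℕ, c ≠ 0 → c ≤ 20 → ∀ x y z : Fin 6 → F4,
      tri (P c) (act g⁻¹ x) (act g⁻¹ y) (act g⁻¹ z) = tri (P c) x y z := by
    intro c hc0 hc x y z
    obtain ⟨c, rfl⟩ : ∃ c', c = c' + 1 := ⟨c - 1, by omega⟩
    have k1 := hg (2 * (c / 2)) (by omega) (act g⁻¹ x) (act g⁻¹ y) (act g⁻¹ z)
    have k2 := hg (2 * (c / 2) + 1) (by omega) (act g⁻¹ x) (act g⁻¹ y) (act g⁻¹ z)
    rw [act_act_inv, act_act_inv, act_act_inv] at k1 k2
    rw [P_eq c (by omega), tri_comb, tri_comb, k1, k2]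
  have h2 : ∀ p d : Fin 6, d ≠ p → act g⁻¹ (Pi.single p 1) d = 0 := by
    intro p d hdp
    obtain ⟨b, c, hbc, hbd, hbp, hcd, hcp⟩ := exists_two_others d p hdp
    obtain ⟨hC0, -⟩ := code_distinct d b c (Ne.symm hbd) (Ne.symm hcd) hbc d
    have e1 := h1 (code d b c) hC0 (code_le d b c) (Pi.single p 1) (act g (Pi.single b 1))
      (act g (Pi.single c 1))
    rw [act_inv_act, act_inv_act, tri_single₂₃, tri_single₁] at e1
    rw [Finset.sum_eq_single d] at e1
    · rw [P, if_pos rfl, mul_one] at e1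
      rw [e1]
      refine Finset.sum_eq_zero fun j _ => ?_
      rw [Finset.sum_eq_zero, mul_zero]
      intro m _
      rw [P, if_neg (code_ne j m hC0 (Ne.symm hdp) (Ne.symm hbp) (Ne.symm hcp)), mul_zero]
    · intro i _ hi
      rw [P, if_neg (fun h => hi (((code_distinct d b c (Ne.symm hbd) (Ne.symm hcd) hbc i).2).mp h)),
        mul_zero]
    · intro h; exact absurd (Finset.mem_univ _) h
  -- diagonal entries
  set lam : Fin 6 → F4 := fun p => act g⁻¹ (Pi.single p 1) p with hlam
  have h3 : ∀ p, act g⁻¹ (Pi.single p 1) = Pi.single p (lam p) := by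
    intro p
    funext d
    by_cases hd : d = p
    · subst hd; rw [Pi.single_eq_same]
    · rw [Pi.single_eq_of_ne hd, h2 p d hd]
  have h4 : ∀ a b c : Fin 6, a ≠ b → a ≠ c → b ≠ c → lam a * (lam b * lam c) = 1 := by
    intro a b c hab hac hbc
    obtain ⟨hC0, -⟩ := code_distinct a b c hab hac hbc a
    have e1 := h1 (code a b c) hC0 (code_le a b c) (Pi.single a 1) (Pi.single b 1) (Pi.single c 1)
    rw [h3, h3, h3, tri_single, tri_single, P, if_pos rfl] at e1
    simpa using e1
  have h5 : ∀ a d : Fin 6, lam a = lam d := by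
    intro a d
    by_cases had : a = d
    · rw [had]
    · obtain ⟨b, c, hbc, hba, hbd, hca, hcd⟩ := exists_two_others a d had
      have e1 := h4 a b c (Ne.symm hba) (Ne.symm hca) hbc
      have e2 := h4 d b c (Ne.symm hbd) (Ne.symm hcd) hbc
      have e3 : lam b * lam c ≠ 0 := by
        intro h; rw [h, mul_zero] at e1; exact zero_ne_one e1
      exact mul_right_cancel₀ e3 (e1.trans e2.symm)
  have h6 : ∀ x : Fin 6 → F4, act g⁻¹ x = lam 0 • x := by
    intro x
    have hx : x = ∑ p, x p • (Pi.single p 1 : Fin 6 → F4) := by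
      funext d
      rw [Finset.sum_apply, Finset.sum_eq_single d]
      · rw [Pi.smul_apply, Pi.single_eq_same, smul_eq_mul, mul_one]
      · intro p _ hp; rw [Pi.smul_apply, Pi.single_eq_of_ne (Ne.symm hp), smul_zero]
      · intro h; exact absurd (Finset.mem_univ _) h
    conv_lhs => rw [hx]
    conv_rhs => rw [hx]
    rw [act_sum, Finset.smul_sum]
    refine Finset.sum_congr rfl fun p _ => ?_
    rw [act_smul, h3, h5 p 0, smul_comm]
    congr 1
    funext d
    by_cases hd : d = p
    · subst hd; simp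
    · rw [Pi.smul_apply, Pi.single_eq_of_ne hd, Pi.single_eq_of_ne hd, smul_zero]
  have h7 : g⁻¹ ∈ Subgroup.center (SU 6 F4 2) := by
    rw [Subgroup.mem_center_iff]
    intro B
    apply ext_act
    intro v
    rw [act_mul, act_mul, h6, h6, act_smul]
  exact (Subgroup.inv_mem_iff _).mp h7

end Cfsg.Agent.SporadicStructure.U62Tensor
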