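import Cfsg.Agent.SporadicStructure.U62Data
import Cfsg.Agent.SporadicStructure.U62Tensor
import Cfsg.Agent.Leech.Basic
import Cfsg.Agent.LeechMat.Core

/-!
Twenty functionals on the sublattice of vectors orthogonal modulo 16 to two minimal vectors, and their
transformation under four automorphisms.
-/

set_option autoImplicit false

namespace Cfsg.Agent.SporadicStructure.U62Func

open Cfsg Cfsg.Agent.LieClassical.HermSiegel
open Cfsg.Agent.SporadicA Cfsg.Agent.SporadicA.FieldFour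
open Cfsg.Agent.SporadicStructure.SU62 Cfsg.Agent.SporadicStructure.U62Tensor
open Cfsg.Agent.SporadicStructure.Co0Matrix (vec vec_apply dotL dotInt_vec leechB vec_mem_of_leechB Ok mk mk_coe
  mk_dot act_vec act_mem dotInt_comm dotInt_add_left)

/-- The twenty vectors. -/
def ys : List (List ℤ) := [
  [0, 0, 0, -2, 0, -2, 0, 0, 0, 2, 0, 2, -2, 2, 0, -2, 0, -4, 0, 0, 0, 0, -2, 0],
  [0, 0, 0, 2, 0, -4, 0, 0, -2, 0, 0, 0, -2, 0, 0, -2, -2, -2, 0, 0, -2, 0, -2, 0],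
  [0, 0, 0, -2, 0, 2, 0, 0, 0, -2, 0, -2, 2, 2, 0, -2, 0, 0, 0, 0, -4, 0, -2, 0],
  [0, 0, 0, -2, 0, 0, 0, 0, 2, -4, 0, 0, 2, 0, 0, 2, -2, -2, 0, 0, -2, 0, -2, 0],
  [0, 0, 0, 2, 0, 0, 2, -2, 2, 0, 0, -2, 4, -2, 0, 0, 0, 2, 0, 0, 0, 0, 2, 0],
  [0, 0, 0, 4, 0, -2, 0, -2, 0, 0, 0, -2, 2, 0, 0, 0, -2, 2, 0, 2, 0, 0, -2, 0],
  [0, 0, 0, 2, 0, 0, -2, 2, 2, 0, 0, -2, 4, -2, 0, 0, 0, 2, 0, 0, 0, 0, 2, 0],
  [0, 0, 0, 0, 0, 2, 4, -2, 0, 0, 0, 2, -2, 0, 0, 0, -2, 2, 0, -2, 0, 0, -2, 0],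
  [0, 0, 0, 2, -2, 2, 0, 0, 0, 0, 0, 0, 4, -2, 2, 0, -2, 2, 0, 0, 0, 0, 2, 0],
  [0, 0, 0, 2, 0, -2, 0, 0, -2, 0, 0, -2, 2, 0, 2, 0, -4, 2, 2, 0, 0, 0, 0, 0],
  [1, 1, -1, -1, -1, 3, 1, 1, 3, -1, -1, 1, 1, -1, -1, -1, 1, 1, 1, 1, 1, -1, 3, 1],
  [0, 0, -2, 2, 0, -2, 0, 0, -2, 0, -2, -2, -2, 2, 0, 0, -2, -2, 0, 0, 0, -2, -2, 0],
  [1, 1, -1, -3, 1, 1, 1, 1, 1, 1, 1, 3, -1, 1, 1, 1, 3, -1, -1, 1, -1, -1, 1, 1],
  [0, 0, 2, 2, 0, -2, 0, 0, -2, 0, -2, -2, -2, 2, 0, 0, -2, -2, 0, 0, 0, 2, -2, 0],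
  [1, 1, -1, 1, 1, 1, -1, -1, 1, -1, -1, -1, 3, -3, 1, -1, -1, 3, -1, -1, 1, 1, 1, 1],
  [0, 0, -2, -2, 0, -2, 0, 0, -2, 0, -2, 2, -2, 2, 0, 0, 2, -2, 0, 0, 0, 2, -2, 0],
  [1, 1, -1, -1, -1, 3, -1, -1, 3, 1, 1, 1, 1, -1, -1, 1, 1, 1, 1, -1, -1, 1, 3, 1],
  [0, 0, -2, -2, 0, 2, 0, 0, 2, 0, 2, 2, -2, 2, 0, 0, 2, -2, 0, 0, 0, 2, 2, 0],
  [0, 0, 0, 0, 2, 0, 0, 0, -2, 0, 0, 2, 2, 2, -4, 0, -2, 0, -2, 0, 0, 0, 2, 0],
  [0, 0, 0, -2, 0, 2, 0, 0, 2, 0, 0, 2, -2, 0, 2, 0, 4, -2, 2, 0, 0, 0, 0, 0]]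

/-- The dual vectors. -/
def us : List (List ℤ) := [
  [0, 0, 0, 2, 0, -4, 0, 0, -2, 0, 0, 0, -2, 0, 0, -2, -2, -2, 0, 0, -2, 0, -2, 0],
  [0, 0, 0, -2, 0, -2, 0, 0, 0, 2, 0, 2, -2, 2, 0, -2, 0, -4, 0, 0, 0, 0, -2, 0],
  [0, 0, 0, -2, 0, 0, 0, 0, 2, -4, 0, 0, 2, 0, 0, 2, -2, -2, 0, 0, -2, 0, -2, 0],
  [0, 0, 0, -2, 0, 2, 0, 0, 0, -2, 0, -2, 2, 2, 0, -2, 0, 0, 0, 0, -4, 0, -2, 0],
  [0, 0, 0, 4, 0, -2, 0, -2, 0, 0, 0, -2, 2, 0, 0, 0, -2, 2, 0, 2, 0, 0, -2, 0],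
  [0, 0, 0, 2, 0, 0, 2, -2, 2, 0, 0, -2, 4, -2, 0, 0, 0, 2, 0, 0, 0, 0, 2, 0],
  [0, 0, 0, 0, 0, 2, 4, -2, 0, 0, 0, 2, -2, 0, 0, 0, -2, 2, 0, -2, 0, 0, -2, 0],
  [0, 0, 0, 2, 0, 0, -2, 2, 2, 0, 0, -2, 4, -2, 0, 0, 0, 2, 0, 0, 0, 0, 2, 0],
  [0, 0, 0, 2, 0, -2, 0, 0, -2, 0, 0, -2, 2, 0, 2, 0, -4, 2, 2, 0, 0, 0, 0, 0],
  [0, 0, 0, 2, -2, 2, 0, 0, 0, 0, 0, 0, 4, -2, 2, 0, -2, 2, 0, 0, 0, 0, 2, 0],
  [0, 0, -2, 2, 0, -2, 0, 0, -2, 0, -2, -2, -2, 2, 0, 0, -2, -2, 0, 0, 0, -2, -2, 0],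
  [1, 1, -1, -1, -1, 3, 1, 1, 3, -1, -1, 1, 1, -1, -1, -1, 1, 1, 1, 1, 1, -1, 3, 1],
  [0, 0, 2, 2, 0, -2, 0, 0, -2, 0, -2, -2, -2, 2, 0, 0, -2, -2, 0, 0, 0, 2, -2, 0],
  [1, 1, -1, -3, 1, 1, 1, 1, 1, 1, 1, 3, -1, 1, 1, 1, 3, -1, -1, 1, -1, -1, 1, 1],
  [0, 0, -2, -2, 0, -2, 0, 0, -2, 0, -2, 2, -2, 2, 0, 0, 2, -2, 0, 0, 0, 2, -2, 0],
  [1, 1, -1, 1, 1, 1, -1, -1, 1, -1, -1, -1, 3, -3, 1, -1, -1, 3, -1, -1, 1, 1, 1, 1],
  [0, 0, -2, -2, 0, 2, 0, 0, 2, 0, 2, 2, -2, 2, 0, 0, 2, -2, 0, 0, 0, 2, 2, 0],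
  [1, 1, -1, -1, -1, 3, -1, -1, 3, 1, 1, 1, 1, -1, -1, 1, 1, 1, 1, -1, -1, 1, 3, 1],
  [0, 0, 0, -2, 0, 2, 0, 0, 2, 0, 0, 2, -2, 0, 2, 0, 4, -2, 2, 0, 0, 0, 0, 0],
  [0, 0, 0, 0, 2, 0, 0, 0, -2, 0, 0, 2, 2, 2, -4, 0, -2, 0, -2, 0, 0, 0, 2, 0]]

/-- `(4, -4, 0, …)` on `∞, 0`. -/
def v0L : List ℤ := [-4, 0, 0, 0, 0, 0, 0, 0, 0, 0, 0, 0, 0, 0, 0, 0, 0, 0, 0, 0, 0, 0, 0, 4]

/-- `(4, -4)` on `0, 1`. -/
def w0L : List ℤ := [4, -4, 0, 0, 0, 0, 0, 0, 0, 0, 0, 0, 0, 0, 0, 0, 0, 0, 0, 0, 0, 0, 0, 0]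

/-! ### Sums of lists -/

/-- Sum of two lists. -/
def addL : List ℤ → List ℤ → List ℤ
  | a :: s, b :: t => (a + b) :: addL s t
  | [], t => t
  | s, [] => s

theorem getD_addL (s t : List ℤ) : ∀ i : ℕ, (addL s t).getD i 0 = s.getD i 0 + t.getD i 0 := by
  induction s generalizing t with
  | nil => intro i; cases t <;> simp [addL]
  | cons a s ih =>
    intro i
    cases t with
    | nil => simp [addL]
    | cons b t =>
      cases i with
      | zero => simp [addL]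
      | succ i => simpa [addL] using ih t i

theorem vec_addL (s t : List ℤ) : vec (addL s t) = vec s + vec t := by
  funext p
  rw [Pi.add_apply, vec_apply, vec_apply, vec_apply, getD_addL]

/-- The sum of the lists selected by a mask. -/
def combL : List (List ℤ) → ℕ → List ℤ
  | [], _ => []
  | y :: ys, m => if m % 2 = 1 then addL y (combL ys (m / 2)) else combL ys (m / 2)

theorem vec_nil : vec [] = 0 := by
  funext p; rw [vec_apply]; rfl

/-- Inner product with a selected sum. -/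
theorem dot_combL (u : GolayPt → ℤ) (l : List (List ℤ)) : ∀ m : ℕ,
    dotInt u (vec (combL l m)) =
      ∑ k ∈ Finset.range l.length, if m.testBit k then dotInt u (vec (l.getD k [])) else 0 := by
  induction l with
  | nil =>
    intro m
    rw [combL, vec_nil, dotInt_comm, Co0Matrix.dotInt_zero_left]
    simp
  | cons y l ih =>
    intro m
    rw [List.length_cons, Finset.sum_range_succ']
    have h : ∀ k, (if m.testBit (k + 1) = true then dotInt u (vec ((y :: l).getD (k + 1) [])) else 0) =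
        if (m / 2).testBit k = true then dotInt u (vec (l.getD k [])) else 0 := by
      intro k
      rw [Nat.testBit_succ]
      rfl
    rw [Finset.sum_congr rfl fun k _ => h k, ← ih]
    by_cases hm : m % 2 = 1
    · have h0 : m.testBit 0 = true := by rw [Nat.testBit_zero]; exact decide_eq_true hm
      rw [combL, if_pos hm, if_pos h0, vec_addL, dotInt_comm, dotInt_add_left, dotInt_comm, add_comm,
        dotInt_comm (vec (combL l (m / 2)))]
      rfl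
    · have h0 : ¬ m.testBit 0 = true := by
        rw [Nat.testBit_zero]; exact fun h => hm (of_decide_eq_true h)
      rw [combL, if_neg hm, if_neg h0, add_zero]

/-! ### The functionals -/

/-- All 22 vectors. -/
def all22 : List (List ℤ) := ys ++ [v0L, w0L]

theorem ys_leech : (all22.all leechB) = true := by decide +kernel

theorem getD_all22 {k : ℕ} (hk : k < 22) : vec (all22.getD k []) ∈ leechLattice := by
  apply vec_mem_of_leechB
  exact List.all_eq_true.mp ys_leech _ (Co0Matrix.getD_mem_of_lt _ _ hk)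

theorem all22_ys {k : ℕ} (hk : k < 20) : all22.getD k [] = ys.getD k [] := by
  unfold all22
  rw [List.getD_append _ _ _ _ (show k < ys.length from hk)]

theorem ys_mem {k : ℕ} (hk : k < 20) : vec (ys.getD k []) ∈ leechLattice := by
  rw [← all22_ys hk]; exact getD_all22 (by omega)

theorem v0_mem : vec v0L ∈ leechLattice := getD_all22 (k := 20) (by norm_num)

theorem w0_mem : vec w0L ∈ leechLattice := getD_all22 (k := 21) (by norm_num)

/-- The functional of `y`, with values in `F₂ ⊆ F₄`. -/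
def fv (u y : GolayPt → ℤ) : F4 := ((dotInt u y / 8 : ℤ) : F4)

/-- The twenty functionals. -/
def fs (u : GolayPt → ℤ) (k : ℕ) : F4 := fv u (vec (ys.getD k []))

theorem two_cast : ((2 : ℤ) : F4) = 0 := by
  rw [Int.cast_ofNat, ← one_add_one_eq_two]; exact add_self 1

theorem cast_even (n : ℤ) (h : (2 : ℤ) ∣ n) : (n : F4) = 0 := by
  obtain ⟨m, rfl⟩ := h
  rw [Int.cast_mul, two_cast, zero_mul]

/-- Half of a difference. -/
def halfL (z c : List ℤ) : List ℤ := List.zipWith (fun a b => (a - b) / 2) z c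

/-- The check that the adjoint of the automorphism acts on the twenty vectors by the masks `Hm`,
modulo twice the lattice. -/
def certB (C : List (List ℤ)) (Hm : List ℕ) : Bool :=
  (List.range 20).all fun k =>
    let z := C.map fun r => dotL (ys.getD k []) r / 8
    let c := combL all22 (Hm.getD k 0)
    leechB (halfL z c) && decide (z = addL c (addL (halfL z c) (halfL z c)))

theorem certA : certB U62Data.CA HA = true := by decide +kernel
theorem certC : certB U62Data.CB HB = true := by decide +kernel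
theorem certD : certB U62Data.CD HD = true := by decide +kernel
theorem certM : certB U62Data.CM HM = true := by decide +kernel

theorem ys_len {k : ℕ} (hk : k < 20) : (ys.getD k []).length ≤ 24 := by
  have h := List.all_eq_true.mp ys_leech _ (Co0Matrix.getD_mem_of_lt all22 [] (show k < 22 by omega))
  rw [all22_ys hk] at h
  simp only [leechB, Bool.and_eq_true] at h
  exact (Nat.eq_of_beq_eq_true h.1.1.1).le

theorem fs_act {R C : List (List ℤ)} (h : Ok R C) {Hm : List ℕ} (hc : certB C Hm = true)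
    (u : leechLattice) (hv : (16 : ℤ) ∣ dotInt (u : GolayPt → ℤ) (vec v0L))
    (hw : (16 : ℤ) ∣ dotInt (u : GolayPt → ℤ) (vec w0L)) (k : ℕ) (hk : k < 20) :
    fs ((mk h).1 u : leechLattice) k = ∑ l ∈ Finset.range 20, fs u l * colH Hm l k := by
  have h1 := List.all_eq_true.mp hc k (List.mem_range.mpr hk)
  simp only [Bool.and_eq_true] at h1
  obtain ⟨h2, h3⟩ := h1
  have h3 := of_decide_eq_true h3
  set z := C.map fun r => dotL (ys.getD k []) r / 8 with hz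
  set c := combL all22 (Hm.getD k 0) with hcc
  set d := halfL z c with hd
  have hdm : vec d ∈ leechLattice := vec_mem_of_leechB h2
  have e1 : dotInt (((mk h).1 u : leechLattice) : GolayPt → ℤ) (vec (ys.getD k [])) =
      dotInt (u : GolayPt → ℤ) (vec z) := by
    rw [mk_dot h u _ (ys_mem hk), act_vec h.lenC (ys_len hk)]
  have e2 : dotInt (u : GolayPt → ℤ) (vec z) =
      dotInt (u : GolayPt → ℤ) (vec c) + 2 * dotInt (u : GolayPt → ℤ) (vec d) := by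
    rw [h3, vec_addL, vec_addL, dotInt_comm, dotInt_add_left, dotInt_add_left, dotInt_comm (vec c),
      dotInt_comm (vec d)]
    ring
  -- divide by eight
  have hdiv : ∀ y ∈ leechLattice, 8 * (dotInt (u : GolayPt → ℤ) y / 8) = dotInt (u : GolayPt → ℤ) y :=
    fun y hy => Int.mul_ediv_cancel' (Cfsg.Agent.Leech.Basic.eight_dvd_dotInt u.2 hy)
  have e3 : dotInt (u : GolayPt → ℤ) (vec z) / 8 =
      (∑ l ∈ Finset.range 22, if (Hm.getD k 0).testBit l then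
        dotInt (u : GolayPt → ℤ) (vec (all22.getD l [])) / 8 else 0) +
      2 * (dotInt (u : GolayPt → ℤ) (vec d) / 8) := by
    apply Int.ediv_eq_of_eq_mul_right (by norm_num)
    rw [mul_add, Finset.mul_sum, e2, hcc, dot_combL, mul_left_comm, hdiv _ hdm]
    congr 1
    refine Finset.sum_congr rfl fun l hl => ?_
    have hl : l < 22 := Finset.mem_range.mp hl
    split_ifs
    · rw [hdiv _ (getD_all22 hl)]
    · simp
  have hv' : (2 : ℤ) ∣ dotInt (u : GolayPt → ℤ) (vec v0L) / 8 := by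
    obtain ⟨m, hm⟩ := hv; rw [hm]; exact ⟨m, by omega⟩
  have hw' : (2 : ℤ) ∣ dotInt (u : GolayPt → ℤ) (vec w0L) / 8 := by
    obtain ⟨m, hm⟩ := hw; rw [hm]; exact ⟨m, by omega⟩
  show fv _ _ = _
  unfold fv
  rw [e1, e3, Int.cast_add, Int.cast_mul, two_cast, zero_mul, add_zero, Finset.sum_range_succ,
    Finset.sum_range_succ, Int.cast_add, Int.cast_add, Int.cast_sum]
  have g20 : all22.getD 20 [] = v0L := rfl
  have g21 : all22.getD 21 [] = w0L := rfl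
  rw [g20, g21]
  have f1 : (((if (Hm.getD k 0).testBit 20 = true then dotInt (u : GolayPt → ℤ) (vec v0L) / 8 else 0 : ℤ)) : F4) = 0 := by
    split_ifs
    · exact cast_even _ hv'
    · exact Int.cast_zero
  have f2 : (((if (Hm.getD k 0).testBit 21 = true then dotInt (u : GolayPt → ℤ) (vec w0L) / 8 else 0 : ℤ)) : F4) = 0 := by
    split_ifs
    · exact cast_even _ hw'
    · exact Int.cast_zero
  rw [f1, f2, add_zero, add_zero]
  refine Finset.sum_congr rfl fun l hl => ?_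
  have hl : l < 20 := Finset.mem_range.mp hl
  rw [colH, all22_ys hl]
  split_ifs
  · rw [mul_one]; rfl
  · rw [mul_zero]; exact Int.cast_zero

/-! ### Dual vectors -/

/-- The check of the dual vectors. -/
def dualB : Bool := (List.range 20).all fun k =>
  leechB (us.getD k []) && decide (dotL (us.getD k []) v0L % 16 = 0) &&
    decide (dotL (us.getD k []) w0L % 16 = 0) && (List.range 20).all fun l =>
      decide (dotL (us.getD k []) (ys.getD l []) / 8 % 2 = if l = k then 1 else 0)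

theorem dual_ok : dualB = true := by decide +kernel

theorem exists_dual (k : ℕ) (hk : k < 20) : ∃ u : leechLattice,
    (16 : ℤ) ∣ dotInt (u : GolayPt → ℤ) (vec v0L) ∧ (16 : ℤ) ∣ dotInt (u : GolayPt → ℤ) (vec w0L) ∧
      ∀ l < 20, fs u l = dl k l := by
  have h := List.all_eq_true.mp dual_ok k (List.mem_range.mpr hk)
  simp only [Bool.and_eq_true] at h
  obtain ⟨⟨⟨h1, h2⟩, h3⟩, h4⟩ := h
  have hlen : (us.getD k []).length ≤ 24 := by
    have h := h1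
    simp only [leechB, Bool.and_eq_true] at h
    exact (Nat.eq_of_beq_eq_true h.1.1.1).le
  refine ⟨⟨vec (us.getD k []), vec_mem_of_leechB h1⟩, ?_, ?_, ?_⟩
  · show (16 : ℤ) ∣ dotInt (vec (us.getD k [])) (vec v0L)
    rw [dotInt_vec _ _ hlen]
    exact Int.dvd_of_emod_eq_zero (of_decide_eq_true h2)
  · show (16 : ℤ) ∣ dotInt (vec (us.getD k [])) (vec w0L)
    rw [dotInt_vec _ _ hlen]
    exact Int.dvd_of_emod_eq_zero (of_decide_eq_true h3)
  · intro l hl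
    have h5 := of_decide_eq_true (List.all_eq_true.mp h4 l (List.mem_range.mpr hl))
    show (((dotInt (vec (us.getD k [])) (vec (ys.getD l [])) / 8 : ℤ)) : F4) = dl k l
    rw [dotInt_vec _ _ hlen, dl]
    set n := dotL (us.getD k []) (ys.getD l []) / 8 with hn
    by_cases hlk : l = k
    · rw [if_pos hlk] at h5 ⊢
      have : n = 1 + 2 * (n / 2) := by omega
      rw [this, Int.cast_add, Int.cast_mul, two_cast, zero_mul, add_zero, Int.cast_one]
    · rw [if_neg hlk] at h5 ⊢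
      exact cast_even _ (Int.dvd_of_emod_eq_zero h5)

end Cfsg.Agent.SporadicStructure.U62Func
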